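import Mathlib
import Cfsg.Prelude.Def_Characters
import Cfsg.Agent.Lib.helper79.FiniteOrderTrace
import Cfsg.Agent.Lib.helper83.CharBasic
import Cfsg.Agent.Lib.helper4.CharDecomp

/-!
# Galois conjugation of complex characters (helper79)

* `exists_ringEquiv_complex_extending`: automorphisms of a subfield of `ℂ` extend to `ℂ`.
* `exists_ringEquiv_complex_pow`: for `m` coprime to `n > 0` there is `τ : ℂ ≃+* ℂ` with
  `τ ζ = ζ ^ m` for all `n`-th roots of unity `ζ`.
* `conjRep τ ρ`: the entrywise `τ`-conjugate of a matrix representation, with character `τ ∘ χ`.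
* `isCharacter_ringHom_comp`, `isIrrCharacter_ringHom_comp`: `τ ∘ χ` is an (irreducible) character
  when `χ` is, for any ring endomorphism `τ` of `ℂ`.
* `exists_pow_of_ringHom`: any `τ : ℂ →+* ℂ` acts on all character values of `G` as
  `χ g ↦ χ (g ^ m)` for a single `m` coprime to `|G|`.
* `exists_galois_conj_character`: for `m` coprime to `|G|`, `g ↦ χ (g ^ m)` is an (irreducible)
  character when `χ` is.
-/

set_option autoImplicit false

namespace Cfsg.Agent.Lib.helper79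

open Polynomial
open scoped ComplexConjugate

/-- Any automorphism of a field `K` embedded in `ℂ` extends to an automorphism of `ℂ`. -/
theorem exists_ringEquiv_complex_extending {K : Type*} [Field K] (φ : K →+* ℂ) (σ : K ≃+* K) :
    ∃ τ : ℂ ≃+* ℂ, ∀ x : K, τ (φ x) = φ (σ x) := by
  let _ : Algebra K ℂ := φ.toAlgebra
  obtain ⟨s, hs⟩ := exists_isTranscendenceBasis K ℂ
  have := IsAlgClosed.isAlgClosure_of_transcendence_basis _ hs
  let e : Algebra.adjoin K (Set.range (Subtype.val : s → ℂ)) ≃+*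
      Algebra.adjoin K (Set.range (Subtype.val : s → ℂ)) :=
    hs.1.aevalEquiv.symm.toRingEquiv.trans
      ((MvPolynomial.mapEquiv s σ).trans hs.1.aevalEquiv.toRingEquiv)
  refine ⟨IsAlgClosure.equivOfEquiv ℂ ℂ e, fun x => ?_⟩
  have h1 : φ x = algebraMap (Algebra.adjoin K (Set.range (Subtype.val : s → ℂ))) ℂ
      (algebraMap K _ x) := rfl
  have h2 : φ (σ x) = algebraMap (Algebra.adjoin K (Set.range (Subtype.val : s → ℂ))) ℂ
      (algebraMap K _ (σ x)) := rfl
  rw [h1, h2, IsAlgClosure.equivOfEquiv_algebraMap]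
  congr 1
  have h3 : hs.1.aevalEquiv.symm (algebraMap K _ x) = MvPolynomial.C x := by
    rw [AlgEquiv.symm_apply_eq]
    exact (hs.1.aevalEquiv.commutes x).symm
  simp only [e, RingEquiv.trans_apply, AlgEquiv.coe_ringEquiv]
  rw [h3, MvPolynomial.mapEquiv_apply, MvPolynomial.map_C]
  exact hs.1.aevalEquiv.commutes (σ x)

theorem exists_ringEquiv_complex_pow_aux (n : ℕ) [NeZero n] (m : ℕ) (hm : m.Coprime n)
    (K : Type) [Field K] [CharZero K] [IsCyclotomicExtension {n} ℚ K] :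
    ∃ τ : ℂ ≃+* ℂ, ∀ ζ : ℂ, ζ ^ n = 1 → τ ζ = ζ ^ m := by
  have hn : 0 < n := NeZero.pos n
  have hirr : Irreducible (cyclotomic n ℚ) := Polynomial.cyclotomic.irreducible_rat hn
  have hz : IsPrimitiveRoot (IsCyclotomicExtension.zeta n ℚ K) n :=
    IsCyclotomicExtension.zeta_spec n ℚ K
  have hz' := hz.pow_of_coprime m hm
  let σ : K ≃ₐ[ℚ] K := IsCyclotomicExtension.fromZetaAut hz' hirr
  have hσ : σ (IsCyclotomicExtension.zeta n ℚ K) = (IsCyclotomicExtension.zeta n ℚ K) ^ m :=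
    IsCyclotomicExtension.fromZetaAut_spec hz' hirr
  have : FiniteDimensional ℚ K := IsCyclotomicExtension.finiteDimensional {n} ℚ K
  have : Algebra.IsAlgebraic ℚ K := Algebra.IsAlgebraic.of_finite ℚ K
  let φ : K →+* ℂ := (IsAlgClosed.lift : K →ₐ[ℚ] ℂ).toRingHom
  obtain ⟨τ, hτ⟩ := exists_ringEquiv_complex_extending φ σ.toRingEquiv
  refine ⟨τ, fun ζ hζ => ?_⟩
  have hφz : IsPrimitiveRoot (φ (IsCyclotomicExtension.zeta n ℚ K)) n :=
    hz.map_of_injective φ.injective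
  obtain ⟨i, -, hi⟩ := hφz.eq_pow_of_pow_eq_one hζ
  rw [← hi, map_pow, hτ]
  have : σ.toRingEquiv (IsCyclotomicExtension.zeta n ℚ K) =
      (IsCyclotomicExtension.zeta n ℚ K) ^ m := hσ
  rw [this, map_pow, ← pow_mul, ← pow_mul, mul_comm]

/-- For `m` coprime to `n > 0` there is a field automorphism of `ℂ` raising every `n`-th root of
unity to its `m`-th power. -/
theorem exists_ringEquiv_complex_pow (n : ℕ) (hn : 0 < n) (m : ℕ) (hm : m.Coprime n) :
    ∃ τ : ℂ ≃+* ℂ, ∀ ζ : ℂ, ζ ^ n = 1 → τ ζ = ζ ^ m := by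
  have : NeZero n := ⟨hn.ne'⟩
  have hinst : IsCyclotomicExtension {n} ℚ (CyclotomicField n ℚ) :=
    CyclotomicField.isCyclotomicExtension n ℚ
  exact exists_ringEquiv_complex_pow_aux n m hm (CyclotomicField n ℚ)

/-- Every ring endomorphism of `ℂ` acts on the `n`-th roots of unity as a power map `ζ ↦ ζ ^ m`
with `m` coprime to `n`. -/
theorem exists_pow_of_ringHom_rootsOfUnity (τ : ℂ →+* ℂ) (n : ℕ) (hn : 0 < n) :
    ∃ m : ℕ, m.Coprime n ∧ ∀ ζ : ℂ, ζ ^ n = 1 → τ ζ = ζ ^ m := by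
  have : NeZero n := ⟨hn.ne'⟩
  have hζ : IsPrimitiveRoot (Complex.exp (2 * Real.pi * Complex.I / (n : ℕ))) n :=
    Complex.isPrimitiveRoot_exp _ hn.ne'
  set ζ := Complex.exp (2 * Real.pi * Complex.I / (n : ℕ)) with hζdef
  have hτζ : IsPrimitiveRoot (τ ζ) n := hζ.map_of_injective τ.injective
  obtain ⟨m, -, hm⟩ := hζ.eq_pow_of_pow_eq_one hτζ.pow_eq_one
  have hmc : m.Coprime n := by
    rw [← hζ.pow_iff_coprime hn m, hm]
    exact hτζ
  refine ⟨m, hmc, fun μ hμ => ?_⟩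
  obtain ⟨j, -, hj⟩ := hζ.eq_pow_of_pow_eq_one hμ
  rw [← hj, map_pow, ← hm, ← pow_mul, ← pow_mul, mul_comm]

section Rep

universe u

variable {G : Type u} [Group G]

/-- The entrywise `τ`-conjugate of a matrix representation. -/
noncomputable def conjRep {d : ℕ} (τ : ℂ →+* ℂ) (ρ : Representation ℂ G (Fin d → ℂ)) :
    Representation ℂ G (Fin d → ℂ) where
  toFun g := Matrix.toLin' ((LinearMap.toMatrix' (ρ g)).map τ)
  map_one' := by
    rw [map_one, LinearMap.toMatrix'_one, Matrix.map_one _ (map_zero τ) (map_one τ),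
      Matrix.toLin'_one]
    rfl
  map_mul' g h := by
    rw [map_mul, LinearMap.toMatrix'_mul, Matrix.map_mul, Matrix.toLin'_mul]
    rfl

theorem conjRep_character {d : ℕ} (τ : ℂ →+* ℂ) (ρ : Representation ℂ G (Fin d → ℂ)) (g : G) :
    (conjRep τ ρ).character g = τ (ρ.character g) := by
  rw [Cfsg.Agent.Lib.helper83.character_eq_trace, Cfsg.Agent.Lib.helper83.character_eq_trace]
  unfold Cfsg.Agent.Lib.helper83.repMat
  have h1 : (conjRep τ ρ) g = Matrix.toLin' ((LinearMap.toMatrix' (ρ g)).map τ) := rfl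
  rw [h1, LinearMap.toMatrix'_toLin']
  exact (AddMonoidHom.map_trace τ.toAddMonoidHom (LinearMap.toMatrix' (ρ g))).symm

/-- `τ ∘ χ` is a character when `χ` is, for any ring endomorphism `τ` of `ℂ`. -/
theorem isCharacter_ringHom_comp (τ : ℂ →+* ℂ) {χ : G → ℂ} (hχ : Cfsg.IsCharacter G χ) :
    Cfsg.IsCharacter G (fun g => τ (χ g)) := by
  obtain ⟨d, ρ, rfl⟩ := hχ
  exact ⟨d, conjRep τ ρ, funext (fun g => conjRep_character τ ρ g)⟩

/-- If `τ` raises `N`-th roots of unity to the `m`-th power and `g ^ N = 1` then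
`τ (χ g) = χ (g ^ m)`. -/
theorem ringHom_character_eq_character_pow (τ : ℂ →+* ℂ) (N m : ℕ) (hN : N ≠ 0)
    (hτ : ∀ ζ : ℂ, ζ ^ N = 1 → τ ζ = ζ ^ m) {χ : G → ℂ} (hχ : Cfsg.IsCharacter G χ)
    (g : G) (hg : g ^ N = 1) : τ (χ g) = χ (g ^ m) := by
  obtain ⟨d, ρ, rfl⟩ := hχ
  obtain ⟨S, mult, hS, -, hsum, -⟩ := character_pow_eq_sum ρ g N hN hg
  have h1 := hsum 1
  rw [pow_one] at h1
  rw [h1, hsum m, map_sum]
  refine Finset.sum_congr rfl (fun μ hμ => ?_)
  rw [map_mul, map_natCast, pow_one, hτ μ (hS μ hμ)]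

/-- Any `τ : ℂ →+* ℂ` acts on all character values of the finite group `G` as
`χ g ↦ χ (g ^ m)` for a single `m` coprime to `|G|`. -/
theorem exists_pow_of_ringHom [Finite G] (τ : ℂ →+* ℂ) :
    ∃ m : ℕ, m.Coprime (Nat.card G) ∧
      ∀ χ : G → ℂ, Cfsg.IsCharacter G χ → ∀ g : G, τ (χ g) = χ (g ^ m) := by
  obtain ⟨m, hm, hτ⟩ := exists_pow_of_ringHom_rootsOfUnity τ (Nat.card G) Nat.card_pos
  exact ⟨m, hm, fun χ hχ g =>
    ringHom_character_eq_character_pow τ (Nat.card G) m Nat.card_pos.ne' hτ hχ g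
      (pow_card_eq_one')⟩

/-- `g ↦ χ (g ^ m)` has the same norm as `χ` for `m` coprime to `|G|`. -/
theorem classInner_pow_coprime [Fintype G] (m : ℕ) (hm : m.Coprime (Nat.card G))
    (χ ψ : G → ℂ) :
    Cfsg.classInner (fun g => χ (g ^ m)) (fun g => ψ (g ^ m)) = Cfsg.classInner χ ψ := by
  unfold Cfsg.classInner
  congr 1
  exact Fintype.sum_equiv (powCoprime hm.symm) _ _ (fun g => rfl)

/-- `τ ∘ χ` is an irreducible character when `χ` is, for any ring endomorphism `τ` of `ℂ`. -/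
theorem isIrrCharacter_ringHom_comp [Finite G] (τ : ℂ →+* ℂ) {χ : G → ℂ}
    (hχ : Cfsg.IsIrrCharacter G χ) : Cfsg.IsIrrCharacter G (fun g => τ (χ g)) := by
  classical
  have := Fintype.ofFinite G
  have hχc : Cfsg.IsCharacter G χ := by
    obtain ⟨d, ρ, -, h⟩ := hχ
    exact ⟨d, ρ, h⟩
  obtain ⟨m, hm, hτ⟩ := exists_pow_of_ringHom (G := G) τ
  have hc := isCharacter_ringHom_comp τ hχc
  rw [Cfsg.Agent.Lib.helper4.isIrrCharacter_iff_norm_one hc]
  have h1 : (fun g => τ (χ g)) = (fun g => χ (g ^ m)) := funext (fun g => hτ χ hχc g)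
  rw [h1, classInner_pow_coprime m hm]
  exact (Cfsg.Agent.Lib.helper4.isIrrCharacter_iff_norm_one hχc).mp hχ

/-- Galois conjugates: for `m` coprime to `|G|`, the function `g ↦ χ (g ^ m)` is a character
(irreducible if `χ` is). -/
theorem isCharacter_pow_coprime [Finite G] (m : ℕ) (hm : m.Coprime (Nat.card G)) {χ : G → ℂ}
    (hχ : Cfsg.IsCharacter G χ) : Cfsg.IsCharacter G (fun g => χ (g ^ m)) := by
  obtain ⟨τ, hτ⟩ := exists_ringEquiv_complex_pow (Nat.card G) Nat.card_pos m hm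
  have h1 : (fun g => χ (g ^ m)) = (fun g => (τ : ℂ →+* ℂ) (χ g)) := by
    funext g
    exact (ringHom_character_eq_character_pow (τ : ℂ →+* ℂ) (Nat.card G) m Nat.card_pos.ne'
      hτ hχ g (pow_card_eq_one')).symm
  rw [h1]
  exact isCharacter_ringHom_comp _ hχ

theorem isIrrCharacter_pow_coprime [Finite G] (m : ℕ) (hm : m.Coprime (Nat.card G)) {χ : G → ℂ}
    (hχ : Cfsg.IsIrrCharacter G χ) : Cfsg.IsIrrCharacter G (fun g => χ (g ^ m)) := by
  have hχc : Cfsg.IsCharacter G χ := by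
    obtain ⟨d, ρ, -, h⟩ := hχ
    exact ⟨d, ρ, h⟩
  obtain ⟨τ, hτ⟩ := exists_ringEquiv_complex_pow (Nat.card G) Nat.card_pos m hm
  have h1 : (fun g => χ (g ^ m)) = (fun g => (τ : ℂ →+* ℂ) (χ g)) := by
    funext g
    exact (ringHom_character_eq_character_pow (τ : ℂ →+* ℂ) (Nat.card G) m Nat.card_pos.ne'
      hτ hχc g (pow_card_eq_one')).symm
  rw [h1]
  exact isIrrCharacter_ringHom_comp _ hχ

end Rep

end Cfsg.Agent.Lib.helper79
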