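/-
S4503 piece B1 (`Y_degree`): an exceptional character `υ ∈ Y` of the principal block whose
restriction to `⟨x⟩` does not contain the trivial character has degree `e = |H|`.
-/
import Mathlib
import Cfsg.Agent.Lib.helper2.BFDefs
import Cfsg.Agent.Lib.helper20.D1EFinal
import Cfsg.Agent.Lib.helper4.CharDecomp
import Cfsg.Agent.Lib.helper81.Kernel
import Cfsg.Agent.Lib.helper81.CharOrtho
import Cfsg.Agent.Lib.helper82.BFA1

set_option autoImplicit false

open Cfsg Cfsg.Agent.Lib.helper20.D1E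
open scoped ComplexConjugate

namespace Cfsg.Agent.Lib.helper2.BF

variable {G : Type*} [Group G] [Fintype G]

omit [Fintype G] in
/-- The row of helper20 in terms of `mu`. -/
theorem helper79_rowC_eq_mu (p : ℕ) [Fact p.Prime] (x : G) (f : G → ℂ) (b : (ZMod p)ˣ) :
    rowC p x f b = mu p x f (b : ZMod p) - mu p x f 0 := by
  rw [Cfsg.Agent.Lib.helper83.D1E.rowC_eq_mult]
  have key : ∀ c : ZMod p, (p : ℂ)⁻¹ * ∑ k : ZMod p,
      (Cfsg.Agent.Lib.helper83.D1E.eZ p (c * k))⁻¹ * f (x ^ k.val) = mu p x f c := by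
    intro c
    unfold mu
    congr 1
    rw [helper82_sum_range_zmod p (fun i => f (x ^ i) * (zeta p ^ (c.val * i))⁻¹)]
    refine Finset.sum_congr rfl fun k _ => ?_
    rw [Cfsg.Agent.Lib.helper83.D1E.eZ_mul, Cfsg.Agent.Lib.helper83.D1E.eZ, ← pow_mul, mul_comm]
  rw [key, key]

/-- The rows of the members of `X` are constant `-εX`. -/
theorem helper79_rowZ_X (p : ℕ) [Fact p.Prime] (P : Sylow p G) (hP : Nat.card P = p)
    (x : G) (hx : x ∈ (P : Subgroup G)) (hx1 : x ≠ 1) (e : ℕ)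
    (M : Ideal AlgInt) (X Y : Set (IrrCharacter G))
    (εX : IrrCharacter G → ℤ) (ε : ℤ) (hD : PBData p M P e X Y εX ε)
    (ξ : IrrCharacter G) (hξ : ξ ∈ X) (b : (ZMod p)ˣ) :
    rowZ p x (ξ : G → ℂ) b = - εX ξ := by
  have hp : p.Prime := Fact.out
  have hpc : (p : ℂ) ≠ 0 := by exact_mod_cast hp.ne_zero
  obtain ⟨hxp, hxu⟩ := basic_x p P hP x hx hx1
  have hval : ∀ u : (ZMod p)ˣ, (ξ : G → ℂ) (x ^ (u : ZMod p).val) = (εX ξ : ℂ) := by
    intro u
    have hnd : ¬ p ∣ (u : ZMod p).val := by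
      intro hdvd
      have h0 : (u : ZMod p).val = 0 := Nat.eq_zero_of_dvd_of_lt hdvd (ZMod.val_lt _)
      exact u.ne_zero ((ZMod.val_eq_zero _).1 h0)
    have h1 := hD.valX ξ hξ (x ^ (u : ZMod p).val) (pow_mem hx _) (hxu _ hnd) 1 (one_mem _)
      (by rw [orderOf_one]; exact fun h' => hp.one_lt.ne' (Nat.dvd_one.1 h'))
    rw [mul_one] at h1
    exact h1
  have hC : rowC p x (ξ : G → ℂ) b = ((- εX ξ : ℤ) : ℂ) := by
    rw [Cfsg.Agent.Lib.helper83.D1E.rowC_eq]
    have h1 : ∀ u : (ZMod p)ˣ, (ξ : G → ℂ) (x ^ (u : ZMod p).val)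
        * ((Cfsg.Agent.Lib.helper83.D1E.eZ p ((b : ZMod p) * (u : ZMod p)))⁻¹ - 1)
        = (εX ξ : ℂ) * (Cfsg.Agent.Lib.helper83.D1E.eZ p ((u : ZMod p) * (-(b : ZMod p)))
            - Cfsg.Agent.Lib.helper83.D1E.eZ p ((u : ZMod p) * 0)) := by
      intro u
      rw [hval u, mul_zero, Cfsg.Agent.Lib.helper83.D1E.eZ_zero, mul_neg,
        Cfsg.Agent.Lib.helper83.D1E.eZ_neg, mul_comm (u : ZMod p)]
    rw [Finset.sum_congr rfl (fun u _ => h1 u), ← Finset.mul_sum, Finset.sum_sub_distrib,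
      Cfsg.Agent.Lib.helper83.D1E.sum_units_eZ, Cfsg.Agent.Lib.helper83.D1E.sum_units_eZ,
      if_neg (neg_ne_zero.2 b.ne_zero), if_pos rfl]
    push_cast
    field_simp
    ring
  rw [Cfsg.Agent.Lib.helper83.D1E.rowC_eq_rowZ p x hxp ξ b] at hC
  exact_mod_cast hC

/-- B1. -/
theorem Y_degree (p : ℕ) [Fact p.Prime] (P : Sylow p G) (hP : Nat.card P = p)
    (x : G) (hx : x ∈ (P : Subgroup G)) (hx1 : x ≠ 1) (H : Subgroup (ZMod p)ˣ)
    (hH : ∀ r : (ZMod p)ˣ, r ∈ H ↔ ∃ n : G, n * x * n⁻¹ = x ^ ((r : ZMod p).val))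
    (M : Ideal AlgInt) (hM : IsPModular p M) (X Y : Set (IrrCharacter G))
    (εX : IrrCharacter G → ℤ) (ε : ℤ) (hD : PBData p M P (Nat.card H) X Y εX ε)
    (υ : IrrCharacter G) (hυ : υ ∈ Y) (h0 : mu p x (υ : G → ℂ) 0 = 0) :
    charDegree (υ : G → ℂ) = Nat.card H := by
  classical
  have hp : p.Prime := Fact.out
  obtain ⟨hxp, hxu⟩ := basic_x p P hP x hx hx1
  let _ : Fintype (PB M G) := Fintype.ofFinite _
  have hυPB : υ ∈ principalBlock M G := by rw [hD.union]; exact Or.inr hυ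
  have hυX : υ ∉ X := fun h => (Set.disjoint_left.1 hD.disj h) hυ
  have hυchar : IsCharacter G (υ : G → ℂ) :=
    Cfsg.Agent.Lib.helper4.isCharacter_of_isIrrCharacter υ.2
  -- the multiplicities of `υ`
  have hd : ∀ b : (ZMod p)ˣ, ∃ d : ℕ, rowZ p x (υ : G → ℂ) b = (d : ℤ) ∧
      mu p x (υ : G → ℂ) (b : ZMod p) = (d : ℂ) := by
    intro b
    obtain ⟨d, hd⟩ := mu_nat p x hxp (υ : G → ℂ) hυchar (b : ZMod p)
    refine ⟨d, ?_, hd⟩
    have h1 := helper79_rowC_eq_mu p x (υ : G → ℂ) b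
    rw [h0, sub_zero, hd, Cfsg.Agent.Lib.helper83.D1E.rowC_eq_rowZ p x hxp υ b] at h1
    exact_mod_cast h1
  choose d hdZ hdC using hd
  -- the Gram relations restricted to `Y`
  set F : Finset (PB M G) := Finset.univ.filter (fun i : PB M G => i.1 ∉ X) with hF
  let iυ : PB M G := ⟨υ, hυPB⟩
  have hiυ : iυ ∈ F := by
    rw [hF, Finset.mem_filter]
    exact ⟨Finset.mem_univ _, hυX⟩
  have hcardX : (Finset.univ.filter (fun i : PB M G => i.1 ∈ X)).card = Nat.card H := by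
    rw [← hD.cardX, ← Fintype.card_subtype, ← Nat.card_eq_fintype_card]
    refine Nat.card_congr
      { toFun := fun i => ⟨i.1.1, i.2⟩
        invFun := fun ξ => ⟨⟨ξ.1, by rw [hD.union]; exact Or.inl ξ.2⟩, ξ.2⟩
        left_inv := fun i => rfl
        right_inv := fun ξ => rfl }
  have hgramY : ∀ b b' : (ZMod p)ˣ,
      ∑ i ∈ F, rowZ p x (i.1 : G → ℂ) b * rowZ p x (i.1 : G → ℂ) b'
        = if b⁻¹ * b' ∈ H then 1 else 0 := by
    intro b b'
    have hsplit := Finset.sum_filter_add_sum_filter_not (Finset.univ : Finset (PB M G))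
      (fun i : PB M G => i.1 ∈ X)
      (fun i => rowZ p x (i.1 : G → ℂ) b * rowZ p x (i.1 : G → ℂ) b')
    have hXpart : ∑ i ∈ Finset.univ.filter (fun i : PB M G => i.1 ∈ X),
        rowZ p x (i.1 : G → ℂ) b * rowZ p x (i.1 : G → ℂ) b' = (Nat.card H : ℤ) := by
      have h1 : ∀ i ∈ Finset.univ.filter (fun i : PB M G => i.1 ∈ X),
          rowZ p x (i.1 : G → ℂ) b * rowZ p x (i.1 : G → ℂ) b' = 1 := by
        intro i hi
        have hiX : i.1 ∈ X := (Finset.mem_filter.1 hi).2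
        rw [helper79_rowZ_X p P hP x hx hx1 _ M X Y εX ε hD i.1 hiX b,
          helper79_rowZ_X p P hP x hx hx1 _ M X Y εX ε hD i.1 hiX b']
        rcases hD.signX i.1 hiX with h | h <;> rw [h] <;> norm_num
      rw [Finset.sum_congr rfl h1, Finset.sum_const, hcardX]
      simp
    rw [hXpart] at hsplit
    have hg := Cfsg.Agent.Lib.helper20.D1E.pb_row_gram p M hM P hP x hx hx1 H hH b b'
    by_cases hbb : b⁻¹ * b' ∈ H
    · rw [if_pos hbb]
      have := hg.1 hbb
      rw [← hsplit] at this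
      linarith
    · rw [if_neg hbb]
      have := hg.2 hbb
      rw [← hsplit] at this
      linarith
  have hrυ : ∀ b : (ZMod p)ˣ, rowZ p x (iυ.1 : G → ℂ) b = (d b : ℤ) := fun b => hdZ b
  -- (a) `d b ≤ 1`
  have hle1 : ∀ b : (ZMod p)ˣ, d b ≤ 1 := by
    intro b
    have h1 := hgramY b b
    rw [inv_mul_cancel, if_pos H.one_mem] at h1
    have h2 := Finset.single_le_sum
      (f := fun i : PB M G => rowZ p x (i.1 : G → ℂ) b * rowZ p x (i.1 : G → ℂ) b)
      (fun i _ => mul_self_nonneg _) hiυ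
    rw [h1] at h2
    simp only [hrυ] at h2
    by_contra hcon
    have h3 : (2 : ℤ) ≤ (d b : ℤ) := by
      have : 2 ≤ d b := by omega
      exact_mod_cast this
    nlinarith
  -- (b) the other rows vanish where `d b = 1`
  have hother : ∀ b : (ZMod p)ˣ, d b = 1 → ∀ i ∈ F.erase iυ, rowZ p x (i.1 : G → ℂ) b = 0 := by
    intro b hb
    have h1 := hgramY b b
    rw [inv_mul_cancel, if_pos H.one_mem, ← Finset.add_sum_erase F _ hiυ] at h1
    simp only [hrυ, hb] at h1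
    have h2 : ∑ i ∈ F.erase iυ, rowZ p x (i.1 : G → ℂ) b * rowZ p x (i.1 : G → ℂ) b = 0 := by
      have : ((1 : ℕ) : ℤ) * ((1 : ℕ) : ℤ) = 1 := by norm_num
      linarith
    intro i hi
    have h3 := (Finset.sum_eq_zero_iff_of_nonneg (fun i _ => mul_self_nonneg _)).1 h2 i hi
    exact mul_self_eq_zero.1 h3
  -- (c) the support lies in one coset
  have hcoset : ∀ b b' : (ZMod p)ˣ, d b = 1 → d b' = 1 → b⁻¹ * b' ∈ H := by
    intro b b' hb hb'
    by_contra hnot
    have h1 := hgramY b b'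
    rw [if_neg hnot, ← Finset.add_sum_erase F _ hiυ] at h1
    have h2 : ∑ i ∈ F.erase iυ, rowZ p x (i.1 : G → ℂ) b * rowZ p x (i.1 : G → ℂ) b' = 0 := by
      refine Finset.sum_eq_zero fun i hi => ?_
      rw [hother b hb i hi, zero_mul]
    rw [h2, add_zero] at h1
    simp only [hrυ, hb, hb'] at h1
    norm_num at h1
  -- (d) `H`-stability
  have hstab : ∀ (b h : (ZMod p)ˣ), h ∈ H → d (b * h) = d b := by
    intro b h hh
    have h1 := Cfsg.Agent.Lib.helper20.D1E.pb_row_inv p x hxp H hH υ b h hh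
    rw [hdZ, hdZ] at h1
    exact_mod_cast h1
  -- (e) the degree
  have hdeg : charDegree (υ : G → ℂ) = ∑ u : (ZMod p)ˣ, d u := by
    have h1 := mu_expand p x hxp (υ : G → ℂ) 0
    rw [pow_zero, Cfsg.Agent.Lib.helper83.D1E.sum_zmod_eq] at h1
    simp only [mul_zero, pow_zero, mul_one] at h1
    rw [h0, zero_add, Finset.sum_congr rfl (fun u _ => hdC u),
      Cfsg.Agent.Lib.helper81.irr_one_eq_charDegree υ] at h1
    exact_mod_cast h1
  have hpos := Cfsg.Agent.Lib.helper81.irr_charDegree_pos υ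
  obtain ⟨b₀, hb₀⟩ : ∃ b₀ : (ZMod p)ˣ, d b₀ = 1 := by
    by_contra hcon
    push Not at hcon
    have : ∑ u : (ZMod p)ˣ, d u = 0 := by
      refine Finset.sum_eq_zero fun u _ => ?_
      have := hle1 u
      have := hcon u
      omega
    omega
  have hdval : ∀ b : (ZMod p)ˣ, d b = if b₀⁻¹ * b ∈ H then 1 else 0 := by
    intro b
    by_cases hb : b₀⁻¹ * b ∈ H
    · rw [if_pos hb]
      have h1 := hstab b₀ (b₀⁻¹ * b) hb
      rw [mul_inv_cancel_left] at h1
      rw [h1, hb₀]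
    · rw [if_neg hb]
      have h1 := hle1 b
      by_contra hne
      have h2 : d b = 1 := by omega
      exact hb (hcoset b₀ b hb₀ h2)
  rw [hdeg, Finset.sum_congr rfl (fun u _ => hdval u), Finset.sum_boole, Nat.cast_id,
    ← Fintype.card_subtype, ← Nat.card_eq_fintype_card]
  refine Nat.card_congr
    { toFun := fun b => ⟨b₀⁻¹ * b.1, b.2⟩
      invFun := fun h => ⟨b₀ * h.1, by rw [inv_mul_cancel_left]; exact h.2⟩
      left_inv := fun b => by
        apply Subtype.ext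
        show b₀ * (b₀⁻¹ * b.1) = b.1
        rw [mul_inv_cancel_left]
      right_inv := fun h => by
        apply Subtype.ext
        show b₀⁻¹ * (b₀ * h.1) = h.1
        rw [inv_mul_cancel_left] }

end Cfsg.Agent.Lib.helper2.BF
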