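/-
S4503 piece B6 (`m_eq_one`), core: the statement with the conclusion of piece B6a (`norm_TI`)
as an extra hypothesis.
-/
import Mathlib
import Cfsg.Agent.Lib.helper2.BFDefs
import Cfsg.Agent.Lib.helper20.D1EFinal
import Cfsg.Agent.Lib.helper4.CharDecomp
import Cfsg.Agent.Lib.helper81.Kernel
import Cfsg.Agent.Lib.helper82.BFA1
import Cfsg.Agent.Lib.helper22.W2P_PV
import Cfsg.Agent.Lib.helper79.GaloisChar

set_option autoImplicit false

open Cfsg Cfsg.Agent.Lib.helper20.D1E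
open scoped ComplexConjugate

namespace Cfsg.Agent.Lib.helper2.BF

variable {G : Type*} [Group G] [Fintype G]

omit [Fintype G] in
/-- `mu` of the power-twisted function. -/
theorem helper79_mu_pow (p : ℕ) [Fact p.Prime] (x : G) (hxp : x ^ p = 1) (f : G → ℂ)
    (c : (ZMod p)ˣ) (mp : ℕ) (hmc : (mp : ZMod p) = (c : ZMod p)) (b : ZMod p) :
    mu p x (fun g => f (g ^ mp)) (b * (c : ZMod p)) = mu p x f b := by
  have e : ∀ a k : ZMod p, zeta p ^ (a.val * k.val) = Cfsg.Agent.Lib.helper83.D1E.eZ p (a * k) := by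
    intro a k
    rw [Cfsg.Agent.Lib.helper83.D1E.eZ_mul, Cfsg.Agent.Lib.helper83.D1E.eZ, ← pow_mul]
  unfold mu
  congr 1
  rw [helper82_sum_range_zmod p
      (fun i => f ((x ^ i) ^ mp) * (zeta p ^ ((b * (c : ZMod p)).val * i))⁻¹),
    helper82_sum_range_zmod p (fun i => f (x ^ i) * (zeta p ^ (b.val * i))⁻¹),
    ← Equiv.sum_comp (Equiv.mulRight₀ (c : ZMod p) c.ne_zero)
      (fun k : ZMod p => f (x ^ k.val) * (zeta p ^ (b.val * k.val))⁻¹)]
  refine Finset.sum_congr rfl fun k _ => ?_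
  have h1 : (x ^ k.val) ^ mp = x ^ (k * (c : ZMod p)).val := by
    have h2 : (k * (c : ZMod p)) = ((k.val * mp : ℕ) : ZMod p) := by
      rw [Nat.cast_mul, ZMod.natCast_zmod_val, hmc]
    rw [← pow_mul, pow_eq_pow_mod (k.val * mp) hxp, h2, ZMod.val_natCast]
  have h3 : zeta p ^ ((b * (c : ZMod p)).val * k.val)
      = zeta p ^ (b.val * (k * (c : ZMod p)).val) := by
    rw [e, e]
    congr 1
    ring
  show f ((x ^ k.val) ^ mp) * (zeta p ^ ((b * (c : ZMod p)).val * k.val))⁻¹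
    = f (x ^ (k * (c : ZMod p)).val) * (zeta p ^ (b.val * (k * (c : ZMod p)).val))⁻¹
  rw [h1, h3]

/-- Sums over `Finset.range p` and over `ZMod p`, for any commutative monoid of values. -/
theorem helper79_sum_range_zmod {M : Type*} [AddCommMonoid M] (p : ℕ) [Fact p.Prime]
    (F : ℕ → M) : ∑ i ∈ Finset.range p, F i = ∑ k : ZMod p, F k.val := by
  symm
  refine Finset.sum_bij (fun k _ => k.val) ?_ ?_ ?_ ?_
  · intro k _
    exact Finset.mem_range.2 (ZMod.val_lt k)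
  · intro a _ b _ h
    exact ZMod.val_injective p h
  · intro i hi
    exact ⟨(i : ZMod p), Finset.mem_univ _, ZMod.val_natCast_of_lt (Finset.mem_range.1 hi)⟩
  · intro k _
    rfl

/-- Parseval on `⟨x⟩` in terms of `mu`. -/
theorem helper79_parseval (p : ℕ) [Fact p.Prime] (x : G) (hxp : x ^ p = 1) (f : G → ℂ) :
    ∑ i ∈ Finset.range p, Complex.normSq (f (x ^ i))
      = (p : ℝ) * ∑ b : ZMod p, Complex.normSq (mu p x f b) := by
  have h := Cfsg.Agent.Lib.helper22.W2P.parseval (Cfsg.Agent.Lib.helper83.D1E.zeta_prim p)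
    (fun b => mu p x f b)
  rw [← h, helper79_sum_range_zmod p (fun i => Complex.normSq (f (x ^ i)))]
  refine Finset.sum_congr rfl fun k _ => ?_
  congr 1
  rw [mu_expand p x hxp f k.val]
  refine Finset.sum_congr rfl fun s _ => ?_
  rw [← pow_mul, mul_comm k.val]

omit [Fintype G] in
theorem helper79_mu_sub (p : ℕ) (x : G) (f f' : G → ℂ) (b : ZMod p) :
    mu p x (fun g => f g - f' g) b = mu p x f b - mu p x f' b := by
  unfold mu
  rw [← mul_sub, ← Finset.sum_sub_distrib]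
  congr 1
  refine Finset.sum_congr rfl fun i _ => ?_
  ring

/-- B6, with the conclusion of B6a (`norm_TI`) as a hypothesis. -/
theorem helper79_m_eq_one_core (p : ℕ) [Fact p.Prime] (P : Sylow p G) (hP : Nat.card P = p)
    (x : G) (hx : x ∈ (P : Subgroup G)) (hx1 : x ≠ 1) (H : Subgroup (ZMod p)ˣ)
    (hH : ∀ r : (ZMod p)ˣ, r ∈ H ↔ ∃ n : G, n * x * n⁻¹ = x ^ ((r : ZMod p).val))
    (hTI : ∀ F : G → ℂ, IsClassFunction G F → (∀ g, ¬ p ∣ orderOf g → F g = 0) →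
      (Nat.card (Subgroup.normalizer ((P : Subgroup G) : Set G)) : ℂ) * ∑ g : G, F g =
      (Nat.card G : ℂ) * ∑ u : (ZMod p)ˣ, ∑ k : G, Set.indicator
        {k : G | k ∈ Subgroup.centralizer ((P : Subgroup G) : Set G) ∧ ¬ p ∣ orderOf k}
        (fun k => F (x ^ (u : ZMod p).val * k)) k)
    (ψ : IrrCharacter G) (a₀ : (ZMod p)ˣ) (m : ℕ) (hm : 0 < m)
    (hmu : OrbitMu p x H (ψ : G → ℂ) a₀ m) (c : (ZMod p)ˣ) (hc : c ∉ H) (mp : ℕ)
    (hmp : mp.Coprime (Nat.card G)) (hmc : (mp : ZMod p) = (c : ZMod p))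
    (hmreg : ∀ g : G, ¬ p ∣ orderOf g → g ^ mp = g)
    (hscal : ∀ k ∈ Subgroup.centralizer ((P : Subgroup G) : Set G), ¬ p ∣ orderOf k →
      ∃ μ : ℂ, ‖μ‖ = 1 ∧ ∀ g : G, (ψ : G → ℂ) (g * k) = μ * (ψ : G → ℂ) g) : m = 1 := by
  classical
  have hp : p.Prime := Fact.out
  obtain ⟨hxp, hxu⟩ := basic_x p P hP x hx hx1
  have hψ'irr : IsIrrCharacter G (fun g => (ψ : G → ℂ) (g ^ mp)) :=
    Cfsg.Agent.Lib.helper79.isIrrCharacter_pow_coprime mp hmp ψ.2
  -- the support predicate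
  let A : ZMod p → Prop := fun b => ∃ h ∈ H, b = (a₀ : ZMod p) * ((h : (ZMod p)ˣ) : ZMod p)
  have hmuA : ∀ b : ZMod p, mu p x (ψ : G → ℂ) b = if A b then (m : ℂ) else 0 := by
    intro b
    rw [hmu b]
    by_cases hb : A b
    · rw [if_pos hb]
      have hb' : b ∈ {b : ZMod p | ∃ h ∈ H, b = (a₀ : ZMod p) * ((h : (ZMod p)ˣ) : ZMod p)} := hb
      exact Set.indicator_of_mem hb' _
    · rw [if_neg hb]
      have hb' : b ∉ {b : ZMod p | ∃ h ∈ H, b = (a₀ : ZMod p) * ((h : (ZMod p)ˣ) : ZMod p)} := hb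
      exact Set.indicator_of_notMem hb' _
  have hcinv : ∀ b : ZMod p, b * ((c⁻¹ : (ZMod p)ˣ) : ZMod p) * (c : ZMod p) = b := by
    intro b
    rw [mul_assoc, ← Units.val_mul, inv_mul_cancel, Units.val_one, mul_one]
  have hmu' : ∀ b : ZMod p, mu p x (fun g => (ψ : G → ℂ) (g ^ mp)) b
      = mu p x (ψ : G → ℂ) (b * ((c⁻¹ : (ZMod p)ˣ) : ZMod p)) := by
    intro b
    have h1 := helper79_mu_pow p x hxp (ψ : G → ℂ) c mp hmc (b * ((c⁻¹ : (ZMod p)ˣ) : ZMod p))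
    rw [hcinv] at h1
    exact h1
  have hdisj : ∀ b : ZMod p, ¬ (A b ∧ A (b * ((c⁻¹ : (ZMod p)ˣ) : ZMod p))) := by
    rintro b ⟨⟨h, hh, hb⟩, ⟨h', hh', hb'⟩⟩
    apply hc
    have h1 : ((a₀ * h * c⁻¹ : (ZMod p)ˣ) : ZMod p) = ((a₀ * h' : (ZMod p)ˣ) : ZMod p) := by
      rw [Units.val_mul, Units.val_mul, Units.val_mul, ← hb, hb']
    have h2 : a₀ * h * c⁻¹ = a₀ * h' := Units.ext h1
    have h3 : c = h'⁻¹ * h := by
      have h4 : h * c⁻¹ = h' := by
        have := congrArg (fun t => a₀⁻¹ * t) h2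
        simpa [mul_assoc] using this
      rw [← h4]
      group
    rw [h3]
    exact H.mul_mem (H.inv_mem hh') hh
  -- `ψ ≠ ψ'`
  have hne : (ψ : G → ℂ) ≠ (fun g => (ψ : G → ℂ) (g ^ mp)) := by
    intro heq
    have h1 := hmu' ((a₀ : ZMod p) * (c : ZMod p))
    rw [← heq] at h1
    have h2 : (a₀ : ZMod p) * (c : ZMod p) * ((c⁻¹ : (ZMod p)ˣ) : ZMod p) = (a₀ : ZMod p) := by
      rw [mul_assoc, ← Units.val_mul, mul_inv_cancel, Units.val_one, mul_one]
    rw [h2, hmuA, hmuA] at h1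
    have hA1 : A (a₀ : ZMod p) := ⟨1, H.one_mem, by simp⟩
    have hA2 : ¬ A ((a₀ : ZMod p) * (c : ZMod p)) := by
      rintro ⟨h, hh, hb⟩
      apply hc
      have h3 : ((a₀ * c : (ZMod p)ˣ) : ZMod p) = ((a₀ * h : (ZMod p)ˣ) : ZMod p) := by
        rw [Units.val_mul, Units.val_mul, hb]
      have h4 : a₀ * c = a₀ * h := Units.ext h3
      rw [mul_left_cancel h4]
      exact hh
    rw [if_pos hA1, if_neg hA2] at h1
    have : (m : ℂ) ≠ 0 := by exact_mod_cast hm.ne'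
    exact this h1.symm
  -- the function `F = |ψ - ψ'|²`
  let F : G → ℂ := fun g =>
    ((Complex.normSq ((ψ : G → ℂ) g - (ψ : G → ℂ) (g ^ mp)) : ℝ) : ℂ)
  have hcfψ := Cfsg.Agent.Lib.helper4.isClassFunction_of_isIrrCharacter ψ.2
  have hcfψ' := Cfsg.Agent.Lib.helper4.isClassFunction_of_isIrrCharacter hψ'irr
  have hFclass : IsClassFunction G F := by
    intro g h
    show ((Complex.normSq ((ψ : G → ℂ) (h * g * h⁻¹) - (ψ : G → ℂ) ((h * g * h⁻¹) ^ mp)) : ℝ) : ℂ)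
      = ((Complex.normSq ((ψ : G → ℂ) g - (ψ : G → ℂ) (g ^ mp)) : ℝ) : ℂ)
    have h1 := hcfψ g h
    have h2 : (ψ : G → ℂ) ((h * g * h⁻¹) ^ mp) = (ψ : G → ℂ) (g ^ mp) := hcfψ' g h
    rw [h1, h2]
  have hFreg : ∀ g, ¬ p ∣ orderOf g → F g = 0 := by
    intro g hg
    show ((Complex.normSq ((ψ : G → ℂ) g - (ψ : G → ℂ) (g ^ mp)) : ℝ) : ℂ) = 0
    rw [hmreg g hg, sub_self, map_zero, Complex.ofReal_zero]
  have hcardG : (Nat.card G : ℂ) ≠ 0 := by
    have : Nat.card G ≠ 0 := Nat.card_pos.ne'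
    exact_mod_cast this
  have hFsum : ∑ g : G, F g = 2 * (Nat.card G : ℂ) := by
    have hS : ∀ φ₁ φ₂ : G → ℂ, ∑ g : G, φ₁ g * conj (φ₂ g)
        = (Nat.card G : ℂ) * classInner φ₁ φ₂ := by
      intro φ₁ φ₂
      unfold classInner
      rw [← mul_assoc, mul_inv_cancel₀ hcardG, one_mul]
    have h1 : ∀ g : G, F g = (ψ : G → ℂ) g * conj ((ψ : G → ℂ) g)
        - (ψ : G → ℂ) g * conj ((ψ : G → ℂ) (g ^ mp))
        - (ψ : G → ℂ) (g ^ mp) * conj ((ψ : G → ℂ) g)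
        + (ψ : G → ℂ) (g ^ mp) * conj ((ψ : G → ℂ) (g ^ mp)) := by
      intro g
      show ((Complex.normSq ((ψ : G → ℂ) g - (ψ : G → ℂ) (g ^ mp)) : ℝ) : ℂ) = _
      rw [← Complex.mul_conj, map_sub]
      ring
    rw [Finset.sum_congr rfl (fun g _ => h1 g), Finset.sum_add_distrib, Finset.sum_sub_distrib,
      Finset.sum_sub_distrib, hS (ψ : G → ℂ) (ψ : G → ℂ),
      hS (ψ : G → ℂ) (fun g => (ψ : G → ℂ) (g ^ mp)),
      hS (fun g => (ψ : G → ℂ) (g ^ mp)) (ψ : G → ℂ),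
      hS (fun g => (ψ : G → ℂ) (g ^ mp)) (fun g => (ψ : G → ℂ) (g ^ mp)),
      Cfsg.Agent.Lib.helper4.classInner_irr_self ψ.2,
      Cfsg.Agent.Lib.helper4.classInner_irr_self hψ'irr,
      Cfsg.Agent.Lib.helper4.classInner_irr_ne ψ.2 hψ'irr hne,
      Cfsg.Agent.Lib.helper4.classInner_irr_ne hψ'irr ψ.2 (Ne.symm hne)]
    ring
  -- `F (x^j k) = F (x^j)` for `k ∈ K`
  have hFk : ∀ (j : ℕ) (k : G), k ∈ Subgroup.centralizer ((P : Subgroup G) : Set G) →
      ¬ p ∣ orderOf k → F (x ^ j * k) = F (x ^ j) := by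
    intro j k hk hkreg
    obtain ⟨μ, hμn, hμ⟩ := hscal k hk hkreg
    have hcomm : Commute (x ^ j) k :=
      ((Subgroup.mem_centralizer_iff.1 hk) (x ^ j) (pow_mem hx j))
    have h1 : (ψ : G → ℂ) ((x ^ j * k) ^ mp) = μ * (ψ : G → ℂ) ((x ^ j) ^ mp) := by
      rw [hcomm.mul_pow, hmreg k hkreg, hμ]
    show ((Complex.normSq ((ψ : G → ℂ) (x ^ j * k) - (ψ : G → ℂ) ((x ^ j * k) ^ mp)) : ℝ) : ℂ)
      = ((Complex.normSq ((ψ : G → ℂ) (x ^ j) - (ψ : G → ℂ) ((x ^ j) ^ mp)) : ℝ) : ℂ)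
    rw [h1, hμ, ← mul_sub, map_mul, Complex.normSq_eq_norm_sq μ, hμn]
    norm_num
  -- the sum of `F` over `⟨x⟩`
  have hcount : ∑ b : ZMod p, (if A b then (1 : ℝ) else 0) = (Nat.card H : ℝ) := by
    rw [Finset.sum_boole, ← Fintype.card_subtype, ← Nat.card_eq_fintype_card]
    congr 1
    symm
    refine Nat.card_congr (Equiv.ofBijective
      (fun h : H => (⟨(a₀ : ZMod p) * ((h : (ZMod p)ˣ) : ZMod p), ⟨h.1, h.2, rfl⟩⟩ :
        {b : ZMod p // A b})) ⟨?_, ?_⟩)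
    · intro h h' hh
      have h1 : (a₀ : ZMod p) * ((h : (ZMod p)ˣ) : ZMod p)
          = (a₀ : ZMod p) * ((h' : (ZMod p)ˣ) : ZMod p) := congrArg Subtype.val hh
      have h2 : ((h : (ZMod p)ˣ) : ZMod p) = ((h' : (ZMod p)ˣ) : ZMod p) :=
        mul_left_cancel₀ a₀.ne_zero h1
      exact Subtype.ext (Units.ext h2)
    · rintro ⟨b, h, hh, hb⟩
      exact ⟨⟨h, hh⟩, Subtype.ext hb.symm⟩
  have hcount' : ∑ b : ZMod p, (if A (b * ((c⁻¹ : (ZMod p)ˣ) : ZMod p)) then (1 : ℝ) else 0)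
      = (Nat.card H : ℝ) := by
    rw [← hcount]
    exact Equiv.sum_comp (Equiv.mulRight₀ ((c⁻¹ : (ZMod p)ˣ) : ZMod p) (c⁻¹).ne_zero)
      (fun b : ZMod p => if A b then (1 : ℝ) else 0)
  have hmusum : ∑ b : ZMod p, Complex.normSq (mu p x
      (fun g => (ψ : G → ℂ) g - (ψ : G → ℂ) (g ^ mp)) b) = 2 * (Nat.card H : ℝ) * (m : ℝ) ^ 2 := by
    have h1 : ∀ b : ZMod p, Complex.normSq (mu p x
        (fun g => (ψ : G → ℂ) g - (ψ : G → ℂ) (g ^ mp)) b)
        = (m : ℝ) ^ 2 * ((if A b then (1 : ℝ) else 0)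
          + (if A (b * ((c⁻¹ : (ZMod p)ˣ) : ZMod p)) then (1 : ℝ) else 0)) := by
      intro b
      rw [helper79_mu_sub, hmu', hmuA, hmuA]
      have hd := hdisj b
      by_cases h1 : A b
      · have h2 : ¬ A (b * ((c⁻¹ : (ZMod p)ˣ) : ZMod p)) := fun h2 => hd ⟨h1, h2⟩
        rw [if_pos h1, if_neg h2, if_pos h1, if_neg h2, sub_zero, Complex.normSq_natCast]
        ring
      · by_cases h2 : A (b * ((c⁻¹ : (ZMod p)ˣ) : ZMod p))
        · rw [if_neg h1, if_pos h2, if_neg h1, if_pos h2, zero_sub, Complex.normSq_neg,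
            Complex.normSq_natCast]
          ring
        · rw [if_neg h1, if_neg h2, if_neg h1, if_neg h2, sub_zero, map_zero]
          ring
    rw [Finset.sum_congr rfl (fun b _ => h1 b), ← Finset.mul_sum, Finset.sum_add_distrib,
      hcount, hcount']
    ring
  have hFx : ∑ i ∈ Finset.range p, F (x ^ i)
      = (((p : ℝ) * (2 * (Nat.card H : ℝ) * (m : ℝ) ^ 2) : ℝ) : ℂ) := by
    have h1 := helper79_parseval p x hxp (fun g => (ψ : G → ℂ) g - (ψ : G → ℂ) (g ^ mp))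
    rw [hmusum] at h1
    rw [← h1, Complex.ofReal_sum]
  have hF1 : F 1 = 0 := hFreg 1 (by rw [orderOf_one]; exact fun h => hp.one_lt.ne' (Nat.dvd_one.1 h))
  have hFunits : ∑ u : (ZMod p)ˣ, F (x ^ (u : ZMod p).val)
      = (((p : ℝ) * (2 * (Nat.card H : ℝ) * (m : ℝ) ^ 2) : ℝ) : ℂ) := by
    rw [← hFx, helper82_sum_range_zmod p (fun i => F (x ^ i)),
      Cfsg.Agent.Lib.helper83.D1E.sum_zmod_eq p (fun k : ZMod p => F (x ^ k.val))]
    simp only [ZMod.val_zero, pow_zero]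
    rw [hF1, zero_add]
  -- the TI count
  have hTIF := hTI F hFclass hFreg
  have hinner : ∀ u : (ZMod p)ˣ, ∑ k : G, Set.indicator
      {k : G | k ∈ Subgroup.centralizer ((P : Subgroup G) : Set G) ∧ ¬ p ∣ orderOf k}
      (fun k => F (x ^ (u : ZMod p).val * k)) k
      = (Nat.card {k : G // k ∈ Subgroup.centralizer ((P : Subgroup G) : Set G) ∧
          ¬ p ∣ orderOf k} : ℂ) * F (x ^ (u : ZMod p).val) := by
    intro u
    have h1 : ∀ k : G, Set.indicator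
        {k : G | k ∈ Subgroup.centralizer ((P : Subgroup G) : Set G) ∧ ¬ p ∣ orderOf k}
        (fun k => F (x ^ (u : ZMod p).val * k)) k
        = if (k ∈ Subgroup.centralizer ((P : Subgroup G) : Set G) ∧ ¬ p ∣ orderOf k)
          then F (x ^ (u : ZMod p).val) else 0 := by
      intro k
      by_cases hk : k ∈ Subgroup.centralizer ((P : Subgroup G) : Set G) ∧ ¬ p ∣ orderOf k
      · rw [if_pos hk, Set.indicator_of_mem (show k ∈ {k : G | k ∈ Subgroup.centralizer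
          ((P : Subgroup G) : Set G) ∧ ¬ p ∣ orderOf k} from hk)]
        exact hFk _ k hk.1 hk.2
      · rw [if_neg hk, Set.indicator_of_notMem (show k ∉ {k : G | k ∈ Subgroup.centralizer
          ((P : Subgroup G) : Set G) ∧ ¬ p ∣ orderOf k} from hk)]
    rw [Finset.sum_congr rfl (fun k _ => h1 k), ← Finset.sum_filter, Finset.sum_const,
      nsmul_eq_mul, ← Fintype.card_subtype, ← Nat.card_eq_fintype_card]
  rw [Finset.sum_congr rfl (fun u _ => hinner u), ← Finset.mul_sum, hFunits, hFsum] at hTIF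
  -- orders
  obtain ⟨H', hH', hcardH'⟩ := Cfsg.Agent.Lib.helper46.D1E.exists_H p P hP x hx hx1
  have hHH' : H' = H := by
    ext r
    rw [hH r, hH' r]
  rw [hHH'] at hcardH'
  have hCK := Cfsg.Agent.Lib.helper46.D1E.card_centralizer p P hP
  have hle : Subgroup.centralizer ((P : Subgroup G) : Set G)
      ≤ Subgroup.normalizer ((P : Subgroup G) : Set G) := Subgroup.centralizer_le_normalizer _
  have hN : Nat.card (Subgroup.normalizer ((P : Subgroup G) : Set G))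
      = Nat.card (Subgroup.centralizer ((P : Subgroup G) : Set G)) * Nat.card H := by
    rw [hcardH']
    have h1 := Subgroup.card_mul_index ((Subgroup.centralizer ((P : Subgroup G) : Set G)).subgroupOf
      (Subgroup.normalizer ((P : Subgroup G) : Set G)))
    rw [Nat.card_congr (Subgroup.subgroupOfEquivOfLe hle).toEquiv] at h1
    exact h1.symm
  rw [hN, hCK] at hTIF
  set K := Nat.card {c : G // c ∈ Subgroup.centralizer ((P : Subgroup G) : Set G) ∧
    ¬ p ∣ orderOf c} with hK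
  have hKpos : 0 < K := by
    rcases Nat.eq_zero_or_pos K with h0 | h0
    · rw [h0, mul_zero] at hCK
      have : 0 < Nat.card (Subgroup.centralizer ((P : Subgroup G) : Set G)) := Nat.card_pos
      omega
    · exact h0
  have hHpos : 0 < Nat.card H := Nat.card_pos
  have hfinal : ((p * K * Nat.card H : ℕ) : ℝ) * (2 * (Nat.card G : ℝ))
      = (Nat.card G : ℝ) * ((K : ℝ) * ((p : ℝ) * (2 * (Nat.card H : ℝ) * (m : ℝ) ^ 2))) := by
    exact_mod_cast hTIF
  have hGpos : (0 : ℝ) < (Nat.card G : ℝ) := by exact_mod_cast Nat.card_pos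
  have hKR : (0 : ℝ) < (K : ℝ) := by exact_mod_cast hKpos
  have hHR : (0 : ℝ) < (Nat.card H : ℝ) := by exact_mod_cast hHpos
  have hpR : (0 : ℝ) < (p : ℝ) := by exact_mod_cast hp.pos
  have hm2 : (m : ℝ) ^ 2 = 1 := by
    push_cast at hfinal
    have h1 : (p : ℝ) * K * Nat.card H * (2 * Nat.card G) * ((m : ℝ) ^ 2 - 1) = 0 := by
      linear_combination -hfinal
    have h2 : (p : ℝ) * K * Nat.card H * (2 * Nat.card G) ≠ 0 := by positivity
    rcases mul_eq_zero.1 h1 with h3 | h3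
    · exact absurd h3 h2
    · linarith
  have hm1 : (m : ℝ) = 1 := by
    have h1 : ((m : ℝ) - 1) * ((m : ℝ) + 1) = 0 := by linear_combination hm2
    rcases mul_eq_zero.1 h1 with h3 | h3
    · linarith
    · have : (0 : ℝ) ≤ (m : ℝ) := Nat.cast_nonneg m
      linarith
  exact_mod_cast hm1

end Cfsg.Agent.Lib.helper2.BF
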