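/-
S4503 piece B6 (`m_eq_one`): verbatim statement, from the core and piece B6a (`norm_TI`).
-/
import Mathlib
import Cfsg.Agent.Lib.helper2.BFDefs
import Cfsg.Agent.Lib.helper20.D1EFinal
import Cfsg.Agent.Lib.helper4.CharDecomp
import Cfsg.Agent.Lib.helper81.Kernel
import Cfsg.Agent.Lib.helper79.BFB6core
import Cfsg.Agent.Lib.helper97.BFB6a

set_option autoImplicit false

open Cfsg Cfsg.Agent.Lib.helper20.D1E
open scoped ComplexConjugate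

namespace Cfsg.Agent.Lib.helper2.BF

variable {G : Type*} [Group G] [Fintype G]

/-- B6. -/
theorem m_eq_one (p : ℕ) [Fact p.Prime] (P : Sylow p G) (hP : Nat.card P = p)
    (x : G) (hx : x ∈ (P : Subgroup G)) (hx1 : x ≠ 1) (H : Subgroup (ZMod p)ˣ)
    (hH : ∀ r : (ZMod p)ˣ, r ∈ H ↔ ∃ n : G, n * x * n⁻¹ = x ^ ((r : ZMod p).val))
    (ψ : IrrCharacter G) (a₀ : (ZMod p)ˣ) (m : ℕ) (hm : 0 < m)
    (hmu : OrbitMu p x H (ψ : G → ℂ) a₀ m) (c : (ZMod p)ˣ) (hc : c ∉ H) (mp : ℕ)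
    (hmp : mp.Coprime (Nat.card G)) (hmc : (mp : ZMod p) = (c : ZMod p))
    (hmreg : ∀ g : G, ¬ p ∣ orderOf g → g ^ mp = g)
    (hscal : ∀ k ∈ Subgroup.centralizer ((P : Subgroup G) : Set G), ¬ p ∣ orderOf k →
      ∃ μ : ℂ, ‖μ‖ = 1 ∧ ∀ g : G, (ψ : G → ℂ) (g * k) = μ * (ψ : G → ℂ) g) : m = 1 :=
  helper79_m_eq_one_core p P hP x hx hx1 H hH
    (fun F hF hreg => norm_TI p P hP x hx hx1 F hF hreg)
    ψ a₀ m hm hmu c hc mp hmp hmc hmreg hscal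

end Cfsg.Agent.Lib.helper2.BF
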