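import Mathlib
import Cfsg.Agent.Lib.helper79.FiniteOrderTrace

set_option autoImplicit false

namespace Cfsg.Agent.Lib.helper79

open Polynomial

/-- An integer polynomial vanishing at one primitive `N`-th root of unity vanishes at every
primitive `N`-th root of unity. -/
theorem aeval_primitiveRoot_eq_zero {N : ℕ} (hN : 0 < N) {ξ₁ ξ₂ : ℂ}
    (h₁ : IsPrimitiveRoot ξ₁ N) (h₂ : IsPrimitiveRoot ξ₂ N) (E : ℤ[X])
    (h : aeval ξ₁ E = 0) : aeval ξ₂ E = 0 := by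
  have hdvd : cyclotomic N ℤ ∣ E := by
    rw [cyclotomic_eq_minpoly h₁ hN]
    exact minpoly.isIntegrallyClosed_dvd (h₁.isIntegral hN) h
  obtain ⟨Q, rfl⟩ := hdvd
  rw [map_mul, cyclotomic_eq_minpoly h₂ hN, minpoly.aeval, zero_mul]

theorem aeval_primitiveRoot_eq_zero_iff {N : ℕ} (hN : 0 < N) {ξ₁ ξ₂ : ℂ}
    (h₁ : IsPrimitiveRoot ξ₁ N) (h₂ : IsPrimitiveRoot ξ₂ N) (E : ℤ[X]) :
    aeval ξ₁ E = 0 ↔ aeval ξ₂ E = 0 :=
  ⟨aeval_primitiveRoot_eq_zero hN h₁ h₂ E, aeval_primitiveRoot_eq_zero hN h₂ h₁ E⟩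

theorem exists_int_prod_aeval_primitiveRoots_aux {N : ℕ} (hN : 0 < N) (K : Type) [Field K]
    [Algebra ℚ K] [IsCyclotomicExtension {N} ℚ K] (E : ℤ[X]) :
    ∃ z : ℤ, ∏ ξ ∈ primitiveRoots N ℂ, aeval ξ E = (z : ℂ) := by
  have : NeZero N := ⟨hN.ne'⟩
  have : FiniteDimensional ℚ K := IsCyclotomicExtension.finiteDimensional {N} ℚ K
  have hζK : IsPrimitiveRoot (IsCyclotomicExtension.zeta N ℚ K) N :=
    IsCyclotomicExtension.zeta_spec N ℚ K
  set ζK := IsCyclotomicExtension.zeta N ℚ K with hζKdef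
  have hαE : aeval ζK (E.map (Int.castRingHom ℚ)) = aeval ζK E :=
    aeval_map_algebraMap (A := ℚ) (B := K) ζK E
  have hint : IsIntegral ℤ (aeval ζK (E.map (Int.castRingHom ℚ))) := by
    rw [hαE]
    have h1 : IsIntegral ℤ ζK := hζK.isIntegral hN
    have h2 : aeval ζK E = ((aeval (⟨ζK, h1⟩ : integralClosure ℤ K) E :
        integralClosure ℤ K) : K) :=
      (Subalgebra.aeval_coe (integralClosure ℤ K) ⟨ζK, h1⟩ E)
    rw [h2]
    exact (aeval (⟨ζK, h1⟩ : integralClosure ℤ K) E).2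
  have hnorm_int : IsIntegral ℤ (Algebra.norm ℚ (aeval ζK (E.map (Int.castRingHom ℚ)))) :=
    Algebra.isIntegral_norm ℚ hint
  obtain ⟨z, hz⟩ := IsIntegrallyClosed.isIntegral_iff.mp hnorm_int
  refine ⟨z, ?_⟩
  have hprod : algebraMap ℚ ℂ (Algebra.norm ℚ (aeval ζK (E.map (Int.castRingHom ℚ)))) =
      ∏ σ : K →ₐ[ℚ] ℂ, σ (aeval ζK (E.map (Int.castRingHom ℚ))) :=
    Algebra.norm_eq_prod_embeddings ℚ ℂ _
  have hσ : ∀ σ : K →ₐ[ℚ] ℂ,
      σ (aeval ζK (E.map (Int.castRingHom ℚ))) = aeval (σ ζK) E := by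
    intro σ
    have h1 : σ (aeval ζK (E.map (Int.castRingHom ℚ))) = aeval (σ ζK) (E.map (Int.castRingHom ℚ)) :=
      (aeval_algHom_apply σ ζK (E.map (Int.castRingHom ℚ))).symm
    rw [h1]
    exact aeval_map_algebraMap (A := ℚ) (B := ℂ) (σ ζK) E
  have h3 : ∏ σ : K →ₐ[ℚ] ℂ, σ (aeval ζK (E.map (Int.castRingHom ℚ))) =
      ∏ ξ : primitiveRoots N ℂ, aeval (ξ : ℂ) E := by
    refine Fintype.prod_equiv
      (hζK.embeddingsEquivPrimitiveRoots ℂ (cyclotomic.irreducible_rat hN)) _ _ (fun σ => ?_)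
    rw [hσ σ]
    rfl
  have h4 : ∏ ξ : primitiveRoots N ℂ, aeval (ξ : ℂ) E = ∏ ξ ∈ primitiveRoots N ℂ, aeval ξ E :=
    Finset.prod_coe_sort (primitiveRoots N ℂ) (fun ξ => aeval ξ E)
  rw [← h4, ← h3, ← hprod, ← hz]
  simp

/-- The product over all primitive `N`-th roots of unity `ξ` of the values `E(ξ)` of an integer
polynomial is a rational integer. -/
theorem exists_int_prod_aeval_primitiveRoots {N : ℕ} (hN : 0 < N) (E : ℤ[X]) :
    ∃ z : ℤ, ∏ ξ ∈ primitiveRoots N ℂ, aeval ξ E = (z : ℂ) :=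
  @exists_int_prod_aeval_primitiveRoots_aux N hN (CyclotomicField N ℚ) _
    (CyclotomicField.algebra N ℚ) inferInstance E

/-- If an integer polynomial does not vanish at a primitive `N`-th root of unity, then the product
of the absolute values of its values at all primitive `N`-th roots of unity is at least `1`. -/
theorem one_le_prod_norm_aeval_primitiveRoots {N : ℕ} (hN : 0 < N) {ζ : ℂ}
    (hζ : IsPrimitiveRoot ζ N) (E : ℤ[X]) (h : aeval ζ E ≠ 0) :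
    1 ≤ ∏ ξ ∈ primitiveRoots N ℂ, ‖aeval ξ E‖ := by
  obtain ⟨z, hz⟩ := exists_int_prod_aeval_primitiveRoots hN E
  have hne : ∏ ξ ∈ primitiveRoots N ℂ, aeval ξ E ≠ 0 := by
    rw [Finset.prod_ne_zero_iff]
    intro ξ hξ
    rw [mem_primitiveRoots hN] at hξ
    intro h0
    exact h (aeval_primitiveRoot_eq_zero hN hξ hζ E h0)
  have hz0 : z ≠ 0 := by
    rintro rfl
    rw [hz] at hne
    simp at hne
  rw [← norm_prod, hz]
  have : (1 : ℝ) ≤ |(z : ℝ)| := by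
    have h1 : (1 : ℤ) ≤ |z| := Int.one_le_abs hz0
    exact_mod_cast h1
  simpa using this

/-- AM–GM in the form needed for Burnside's argument: nonnegative reals with product at least `1`
have sum of squares at least their number. -/
theorem card_le_sum_sq_of_one_le_prod {ι : Type*} (s : Finset ι) (z : ι → ℝ)
    (hz : ∀ i ∈ s, 0 ≤ z i) (h : 1 ≤ ∏ i ∈ s, z i) : (s.card : ℝ) ≤ ∑ i ∈ s, z i ^ 2 := by
  rcases s.eq_empty_or_nonempty with rfl | hne
  · simp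
  have hcard : (0 : ℝ) < s.card := by exact_mod_cast Finset.card_pos.mpr hne
  have key := Real.geom_mean_le_arith_mean_weighted s (fun _ => (1 : ℝ) / s.card) (fun i => z i ^ 2)
    (fun i _ => by positivity) (by simp [hcard.ne']) (fun i _ => by positivity)
  have h1 : ∏ i ∈ s, (z i ^ 2) ^ ((1 : ℝ) / s.card) = (∏ i ∈ s, z i ^ 2) ^ ((1 : ℝ) / s.card) :=
    Real.finsetProd_rpow s (fun i => z i ^ 2) (fun i _ => by positivity) _
  have h2 : (1 : ℝ) ≤ ∏ i ∈ s, z i ^ 2 := by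
    rw [Finset.prod_pow]
    exact one_le_pow₀ h
  have h3 : (1 : ℝ) ≤ (∏ i ∈ s, z i ^ 2) ^ ((1 : ℝ) / s.card) :=
    Real.one_le_rpow h2 (by positivity)
  rw [h1] at key
  have h4 : (1 : ℝ) ≤ ∑ i ∈ s, 1 / (s.card : ℝ) * z i ^ 2 := h3.trans key
  rw [← Finset.mul_sum] at h4
  have h5 : (s.card : ℝ) * 1 ≤ (s.card : ℝ) * (1 / (s.card : ℝ) * ∑ i ∈ s, z i ^ 2) :=
    mul_le_mul_of_nonneg_left h4 hcard.le
  rw [mul_one, ← mul_assoc, mul_one_div_cancel hcard.ne', one_mul] at h5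
  exact h5

/-- Character values on the powers of an element `g` with `g ^ N = 1` are the values of one
integer polynomial at the powers of a primitive `N`-th root of unity. -/
theorem character_pow_eq_aeval {G V : Type*} [Group G] [AddCommGroup V] [Module ℂ V]
    [FiniteDimensional ℂ V] (ρ : Representation ℂ G V) (g : G) (N : ℕ) (hN : 0 < N)
    (hg : g ^ N = 1) (ζ : ℂ) (hζ : IsPrimitiveRoot ζ N) :
    ∃ F : ℤ[X], ∀ k : ℕ, ρ.character (g ^ k) = aeval (ζ ^ k) F := by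
  classical
  have : NeZero N := ⟨hN.ne'⟩
  obtain ⟨S, m, h1, _, h3, _⟩ := character_pow_eq_sum ρ g N hN.ne' hg
  have hex : ∀ μ : ℂ, ∃ a : ℕ, μ ∈ S → ζ ^ a = μ := by
    intro μ
    by_cases hμ : μ ∈ S
    · obtain ⟨a, _, ha⟩ := hζ.eq_pow_of_pow_eq_one (h1 μ hμ)
      exact ⟨a, fun _ => ha⟩
    · exact ⟨0, fun h => absurd h hμ⟩
  choose a ha using hex
  refine ⟨∑ μ ∈ S, C (m μ : ℤ) * X ^ (a μ), fun k => ?_⟩
  rw [h3 k]
  simp only [map_sum, map_mul, map_pow, aeval_X, aeval_C]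
  apply Finset.sum_congr rfl
  intro μ hμ
  have h5 : (ζ ^ k) ^ a μ = μ ^ k := by
    rw [← pow_mul, mul_comm, pow_mul, ha μ hμ]
  rw [h5]
  simp

/-- Reindexing sums over primitive roots by exponents coprime to `N`. -/
theorem sum_primitiveRoots_eq_sum_coprime {N : ℕ} (hN : 0 < N) {ζ : ℂ} (hζ : IsPrimitiveRoot ζ N)
    (f : ℂ → ℝ) :
    ∑ k ∈ (Finset.range N).filter (fun k => k.Coprime N), f (ζ ^ k) =
      ∑ ξ ∈ primitiveRoots N ℂ, f ξ := by
  have : NeZero N := ⟨hN.ne'⟩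
  refine Finset.sum_bij (fun k _ => ζ ^ k) ?_ ?_ ?_ ?_
  · intro k hk
    rw [Finset.mem_filter] at hk
    exact (mem_primitiveRoots hN).mpr (hζ.pow_of_coprime k hk.2)
  · intro i hi j hj hij
    rw [Finset.mem_filter, Finset.mem_range] at hi hj
    exact hζ.pow_inj hi.1 hj.1 hij
  · intro ξ hξ
    rw [mem_primitiveRoots hN] at hξ
    obtain ⟨i, hi, hcop, hpow⟩ := hζ.isPrimitiveRoot_iff.mp hξ
    exact ⟨i, Finset.mem_filter.mpr ⟨Finset.mem_range.mpr hi, hcop⟩, hpow⟩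
  · intro k _
    rfl

end Cfsg.Agent.Lib.helper79
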