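/-
S4503 piece C4 (`scalar_of_ker`), core: the statement with the conclusion of piece C3
(`ker_of_preg`) for the character `ξ` as an extra hypothesis.
-/
import Mathlib
import Cfsg.Agent.Lib.helper2.BFDefs
import Cfsg.Agent.Lib.helper20.D1EFinal
import Cfsg.Agent.Lib.helper4.CharDecomp
import Cfsg.Agent.Lib.helper81.Kernel
import Cfsg.Agent.Lib.helper72.BFB4b
import Cfsg.Agent.Lib.helper77.WinC
import Cfsg.Agent.Lib.helper82.CharInt

set_option autoImplicit false

open Cfsg Cfsg.Agent.Lib.helper20.D1E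
open scoped ComplexConjugate Pointwise

namespace Cfsg.Agent.Lib.helper2.BF

/-- Schur: an element whose operator commutes with the whole image of an irreducible
representation acts as a scalar. -/
theorem helper79_scalar_of_commute {G V : Type*} [Group G] [AddCommGroup V] [Module ℂ V]
    [FiniteDimensional ℂ V] (ρ : Representation ℂ G V) (hρ : ρ.IsIrreducible) (k : G)
    (hk : ∀ g : G, ρ g * ρ k = ρ k * ρ g) :
    ∃ t : ℂ, ρ k = t • (LinearMap.id : V →ₗ[ℂ] V) := by
  let f : Representation.IntertwiningMap ρ ρ :=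
    { toLinearMap := ρ k
      isIntertwining' := fun g => (hk g).symm }
  obtain ⟨t, ht⟩ :=
    (Representation.IsIrreducible.algebraMap_intertwiningMap_bijective_of_isAlgClosed (ρ := ρ)).2 f
  refine ⟨t, ?_⟩
  have h1 := congrArg Representation.IntertwiningMap.toLinearMap ht
  rw [Representation.IntertwiningMap.algebraMap_apply] at h1
  exact h1.symm

section

variable {G : Type*} [Group G]

/-- A subgroup of prime order is generated by each of its non-trivial elements. -/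
theorem helper79_gen_of_prime_card {p : ℕ} (hp : p.Prime) {P : Subgroup G} (hP : Nat.card P = p)
    (z : G) (hz : z ∈ P) (hz1 : z ≠ 1) : P = Subgroup.zpowers z := by
  have := Fact.mk hp
  have h1 : Subgroup.zpowers (⟨z, hz⟩ : P) = ⊤ :=
    zpowers_eq_top_of_prime_card hP (fun h => hz1 (congrArg Subtype.val h))
  apply le_antisymm
  · intro w hw
    have h2 : (⟨w, hw⟩ : P) ∈ Subgroup.zpowers (⟨z, hz⟩ : P) := by rw [h1]; trivial
    obtain ⟨k, hk⟩ := Subgroup.mem_zpowers_iff.mp h2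
    refine Subgroup.mem_zpowers_iff.mpr ⟨k, ?_⟩
    have := congrArg Subtype.val hk
    simpa using this
  · rw [Subgroup.zpowers_le]; exact hz

/-- A normal subgroup not containing the generator `x` of a Sylow subgroup of order `p` is a
`p'`-group. -/
theorem helper79_preg_of_normal [Finite G] (p : ℕ) [Fact p.Prime] (P : Sylow p G)
    (hP : Nat.card P = p) (x : G) (hx : x ∈ (P : Subgroup G)) (L : Subgroup G)
    [hL : L.Normal] (hxL : x ∉ L) : ∀ y ∈ L, ¬ p ∣ orderOf y := by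
  have hp : p.Prime := Fact.out
  intro y hyL hdvd
  have hn0 : orderOf y ≠ 0 := (orderOf_pos y).ne'
  set z : G := y ^ (orderOf y / p) with hz
  have hzo : orderOf z = p := orderOf_pow_orderOf_div hn0 hdvd
  have hzL : z ∈ L := L.pow_mem hyL _
  have hz1 : z ≠ 1 := by
    intro h1
    rw [h1, orderOf_one] at hzo
    exact hp.one_lt.ne hzo
  have hpg : IsPGroup p (Subgroup.zpowers z) := by
    apply IsPGroup.of_card (n := 1)
    rw [Nat.card_zpowers, hzo, pow_one]
  obtain ⟨Q, hQ⟩ := hpg.exists_le_sylow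
  obtain ⟨b, hb⟩ := MulAction.exists_smul_eq G P Q
  have hzQ : z ∈ (Q : Subgroup G) := hQ (Subgroup.mem_zpowers z)
  have hzP : b⁻¹ * z * b ∈ (P : Subgroup G) := by
    rw [← hb, Sylow.coe_subgroup_smul, Subgroup.mem_pointwise_smul_iff_inv_smul_mem] at hzQ
    have e1 : (MulAut.conj b)⁻¹ • z = b⁻¹ * z * b := by
      rw [MulAut.smul_def, ← map_inv, MulAut.conj_apply, inv_inv]
    rwa [e1] at hzQ
  have hz'1 : b⁻¹ * z * b ≠ 1 := by
    intro h1
    apply hz1
    have : z = b * (b⁻¹ * z * b) * b⁻¹ := by group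
    rw [this, h1]
    group
  have hgen := helper79_gen_of_prime_card hp hP (b⁻¹ * z * b) hzP hz'1
  have hz'L : b⁻¹ * z * b ∈ L := by
    have := hL.conj_mem z hzL b⁻¹
    rwa [inv_inv] at this
  apply hxL
  have hxz : x ∈ Subgroup.zpowers (b⁻¹ * z * b) := by
    rw [← hgen]
    exact hx
  exact (Subgroup.zpowers_le.2 hz'L) hxz

/-- If `G = L ⟨x⟩` with `x ^ p = 1`, every `p`-regular element lies in the normal subgroup `L`. -/
theorem helper79_preg_mem_of_sup_top (p : ℕ) [Fact p.Prime] (x : G) (hxp : x ^ p = 1)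
    (L : Subgroup G) [hL : L.Normal] (hS : L ⊔ Subgroup.zpowers x = ⊤) (y : G)
    (hy : ¬ p ∣ orderOf y) : y ∈ L := by
  have hp : p.Prime := Fact.out
  have hyS : y ∈ L ⊔ Subgroup.zpowers x := by rw [hS]; trivial
  have hmul : (↑(L ⊔ Subgroup.zpowers x) : Set G) = (L : Set G) * (Subgroup.zpowers x : Set G) :=
    Subgroup.normal_mul L (Subgroup.zpowers x)
  have hy' : y ∈ (L : Set G) * (Subgroup.zpowers x : Set G) := by
    rw [← hmul]
    exact hyS
  obtain ⟨l, hl, c, hc, hlc⟩ := Set.mem_mul.1 hy'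
  obtain ⟨j, hj⟩ := Subgroup.mem_zpowers_iff.1 hc
  have hπl : (QuotientGroup.mk' L) l = 1 := (QuotientGroup.eq_one_iff l).2 hl
  have hπy : (QuotientGroup.mk' L) y = ((QuotientGroup.mk' L) x) ^ j := by
    rw [← hlc, map_mul, hπl, one_mul, ← hj, map_zpow]
  have hpow : ((QuotientGroup.mk' L) y) ^ p = 1 := by
    rw [hπy, ← zpow_natCast, ← zpow_mul, mul_comm, zpow_mul, zpow_natCast, ← map_pow, hxp,
      map_one, one_zpow]
  have hd1 : orderOf ((QuotientGroup.mk' L) y) ∣ p := orderOf_dvd_of_pow_eq_one hpow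
  have hd2 : orderOf ((QuotientGroup.mk' L) y) ∣ orderOf y := orderOf_map_dvd _ y
  rcases (Nat.dvd_prime hp).1 hd1 with h1 | h1
  · exact (QuotientGroup.eq_one_iff y).1 (orderOf_eq_one_iff.1 h1)
  · rw [h1] at hd2
    exact absurd hd2 hy

/-- In a group of order not divisible by `p²`, a normal subgroup containing an element of order
`p` contains every element of order `p`. -/
theorem helper79_mem_of_good [Finite G] (p : ℕ) [Fact p.Prime] (hsq : ¬ p ^ 2 ∣ Nat.card G)
    (S : Subgroup G) (N : Subgroup ↥S) [hN : N.Normal] (z : ↥S) (hz : z ∈ N)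
    (hzo : orderOf z = p) (xS : ↥S) (hxo : orderOf xS = p) : xS ∈ N := by
  have hp : p.Prime := Fact.out
  by_contra hx
  have h1 : (QuotientGroup.mk' N) xS ≠ 1 := fun h => hx ((QuotientGroup.eq_one_iff xS).1 h)
  have hd : orderOf ((QuotientGroup.mk' N) xS) ∣ p := by
    have := orderOf_map_dvd (QuotientGroup.mk' N) xS
    rwa [hxo] at this
  have ho : orderOf ((QuotientGroup.mk' N) xS) = p := by
    rcases (Nat.dvd_prime hp).1 hd with h2 | h2
    · exact absurd (orderOf_eq_one_iff.1 h2) h1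
    · exact h2
  have hq : p ∣ Nat.card (↥S ⧸ N) := by
    rw [← ho]
    exact orderOf_dvd_natCard _
  have hn : p ∣ Nat.card N := by
    have h2 : orderOf (⟨z, hz⟩ : N) = p := by
      rw [← hzo]
      exact (Subgroup.orderOf_coe (⟨z, hz⟩ : N)).symm
    rw [← h2]
    exact orderOf_dvd_natCard _
  have hcard : Nat.card ↥S = Nat.card (↥S ⧸ N) * Nat.card N :=
    Subgroup.card_eq_card_quotient_mul_card_subgroup N
  apply hsq
  have h3 : p ^ 2 ∣ Nat.card ↥S := by
    rw [hcard, pow_two]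
    exact Nat.mul_dvd_mul hq hn
  exact h3.trans (Subgroup.card_subgroup_dvd_card S)

end

variable {G : Type*} [Group G] [Fintype G]

/-- C4, with the conclusion of C3 for `ξ` as a hypothesis. -/
theorem helper79_scalar_of_ker_core (p : ℕ) [Fact p.Prime] (P : Sylow p G) (hP : Nat.card P = p)
    (x : G) (hx : x ∈ (P : Subgroup G)) (hx1 : x ≠ 1)
    (hgen : Subgroup.normalClosure ({x} : Set G) = ⊤)
    (ψ : IrrCharacter G) (ξ : G → ℂ) (hξ : IsCharacter G ξ) (hξx : ξ x ≠ ξ 1)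
    (hξK : ∀ y ∈ Subgroup.centralizer ((P : Subgroup G) : Set G), ¬ p ∣ orderOf y →
      ξ y = ξ 1)
    (hC3 : (∀ y : G, ¬ p ∣ orderOf y → ξ y = ξ 1) → ξ x = ξ 1)
    (IH : ∀ S : Subgroup G, S ≠ ⊤ → x ∈ S → ∀ φ : S → ℂ, IsIrrCharacter S φ →
      charDegree φ ≤ charDegree (ψ : G → ℂ) → Good p S φ) :
    ∀ k ∈ Subgroup.centralizer ((P : Subgroup G) : Set G), ¬ p ∣ orderOf k →
      ∃ μ : ℂ, ‖μ‖ = 1 ∧ ∀ g : G, (ψ : G → ℂ) (g * k) = μ * (ψ : G → ℂ) g := by
  classical
  have hp : p.Prime := Fact.out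
  obtain ⟨hxp, hxu⟩ := basic_x p P hP x hx hx1
  have hxo : orderOf x = p := orderOf_eq_prime hxp hx1
  have hsq : ¬ p ^ 2 ∣ Nat.card G := by
    intro hdvd
    have h1 : Nat.card (P : Subgroup G) = p ^ (Nat.card G).factorization p :=
      Sylow.card_eq_multiplicity P
    rw [hP] at h1
    have h2 : 2 ≤ (Nat.card G).factorization p :=
      (hp.pow_dvd_iff_le_factorization Nat.card_pos.ne').1 hdvd
    have h3 : p ^ 2 ≤ p ^ (Nat.card G).factorization p := Nat.pow_le_pow_right hp.pos h2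
    rw [← h1] at h3
    have h4 : p < p ^ 2 := by
      have := hp.one_lt
      nlinarith
    omega
  -- the kernel of `ξ`
  let L : Subgroup G := Cfsg.Agent.Lib.helper81.charKer ξ hξ
  have hLn : L.Normal := Cfsg.Agent.Lib.helper81.charKer_normal ξ hξ
  have hxL : x ∉ L := fun h => hξx ((Cfsg.Agent.Lib.helper81.mem_charKer ξ hξ x).1 h)
  have hLreg := helper79_preg_of_normal p P hP x hx L hxL
  -- the subgroup `S = L ⟨x⟩`
  let S : Subgroup G := L ⊔ Subgroup.zpowers x
  have hS : S ≠ ⊤ := by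
    intro hS
    apply hξx
    apply hC3
    intro y hy
    exact (Cfsg.Agent.Lib.helper81.mem_charKer ξ hξ y).1
      (helper79_preg_mem_of_sup_top p x hxp L hS y hy)
  have hLS : L ≤ S := le_sup_left
  have hxS : x ∈ S := (le_sup_right : Subgroup.zpowers x ≤ S) (Subgroup.mem_zpowers x)
  let _ : Fintype ↥S := Fintype.ofFinite _
  have hψ : IsCharacter G (ψ : G → ℂ) := Cfsg.Agent.Lib.helper4.isCharacter_of_isIrrCharacter ψ.2
  have hψS : IsCharacter ↥S (fun s : ↥S => (ψ : G → ℂ) s) :=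
    Cfsg.Agent.Lib.helper4.isCharacter_restrict S hψ
  intro k hk hkreg
  have hkL : k ∈ L := (Cfsg.Agent.Lib.helper81.mem_charKer ξ hξ k).2 (hξK k hk hkreg)
  -- commutators `[x, k']`, `k'` a conjugate of `k`, lie in the kernel of `ψ`
  have key : ∀ g : G, (ψ : G → ℂ) (x * (g⁻¹ * k * g) * x⁻¹ * (g⁻¹ * k * g)⁻¹) = (ψ : G → ℂ) 1 := by
    intro g
    have hk'L : g⁻¹ * k * g ∈ L := by
      have := hLn.conj_mem k hkL g⁻¹
      rwa [inv_inv] at this
    have hcL : x * (g⁻¹ * k * g) * x⁻¹ * (g⁻¹ * k * g)⁻¹ ∈ L :=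
      L.mul_mem (hLn.conj_mem _ hk'L x) (L.inv_mem hk'L)
    let xS : ↥S := ⟨x, hxS⟩
    let kS : ↥S := ⟨g⁻¹ * k * g, hLS hk'L⟩
    let cS : ↥S := ⟨x * (g⁻¹ * k * g) * x⁻¹ * (g⁻¹ * k * g)⁻¹, hLS hcL⟩
    have hcS : cS = xS * (kS * xS⁻¹ * kS⁻¹) := by
      apply Subtype.ext
      show x * (g⁻¹ * k * g) * x⁻¹ * (g⁻¹ * k * g)⁻¹ = x * ((g⁻¹ * k * g) * x⁻¹ * (g⁻¹ * k * g)⁻¹)
      group
    have hcreg : ¬ p ∣ orderOf cS := by
      have h1 : orderOf cS = orderOf (x * (g⁻¹ * k * g) * x⁻¹ * (g⁻¹ * k * g)⁻¹) :=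
        (Subgroup.orderOf_coe cS).symm
      rw [h1]
      exact hLreg _ hcL
    have hxSo : orderOf xS = p := by
      rw [← hxo]
      exact (Subgroup.orderOf_coe xS).symm
    have hall : ∀ θ : IrrCharacter ↥S,
        classInner (fun s : ↥S => (ψ : G → ℂ) s) (θ : ↥S → ℂ) ≠ 0 →
        (θ : ↥S → ℂ) cS = (θ : ↥S → ℂ) 1 := by
      intro θ hθ
      have hdeg : charDegree (θ : ↥S → ℂ) ≤ charDegree (ψ : G → ℂ) := by
        have h1 := sum_deg_le (fun s : ↥S => (ψ : G → ℂ) s) hψS {θ}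
          (by
            intro ξ' hξ'
            rw [Finset.mem_singleton] at hξ'
            rw [hξ']
            exact hθ)
        rw [Finset.sum_singleton] at h1
        exact h1
      obtain ⟨N, hNn, ⟨z, hzN, hzo⟩, hN⟩ := IH S hS hxS (θ : ↥S → ℂ) θ.2 hdeg
      have hxSN : xS ∈ N := helper79_mem_of_good p hsq S N z hzN hzo xS hxSo
      have hcSN : cS ∈ N := by
        rw [hcS]
        exact N.mul_mem hxSN (hNn.conj_mem _ (N.inv_mem hxSN) kS)
      exact hN cS hcSN hcreg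
    exact (Cfsg.Agent.Lib.helper77.char_eq_degree_iff_constituents hψS cS).2 hall
  -- pass to a representation
  obtain ⟨n, ρ, hirr, hρ⟩ := ψ.2
  have hone : ∀ c : G, (ψ : G → ℂ) c = (ψ : G → ℂ) 1 → ρ c = 1 := by
    intro c hc
    apply Cfsg.Agent.Lib.helper82.rep_eq_one_of_char_eq
    rw [hρ, hc, ← hρ]
    exact Representation.char_one ρ
  have hcomm_conj : ∀ g : G, ρ (g * x * g⁻¹) * ρ k = ρ k * ρ (g * x * g⁻¹) := by
    intro g
    have h1 := hone _ (key g)
    obtain ⟨k', hk'⟩ : ∃ k' : G, k' = g⁻¹ * k * g := ⟨_, rfl⟩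
    rw [← hk'] at h1
    have h2 : ρ x * ρ k' = ρ k' * ρ x := by
      have h3 : ρ (x * k') = ρ (x * k' * x⁻¹ * k'⁻¹) * ρ (k' * x) := by
        rw [← map_mul]
        congr 1
        group
      rw [h1, one_mul, map_mul, map_mul] at h3
      exact h3
    have e1 : ρ (g * x * g⁻¹) * ρ k = ρ g * (ρ x * ρ k') * ρ g⁻¹ := by
      rw [hk']
      simp only [← map_mul]
      congr 1
      group
    have e2 : ρ k * ρ (g * x * g⁻¹) = ρ g * (ρ k' * ρ x) * ρ g⁻¹ := by
      rw [hk']
      simp only [← map_mul]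
      congr 1
      group
    rw [e1, e2, h2]
  have hcomm : ∀ g : G, ρ g * ρ k = ρ k * ρ g := by
    let T : Subgroup G :=
      { carrier := {g | ρ g * ρ k = ρ k * ρ g}
        mul_mem' := by
          intro a b ha hb
          show ρ (a * b) * ρ k = ρ k * ρ (a * b)
          have ha' : ρ a * ρ k = ρ k * ρ a := ha
          have hb' : ρ b * ρ k = ρ k * ρ b := hb
          rw [map_mul, mul_assoc, hb', ← mul_assoc, ha', mul_assoc]
        one_mem' := by
          show ρ 1 * ρ k = ρ k * ρ 1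
          rw [map_one, one_mul, mul_one]
        inv_mem' := by
          intro a ha
          show ρ a⁻¹ * ρ k = ρ k * ρ a⁻¹
          have ha' : ρ a * ρ k = ρ k * ρ a := ha
          have h1 : ρ a⁻¹ * ρ a = 1 := by rw [← map_mul, inv_mul_cancel, map_one]
          have h2 : ρ a * ρ a⁻¹ = 1 := by rw [← map_mul, mul_inv_cancel, map_one]
          calc ρ a⁻¹ * ρ k = ρ a⁻¹ * ρ k * (ρ a * ρ a⁻¹) := by rw [h2, mul_one]
            _ = ρ a⁻¹ * (ρ k * ρ a) * ρ a⁻¹ := by simp only [mul_assoc]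
            _ = ρ a⁻¹ * (ρ a * ρ k) * ρ a⁻¹ := by rw [ha']
            _ = (ρ a⁻¹ * ρ a) * ρ k * ρ a⁻¹ := by simp only [mul_assoc]
            _ = ρ k * ρ a⁻¹ := by rw [h1, one_mul] }
    have hT : Subgroup.normalClosure ({x} : Set G) ≤ T := by
      unfold Subgroup.normalClosure
      rw [Subgroup.closure_le]
      intro t ht
      obtain ⟨b, hb, hconj⟩ := Group.mem_conjugatesOfSet_iff.1 ht
      rw [Set.mem_singleton_iff] at hb
      subst hb
      obtain ⟨c, hc⟩ := isConj_iff.1 hconj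
      show ρ t * ρ k = ρ k * ρ t
      rw [← hc]
      exact hcomm_conj c
    intro g
    have hg : g ∈ T := hT (by rw [hgen]; trivial)
    exact hg
  obtain ⟨μ, hμ⟩ := helper79_scalar_of_commute ρ hirr k hcomm
  have hψ1 : (ψ : G → ℂ) 1 ≠ 0 := Cfsg.Agent.Lib.helper4.irr_degree_ne_zero ψ.2
  refine ⟨μ, ?_, fun g => ?_⟩
  · have hpow : ∀ j : ℕ, ρ (k ^ j) = (μ ^ j) • (LinearMap.id : (Fin n → ℂ) →ₗ[ℂ] (Fin n → ℂ)) := by
      intro j
      induction j with
      | zero =>
        rw [pow_zero, pow_zero, map_one, one_smul]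
        rfl
      | succ j ih =>
        rw [pow_succ, map_mul, ih, hμ, pow_succ]
        ext v
        simp [mul_smul]
        ring
    have h1 := hpow (orderOf k)
    rw [pow_orderOf_eq_one, map_one] at h1
    have h2 := congrArg (LinearMap.trace ℂ (Fin n → ℂ)) h1
    rw [map_smul, smul_eq_mul] at h2
    have h3 : LinearMap.trace ℂ (Fin n → ℂ) (LinearMap.id : (Fin n → ℂ) →ₗ[ℂ] (Fin n → ℂ))
        = (ψ : G → ℂ) 1 := by
      rw [← hρ]
      unfold Representation.character
      rw [map_one]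
      rfl
    have h4 : LinearMap.trace ℂ (Fin n → ℂ) (1 : Module.End ℂ (Fin n → ℂ)) = (ψ : G → ℂ) 1 := h3
    rw [h3, h4] at h2
    have h5 : μ ^ orderOf k = 1 := by
      have : (μ ^ orderOf k - 1) * (ψ : G → ℂ) 1 = 0 := by linear_combination -h2
      rcases mul_eq_zero.1 this with h6 | h6
      · exact sub_eq_zero.1 h6
      · exact absurd h6 hψ1
    exact Complex.norm_eq_one_of_pow_eq_one h5 (orderOf_pos k).ne'
  · rw [← hρ]
    unfold Representation.character
    rw [map_mul, hμ, mul_smul_comm, map_smul, smul_eq_mul]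
    rfl

end Cfsg.Agent.Lib.helper2.BF
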