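/-
S4503 piece C4 (`scalar_of_ker`): verbatim statement, from the core and piece C3.
-/
import Mathlib
import Cfsg.Agent.Lib.helper2.BFDefs
import Cfsg.Agent.Lib.helper20.D1EFinal
import Cfsg.Agent.Lib.helper4.CharDecomp
import Cfsg.Agent.Lib.helper81.Kernel
import Cfsg.Agent.Lib.helper79.BFC4core
import Cfsg.Agent.Lib.helper97.BFC3

set_option autoImplicit false

open Cfsg Cfsg.Agent.Lib.helper20.D1E
open scoped ComplexConjugate

namespace Cfsg.Agent.Lib.helper2.BF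

variable {G : Type*} [Group G] [Fintype G]

/-- A Sylow subgroup of order `p` forces `p² ∤ |G|`. -/
theorem helper79_not_sq_dvd (p : ℕ) [Fact p.Prime] (P : Sylow p G) (hP : Nat.card P = p) :
    ¬ p ^ 2 ∣ Nat.card G := by
  have hp : p.Prime := Fact.out
  intro hdvd
  have h1 : Nat.card (P : Subgroup G) = p ^ (Nat.card G).factorization p :=
    Sylow.card_eq_multiplicity P
  rw [hP] at h1
  have h2 : 2 ≤ (Nat.card G).factorization p :=
    (hp.pow_dvd_iff_le_factorization Nat.card_pos.ne').1 hdvd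
  have h3 : p ^ 2 ≤ p ^ (Nat.card G).factorization p := Nat.pow_le_pow_right hp.pos h2
  rw [← h1] at h3
  have h4 : p < p ^ 2 := by
    have := hp.one_lt
    nlinarith
  omega

/-- C4. -/
theorem scalar_of_ker (p : ℕ) [Fact p.Prime] (P : Sylow p G) (hP : Nat.card P = p)
    (x : G) (hx : x ∈ (P : Subgroup G)) (hx1 : x ≠ 1) (H : Subgroup (ZMod p)ˣ)
    (hH : ∀ r : (ZMod p)ˣ, r ∈ H ↔ ∃ n : G, n * x * n⁻¹ = x ^ ((r : ZMod p).val))
    (he2 : 2 ≤ Nat.card H) (hgen : Subgroup.normalClosure ({x} : Set G) = ⊤)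
    (ψ : IrrCharacter G) (ξ : G → ℂ) (hξ : IsCharacter G ξ) (hξx : ξ x ≠ ξ 1)
    (hξK : ∀ y ∈ Subgroup.centralizer ((P : Subgroup G) : Set G), ¬ p ∣ orderOf y →
      ξ y = ξ 1)
    (IH : ∀ S : Subgroup G, S ≠ ⊤ → x ∈ S → ∀ φ : S → ℂ, IsIrrCharacter S φ →
      charDegree φ ≤ charDegree (ψ : G → ℂ) → Good p S φ) :
    ∀ k ∈ Subgroup.centralizer ((P : Subgroup G) : Set G), ¬ p ∣ orderOf k →
      ∃ μ : ℂ, ‖μ‖ = 1 ∧ ∀ g : G, (ψ : G → ℂ) (g * k) = μ * (ψ : G → ℂ) g := by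
  obtain ⟨hxp, hxu⟩ := basic_x p P hP x hx hx1
  have hxo : orderOf x = p := orderOf_eq_prime hxp hx1
  have hsq := helper79_not_sq_dvd p P hP
  exact helper79_scalar_of_ker_core p P hP x hx hx1 hgen ψ ξ hξ hξx hξK
    (fun hker => ker_of_preg p hsq x hxo H hH he2 ξ hξ hker) IH

end Cfsg.Agent.Lib.helper2.BF
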