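/-
S0999 piece CH3 (`sum_norm_sq_ge`): for a subgroup `P` of prime order `p` and an irreducible
character `χ` of `G`, `p χ(1) ≤ ∑_{x ∈ P} |χ(x)|²`.
-/
import Mathlib
import Cfsg.Agent.Lib.helper21.BRDefs
import Cfsg.Agent.Lib.helper21.PrimeTI
import Cfsg.Agent.Lib.helper4.CharDecomp
import Cfsg.Agent.Lib.helper84.Frobenius
import Cfsg.Agent.Lib.helper81.CharOrtho

set_option autoImplicit false

namespace Cfsg.Agent.Lib.helper79.BRCH3

open Cfsg
open scoped ComplexConjugate

universe u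

/-- The norm of a sum of a list of irreducible characters is at least the length. -/
theorem list_inner_ge {K : Type u} [Group K] [Fintype K] (l : List (IrrCharacter K)) :
    ∃ r : ℝ, classInner (l.map Subtype.val).sum (l.map Subtype.val).sum = (r : ℂ) ∧
      (l.length : ℝ) ≤ r := by
  induction l with
  | nil =>
    refine ⟨0, ?_, by simp⟩
    unfold classInner
    simp
  | cons ν l ih =>
    obtain ⟨r, hr, hle⟩ := ih
    have hS : IsCharacter K (l.map Subtype.val).sum := by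
      apply Cfsg.Agent.Lib.helper4.isCharacter_list_sum
      intro χ hχ
      obtain ⟨ψ, -, rfl⟩ := List.mem_map.1 hχ
      exact Cfsg.Agent.Lib.helper4.isCharacter_of_isIrrCharacter ψ.2
    have hν : IsCharacter K (ν : K → ℂ) :=
      Cfsg.Agent.Lib.helper4.isCharacter_of_isIrrCharacter ν.2
    obtain ⟨n, hn⟩ := Cfsg.Agent.Lib.helper84.classInner_isCharacter_nat hν hS
    obtain ⟨n', hn'⟩ := Cfsg.Agent.Lib.helper84.classInner_isCharacter_nat hS hν
    refine ⟨1 + n + n' + r, ?_, ?_⟩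
    · simp only [List.map_cons, List.sum_cons]
      rw [Cfsg.Agent.Lib.helper4.classInner_add_left, Cfsg.Agent.Lib.helper4.classInner_add_right,
        Cfsg.Agent.Lib.helper4.classInner_add_right, Cfsg.Agent.Lib.helper4.classInner_irr_self ν.2,
        hn, hn', hr]
      push_cast
      ring
    · have h1 : (0 : ℝ) ≤ (n : ℝ) := Nat.cast_nonneg n
      have h2 : (0 : ℝ) ≤ (n' : ℝ) := Nat.cast_nonneg n'
      simp only [List.length_cons]
      push_cast
      linarith

theorem list_sum_one {K : Type u} [Group K] (l : List (IrrCharacter K))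
    (h1 : ∀ ν : IrrCharacter K, (ν : K → ℂ) 1 = 1) :
    (l.map Subtype.val).sum 1 = (l.length : ℂ) := by
  induction l with
  | nil => simp
  | cons ν l ih =>
    simp only [List.map_cons, List.sum_cons, Pi.add_apply, List.length_cons]
    rw [ih, h1 ν]
    push_cast
    ring

end Cfsg.Agent.Lib.helper79.BRCH3

namespace Cfsg.Agent.Lib.helper21.BR

open Cfsg Cfsg.Agent.Lib.helper21
open scoped ComplexConjugate

universe u

section Chars

variable {G : Type u} [Group G] [Fintype G]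

/-- CH3 -/
theorem sum_norm_sq_ge (p : ℕ) (hp : p.Prime) (P : Subgroup G) [Fintype ↥P]
    (hP : Nat.card P = p) (χ : IrrCharacter G) :
    (p : ℝ) * (charDegree (χ : G → ℂ) : ℝ) ≤ ∑ x : P, ‖(χ : G → ℂ) x‖ ^ 2 := by
  classical
  have hχ : IsCharacter G (χ : G → ℂ) := Cfsg.Agent.Lib.helper4.isCharacter_of_isIrrCharacter χ.2
  have hχP := Cfsg.Agent.Lib.helper4.isCharacter_restrict P hχ
  obtain ⟨l, hl⟩ := Cfsg.Agent.Lib.helper4.exists_irr_list_of_isCharacter hχP
  obtain ⟨r, hr, hle⟩ := Cfsg.Agent.Lib.helper79.BRCH3.list_inner_ge l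
  have h1 : ∀ ν : IrrCharacter ↥P, (ν : ↥P → ℂ) 1 = 1 := fun ν =>
    Cfsg.Agent.Lib.helper21.irr_apply_one_of_prime_card hp hP ν.2
  have hlen := Cfsg.Agent.Lib.helper79.BRCH3.list_sum_one l h1
  rw [← hl] at hr hlen
  -- degree
  have hdeg : (charDegree (χ : G → ℂ) : ℝ) = (l.length : ℝ) := by
    have h2 : ((charDegree (χ : G → ℂ) : ℕ) : ℂ) = (l.length : ℂ) := by
      rw [← hlen, ← Cfsg.Agent.Lib.helper81.irr_one_eq_charDegree χ]
      rfl
    have h3 : charDegree (χ : G → ℂ) = l.length := by exact_mod_cast h2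
    rw [h3]
  -- norm
  unfold classInner at hr
  have hpne : (Nat.card ↥P : ℂ) ≠ 0 := by
    rw [hP]
    exact_mod_cast hp.ne_zero
  rw [inv_mul_eq_iff_eq_mul₀ hpne, hP] at hr
  have hsum : ∑ x : ↥P, ‖(χ : G → ℂ) x‖ ^ 2 = (p : ℝ) * r := by
    have h4 : ∑ x : ↥P, (χ : G → ℂ) x * conj ((χ : G → ℂ) x)
        = ∑ x : ↥P, ((‖(χ : G → ℂ) x‖ ^ 2 : ℝ) : ℂ) := by
      refine Finset.sum_congr rfl fun x _ => ?_
      rw [Complex.mul_conj, Complex.normSq_eq_norm_sq]
    rw [h4] at hr
    exact_mod_cast hr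
  rw [hsum, hdeg]
  have hp0 : (0 : ℝ) ≤ (p : ℝ) := Nat.cast_nonneg p
  exact mul_le_mul_of_nonneg_left hle hp0

end Chars

end Cfsg.Agent.Lib.helper21.BR
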