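/-
S0999 piece CH6 (`sum_psing`): for a self-centralizing Sylow subgroup `P` of prime order `p`
with `|N_G(P)| = p e`, the sum of a class function over the `p`-singular elements is
`|G| / (p e)` times its sum over `P \ {1}`.
-/
import Mathlib
import Cfsg.Agent.Lib.helper21.BRDefs
import Cfsg.Agent.Lib.helper21.PrimeTI

set_option autoImplicit false

namespace Cfsg.Agent.Lib.helper79.BRCH6

open Cfsg

universe u

variable {G : Type u} [Group G]

/-- A subgroup of prime order is generated by each of its non-trivial elements. -/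
theorem gen_of_prime_card {p : ℕ} (hp : p.Prime) {P : Subgroup G} (hP : Nat.card P = p)
    (z : G) (hz : z ∈ P) (hz1 : z ≠ 1) : P = Subgroup.zpowers z := by
  have := Fact.mk hp
  have h1 : Subgroup.zpowers (⟨z, hz⟩ : P) = ⊤ :=
    zpowers_eq_top_of_prime_card hP (fun h => hz1 (congrArg Subtype.val h))
  apply le_antisymm
  · intro w hw
    have h2 : (⟨w, hw⟩ : P) ∈ Subgroup.zpowers (⟨z, hz⟩ : P) := by rw [h1]; trivial
    obtain ⟨k, hk⟩ := Subgroup.mem_zpowers_iff.mp h2
    refine Subgroup.mem_zpowers_iff.mpr ⟨k, ?_⟩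
    have := congrArg Subtype.val hk
    simpa using this
  · rw [Subgroup.zpowers_le]; exact hz

/-- A subgroup of prime order whose centralizer has the same order is self-centralizing. -/
theorem cent_eq_of_card [Finite G] {p : ℕ} (hp : p.Prime) (P : Subgroup G) (hP : Nat.card P = p)
    (hC : Nat.card (Subgroup.centralizer (P : Set G)) = p) :
    Subgroup.centralizer (P : Set G) = P := by
  have hcomm := Cfsg.Agent.Lib.helper21.comm_of_prime_card hp hP
  have hle : P ≤ Subgroup.centralizer (P : Set G) := by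
    intro z hz
    rw [Subgroup.mem_centralizer_iff]
    intro h hh
    have := hcomm ⟨h, hh⟩ ⟨z, hz⟩
    exact congrArg Subtype.val this
  exact (Subgroup.eq_of_le_of_card_ge hle (by rw [hC, hP])).symm

/-- A `p`-singular element is conjugate into `P`. -/
theorem exists_conj_mem [Finite G] (p : ℕ) [Fact p.Prime] (P : Sylow p G) (hP : Nat.card P = p)
    (hC : Nat.card (Subgroup.centralizer ((P : Subgroup G) : Set G)) = p) (g : G)
    (h : p ∣ orderOf g) : ∃ b : G, b⁻¹ * g * b ∈ (P : Subgroup G) := by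
  have hp : p.Prime := Fact.out
  have hn0 : orderOf g ≠ 0 := (orderOf_pos g).ne'
  set x : G := g ^ (orderOf g / p) with hx
  have hxo : orderOf x = p := orderOf_pow_orderOf_div hn0 h
  have hx1 : x ≠ 1 := by
    intro h1
    rw [h1, orderOf_one] at hxo
    exact hp.one_lt.ne hxo
  have hpg : IsPGroup p (Subgroup.zpowers x) := by
    apply IsPGroup.of_card (n := 1)
    rw [Nat.card_zpowers, hxo, pow_one]
  obtain ⟨Q, hQ⟩ := hpg.exists_le_sylow
  obtain ⟨b, hb⟩ := MulAction.exists_smul_eq G P Q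
  have hxQ : x ∈ (Q : Subgroup G) := hQ (Subgroup.mem_zpowers x)
  have hxP : b⁻¹ * x * b ∈ (P : Subgroup G) := by
    rw [← hb, Sylow.coe_subgroup_smul, Subgroup.mem_pointwise_smul_iff_inv_smul_mem] at hxQ
    have e1 : (MulAut.conj b)⁻¹ • x = b⁻¹ * x * b := by
      rw [MulAut.smul_def, ← map_inv, MulAut.conj_apply, inv_inv]
    rwa [e1] at hxQ
  refine ⟨b, ?_⟩
  have hx'1 : b⁻¹ * x * b ≠ 1 := by
    intro h1
    apply hx1
    have : x = b * (b⁻¹ * x * b) * b⁻¹ := by group
    rw [this, h1]
    group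
  have hgen := gen_of_prime_card hp hP (b⁻¹ * x * b) hxP hx'1
  have hpow : b⁻¹ * x * b = (b⁻¹ * g * b) ^ (orderOf g / p) := by
    rw [hx]
    have := conj_pow (a := b⁻¹) (b := g) (i := orderOf g / p)
    rw [inv_inv] at this
    exact this.symm
  have hcent : b⁻¹ * g * b ∈ Subgroup.centralizer ((P : Subgroup G) : Set G) := by
    rw [Subgroup.mem_centralizer_iff]
    intro y hy
    have hy' : y ∈ Subgroup.zpowers (b⁻¹ * x * b) := by
      rw [← hgen]
      exact hy
    obtain ⟨k, hk⟩ := Subgroup.mem_zpowers_iff.1 hy'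
    rw [← hk, hpow]
    exact (((Commute.refl (b⁻¹ * g * b)).pow_right _).zpow_right k).eq.symm
  rw [cent_eq_of_card hp (P : Subgroup G) hP hC] at hcent
  exact hcent

open Classical in
/-- The number of `a` with `a⁻¹ g a ∈ P`, for `g ≠ 1`. -/
theorem count_conj [Fintype G] (p : ℕ) [Fact p.Prime] (P : Sylow p G) (hP : Nat.card P = p)
    (hC : Nat.card (Subgroup.centralizer ((P : Subgroup G) : Set G)) = p) (e : ℕ)
    (hN : Nat.card (Subgroup.normalizer ((P : Subgroup G) : Set G)) = p * e) (g : G) :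
    (Finset.univ.filter (fun a : G => a⁻¹ * g * a ∈ (P : Subgroup G) ∧ g ≠ 1)).card
      = if p ∣ orderOf g then p * e else 0 := by
  have hp : p.Prime := Fact.out
  by_cases hdvd : p ∣ orderOf g
  · rw [if_pos hdvd]
    have hg1 : g ≠ 1 := by
      rintro rfl
      rw [orderOf_one] at hdvd
      exact hp.one_lt.ne' (Nat.dvd_one.1 hdvd)
    obtain ⟨b, hb⟩ := exists_conj_mem p P hP hC g hdvd
    have hy1 : b⁻¹ * g * b ≠ 1 := by
      intro h1
      apply hg1
      have : g = b * (b⁻¹ * g * b) * b⁻¹ := by group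
      rw [this, h1]
      group
    have hcard : (Finset.univ.filter (fun a : G => a⁻¹ * g * a ∈ (P : Subgroup G) ∧ g ≠ 1)).card
        = Nat.card {a : G // a⁻¹ * g * a ∈ (P : Subgroup G) ∧ g ≠ 1} := by
      rw [Nat.card_eq_fintype_card, Fintype.card_subtype]
    rw [hcard, ← hN]
    refine Nat.card_congr
      { toFun := fun a => ⟨b⁻¹ * a.1, ?_⟩
        invFun := fun n => ⟨b * n.1, ?_, hg1⟩
        left_inv := ?_
        right_inv := ?_ }
    · by_contra hnot
      have h1 := Cfsg.Agent.Lib.helper21.conj_not_mem_of_prime_card hp hP hnot hb hy1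
      apply h1
      have e1 : (b⁻¹ * a.1)⁻¹ * (b⁻¹ * g * b) * (b⁻¹ * a.1) = a.1⁻¹ * g * a.1 := by group
      rw [e1]
      exact a.2.1
    · have hn : n.1⁻¹ ∈ Subgroup.normalizer ((P : Subgroup G) : Set G) := inv_mem n.2
      rw [Subgroup.mem_normalizer_iff] at hn
      have h1 := (hn (b⁻¹ * g * b)).1 hb
      have e1 : (b * n.1)⁻¹ * g * (b * n.1) = n.1⁻¹ * (b⁻¹ * g * b) * n.1⁻¹⁻¹ := by group
      rw [e1]
      exact h1
    · intro a
      apply Subtype.ext
      show b * (b⁻¹ * a.1) = a.1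
      group
    · intro n
      apply Subtype.ext
      show b⁻¹ * (b * n.1) = n.1
      group
  · rw [if_neg hdvd]
    rw [Finset.card_eq_zero, Finset.filter_eq_empty_iff]
    intro a _ ⟨ha, hg1⟩
    apply hdvd
    have hy1 : a⁻¹ * g * a ≠ 1 := by
      intro h1
      apply hg1
      have : g = a * (a⁻¹ * g * a) * a⁻¹ := by group
      rw [this, h1]
      group
    have ho : orderOf (a⁻¹ * g * a) = orderOf g := by
      have := orderOf_injective (MulAut.conj a⁻¹).toMonoidHom (MulAut.conj a⁻¹).injective g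
      rw [← this]
      simp
    have hd : orderOf (a⁻¹ * g * a) ∣ p := by
      have h1 : orderOf (⟨a⁻¹ * g * a, ha⟩ : (P : Subgroup G)) ∣ Nat.card (P : Subgroup G) :=
        orderOf_dvd_natCard _
      rw [hP] at h1
      have h2 : orderOf (⟨a⁻¹ * g * a, ha⟩ : (P : Subgroup G)) = orderOf (a⁻¹ * g * a) :=
        (Subgroup.orderOf_coe (⟨a⁻¹ * g * a, ha⟩ : (P : Subgroup G))).symm
      rw [h2] at h1
      exact h1
    rcases (Nat.dvd_prime hp).1 hd with h1 | h1
    · exact absurd (orderOf_eq_one_iff.1 h1) hy1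
    · rw [← ho, h1]

end Cfsg.Agent.Lib.helper79.BRCH6

namespace Cfsg.Agent.Lib.helper21.BR

open Cfsg Cfsg.Agent.Lib.helper21

universe u

section Chars

variable {G : Type u} [Group G] [Fintype G]

/-- CH6 -/
theorem sum_psing (p : ℕ) [Fact p.Prime] (P : Sylow p G) [Fintype ↥(P : Subgroup G)]
    (hP : Nat.card P = p)
    (hC : Nat.card (Subgroup.centralizer ((P : Subgroup G) : Set G)) = p) (e : ℕ)
    (hN : Nat.card (Subgroup.normalizer ((P : Subgroup G) : Set G)) = p * e)
    (f : G → ℂ) (hf : IsClassFunction G f) :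
    ((p : ℂ) * (e : ℂ)) * ∑ g : G, (if p ∣ orderOf g then f g else 0) =
      (Nat.card G : ℂ) * (∑ x : (P : Subgroup G), f x - f 1) := by
  classical
  -- the sum over `P` as a sum over `G`
  have hPsum : ∑ x : (P : Subgroup G), f x
      = ∑ y : G, (if y ∈ (P : Subgroup G) ∧ y ≠ 1 then f y else 0) + f 1 := by
    have h1 : ∑ x : (P : Subgroup G), f x
        = ∑ y ∈ Finset.univ.filter (fun y : G => y ∈ (P : Subgroup G)), f y :=
      (Finset.sum_subtype (Finset.univ.filter (fun y : G => y ∈ (P : Subgroup G)))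
        (by simp) f).symm
    rw [h1, Finset.sum_filter]
    have h2 : ∀ y : G, (if y ∈ (P : Subgroup G) then f y else 0)
        = (if y ∈ (P : Subgroup G) ∧ y ≠ 1 then f y else 0) + (if y = 1 then f 1 else 0) := by
      intro y
      by_cases hy1 : y = 1
      · subst hy1
        simp [(P : Subgroup G).one_mem]
      · by_cases hyP : y ∈ (P : Subgroup G) <;> simp [hy1, hyP]
    rw [Finset.sum_congr rfl (fun y _ => h2 y), Finset.sum_add_distrib, Finset.sum_ite_eq']
    simp
  -- double counting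
  have hL : ∑ a : G, ∑ y : G, (if y ∈ (P : Subgroup G) ∧ y ≠ 1 then f (a * y * a⁻¹) else 0)
      = (Nat.card G : ℂ) * (∑ x : (P : Subgroup G), f x - f 1) := by
    rw [hPsum, add_sub_cancel_right]
    have h1 : ∀ a : G, ∑ y : G, (if y ∈ (P : Subgroup G) ∧ y ≠ 1 then f (a * y * a⁻¹) else 0)
        = ∑ y : G, (if y ∈ (P : Subgroup G) ∧ y ≠ 1 then f y else 0) := by
      intro a
      refine Finset.sum_congr rfl fun y _ => ?_
      rw [hf y a]
    rw [Finset.sum_congr rfl (fun a _ => h1 a), Finset.sum_const, Finset.card_univ,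
      nsmul_eq_mul, Nat.card_eq_fintype_card]
  have hR : ∑ a : G, ∑ y : G, (if y ∈ (P : Subgroup G) ∧ y ≠ 1 then f (a * y * a⁻¹) else 0)
      = ((p : ℂ) * (e : ℂ)) * ∑ g : G, (if p ∣ orderOf g then f g else 0) := by
    have h1 : ∀ a : G, ∑ y : G, (if y ∈ (P : Subgroup G) ∧ y ≠ 1 then f (a * y * a⁻¹) else 0)
        = ∑ g : G, (if a⁻¹ * g * a ∈ (P : Subgroup G) ∧ g ≠ 1 then f g else 0) := by
      intro a
      let ea : G ≃ G :=
        { toFun := fun g => a⁻¹ * g * a
          invFun := fun y => a * y * a⁻¹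
          left_inv := fun g => by group
          right_inv := fun y => by group }
      rw [← Equiv.sum_comp ea]
      refine Finset.sum_congr rfl fun g _ => ?_
      have e1 : ea g = a⁻¹ * g * a := rfl
      have e2 : a * (a⁻¹ * g * a) * a⁻¹ = g := by group
      have e3 : a⁻¹ * g * a ≠ 1 ↔ g ≠ 1 := by
        constructor
        · intro h hg
          apply h
          rw [hg]
          group
        · intro h hg
          apply h
          rw [← e2, hg]
          group
      rw [e1, e2]
      by_cases hc : a⁻¹ * g * a ∈ (P : Subgroup G) ∧ g ≠ 1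
      · rw [if_pos hc, if_pos ⟨hc.1, e3.2 hc.2⟩]
      · rw [if_neg hc, if_neg (fun h => hc ⟨h.1, e3.1 h.2⟩)]
    rw [Finset.sum_congr rfl (fun a _ => h1 a), Finset.sum_comm, Finset.mul_sum]
    refine Finset.sum_congr rfl fun g _ => ?_
    rw [← Finset.sum_filter, Finset.sum_const, nsmul_eq_mul,
      Cfsg.Agent.Lib.helper79.BRCH6.count_conj p P hP hC e hN g]
    by_cases hd : p ∣ orderOf g
    · rw [if_pos hd, if_pos hd]
      push_cast
      ring
    · rw [if_neg hd, if_neg hd]
      simp
  rw [← hR, hL]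

end Chars

end Cfsg.Agent.Lib.helper21.BR
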