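/-
S0999 piece CH5 (`sum_preg`): in the self-centralizing stage, the sum of an exceptional
character `θ ∈ Y` over the `p`-regular elements is `ε (p - 1) (p - e)`.
-/
import Mathlib
import Cfsg.Agent.Lib.helper21.BRDefs
import Cfsg.Agent.Lib.helper79.BR_CH6
import Cfsg.Agent.Lib.helper83.CharBasic2
import Cfsg.Agent.Lib.helper4.CharDecomp

set_option autoImplicit false

namespace Cfsg.Agent.Lib.helper21.BR

open Cfsg Cfsg.Agent.Lib.helper21

universe u

section Chars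

variable {G : Type u} [Group G] [Fintype G]

variable (p : ℕ) [Fact p.Prime] (P : Sylow p G)

variable {p P}
variable {e t n v : ℕ} {X Y : Finset (IrrCharacter G)} {εX : IrrCharacter G → ℤ} {ε : ℤ}
  {f₀ : ℕ}

/-- CH5 -/
theorem sum_preg (h : BRSelf p P e t X Y εX ε f₀) :
    ∀ θ ∈ Y, ∑ g : G, (if p ∣ orderOf g then (0 : ℂ) else (θ : G → ℂ) g) =
      (ε : ℂ) * (((p - 1) * (p - e) : ℕ) : ℂ) := by
  classical
  intro θ hθ
  have hp : p.Prime := Fact.out
  have hD := h.data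
  let _ : Fintype ↥(P : Subgroup G) := Fintype.ofFinite _
  -- numerics
  have hp1 : 1 ≤ p := hp.one_lt.le
  have het : e * t = p - 1 := h.et
  have hep : e ≤ p := by
    have h1 : e ≤ e * t := Nat.le_mul_of_pos_right e (by have := h.t_ge; omega)
    omega
  have hetc : (e : ℂ) * (t : ℂ) = (p : ℂ) - 1 := by
    have : ((e * t : ℕ) : ℂ) = ((p - 1 : ℕ) : ℂ) := by rw [het]
    rw [Nat.cast_mul, Nat.cast_sub hp1, Nat.cast_one] at this
    exact this
  have hNc : (Nat.card G : ℂ) = (p : ℂ) * ((p : ℂ) - 1) * ((p : ℂ) - (e : ℂ)) := by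
    rw [h.cardG]
    rw [Nat.cast_mul, Nat.cast_mul, Nat.cast_sub hp1, Nat.cast_sub hep, Nat.cast_one]
  have hpne : (p : ℂ) ≠ 0 := by exact_mod_cast hp.ne_zero
  have hene : (e : ℂ) ≠ 0 := by
    have : e ≠ 0 := by have := h.e_ge; omega
    exact_mod_cast this
  -- the sum over the `p`-singular elements of a member of `X`
  have hsing : ∀ χ ∈ X, ∑ g : G, (if p ∣ orderOf g then (χ : G → ℂ) g else 0)
      = ((p : ℂ) - 1) * ((p : ℂ) - (e : ℂ)) * (t : ℂ) * (εX χ : ℂ) := by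
    intro χ hχ
    have hcf : IsClassFunction G (χ : G → ℂ) :=
      Cfsg.Agent.Lib.helper4.isClassFunction_of_isIrrCharacter χ.2
    have h6 := sum_psing p P h.cardP h.cardC e h.cardN (χ : G → ℂ) hcf
    have hPs : ∑ x : (P : Subgroup G), (χ : G → ℂ) x - (χ : G → ℂ) 1
        = ((p : ℂ) - 1) * (εX χ : ℂ) := by
      have h1 : ∀ x : (P : Subgroup G), (χ : G → ℂ) x
          = (if x = 1 then (χ : G → ℂ) 1 - (εX χ : ℂ) else 0) + (εX χ : ℂ) := by
        intro x
        by_cases hx : x = 1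
        · rw [if_pos hx, hx]
          simp
        · rw [if_neg hx, zero_add]
          have hx1 : (x : G) ≠ 1 := fun h' => hx (Subtype.ext h')
          have h2 := hD.valX χ hχ (x : G) x.2 hx1 1 (Subgroup.one_mem _)
            (by rw [orderOf_one]; exact fun h' => hp.one_lt.ne' (Nat.dvd_one.1 h'))
          rw [mul_one] at h2
          exact h2
      rw [Finset.sum_congr rfl (fun x _ => h1 x), Finset.sum_add_distrib, Finset.sum_ite_eq',
        if_pos (Finset.mem_univ _), Finset.sum_const, Finset.card_univ, nsmul_eq_mul,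
        ← Nat.card_eq_fintype_card, h.cardP]
      ring
    rw [hPs, hNc] at h6
    have h7 : (p : ℂ) * (e : ℂ) * ∑ g : G, (if p ∣ orderOf g then (χ : G → ℂ) g else 0)
        = (p : ℂ) * (e : ℂ) * (((p : ℂ) - 1) * ((p : ℂ) - (e : ℂ)) * (t : ℂ) * (εX χ : ℂ)) := by
      rw [h6]
      linear_combination (-(p : ℂ) * ((p : ℂ) - 1) * ((p : ℂ) - (e : ℂ)) * (εX χ : ℂ)) * hetc
    exact mul_left_cancel₀ (mul_ne_zero hpne hene) h7
  -- the sum over the `p`-regular elements of a member of `X`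
  have hreg : ∀ χ ∈ X, ∑ g : G, (if p ∣ orderOf g then (0 : ℂ) else (χ : G → ℂ) g)
      = (if χ = trivIrr G then (Nat.card G : ℂ) else 0)
        - ((p : ℂ) - 1) * ((p : ℂ) - (e : ℂ)) * (t : ℂ) * (εX χ : ℂ) := by
    intro χ hχ
    have h1 : ∑ g : G, (if p ∣ orderOf g then (0 : ℂ) else (χ : G → ℂ) g)
        + ∑ g : G, (if p ∣ orderOf g then (χ : G → ℂ) g else 0) = ∑ g : G, (χ : G → ℂ) g := by
      rw [← Finset.sum_add_distrib]
      refine Finset.sum_congr rfl fun g _ => ?_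
      by_cases hd : p ∣ orderOf g
      · rw [if_pos hd, if_pos hd, zero_add]
      · rw [if_neg hd, if_neg hd, add_zero]
    have h2 : ∑ g : G, (χ : G → ℂ) g = (if χ = trivIrr G then (Nat.card G : ℂ) else 0) := by
      by_cases hχ1 : χ = trivIrr G
      · rw [if_pos hχ1, hχ1]
        have : ∀ g : G, (trivIrr G : G → ℂ) g = 1 := fun g => rfl
        rw [Finset.sum_congr rfl (fun g _ => this g), Finset.sum_const, Finset.card_univ,
          nsmul_eq_mul, mul_one, Nat.card_eq_fintype_card]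
      · rw [if_neg hχ1]
        exact Cfsg.Agent.Lib.helper83.irr_sum_eq_zero χ hχ1
    rw [← h2, ← h1, hsing χ hχ]
    ring
  -- the relation `ε θ = ∑ εX χ χ` on the `p`-regular elements
  have hrel : (ε : ℂ) * ∑ g : G, (if p ∣ orderOf g then (0 : ℂ) else (θ : G → ℂ) g)
      = ∑ χ ∈ X, (εX χ : ℂ) * ∑ g : G, (if p ∣ orderOf g then (0 : ℂ) else (χ : G → ℂ) g) := by
    rw [Finset.mul_sum]
    have h1 : ∀ g : G, (ε : ℂ) * (if p ∣ orderOf g then (0 : ℂ) else (θ : G → ℂ) g)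
        = ∑ χ ∈ X, (εX χ : ℂ) * (if p ∣ orderOf g then (0 : ℂ) else (χ : G → ℂ) g) := by
      intro g
      by_cases hd : p ∣ orderOf g
      · simp [hd]
      · simp only [if_neg hd]
        exact hD.relY θ hθ g hd
    rw [Finset.sum_congr rfl (fun g _ => h1 g), Finset.sum_comm]
    refine Finset.sum_congr rfl fun χ _ => ?_
    rw [Finset.mul_sum]
  have hsq : ∀ χ ∈ X, (εX χ : ℂ) * (εX χ : ℂ) = 1 := by
    intro χ hχ
    rcases hD.sgnX χ hχ with h1 | h1 <;> rw [h1] <;> norm_num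
  have htot : ∑ χ ∈ X, (εX χ : ℂ) * ∑ g : G, (if p ∣ orderOf g then (0 : ℂ) else (χ : G → ℂ) g)
      = ((p : ℂ) - 1) * ((p : ℂ) - (e : ℂ)) := by
    have h1 : ∀ χ ∈ X, (εX χ : ℂ) * ∑ g : G, (if p ∣ orderOf g then (0 : ℂ) else (χ : G → ℂ) g)
        = (if χ = trivIrr G then (Nat.card G : ℂ) else 0)
          - ((p : ℂ) - 1) * ((p : ℂ) - (e : ℂ)) * (t : ℂ) := by
      intro χ hχ
      rw [hreg χ hχ, mul_sub]
      have e1 : (εX χ : ℂ) * (((p : ℂ) - 1) * ((p : ℂ) - (e : ℂ)) * (t : ℂ) * (εX χ : ℂ))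
          = ((p : ℂ) - 1) * ((p : ℂ) - (e : ℂ)) * (t : ℂ) := by
        linear_combination (((p : ℂ) - 1) * ((p : ℂ) - (e : ℂ)) * (t : ℂ)) * hsq χ hχ
      rw [e1]
      by_cases hχ1 : χ = trivIrr G
      · rw [if_pos hχ1, hχ1, hD.one_sgn]
        norm_num
      · rw [if_neg hχ1, mul_zero]
    rw [Finset.sum_congr rfl h1, Finset.sum_sub_distrib, Finset.sum_ite_eq', if_pos hD.one_mem,
      Finset.sum_const, hD.cardX, nsmul_eq_mul, hNc]
    linear_combination (-((p : ℂ) - 1) * ((p : ℂ) - (e : ℂ))) * hetc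
  rw [htot] at hrel
  have hε2 : (ε : ℂ) * (ε : ℂ) = 1 := by
    rcases hD.sgn with h1 | h1 <;> rw [h1] <;> norm_num
  have hcast : (((p - 1) * (p - e) : ℕ) : ℂ) = ((p : ℂ) - 1) * ((p : ℂ) - (e : ℂ)) := by
    rw [Nat.cast_mul, Nat.cast_sub hp1, Nat.cast_sub hep, Nat.cast_one]
  rw [hcast, ← hrel, ← mul_assoc, hε2, one_mul]

end Chars

end Cfsg.Agent.Lib.helper21.BR
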