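import Mathlib
import Cfsg.Prelude.Def_Blocks
import Cfsg.Agent.Lib.helper79.ModRoots
import Cfsg.Agent.Lib.helper20.Basic
import Cfsg.Agent.Lib.helper4.CharDecomp
import Cfsg.Agent.Lib.helper82.CharQuot

/-!
# Character values modulo a `p`-modular ideal: the `p`-part does not matter (helper79)

* `charP_quotient_of_isPModular`: `AlgInt ⧸ M` has characteristic `p`.
* `sub_one_mem_of_pow_prime_pow_eq_one`: `p`-power roots of unity are `≡ 1 (mod M)`.
* `memLocalIdeal_char_mul_sub`: for a character `χ`, commuting `a, y` with `a` a `p`-element,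
  `χ (a * y) ≡ χ y (mod M)`.
* `memLocalIdeal_char_ppart`: `χ x ≡ χ (a⁻¹ * x)` when `a` is the `p`-part of `x`.
-/

set_option autoImplicit false

namespace Cfsg.Agent.Lib.helper79

open Cfsg

theorem charP_quotient_of_isPModular {p : ℕ} {M : Ideal AlgInt} (hM : IsPModular p M) :
    CharP (AlgInt ⧸ M) p := by
  have := hM.2.1
  let _ := Ideal.Quotient.field M
  have hp0 : ((p : ℕ) : AlgInt ⧸ M) = 0 := by
    have : (Ideal.Quotient.mk M (p : AlgInt)) = 0 :=
      Ideal.Quotient.eq_zero_iff_mem.mpr hM.2.2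
    simpa using this
  have h1 : ringChar (AlgInt ⧸ M) ∣ p := ringChar.dvd hp0
  rcases (Nat.dvd_prime hM.1).mp h1 with h2 | h2
  · exact absurd h2 (CharP.ringChar_ne_one)
  · rw [← h2]; exact ringChar.charP _

/-- `p`-power roots of unity are congruent to `1` modulo a `p`-modular ideal. -/
theorem sub_one_mem_of_pow_prime_pow_eq_one {p : ℕ} {M : Ideal AlgInt} (hM : IsPModular p M)
    (δ : AlgInt) (k : ℕ) (hδ : δ ^ (p ^ k) = 1) : δ - 1 ∈ M := by
  have := hM.2.1
  have : Fact p.Prime := ⟨hM.1⟩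
  have := charP_quotient_of_isPModular hM
  have hprime : M.IsPrime := hM.2.1.isPrime
  have h1 : (Ideal.Quotient.mk M (δ - 1)) ^ (p ^ k) = 0 := by
    rw [map_sub, map_one, sub_pow_char_pow, one_pow, ← map_pow, hδ, map_one, sub_self]
  have h2 : (δ - 1) ^ (p ^ k) ∈ M := by
    rw [← Ideal.Quotient.eq_zero_iff_mem, map_pow]
    exact h1
  exact hprime.mem_of_pow_mem _ h2

theorem memLocalIdeal_sub_one_of_pow {p : ℕ} {M : Ideal AlgInt} (hM : IsPModular p M)
    (δ : ℂ) (k : ℕ) (hδ : δ ^ (p ^ k) = 1) : MemLocalIdeal M (δ - 1) := by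
  have hprime : M.IsPrime := hM.2.1.isPrime
  have hpos : 0 < p ^ k := pow_pos hM.1.pos k
  have hint : IsIntegral ℤ δ := by
    refine ⟨Polynomial.X ^ (p ^ k) - 1, Polynomial.monic_X_pow_sub_C 1 hpos.ne', ?_⟩
    simp [hδ]
  have h1 : (⟨δ, hint⟩ : AlgInt) ^ (p ^ k) = 1 := by
    apply Subtype.ext
    simpa using hδ
  have h2 := sub_one_mem_of_pow_prime_pow_eq_one hM ⟨δ, hint⟩ k h1
  have h3 := helper20.memLocalIdeal_of_mem hprime h2
  simpa using h3

/-- For a character `χ` and commuting elements `a`, `y` with `a` a `p`-element,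
`χ (a * y) ≡ χ y` modulo a `p`-modular ideal. -/
theorem memLocalIdeal_char_mul_sub {G : Type*} [Group G] [Finite G] {p : ℕ} {M : Ideal AlgInt}
    (hM : IsPModular p M) {χ : G → ℂ} (hχ : IsCharacter G χ) (a y : G) (hcomm : Commute a y)
    (k : ℕ) (ha : a ^ (p ^ k) = 1) : MemLocalIdeal M (χ (a * y) - χ y) := by
  classical
  have hprime : M.IsPrime := hM.2.1.isPrime
  have := Fintype.ofFinite G
  set A : Subgroup G := Subgroup.closure {a, y} with hA
  have hAcomm : ∀ u v : A, u * v = v * u := by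
    have hc : IsMulCommutative A := Subgroup.isMulCommutative_closure (by
      intro u hu v hv
      simp only [Set.mem_insert_iff, Set.mem_singleton_iff] at hu hv
      rcases hu with rfl | rfl <;> rcases hv with rfl | rfl
      · rfl
      · exact hcomm.eq
      · exact hcomm.eq.symm
      · rfl)
    exact fun u v => hc.is_comm.comm u v
  have haA : a ∈ A := Subgroup.subset_closure (by simp)
  have hyA : y ∈ A := Subgroup.subset_closure (by simp)
  obtain ⟨l, hl⟩ := helper4.exists_irr_list_of_isCharacter (helper4.isCharacter_restrict A hχ)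
  have key : ∀ l : List (IrrCharacter A),
      MemLocalIdeal M ((l.map Subtype.val).sum ((⟨a, haA⟩ : A) * ⟨y, hyA⟩) -
        (l.map Subtype.val).sum (⟨y, hyA⟩ : A)) := by
    intro l
    induction l with
    | nil =>
      simp only [List.map_nil, List.sum_nil, Pi.zero_apply, sub_self]
      exact helper20.memLocalIdeal_zero hprime
    | cons ψ l ih =>
      simp only [List.map_cons, List.sum_cons, Pi.add_apply]
      have h1 : (ψ : A → ℂ) 1 = 1 := helper82.irr_one_of_commutative hAcomm ψ.2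
      obtain ⟨f, hf⟩ := helper82.exists_hom_of_linear
        (helper4.isCharacter_of_isIrrCharacter ψ.2) h1
      have hsplit : ∀ u v s t : ℂ, (u + s) - (v + t) = (u - v) + (s - t) := by
        intros; ring
      rw [hsplit]
      refine helper20.memLocalIdeal_add hprime ?_ ih
      rw [hf, hf, map_mul, Units.val_mul]
      have h2 : ((f ⟨a, haA⟩ : ℂˣ) : ℂ) * ((f ⟨y, hyA⟩ : ℂˣ) : ℂ) - ((f ⟨y, hyA⟩ : ℂˣ) : ℂ) =
          ((f ⟨y, hyA⟩ : ℂˣ) : ℂ) * (((f ⟨a, haA⟩ : ℂˣ) : ℂ) - 1) := by ring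
      rw [h2]
      refine helper20.memLocalIdeal_mul_left hprime ?_ ?_
      · have hfy : ((f ⟨y, hyA⟩ : ℂˣ) : ℂ) ^ (orderOf (⟨y, hyA⟩ : A)) = 1 := by
          rw [← Units.val_pow_eq_pow_val, ← map_pow, pow_orderOf_eq_one, map_one, Units.val_one]
        have hpos : 0 < orderOf (⟨y, hyA⟩ : A) := orderOf_pos _
        have hint : IsIntegral ℤ ((f ⟨y, hyA⟩ : ℂˣ) : ℂ) := by
          refine ⟨Polynomial.X ^ (orderOf (⟨y, hyA⟩ : A)) - 1,
            Polynomial.monic_X_pow_sub_C 1 hpos.ne', ?_⟩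
          rw [Polynomial.eval₂_sub, Polynomial.eval₂_pow, Polynomial.eval₂_X, Polynomial.eval₂_one,
            hfy, sub_self]
        exact helper20.memLocalRing_of_algInt hprime ⟨_, hint⟩
      · refine memLocalIdeal_sub_one_of_pow hM _ k ?_
        have ha' : (⟨a, haA⟩ : A) ^ (p ^ k) = 1 := Subtype.ext (by simpa using ha)
        rw [← Units.val_pow_eq_pow_val, ← map_pow, ha', map_one, Units.val_one]
  have h := key l
  rw [← hl] at h
  exact h

/-- If `a` is the `p`-part of `x` then `χ x ≡ χ (a⁻¹ * x)` modulo a `p`-modular ideal. -/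
theorem memLocalIdeal_char_ppart {G : Type*} [Group G] [Finite G] {p : ℕ} {M : Ideal AlgInt}
    (hM : IsPModular p M) {χ : G → ℂ} (hχ : IsCharacter G χ) (x a : G) (ha : IsPPart p x a) :
    MemLocalIdeal M (χ x - χ (a⁻¹ * x)) := by
  obtain ⟨y, hxy, hcomm, ⟨k, hk⟩, -⟩ := ha
  have h1 : a⁻¹ * x = y := by rw [← hxy]; group
  rw [h1, ← hxy]
  refine memLocalIdeal_char_mul_sub hM hχ a y hcomm k ?_
  rw [← hk]
  exact pow_orderOf_eq_one a

end Cfsg.Agent.Lib.helper79
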