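/-
S4504 piece D (`ker_central`), race copy by helper79 under the prefixed name `h79_ker_central`.

`L ⊴ G` not containing the generator `x` of the Sylow `p`-subgroup (of order `p`), `ψ` irreducible
with `2 ψ(1) + 1 ≤ p`: then every commutator `[x, k]`, `k ∈ L`, lies in the kernel of `ψ`.

Proof: on `S = L ⟨x⟩` every irreducible constituent `θ` of `ψ|S` is `Good`:
* `2 θ(1) + 1 < p`: landed `bf_irr` (S4503);
* otherwise, if `x ∈ ker θ` the kernel works, and if not `single_orbit2` on `S` (where the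
  group `H_S` of the powers `r` with `x ~ x ^ r` is trivial) shows that `x` is a scalar: `good_of_norm`.
A `Good` normal subgroup of `S` contains `x`, hence `[x, k]`, which is `p`-regular (it lies in `L`).
-/
import Mathlib
import Cfsg.Agent.Lib.helper2.BGDefs
import Cfsg.Agent.Lib.helper2.BGA
import Cfsg.Agent.Lib.helper2.BFMain

set_option autoImplicit false

open Cfsg Cfsg.Agent.Lib.helper20.D1E Cfsg.Agent.Lib.helper2.BF
open scoped ComplexConjugate Pointwise

namespace Cfsg.Agent.Lib.helper2.BG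

/-- In `S = L ⟨x⟩` (`L` a normal `p'`-subgroup, `x` of order `p`) only the trivial power map
is induced on `⟨x⟩`. -/
theorem helper79_bgd_H_trivial {G : Type*} [Group G] (p : ℕ) [Fact p.Prime] (x : G)
    (hxo : orderOf x = p) (L : Subgroup G) [hL : L.Normal]
    (hLreg : ∀ y ∈ L, ¬ p ∣ orderOf y)
    (n : G) (hn : n ∈ L ⊔ Subgroup.zpowers x) (r : (ZMod p)ˣ)
    (hr : n * x * n⁻¹ = x ^ ((r : ZMod p).val)) : r = 1 := by
  have hp : p.Prime := Fact.out
  haveI : NeZero p := ⟨hp.ne_zero⟩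
  have hmul : (↑(L ⊔ Subgroup.zpowers x) : Set G) = (L : Set G) * (Subgroup.zpowers x : Set G) :=
    Subgroup.normal_mul L (Subgroup.zpowers x)
  have hn' : n ∈ (L : Set G) * (Subgroup.zpowers x : Set G) := by
    rw [← hmul]
    exact hn
  obtain ⟨l, hl, c, hc, hlc⟩ := Set.mem_mul.1 hn'
  obtain ⟨j, hj⟩ := Subgroup.mem_zpowers_iff.1 hc
  have hcx : c * x * c⁻¹ = x := by
    rw [← hj]
    have h1 : Commute (x ^ j) x := (Commute.refl x).zpow_left j
    rw [h1.eq, mul_assoc, mul_inv_cancel, mul_one]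
  have hconj : l * x * l⁻¹ = x ^ ((r : ZMod p).val) := by
    rw [← hr, ← hlc]
    have : l * c * x * (l * c)⁻¹ = l * (c * x * c⁻¹) * l⁻¹ := by group
    rw [this, hcx]
  set v : ℕ := (r : ZMod p).val with hv
  have hvpos : 0 < v := by
    rw [hv]
    exact Nat.pos_of_ne_zero (fun h => r.ne_zero ((ZMod.val_eq_zero _).1 h))
  have hvlt : v < p := ZMod.val_lt _
  have hmem : x ^ (v - 1) ∈ L := by
    have h1 : x ^ (v - 1) = l * (x * l⁻¹ * x⁻¹) := by
      have h2 : x ^ v = x ^ (v - 1) * x := by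
        rw [← pow_succ]
        congr 1
        omega
      have h3 : x ^ (v - 1) = x ^ v * x⁻¹ := by
        rw [h2, mul_assoc, mul_inv_cancel, mul_one]
      rw [h3, ← hconj]
      group
    rw [h1]
    exact L.mul_mem hl (hL.conj_mem _ (L.inv_mem hl) x)
  have hv1 : v = 1 := by
    by_contra hne
    have hcop : Nat.Coprime (orderOf x) (v - 1) := by
      rw [hxo]
      exact (Nat.Prime.coprime_iff_not_dvd hp).2 (fun hd => by
        have := Nat.le_of_dvd (by omega) hd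
        omega)
    have ho : orderOf (x ^ (v - 1)) = p := by
      rw [hcop.orderOf_pow, hxo]
    exact hLreg _ hmem (by rw [ho])
  apply Units.ext
  rw [Units.val_one]
  exact (ZMod.val_eq_one hp.one_lt _).1 hv1

/-- If the spectrum of `x` on `θ` is one orbit of the trivial group, `x` is a scalar. -/
theorem helper79_bgd_norm_of_orbit {G : Type*} [Group G] [Fintype G] (p : ℕ) [Fact p.Prime]
    (x : G) (hxp : x ^ p = 1) (H : Subgroup (ZMod p)ˣ) (hHbot : ∀ h ∈ H, h = 1)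
    (θ : IrrCharacter G) (a₀ : (ZMod p)ˣ) (m : ℕ)
    (hnm : charDegree (θ : G → ℂ) = Nat.card H * m)
    (hmu : OrbitMu p x H (θ : G → ℂ) a₀ m) :
    ‖(θ : G → ℂ) x‖ = ‖(θ : G → ℂ) 1‖ := by
  classical
  have hp : p.Prime := Fact.out
  have hθ1 : (θ : G → ℂ) 1 = (charDegree (θ : G → ℂ) : ℂ) :=
    Cfsg.Agent.Lib.helper81.irr_one_eq_charDegree θ
  have he1 : Nat.card H = 1 := by
    rw [Nat.card_eq_one_iff_unique]
    refine ⟨⟨fun a b => ?_⟩, ⟨1, H.one_mem⟩⟩
    apply Subtype.ext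
    rw [hHbot a.1 a.2, hHbot b.1 b.2]
  have hex := mu_expand p x hxp (θ : G → ℂ) 1
  rw [pow_one] at hex
  have hmu' : ∀ b : ZMod p, mu p x (θ : G → ℂ) b = if b = (a₀ : ZMod p) then (m : ℂ) else 0 := by
    intro b
    rw [hmu b]
    by_cases hb : b = (a₀ : ZMod p)
    · rw [if_pos hb]
      apply Set.indicator_of_mem
      exact ⟨1, H.one_mem, by rw [hb]; simp⟩
    · rw [if_neg hb]
      apply Set.indicator_of_notMem
      rintro ⟨h, hh, hbh⟩
      apply hb
      rw [hbh, hHbot h hh]; simp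
  rw [hex, hθ1, hnm, he1]
  simp only [hmu']
  rw [Finset.sum_eq_single (a₀ : ZMod p)]
  · rw [if_pos rfl, norm_mul, norm_pow]
    have hz : ‖zeta p‖ = 1 := by
      have := (Cfsg.Agent.Lib.helper83.D1E.zeta_prim p).norm'_eq_one hp.ne_zero
      exact this
    rw [hz, one_pow, mul_one]
    push_cast
    simp
  · intro b _ hb
    rw [if_neg hb, zero_mul]
  · intro h
    exact absurd (Finset.mem_univ _) h

variable {G : Type*} [Group G] [Fintype G]

/-- D (race copy of `ker_central`). -/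
theorem h79_ker_central (p : ℕ) [Fact p.Prime] (P : Sylow p G) (hP : Nat.card P = p)
    (x : G) (hx : x ∈ (P : Subgroup G)) (hx1 : x ≠ 1)
    (ψ : IrrCharacter G) (hdeg : 2 * charDegree (ψ : G → ℂ) + 1 ≤ p)
    (hns : ‖(ψ : G → ℂ) x‖ ≠ ‖(ψ : G → ℂ) 1‖)
    (L : Subgroup G) (hL : L.Normal) (hxL : x ∉ L) :
    ∀ k ∈ L, (ψ : G → ℂ) (x * k * x⁻¹ * k⁻¹) = (ψ : G → ℂ) 1 := by
  classical
  have hp : p.Prime := Fact.out
  obtain ⟨hxp, hxu⟩ := basic_x p P hP x hx hx1
  have hxo : orderOf x = p := orderOf_eq_prime hxp hx1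
  have hsq : ¬ p ^ 2 ∣ Nat.card G := by
    intro hdvd
    have h1 : Nat.card (P : Subgroup G) = p ^ (Nat.card G).factorization p :=
      Sylow.card_eq_multiplicity P
    rw [hP] at h1
    have h2 : 2 ≤ (Nat.card G).factorization p :=
      (hp.pow_dvd_iff_le_factorization Nat.card_pos.ne').1 hdvd
    have h3 : p ^ 2 ≤ p ^ (Nat.card G).factorization p := Nat.pow_le_pow_right hp.pos h2
    rw [← h1] at h3
    have h4 : p < p ^ 2 := by
      have := hp.one_lt
      nlinarith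
    omega
  have hLreg := helper79_preg_of_normal p P hP x hx L hxL
  -- the subgroup `S = L ⟨x⟩`
  let S : Subgroup G := L ⊔ Subgroup.zpowers x
  have hLS : L ≤ S := le_sup_left
  have hxS : x ∈ S := (le_sup_right : Subgroup.zpowers x ≤ S) (Subgroup.mem_zpowers x)
  let _ : Fintype ↥S := Fintype.ofFinite _
  have hψ : IsCharacter G (ψ : G → ℂ) := Cfsg.Agent.Lib.helper4.isCharacter_of_isIrrCharacter ψ.2
  have hψS : IsCharacter ↥S (fun s : ↥S => (ψ : G → ℂ) s) :=
    Cfsg.Agent.Lib.helper4.isCharacter_restrict S hψ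
  let xS : ↥S := ⟨x, hxS⟩
  have hxSo : orderOf xS = p := by
    rw [← hxo]
    exact (Subgroup.orderOf_coe xS).symm
  have hxS1 : xS ≠ 1 := by
    intro h
    exact hx1 (congrArg Subtype.val h)
  have hxSp : xS ^ p = 1 := by
    rw [← hxSo]
    exact pow_orderOf_eq_one xS
  have hdivS : p ∣ Nat.card ↥S := by
    rw [← hxSo]
    exact orderOf_dvd_natCard _
  have hsqS : ¬ p ^ 2 ∣ Nat.card ↥S :=
    fun h => hsq (h.trans (Subgroup.card_subgroup_dvd_card S))
  -- a Sylow subgroup of `S` through `x`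
  have hpg : IsPGroup p (Subgroup.zpowers xS) := by
    apply IsPGroup.of_card (n := 1)
    rw [Nat.card_zpowers, hxSo, pow_one]
  obtain ⟨Q, hQ⟩ := hpg.exists_le_sylow
  have hQc : Nat.card Q = p := helper2_sylow_card p hdivS hsqS Q
  have hxQ : xS ∈ (Q : Subgroup ↥S) := hQ (Subgroup.mem_zpowers xS)
  obtain ⟨HS, hHS, -⟩ := Cfsg.Agent.Lib.helper46.D1E.exists_H p Q hQc xS hxQ hxS1
  have hHbot : ∀ h ∈ HS, h = 1 := by
    intro h hh
    obtain ⟨n, hn⟩ := (hHS h).1 hh
    have hn' : (n : G) * x * (n : G)⁻¹ = x ^ ((h : ZMod p).val) := by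
      have := congrArg Subtype.val hn
      simpa using this
    exact helper79_bgd_H_trivial p x hxo L hLreg (n : G) n.2 h hn'
  -- every irreducible constituent of `ψ|S` is `Good`
  have hgood : ∀ θ : IrrCharacter ↥S,
      classInner (fun s : ↥S => (ψ : G → ℂ) s) (θ : ↥S → ℂ) ≠ 0 → Good p ↥S (θ : ↥S → ℂ) := by
    intro θ hθ
    have hθc : IsCharacter ↥S (θ : ↥S → ℂ) := Cfsg.Agent.Lib.helper81.irr_isCharacter θ
    have hdegθ : charDegree (θ : ↥S → ℂ) ≤ charDegree (ψ : G → ℂ) := by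
      have h1 := sum_deg_le (fun s : ↥S => (ψ : G → ℂ) s) hψS {θ}
        (by
          intro ξ' hξ'
          rw [Finset.mem_singleton] at hξ'
          rw [hξ']
          exact hθ)
      rw [Finset.sum_singleton] at h1
      exact h1
    by_cases hlt : 2 * charDegree (θ : ↥S → ℂ) + 1 < p
    · exact bf_irr (Nat.card ↥S) ↥S rfl p hp hdivS hsqS (θ : ↥S → ℂ) θ.2 hlt
    · by_cases hxk : (θ : ↥S → ℂ) xS = (θ : ↥S → ℂ) 1
      · exact ⟨Cfsg.Agent.Lib.helper81.charKer (θ : ↥S → ℂ) hθc, inferInstance,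
          ⟨xS, (Cfsg.Agent.Lib.helper81.mem_charKer _ hθc xS).mpr hxk, hxSo⟩, fun y hy _ =>
            (Cfsg.Agent.Lib.helper81.mem_charKer _ hθc y).mp hy⟩
      · obtain ⟨a₀, m, hm, hnm, hmu⟩ :=
          single_orbit2 p Q hQc xS hxQ hxS1 HS hHS θ (by omega) hxk
        exact good_of_norm p xS hxSo (θ : ↥S → ℂ) hθc
          (helper79_bgd_norm_of_orbit p xS hxSp HS hHbot θ a₀ m hnm hmu)
  intro k hkL
  have hcL : x * k * x⁻¹ * k⁻¹ ∈ L :=
    L.mul_mem (hL.conj_mem _ hkL x) (L.inv_mem hkL)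
  let kS : ↥S := ⟨k, hLS hkL⟩
  let cS : ↥S := ⟨x * k * x⁻¹ * k⁻¹, hLS hcL⟩
  have hcS : cS = xS * (kS * xS⁻¹ * kS⁻¹) := by
    apply Subtype.ext
    show x * k * x⁻¹ * k⁻¹ = x * (k * x⁻¹ * k⁻¹)
    group
  have hcreg : ¬ p ∣ orderOf cS := by
    have h1 : orderOf cS = orderOf (x * k * x⁻¹ * k⁻¹) := (Subgroup.orderOf_coe cS).symm
    rw [h1]
    exact hLreg _ hcL
  have hall : ∀ θ : IrrCharacter ↥S,
      classInner (fun s : ↥S => (ψ : G → ℂ) s) (θ : ↥S → ℂ) ≠ 0 →
      (θ : ↥S → ℂ) cS = (θ : ↥S → ℂ) 1 := by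
    intro θ hθ
    obtain ⟨N, hNn, ⟨z, hzN, hzo⟩, hN⟩ := hgood θ hθ
    have hxSN : xS ∈ N := helper79_mem_of_good p hsq S N z hzN hzo xS hxSo
    have hcSN : cS ∈ N := by
      rw [hcS]
      exact N.mul_mem hxSN (hNn.conj_mem _ (N.inv_mem hxSN) kS)
    exact hN cS hcSN hcreg
  exact (Cfsg.Agent.Lib.helper77.char_eq_degree_iff_constituents hψS cS).2 hall

end Cfsg.Agent.Lib.helper2.BG
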