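import Mathlib
import Cfsg.Prelude.Def_Characters
import Cfsg.Prelude.Def_Blocks
import Cfsg.Agent.Lib.helper58.PPrimeKerRep
import Cfsg.Agent.Lib.helper84.Robinson
import Cfsg.Agent.Lib.helper82.GlaubReal
import Cfsg.Agent.Lib.helper82.CharQuot
import Cfsg.Agent.Lib.helper82.CharSums
import Cfsg.Agent.Lib.helper81.CharOrtho

/-!
# Real characters of degree prime to `p` (helper79), part A

Basic tools:

* `pGen p G` : the subgroup generated by the `p`-elements, with `pGen_normal`,
  `pGen_map_of_surjective`, `le_pGen_of_isPGroup`.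
* `irr_trivial_of_fixedPointFree` : if a `p`-subgroup `Q` has no nontrivial fixed point on the
  normal subgroup `V`, every irreducible character of degree prime to `p` is trivial on `V`.
* `RealCl`, `RealIrr`, `realClMap`, `card_realIrr_le_quot`.
* `exists_minimal_normal_le`.
-/

set_option autoImplicit false
set_option linter.style.haveILetI false
set_option linter.unusedSectionVars false

namespace Cfsg.Agent.Lib.helper79

open Cfsg
open Cfsg.Agent.Lib

universe u

section PGen

variable {G : Type u} [Group G]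

/-- The subgroup generated by the `p`-elements. -/
def pGen (p : ℕ) (G : Type u) [Group G] : Subgroup G :=
  Subgroup.closure {g : G | ∃ k : ℕ, orderOf g = p ^ k}

theorem orderOf_conj_eq' (g x : G) : orderOf (g * x * g⁻¹) = orderOf x := by
  have h : g * x * g⁻¹ = MulAut.conj g x := rfl
  rw [h, MulEquiv.orderOf_eq]

theorem pGen_normal (p : ℕ) : (pGen p G).Normal := by
  constructor
  intro n hn g
  unfold pGen at hn ⊢
  induction hn using Subgroup.closure_induction with
  | mem x hx =>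
    obtain ⟨k, hk⟩ := hx
    apply Subgroup.subset_closure
    exact ⟨k, by rw [orderOf_conj_eq', hk]⟩
  | one => simp
  | mul x y _ _ hx hy =>
    have : g * (x * y) * g⁻¹ = (g * x * g⁻¹) * (g * y * g⁻¹) := by group
    rw [this]
    exact Subgroup.mul_mem _ hx hy
  | inv x _ hx =>
    have : g * x⁻¹ * g⁻¹ = (g * x * g⁻¹)⁻¹ := by group
    rw [this]
    exact Subgroup.inv_mem _ hx

theorem mem_pGen_of_orderOf {p : ℕ} {g : G} {k : ℕ} (h : orderOf g = p ^ k) : g ∈ pGen p G :=
  Subgroup.subset_closure ⟨k, h⟩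

theorem le_pGen_of_isPGroup {p : ℕ} [Fact p.Prime] (Q : Subgroup G) (hQ : IsPGroup p Q) :
    Q ≤ pGen p G := by
  intro q hq
  obtain ⟨k, hk⟩ := (IsPGroup.iff_orderOf.mp hQ) ⟨q, hq⟩
  rw [Subgroup.orderOf_mk] at hk
  exact mem_pGen_of_orderOf hk

theorem pGen_map_of_surjective [Finite G] {H : Type u} [Group H] (f : G →* H)
    (hf : Function.Surjective f) (p : ℕ) [hp : Fact p.Prime] :
    (pGen p G).map f = pGen p H := by
  apply le_antisymm
  · rw [Subgroup.map_le_iff_le_comap]
    unfold pGen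
    rw [Subgroup.closure_le]
    rintro x ⟨k, hk⟩
    have h1 : orderOf (f x) ∣ p ^ k := by
      rw [← hk]
      exact orderOf_map_dvd f x
    obtain ⟨j, -, hj⟩ := (Nat.dvd_prime_pow hp.out).mp h1
    exact Subgroup.subset_closure ⟨j, hj⟩
  · unfold pGen
    rw [Subgroup.closure_le]
    rintro h ⟨k, hk⟩
    obtain ⟨g, rfl⟩ := hf h
    have hn : 0 < orderOf g := orderOf_pos g
    set m := ordCompl[p] (orderOf g) with hm
    have hm0 : m ≠ 0 := by
      rw [hm]
      exact (Nat.ordCompl_pos p hn.ne').ne'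
    have hgm : orderOf (g ^ m) = p ^ (orderOf g).factorization p := by
      rw [orderOf_pow' g hm0, Nat.gcd_eq_right (Nat.ordCompl_dvd (orderOf g) p)]
      exact Nat.div_eq_of_eq_mul_left (Nat.pos_of_ne_zero hm0)
        (Nat.ordProj_mul_ordCompl_eq_self (orderOf g) p).symm
    have hcop : Nat.Coprime m (orderOf (f g)) := by
      rw [hk]
      apply Nat.Coprime.pow_right
      exact (Nat.coprime_ordCompl hp.out hn.ne').symm
    obtain ⟨j, hj⟩ := exists_pow_eq_self_of_coprime hcop
    have hmem : (g ^ m) ^ j ∈ Subgroup.closure {g : G | ∃ k : ℕ, orderOf g = p ^ k} :=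
      Subgroup.pow_mem _ (Subgroup.subset_closure
        (show g ^ m ∈ {g : G | ∃ k : ℕ, orderOf g = p ^ k} from ⟨_, hgm⟩)) j
    refine ⟨(g ^ m) ^ j, hmem, ?_⟩
    rw [map_pow, map_pow]
    exact hj

end PGen

section Kill

variable {G : Type u} [Group G] [Finite G]

/-- If the `p`-subgroup `Q` has no nontrivial fixed point on the normal subgroup `V`, then every
irreducible character of degree prime to `p` is trivial on `V`. -/
theorem irr_trivial_of_fixedPointFree (p : ℕ) [hp : Fact p.Prime] (V Q : Subgroup G) [V.Normal]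
    (hQ : IsPGroup p Q) (hfix : ∀ v ∈ V, (∀ q ∈ Q, q * v = v * q) → v = 1)
    (χ : IrrCharacter G) (hχ : ¬ p ∣ charDegree (χ : G → ℂ)) :
    ∀ v ∈ V, (χ : G → ℂ) v = (χ : G → ℂ) 1 := by
  classical
  letI : Fintype G := Fintype.ofFinite G
  letI : MulAction Q V := MulAction.compHom V ((MulAut.conjNormal (H := V)).comp Q.subtype)
  have hsmul : ∀ (q : Q) (v : V), ((q • v : V) : G) = (q : G) * (v : G) * (q : G)⁻¹ := by
    intro q v
    exact MulAut.conjNormal_apply (q : G) v
  obtain ⟨α, hα, hsum⟩ := helper58.sum_eq_add_prime_mul_of_fixed (P := Q) (X := V) (p := p) hQ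
    (fun v : V => (χ : G → ℂ) (v : G))
    (fun q v => by
      show (χ : G → ℂ) ((q • v : V) : G) = (χ : G → ℂ) (v : G)
      rw [hsmul]
      exact helper81.irr_classFun χ _ _)
    (fun v => helper81.irr_isIntegral χ _) 1
    (fun q => by
      apply Subtype.ext
      rw [hsmul]
      simp)
    (fun v hv => by
      apply Subtype.ext
      apply hfix v v.2
      intro q hq
      have h1 := congrArg Subtype.val (hv ⟨q, hq⟩)
      rw [hsmul] at h1
      calc q * (v : G) = (q * (v : G) * q⁻¹) * q := by group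
        _ = (v : G) * q := by rw [h1])
  apply helper84.irr_eq_one_of_sum_normal_ne_zero V χ
  intro h0
  rw [h0] at hsum
  apply hχ
  apply helper81.dvd_of_isIntegral_div hp.out.ne_zero
  have h1 : (χ : G → ℂ) 1 = (charDegree (χ : G → ℂ) : ℂ) := helper82.irr_one_eq χ
  have hp0 : (p : ℂ) ≠ 0 := by exact_mod_cast hp.out.ne_zero
  have h2 : (charDegree (χ : G → ℂ) : ℂ) / (p : ℂ) = -α := by
    rw [← h1]
    field_simp
    have h3 : (χ : G → ℂ) ((1 : V) : G) = (χ : G → ℂ) 1 := by simp
    rw [h3] at hsum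
    linear_combination -hsum
  rw [h2]
  exact hα.neg

end Kill

section Real

variable {G : Type u} [Group G]

/-- Real classes. -/
abbrev RealCl (G : Type u) [Group G] : Type u :=
  {K : ConjClasses G // ∀ g, ConjClasses.mk g = K → IsConj g g⁻¹}

/-- Real-valued irreducible characters. -/
abbrev RealIrr (G : Type u) [Group G] : Type u :=
  {χ : IrrCharacter G // ∀ g, ((χ : G → ℂ) g).im = 0}

theorem card_realIrr_eq_card_realCl [Finite G] : Nat.card (RealIrr G) = Nat.card (RealCl G) :=
  helper82.card_real_irr_eq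

theorem isConj_inv_of_isConj {a b : G} (h : IsConj a b) : IsConj a⁻¹ b⁻¹ := by
  obtain ⟨c, hc⟩ := isConj_iff.mp h
  exact isConj_iff.mpr ⟨c, by rw [← hc]; group⟩

/-- The real class of a real element. -/
def realClMk (g : G) (hg : IsConj g g⁻¹) : RealCl G :=
  ⟨ConjClasses.mk g, fun g' hg' => by
    rw [ConjClasses.mk_eq_mk_iff_isConj] at hg'
    exact hg'.trans (hg.trans (isConj_inv_of_isConj hg').symm)⟩

/-- The map induced on real classes by a homomorphism. -/
def realClMap {H : Type u} [Group H] (f : G →* H) : RealCl G → RealCl H := fun K =>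
  ⟨ConjClasses.map f K.1, fun h hh => by
    obtain ⟨g, hg⟩ := ConjClasses.mk_surjective K.1
    have hreal := K.2 g hg
    rw [← hg] at hh
    have h1 : ConjClasses.map f (ConjClasses.mk g) = ConjClasses.mk (f g) := rfl
    rw [h1, ConjClasses.mk_eq_mk_iff_isConj] at hh
    have h2 : IsConj (f g) (f g)⁻¹ := by
      have := f.map_isConj hreal
      rwa [map_inv] at this
    exact hh.trans (h2.trans (isConj_inv_of_isConj hh).symm)⟩

theorem realClMap_mk {H : Type u} [Group H] (f : G →* H) (g : G) (hg : IsConj g g⁻¹)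
    (hfg : IsConj (f g) (f g)⁻¹) : realClMap f (realClMk g hg) = realClMk (f g) hfg :=
  Subtype.ext rfl

theorem exists_realClMk (K : RealCl G) : ∃ (g : G) (hg : IsConj g g⁻¹), K = realClMk g hg := by
  obtain ⟨g, hg⟩ := ConjClasses.mk_surjective K.1
  exact ⟨g, K.2 g hg, Subtype.ext hg.symm⟩

theorem realClMk_eq_iff {g h : G} (hg : IsConj g g⁻¹) (hh : IsConj h h⁻¹) :
    realClMk g hg = realClMk h hh ↔ IsConj g h := by
  rw [← ConjClasses.mk_eq_mk_iff_isConj]
  exact ⟨fun e => congrArg Subtype.val e, fun e => Subtype.ext e⟩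

/-- If all real-valued irreducible characters are trivial on the normal subgroup `V`, there are
at most as many of them as for `G ⧸ V`. -/
theorem card_realIrr_le_quot [Finite G] (V : Subgroup G) [V.Normal]
    (h : ∀ χ : IrrCharacter G, (∀ g, ((χ : G → ℂ) g).im = 0) →
      ∀ v ∈ V, (χ : G → ℂ) v = (χ : G → ℂ) 1) :
    Nat.card (RealIrr G) ≤ Nat.card (RealIrr (G ⧸ V)) := by
  classical
  have hex : ∀ χ : RealIrr G, ∃ ψ : RealIrr (G ⧸ V),
      ∀ g : G, (ψ.1 : G ⧸ V → ℂ) (g : G ⧸ V) = (χ.1 : G → ℂ) g := by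
    intro χ
    obtain ⟨ψ, hψ, hval⟩ := helper82.isIrrCharacter_deflation V χ.1.2 (h χ.1 χ.2)
    refine ⟨⟨⟨ψ, hψ⟩, ?_⟩, hval⟩
    intro x
    obtain ⟨g, rfl⟩ := QuotientGroup.mk_surjective x
    show (ψ (g : G ⧸ V)).im = 0
    rw [hval]
    exact χ.2 g
  choose F hF using hex
  apply Nat.card_le_card_of_injective F
  intro χ₁ χ₂ h12
  apply Subtype.ext
  apply Subtype.ext
  funext g
  rw [← hF χ₁ g, ← hF χ₂ g, h12]

/-- A minimal normal subgroup inside a nontrivial normal subgroup. -/
theorem exists_minimal_normal_le [Finite G] (K : Subgroup G) [hKn : K.Normal] (hK : K ≠ ⊥) :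
    ∃ V : Subgroup G, V.Normal ∧ V ≠ ⊥ ∧ V ≤ K ∧
      ∀ N : Subgroup G, N.Normal → N ≠ ⊥ → N ≤ V → N = V := by
  have hfin : {N : Subgroup G | N.Normal ∧ N ≠ ⊥ ∧ N ≤ K}.Finite := Set.toFinite _
  obtain ⟨V, hV⟩ := hfin.exists_minimal ⟨K, hKn, hK, le_rfl⟩
  refine ⟨V, hV.1.1, hV.1.2.1, hV.1.2.2, fun N hN hN0 hNV => ?_⟩
  exact le_antisymm hNV (hV.2 ⟨hN, hN0, hNV.trans hV.1.2.2⟩ hNV)

end Real

end Cfsg.Agent.Lib.helper79
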