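import Mathlib
import Cfsg.Agent.Lib.helper79.RealDegA

/-!
# Real characters of degree prime to `p` (helper79), part B

`exists_normal_sylow_pGen_two` : if the subgroup generated by the `p`-elements of `G` is solvable
and every real-valued irreducible character of `G` has degree prime to `p`, then the subgroup
`pGen 2 G` generated by the `2`-elements has a normal Sylow `p`-subgroup (normal in `G`).
-/

set_option autoImplicit false
set_option linter.style.haveILetI false
set_option linter.unusedSectionVars false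

namespace Cfsg.Agent.Lib.helper79

open Cfsg
open Cfsg.Agent.Lib

universe u

section Dichotomy

variable {G : Type u} [Group G] [Finite G]

/-- A minimal normal subgroup `V`, when the subgroup generated by the `p`-elements is solvable:
either `V` is a `p`-group, or `V` is a `p'`-group which is centralized by all `p`-elements or
abelian. -/
theorem minimal_normal_dichotomy (p : ℕ) [hp : Fact p.Prime] (V : Subgroup G) [hVn : V.Normal]
    (hV0 : V ≠ ⊥) (hVmin : ∀ N : Subgroup G, N.Normal → N ≠ ⊥ → N ≤ V → N = V)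
    (hsolv : Group.IsSolvable ↥(pGen p G)) :
    IsPGroup p V ∨ (¬ p ∣ Nat.card V ∧
      ((∀ q ∈ pGen p G, ∀ v ∈ V, q * v = v * q) ∨ (∀ a ∈ V, ∀ b ∈ V, a * b = b * a))) := by
  classical
  haveI hLn := pGen_normal (G := G) p
  have key : ∀ N : Subgroup G, N.Normal → N ≤ V → N = ⊥ ∨ N = V := by
    intro N hN hNV
    by_cases h : N = ⊥
    · exact Or.inl h
    · exact Or.inr (hVmin N hN h hNV)
  -- no element of order `p` in `V` implies `p ∤ |V|`
  have hnodvd : (∀ v ∈ V, orderOf v = p → False) → ¬ p ∣ Nat.card V := by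
    intro h hdvd
    letI : Fintype V := Fintype.ofFinite V
    rw [Nat.card_eq_fintype_card] at hdvd
    obtain ⟨x, hx⟩ := exists_prime_orderOf_dvd_card p hdvd
    apply h x x.2
    rw [← hx, Subgroup.orderOf_coe]
  rcases key (V ⊓ pGen p G) inferInstance inf_le_left with h | h
  · right
    refine ⟨hnodvd ?_, Or.inl ?_⟩
    · intro v hv hord
      have h1 : v ∈ V ⊓ pGen p G := ⟨hv, mem_pGen_of_orderOf (k := 1) (by rw [hord, pow_one])⟩
      rw [h, Subgroup.mem_bot] at h1
      rw [h1, orderOf_one] at hord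
      exact hp.out.one_lt.ne hord
    · intro q hq v hv
      have h1 : q * v * q⁻¹ * v⁻¹ ∈ V ⊓ pGen p G := by
        constructor
        · exact Subgroup.mul_mem _ (hVn.conj_mem v hv q) (Subgroup.inv_mem _ hv)
        · have : q * v * q⁻¹ * v⁻¹ = q * (v * q⁻¹ * v⁻¹) := by group
          rw [this]
          exact Subgroup.mul_mem _ hq (hLn.conj_mem _ (Subgroup.inv_mem _ hq) v)
      rw [h, Subgroup.mem_bot] at h1
      calc q * v = (q * v * q⁻¹ * v⁻¹) * (v * q) := by group
        _ = v * q := by rw [h1, one_mul]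
  · have hVL : V ≤ pGen p G := by
      rw [← h]
      exact inf_le_right
    haveI : Group.IsSolvable ↥V :=
      Group.isSolvable_of_isSolvable_injective (Subgroup.inclusion_injective hVL)
    haveI : Nontrivial ↥V := (Subgroup.nontrivial_iff_ne_bot V).mpr hV0
    have hcomm : ⁅V, V⁆ = ⊥ := by
      rcases key ⁅V, V⁆ inferInstance (Subgroup.commutator_le_left V V) with h1 | h1
      · exact h1
      · exfalso
        have h2 := Group.IsSolvable.commutator_lt_top_of_nontrivial ↥V
        have h3 : Subgroup.map V.subtype (commutator ↥V) = Subgroup.map V.subtype ⊤ := by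
          rw [Subgroup.map_subtype_commutator, h1, ← MonoidHom.range_eq_map, Subgroup.range_subtype]
        have h4 := Subgroup.map_injective V.subtype_injective h3
        exact h2.ne h4
    have hVab : ∀ a ∈ V, ∀ b ∈ V, a * b = b * a := by
      intro a ha b hb
      have h1 := Subgroup.commutator_eq_bot_iff_le_centralizer.mp hcomm
      exact (Subgroup.mem_centralizer_iff.mp (h1 hb) a ha)
    set T : Subgroup G := Subgroup.closure {v : G | v ∈ V ∧ ∃ k : ℕ, orderOf v = p ^ k} with hT
    have hTV : T ≤ V := by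
      rw [hT, Subgroup.closure_le]
      exact fun v hv => hv.1
    have hTn : T.Normal := by
      constructor
      intro n hn g
      rw [hT] at hn ⊢
      induction hn using Subgroup.closure_induction with
      | mem x hx =>
        obtain ⟨hxV, k, hk⟩ := hx
        apply Subgroup.subset_closure
        exact ⟨hVn.conj_mem x hxV g, k, by rw [orderOf_conj_eq', hk]⟩
      | one => simp
      | mul x y _ _ hx hy =>
        have : g * (x * y) * g⁻¹ = (g * x * g⁻¹) * (g * y * g⁻¹) := by group
        rw [this]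
        exact Subgroup.mul_mem _ hx hy
      | inv x _ hx =>
        have : g * x⁻¹ * g⁻¹ = (g * x * g⁻¹)⁻¹ := by group
        rw [this]
        exact Subgroup.inv_mem _ hx
    have hTp : ∀ x ∈ T, ∃ k : ℕ, x ^ (p ^ k) = 1 := by
      intro x hx
      rw [hT] at hx
      induction hx using Subgroup.closure_induction with
      | mem x hx =>
        obtain ⟨-, k, hk⟩ := hx
        exact ⟨k, by rw [← hk]; exact pow_orderOf_eq_one x⟩
      | one => exact ⟨0, by simp⟩
      | mul x y hx hy ihx ihy =>
        obtain ⟨k, hk⟩ := ihx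
        obtain ⟨l, hl⟩ := ihy
        refine ⟨k + l, ?_⟩
        have hc : Commute x y := hVab x (hTV (by rw [hT]; exact hx)) y (hTV (by rw [hT]; exact hy))
        rw [hc.mul_pow, pow_add, pow_mul, hk, one_pow, mul_comm (p ^ k), pow_mul, hl, one_pow,
          one_mul]
      | inv x _ ihx =>
        obtain ⟨k, hk⟩ := ihx
        exact ⟨k, by rw [inv_pow, hk, inv_one]⟩
    rcases key T hTn hTV with h1 | h1
    · right
      refine ⟨hnodvd ?_, Or.inr hVab⟩
      intro v hv hord
      have h2 : v ∈ T := Subgroup.subset_closure ⟨hv, 1, by rw [hord, pow_one]⟩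
      rw [h1, Subgroup.mem_bot] at h2
      rw [h2, orderOf_one] at hord
      exact hp.out.one_lt.ne hord
    · left
      intro x
      obtain ⟨k, hk⟩ := hTp x (by rw [h1]; exact x.2)
      exact ⟨k, Subtype.ext (by simpa using hk)⟩

end Dichotomy

section Contra

variable {G : Type u} [Group G] [Finite G]

/-- The key contradiction: `V` an abelian minimal normal `p'`-subgroup, `N = V Q` normal with
`Q` a Sylow `p`-subgroup of `N` inside `pGen 2 G` not centralizing `V`; then some real-valued
irreducible character has degree divisible by `p`. -/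
theorem false_of_fixedPointFree (p : ℕ) [hp : Fact p.Prime] (V N : Subgroup G) [hVn : V.Normal]
    [hNn : N.Normal] (hVab : ∀ a ∈ V, ∀ b ∈ V, a * b = b * a) (hpV : ¬ p ∣ Nat.card V)
    (hVmin : ∀ M : Subgroup G, M.Normal → M ≠ ⊥ → M ≤ V → M = V)
    (P : Sylow p N) (hN : N = V ⊔ (P : Subgroup N).map N.subtype)
    (hQK : (P : Subgroup N).map N.subtype ≤ pGen 2 G)
    (hnc : ¬ ∀ q ∈ (P : Subgroup N).map N.subtype, ∀ v ∈ V, q * v = v * q)
    (hreal : ∀ χ : IrrCharacter G, (∀ g, ((χ : G → ℂ) g).im = 0) →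
      ¬ p ∣ charDegree (χ : G → ℂ)) : False := by
  classical
  set Q : Subgroup G := (P : Subgroup N).map N.subtype with hQdef
  have hQp : IsPGroup p Q := P.2.map N.subtype
  have hQN : Q ≤ N := by rw [hN]; exact le_sup_right
  -- (a) no nontrivial fixed points
  have hfix : ∀ v ∈ V, (∀ q ∈ Q, q * v = v * q) → v = 1 := by
    intro v hv hvq
    have hC : V ⊓ Subgroup.centralizer (N : Set G) = ⊥ := by
      by_contra hne
      have h1 := hVmin (V ⊓ Subgroup.centralizer (N : Set G)) inferInstance hne inf_le_left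
      apply hnc
      intro q hq w hw
      have h2 : w ∈ V ⊓ Subgroup.centralizer (N : Set G) := by rw [h1]; exact hw
      exact Subgroup.mem_centralizer_iff.mp h2.2 q (hQN hq)
    have h3 : v ∈ V ⊓ Subgroup.centralizer (N : Set G) := by
      refine Subgroup.mem_inf.mpr ⟨hv, ?_⟩
      rw [Subgroup.mem_centralizer_iff]
      intro n hn
      have hn' : n ∈ V ⊔ Q := by rw [← hN]; exact hn
      obtain ⟨y, hy, z, hz, rfl⟩ := Subgroup.mem_sup_of_normal_left.mp hn'
      rw [mul_assoc, hvq z hz, ← mul_assoc, hVab y hy v hv, mul_assoc]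
    rw [hC, Subgroup.mem_bot] at h3
    exact h3
  -- (b) real characters are trivial on `V`
  have hker : ∀ χ : IrrCharacter G, (∀ g, ((χ : G → ℂ) g).im = 0) →
      ∀ v ∈ V, (χ : G → ℂ) v = (χ : G → ℂ) 1 :=
    fun χ hχ => irr_trivial_of_fixedPointFree p V Q hQp hfix χ (hreal χ hχ)
  -- (c) counting
  have hcard : Nat.card (RealCl G) ≤ Nat.card (RealCl (G ⧸ V)) := by
    rw [← card_realIrr_eq_card_realCl, ← card_realIrr_eq_card_realCl]
    exact card_realIrr_le_quot V hker
  -- (d) the complement
  set H : Subgroup G := Subgroup.normalizer (Q : Set G) with hH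
  have hHV : H ⊔ V = ⊤ := by
    have h1 := Sylow.normalizer_sup_eq_top P
    rw [← hQdef, ← hH, hN] at h1
    have h2 : Q ≤ H := Subgroup.le_normalizer
    rw [sup_comm V Q, ← sup_assoc, sup_eq_left.mpr h2] at h1
    exact h1
  have hQV : Q ⊓ V = ⊥ := by
    apply Disjoint.eq_bot
    apply Subgroup.disjoint_of_coprime_natCard
    obtain ⟨k, hk⟩ := IsPGroup.iff_card.mp hQp
    rw [hk]
    exact Nat.Coprime.pow_left k ((Nat.Prime.coprime_iff_not_dvd hp.out).mpr hpV)
  have hHVbot : ∀ v ∈ V, v ∈ H → v = 1 := by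
    intro v hv hvH
    apply hfix v hv
    intro q hq
    have h1 : v * q * v⁻¹ * q⁻¹ ∈ Q ⊓ V := by
      constructor
      · exact Subgroup.mul_mem _ ((Subgroup.mem_normalizer_iff.mp hvH q).mp hq)
          (Subgroup.inv_mem _ hq)
      · have : v * q * v⁻¹ * q⁻¹ = v * (q * v⁻¹ * q⁻¹) := by group
        rw [this]
        exact Subgroup.mul_mem _ hv (hVn.conj_mem _ (Subgroup.inv_mem _ hv) q)
    rw [hQV, Subgroup.mem_bot] at h1
    calc q * v = (v * q * v⁻¹ * q⁻¹)⁻¹ * (v * q) := by group
      _ = v * q := by rw [h1, inv_one, one_mul]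
  -- every element is `h * v`
  have hdec : ∀ g : G, ∃ h ∈ H, (g : G ⧸ V) = (h : G ⧸ V) := by
    intro g
    have hg : g ∈ H ⊔ V := by rw [hHV]; exact Subgroup.mem_top g
    obtain ⟨y, hy, z, hz, rfl⟩ := Subgroup.mem_sup_of_normal_right.mp hg
    refine ⟨y, hy, ?_⟩
    rw [QuotientGroup.mk_mul, (QuotientGroup.eq_one_iff z).mpr hz, mul_one]
  -- (e) surjectivity
  have hsurj : Function.Surjective (realClMap (QuotientGroup.mk' V)) := by
    intro Kb
    obtain ⟨x, hx, rfl⟩ := exists_realClMk Kb
    obtain ⟨g, rfl⟩ := QuotientGroup.mk_surjective x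
    obtain ⟨h, hhH, hgh⟩ := hdec g
    obtain ⟨c, hc⟩ := isConj_iff.mp hx
    obtain ⟨c', rfl⟩ := QuotientGroup.mk_surjective c
    obtain ⟨k, hkH, hck⟩ := hdec c'
    rw [hck, hgh] at hc
    have h1 : k * h * k⁻¹ * h ∈ V := by
      rw [← QuotientGroup.eq_one_iff]
      rw [QuotientGroup.mk_mul, QuotientGroup.mk_mul, QuotientGroup.mk_mul, QuotientGroup.mk_inv,
        hc, inv_mul_cancel]
    have h2 : k * h * k⁻¹ * h ∈ H :=
      Subgroup.mul_mem _ (Subgroup.mul_mem _ (Subgroup.mul_mem _ hkH hhH) (Subgroup.inv_mem _ hkH))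
        hhH
    have h3 := hHVbot _ h1 h2
    have h4 : k * h * k⁻¹ = h⁻¹ := eq_inv_of_mul_eq_one_left h3
    have hreal_h : IsConj h h⁻¹ := isConj_iff.mpr ⟨k, h4⟩
    refine ⟨realClMk h hreal_h, ?_⟩
    apply Subtype.ext
    show ConjClasses.mk ((QuotientGroup.mk' V) h) = ConjClasses.mk (g : G ⧸ V)
    rw [hgh]
    rfl
  -- (f) injectivity
  have hinj : Function.Injective (realClMap (QuotientGroup.mk' V)) := by
    have hbij := (Nat.bijective_iff_surjective_and_card (realClMap (QuotientGroup.mk' V))).mpr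
      ⟨hsurj, le_antisymm hcard (Nat.card_le_card_of_surjective _ hsurj)⟩
    exact hbij.1
  -- (g) a nontrivial real element of `V`
  obtain ⟨v₀, hv₀V, hv₀1, hv₀real⟩ : ∃ v₀ ∈ V, v₀ ≠ 1 ∧ IsConj v₀ v₀⁻¹ := by
    set Cn : Subgroup G := Subgroup.centralizer (V : Set G) with hCn
    have h1 : ∃ t : G, (∃ k : ℕ, orderOf t = 2 ^ k) ∧ t ∉ Cn := by
      by_contra hcon
      push Not at hcon
      have h2 : pGen 2 G ≤ Cn := by
        unfold pGen
        rw [Subgroup.closure_le]
        exact fun t ht => hcon t ht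
      apply hnc
      intro q hq v hv
      exact (Subgroup.mem_centralizer_iff.mp (h2 (hQK hq)) v hv).symm
    obtain ⟨t, ⟨k, hk⟩, htC⟩ := h1
    have hdesc : ∀ (k : ℕ) (t : G), t ^ (2 ^ k) ∈ Cn → t ∉ Cn → ∃ s : G, s ∉ Cn ∧ s * s ∈ Cn := by
      intro k
      induction k with
      | zero =>
        intro t ht htn
        rw [pow_zero, pow_one] at ht
        exact absurd ht htn
      | succ k ih =>
        intro t ht htn
        by_cases h2 : t * t ∈ Cn
        · exact ⟨t, htn, h2⟩
        · apply ih (t * t) _ h2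
          rw [← pow_two, ← pow_mul, ← pow_succ']
          exact ht
    obtain ⟨s, hsC, hssC⟩ := hdesc k t (by rw [← hk, pow_orderOf_eq_one]; exact Subgroup.one_mem _)
      htC
    have h3 : ∃ w ∈ V, w * s ≠ s * w := by
      by_contra hcon
      push Not at hcon
      exact hsC (Subgroup.mem_centralizer_iff.mpr hcon)
    obtain ⟨w, hwV, hws⟩ := h3
    refine ⟨w * (s * w * s⁻¹)⁻¹, ?_, ?_, ?_⟩
    · exact Subgroup.mul_mem _ hwV (Subgroup.inv_mem _ (hVn.conj_mem w hwV s))
    · intro h4
      apply hws
      have h5 : w = s * w * s⁻¹ := by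
        have := mul_inv_eq_one.mp h4
        exact this
      calc w * s = (s * w * s⁻¹) * s := by rw [← h5]
        _ = s * w := by group
    · rw [isConj_iff]
      refine ⟨s, ?_⟩
      have h6 : w * (s * s) = s * s * w := Subgroup.mem_centralizer_iff.mp hssC w hwV
      have h7 : s * s * w * (s * s)⁻¹ = w := by
        rw [← h6]
        group
      calc s * (w * (s * w * s⁻¹)⁻¹) * s⁻¹ = (s * w * s⁻¹) * (s * s * w * (s * s)⁻¹)⁻¹ := by group
        _ = (s * w * s⁻¹) * w⁻¹ := by rw [h7]
        _ = (w * (s * w * s⁻¹)⁻¹)⁻¹ := by group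
  -- conclusion
  have hone : IsConj (1 : G) (1 : G)⁻¹ := by rw [inv_one]
  have h8 : realClMap (QuotientGroup.mk' V) (realClMk v₀ hv₀real) =
      realClMap (QuotientGroup.mk' V) (realClMk 1 hone) := by
    apply Subtype.ext
    show ConjClasses.mk ((QuotientGroup.mk' V) v₀) = ConjClasses.mk ((QuotientGroup.mk' V) 1)
    have : (QuotientGroup.mk' V) v₀ = 1 := (QuotientGroup.eq_one_iff v₀).mpr hv₀V
    rw [this, map_one]
  have h9 := hinj h8
  rw [realClMk_eq_iff] at h9
  exact hv₀1 (isConj_one_left.mp h9)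

end Contra

section Main

/-- **Isaacs–Navarro** (the case where the subgroup generated by the `p`-elements is solvable).
If every real-valued irreducible character of `G` has degree prime to `p`, then the subgroup
generated by the `2`-elements has a Sylow `p`-subgroup which is normal in `G`. -/
theorem exists_normal_sylow_pGen_two : ∀ (n : ℕ) (G : Type u) [Group G] [Finite G],
    Nat.card G = n → ∀ (p : ℕ) [Fact p.Prime], Group.IsSolvable ↥(pGen p G) →
    (∀ χ : IrrCharacter G, (∀ g, ((χ : G → ℂ) g).im = 0) → ¬ p ∣ charDegree (χ : G → ℂ)) →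
    ∃ N : Subgroup G, N.Normal ∧ N ≤ pGen 2 G ∧ IsPGroup p N ∧
      ¬ p ∣ N.relIndex (pGen 2 G) := by
  intro n
  induction n using Nat.strong_induction_on with
  | _ n ih =>
  intro G _ _ hn p hp hsolv hreal
  classical
  by_cases hK : pGen 2 G = ⊥
  · refine ⟨⊥, inferInstance, bot_le, IsPGroup.of_bot, ?_⟩
    rw [hK, Subgroup.relIndex_bot_right]
    exact hp.out.not_dvd_one
  haveI hKn := pGen_normal (G := G) 2
  obtain ⟨V, hVn, hVbot, hVK, hVmin⟩ := exists_minimal_normal_le (pGen 2 G) hK
  haveI := hVn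
  have hVcard : 1 < Nat.card V := by
    haveI : Nontrivial ↥V := (Subgroup.nontrivial_iff_ne_bot V).mpr hVbot
    exact Finite.one_lt_card
  have hcardlt : Nat.card (G ⧸ V) < n := by
    rw [← hn, Subgroup.card_eq_card_quotient_mul_card_subgroup V]
    have hpos : 0 < Nat.card (G ⧸ V) := Nat.card_pos
    nlinarith
  have hsolv' : Group.IsSolvable ↥(pGen p (G ⧸ V)) := by
    have h1 := pGen_map_of_surjective (QuotientGroup.mk' V) (QuotientGroup.mk'_surjective V) p
    have h2 : Group.IsSolvable ↥((pGen p G).map (QuotientGroup.mk' V)) :=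
      Group.isSolvable_of_surjective ((QuotientGroup.mk' V).subgroupMap_surjective (pGen p G))
    rw [h1] at h2
    exact h2
  have hreal' : ∀ ψ : IrrCharacter (G ⧸ V), (∀ x, ((ψ : G ⧸ V → ℂ) x).im = 0) →
      ¬ p ∣ charDegree (ψ : G ⧸ V → ℂ) := by
    intro ψ hψ
    exact hreal ⟨fun g => (ψ : G ⧸ V → ℂ) (g : G ⧸ V), helper82.isIrrCharacter_inflation V ψ.2⟩
      (fun g => hψ _)
  obtain ⟨Nb, hNbn, hNbK, hNbp, hNbidx⟩ :=
    ih (Nat.card (G ⧸ V)) hcardlt (G ⧸ V) rfl p hsolv' hreal'
  have hπs : Function.Surjective (QuotientGroup.mk' V) := QuotientGroup.mk'_surjective V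
  have hK2 : (pGen 2 G).map (QuotientGroup.mk' V) = pGen 2 (G ⧸ V) :=
    pGen_map_of_surjective (QuotientGroup.mk' V) hπs 2
  set N : Subgroup G := Nb.comap (QuotientGroup.mk' V) with hNdef
  haveI hNn : N.Normal := hNbn.comap _
  have hVN : V ≤ N := by
    intro v hv
    show (QuotientGroup.mk' V) v ∈ Nb
    have : (QuotientGroup.mk' V) v = 1 := (QuotientGroup.eq_one_iff v).mpr hv
    rw [this]
    exact Subgroup.one_mem _
  have hNK : N ≤ pGen 2 G := by
    have h1 : N ≤ ((pGen 2 G).map (QuotientGroup.mk' V)).comap (QuotientGroup.mk' V) :=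
      Subgroup.comap_mono (by rw [hK2]; exact hNbK)
    rw [Subgroup.comap_map_eq, QuotientGroup.ker_mk', sup_eq_left.mpr hVK] at h1
    exact h1
  have hNidx : N.relIndex (pGen 2 G) = Nb.relIndex (pGen 2 (G ⧸ V)) := by
    rw [hNdef, Subgroup.relIndex_comap, hK2]
  by_cases hVp : IsPGroup p V
  · refine ⟨N, hNn, hNK, ?_, by rw [hNidx]; exact hNbidx⟩
    intro x
    obtain ⟨k, hk⟩ := hNbp ⟨(QuotientGroup.mk' V) x, x.2⟩
    have hxV : (x : G) ^ (p ^ k) ∈ V := by
      rw [← QuotientGroup.eq_one_iff]
      have h1 := congrArg Subtype.val hk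
      simpa using h1
    obtain ⟨l, hl⟩ := hVp ⟨_, hxV⟩
    refine ⟨k + l, ?_⟩
    apply Subtype.ext
    have h2 := congrArg Subtype.val hl
    simp only [Subgroup.coe_pow, Subgroup.coe_one] at h2 ⊢
    rw [pow_add, pow_mul]
    exact h2
  · rcases minimal_normal_dichotomy p V hVbot hVmin hsolv with h | ⟨hpV, hcases⟩
    · exact absurd h hVp
    obtain ⟨P⟩ : Nonempty (Sylow p N) := inferInstance
    set Q : Subgroup G := (P : Subgroup N).map N.subtype with hQdef
    have hQN : Q ≤ N := Subgroup.map_subtype_le _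
    have hQp : IsPGroup p Q := P.2.map N.subtype
    have hmemP : ∀ y : N, y ∈ (P : Subgroup N) ↔ (y : G) ∈ Q := by
      intro y
      constructor
      · intro hy
        exact Subgroup.mem_map_of_mem N.subtype hy
      · intro hy
        obtain ⟨z, hz, hzy⟩ := Subgroup.mem_map.mp hy
        have : z = y := Subtype.ext hzy
        rw [← this]
        exact hz
    -- cardinalities
    obtain ⟨a, ha⟩ := IsPGroup.iff_card.mp hNbp
    have hcardN : Nat.card N = Nat.card V * Nat.card Nb := by
      have h1 := Subgroup.card_mul_index N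
      have h2 : N.index = Nb.index := Subgroup.index_comap_of_surjective Nb hπs
      have h3 := Subgroup.card_mul_index Nb
      have h4 := Subgroup.card_eq_card_quotient_mul_card_subgroup V
      have hpos : 0 < Nb.index := Nat.pos_of_ne_zero Subgroup.index_ne_zero_of_finite
      rw [h2] at h1
      have h5 : Nat.card N * Nb.index = (Nat.card V * Nat.card Nb) * Nb.index := by
        rw [h1, h4, ← h3]
        ring
      exact Nat.eq_of_mul_eq_mul_right hpos h5
    have hcardQ : Nat.card Q = Nat.card Nb := by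
      rw [hQdef, Subgroup.card_map_of_injective N.subtype_injective, Sylow.card_eq_multiplicity,
        hcardN, ha, Nat.factorization_mul (Nat.card_pos.ne') (pow_pos hp.out.pos a).ne',
        Finsupp.add_apply, Nat.factorization_eq_zero_of_not_dvd hpV, zero_add,
        Nat.Prime.factorization_pow hp.out, Finsupp.single_eq_same]
    have hcop : Nat.Coprime (Nat.card V) (Nat.card Q) := by
      rw [hcardQ, ha]
      exact Nat.Coprime.pow_right a ((Nat.Prime.coprime_iff_not_dvd hp.out).mpr hpV).symm
    have hNsup : N = V ⊔ Q := by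
      symm
      apply Subgroup.eq_of_le_of_card_ge (sup_le hVN hQN)
      rw [hcardN, ← hcardQ]
      apply Nat.le_of_dvd Nat.card_pos
      exact Nat.Coprime.mul_dvd_of_dvd_of_dvd hcop (Subgroup.card_dvd_of_le le_sup_left)
        (Subgroup.card_dvd_of_le le_sup_right)
    have hQidx : ¬ p ∣ Q.relIndex (pGen 2 G) := by
      rw [← Subgroup.relIndex_mul_relIndex Q N (pGen 2 G) hQN hNK]
      have h1 : Nat.card Q * Q.relIndex N = Nat.card N := by
        have := Subgroup.relIndex_mul_relIndex ⊥ Q N bot_le hQN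
        rwa [Subgroup.relIndex_bot_left, Subgroup.relIndex_bot_left] at this
      have h2 : Q.relIndex N = Nat.card V := by
        rw [hcardN, ← hcardQ, mul_comm] at h1
        exact Nat.eq_of_mul_eq_mul_right Nat.card_pos h1
      rw [h2, hNidx]
      exact fun h => (hp.out.dvd_mul.mp h).elim hpV hNbidx
    have hQL : Q ≤ pGen p G := le_pGen_of_isPGroup Q hQp
    by_cases hcent : ∀ q ∈ Q, ∀ v ∈ V, q * v = v * q
    · refine ⟨Q, ?_, hQN.trans hNK, hQp, hQidx⟩
      have hPn : (P : Subgroup N).Normal := by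
        constructor
        intro y hy g
        rw [hmemP] at hy ⊢
        have hg : (g : G) ∈ V ⊔ Q := by rw [← hNsup]; exact g.2
        obtain ⟨v, hv, q, hq, hvq⟩ := Subgroup.mem_sup_of_normal_left.mp hg
        have h1 : ((g * y * g⁻¹ : N) : G) = q * (y : G) * q⁻¹ := by
          have hyv : (y : G) * v = v * (y : G) := hcent _ hy v hv
          have hqv : q * v = v * q := hcent q hq v hv
          have hqyq : (q * (y : G) * q⁻¹) * v = v * (q * (y : G) * q⁻¹) :=
            hcent _ (Subgroup.mul_mem _ (Subgroup.mul_mem _ hq hy) (Subgroup.inv_mem _ hq)) v hv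
          simp only [Subgroup.coe_mul, Subgroup.coe_inv]
          rw [← hvq]
          calc v * q * (y : G) * (v * q)⁻¹ = v * (q * (y : G) * q⁻¹) * v⁻¹ := by group
            _ = (q * (y : G) * q⁻¹) * v * v⁻¹ := by rw [hqyq]
            _ = q * (y : G) * q⁻¹ := by group
        rw [h1]
        exact Subgroup.mul_mem _ (Subgroup.mul_mem _ hq hy) (Subgroup.inv_mem _ hq)
      haveI := Sylow.characteristic_of_normal P hPn
      exact ConjAct.normal_of_characteristic_of_normal
    · exfalso
      have hVab : ∀ a ∈ V, ∀ b ∈ V, a * b = b * a := by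
        rcases hcases with h | h
        · exact absurd (fun q hq v hv => h q (hQL hq) v hv) hcent
        · exact h
      exact false_of_fixedPointFree p V N hVab hpV hVmin P hNsup (hQN.trans hNK) hcent hreal

/-- A normal `p`-subgroup of `p'`-index in `K` is the unique Sylow `p`-subgroup of `K`. -/
theorem sylow_normal_of_exists {G : Type u} [Group G] [Finite G] (p : ℕ) [Fact p.Prime]
    (K N : Subgroup G) (hNn : N.Normal) (hNK : N ≤ K) (hNp : IsPGroup p N)
    (hNidx : ¬ p ∣ N.relIndex K) (Q : Sylow p K) : (Q : Subgroup K).Normal := by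
  have hN'p : IsPGroup p (N.subgroupOf K) :=
    hNp.of_equiv (Subgroup.subgroupOfEquivOfLe hNK).symm
  have hN'n : (N.subgroupOf K).Normal := hNn.subgroupOf K
  have hSn : ((hN'p.toSylow hNidx : Sylow p K) : Subgroup K).Normal := hN'n
  have hu := Sylow.unique_of_normal (hN'p.toSylow hNidx) hSn
  have hQS : Q = hN'p.toSylow hNidx := Subsingleton.elim _ _
  rw [hQS]
  exact hSn

end Main

end Cfsg.Agent.Lib.helper79
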