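import Mathlib
import Cfsg.Agent.Lib.helper79.RealDegB

/-!
# Real characters of degree prime to `p` (helper79), part C

* `exists_real_of_not_le_centralizer` : if the `2`-elements do not all centralize the normal
  subgroup `M`, then `M` contains a nontrivial real element.
* `realClMap_surjective_of_odd` : real classes lift modulo a normal subgroup of odd order.
* `no_real_of_le_commutator` : if all real-valued irreducible characters have degree prime to the
  odd prime `p`, a normal subgroup inside the derived subgroup of a Sylow `p`-subgroup contains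
  no nontrivial real element.
* `no_real_of_fixedPointFree` : the same for an abelian minimal normal `p'`-subgroup on which a
  suitable Sylow `p`-subgroup acts without fixed points.
-/

set_option autoImplicit false
set_option linter.style.haveILetI false
set_option linter.unusedSectionVars false

namespace Cfsg.Agent.Lib.helper79

open Cfsg
open Cfsg.Agent.Lib

universe u

section RealElts

variable {G : Type u} [Group G]

/-- If the `2`-elements do not all centralize the normal subgroup `M`, then `M` contains a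
nontrivial real element. -/
theorem exists_real_of_not_le_centralizer (M : Subgroup G) [hMn : M.Normal]
    (h : ¬ pGen 2 G ≤ Subgroup.centralizer (M : Set G)) :
    ∃ v₀ ∈ M, v₀ ≠ 1 ∧ IsConj v₀ v₀⁻¹ := by
  set Cn : Subgroup G := Subgroup.centralizer (M : Set G) with hCn
  have h1 : ∃ t : G, (∃ k : ℕ, orderOf t = 2 ^ k) ∧ t ∉ Cn := by
    by_contra hcon
    push Not at hcon
    apply h
    unfold pGen
    rw [Subgroup.closure_le]
    exact fun t ht => hcon t ht
  obtain ⟨t, ⟨k, hk⟩, htC⟩ := h1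
  have hdesc : ∀ (k : ℕ) (t : G), t ^ (2 ^ k) ∈ Cn → t ∉ Cn → ∃ s : G, s ∉ Cn ∧ s * s ∈ Cn := by
    intro k
    induction k with
    | zero =>
      intro t ht htn
      rw [pow_zero, pow_one] at ht
      exact absurd ht htn
    | succ k ih =>
      intro t ht htn
      by_cases h2 : t * t ∈ Cn
      · exact ⟨t, htn, h2⟩
      · apply ih (t * t) _ h2
        rw [← pow_two, ← pow_mul, ← pow_succ']
        exact ht
  obtain ⟨s, hsC, hssC⟩ := hdesc k t (by rw [← hk, pow_orderOf_eq_one]; exact Subgroup.one_mem _)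
    htC
  have h3 : ∃ w ∈ M, w * s ≠ s * w := by
    by_contra hcon
    push Not at hcon
    exact hsC (Subgroup.mem_centralizer_iff.mpr hcon)
  obtain ⟨w, hwV, hws⟩ := h3
  refine ⟨w * (s * w * s⁻¹)⁻¹, ?_, ?_, ?_⟩
  · exact Subgroup.mul_mem _ hwV (Subgroup.inv_mem _ (hMn.conj_mem w hwV s))
  · intro h4
    apply hws
    have h5 : w = s * w * s⁻¹ := mul_inv_eq_one.mp h4
    calc w * s = (s * w * s⁻¹) * s := by rw [← h5]
      _ = s * w := by group
  · rw [isConj_iff]
    refine ⟨s, ?_⟩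
    have h6 : w * (s * s) = s * s * w := Subgroup.mem_centralizer_iff.mp hssC w hwV
    have h7 : s * s * w * (s * s)⁻¹ = w := by
      rw [← h6]
      group
    calc s * (w * (s * w * s⁻¹)⁻¹) * s⁻¹ = (s * w * s⁻¹) * (s * s * w * (s * s)⁻¹)⁻¹ := by group
      _ = (s * w * s⁻¹) * w⁻¹ := by rw [h7]
      _ = (w * (s * w * s⁻¹)⁻¹)⁻¹ := by group

/-- If the real class map to `G ⧸ M` is injective, `M` has no nontrivial real element. -/
theorem no_real_of_injective (M : Subgroup G) [M.Normal]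
    (hinj : Function.Injective (realClMap (QuotientGroup.mk' M))) :
    ∀ v ∈ M, IsConj v v⁻¹ → v = 1 := by
  intro v hv hreal
  have hone : IsConj (1 : G) (1 : G)⁻¹ := by rw [inv_one]
  have h8 : realClMap (QuotientGroup.mk' M) (realClMk v hreal) =
      realClMap (QuotientGroup.mk' M) (realClMk 1 hone) := by
    apply Subtype.ext
    show ConjClasses.mk ((QuotientGroup.mk' M) v) = ConjClasses.mk ((QuotientGroup.mk' M) 1)
    have : (QuotientGroup.mk' M) v = 1 := (QuotientGroup.eq_one_iff v).mpr hv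
    rw [this, map_one]
  have h9 := hinj h8
  rw [realClMk_eq_iff] at h9
  exact isConj_one_left.mp h9

/-- Real classes lift modulo a normal subgroup of odd order. -/
theorem realClMap_surjective_of_odd [Finite G] (M : Subgroup G) [hMn : M.Normal]
    (hodd : Odd (Nat.card M)) : Function.Surjective (realClMap (QuotientGroup.mk' M)) := by
  classical
  intro Kb
  obtain ⟨xb, hxb, rfl⟩ := exists_realClMk Kb
  obtain ⟨x, rfl⟩ := QuotientGroup.mk_surjective xb
  obtain ⟨cb, hcb⟩ := isConj_iff.mp hxb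
  obtain ⟨c, rfl⟩ := QuotientGroup.mk_surjective cb
  have hn : 0 < orderOf c := orderOf_pos c
  set m := ordCompl[2] (orderOf c) with hm
  have hm0 : m ≠ 0 := (Nat.ordCompl_pos 2 hn.ne').ne'
  have hmodd : Odd m := by
    rw [← Nat.not_even_iff_odd, even_iff_two_dvd]
    exact Nat.not_dvd_ordCompl Nat.prime_two hn.ne'
  set a := (orderOf c).factorization 2 with ha
  have hgord : orderOf (c ^ m) = 2 ^ a := by
    rw [orderOf_pow' c hm0, Nat.gcd_eq_right (Nat.ordCompl_dvd (orderOf c) 2)]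
    exact Nat.div_eq_of_eq_mul_left (Nat.pos_of_ne_zero hm0)
      (Nat.ordProj_mul_ordCompl_eq_self (orderOf c) 2).symm
  set g := c ^ m with hg
  -- `g` still inverts the class of `x`
  have hsq : ∀ j : ℕ, ((c : G ⧸ M)) ^ (2 * j) * (x : G ⧸ M) * ((c : G ⧸ M) ^ (2 * j))⁻¹ =
      (x : G ⧸ M) := by
    intro j
    induction j with
    | zero => simp
    | succ j ih =>
      have e1 : (c : G ⧸ M) ^ (2 * (j + 1)) = (c : G ⧸ M) * (c : G ⧸ M) * (c : G ⧸ M) ^ (2 * j) := by
        rw [show 2 * (j + 1) = 2 + 2 * j by ring, pow_add, pow_two]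
      rw [e1]
      have e2 : (c : G ⧸ M) * (c : G ⧸ M) * (c : G ⧸ M) ^ (2 * j) * (x : G ⧸ M) *
          ((c : G ⧸ M) * (c : G ⧸ M) * (c : G ⧸ M) ^ (2 * j))⁻¹ =
          (c : G ⧸ M) * ((c : G ⧸ M) * ((c : G ⧸ M) ^ (2 * j) * (x : G ⧸ M) *
            ((c : G ⧸ M) ^ (2 * j))⁻¹) * (c : G ⧸ M)⁻¹) * (c : G ⧸ M)⁻¹ := by group
      rw [e2, ih, hcb]
      have e3 : (c : G ⧸ M) * (x : G ⧸ M)⁻¹ * (c : G ⧸ M)⁻¹ =
          ((c : G ⧸ M) * (x : G ⧸ M) * (c : G ⧸ M)⁻¹)⁻¹ := by group
      rw [e3, hcb, inv_inv]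
  have hginv : (g : G ⧸ M) * (x : G ⧸ M) * (g : G ⧸ M)⁻¹ = (x : G ⧸ M)⁻¹ := by
    obtain ⟨j, hj⟩ := hmodd
    have e1 : (g : G ⧸ M) = (c : G ⧸ M) * (c : G ⧸ M) ^ (2 * j) := by
      rw [hg, QuotientGroup.mk_pow, hj, show 2 * j + 1 = 1 + 2 * j by ring, pow_add, pow_one]
    rw [e1]
    have e2 : (c : G ⧸ M) * (c : G ⧸ M) ^ (2 * j) * (x : G ⧸ M) *
        ((c : G ⧸ M) * (c : G ⧸ M) ^ (2 * j))⁻¹ =
        (c : G ⧸ M) * ((c : G ⧸ M) ^ (2 * j) * (x : G ⧸ M) * ((c : G ⧸ M) ^ (2 * j))⁻¹) *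
          (c : G ⧸ M)⁻¹ := by group
    rw [e2, hsq j, hcb]
  -- the fibre over the class of `x`
  let S : Type u := {y : G // (y : G ⧸ M) = (x : G ⧸ M)}
  letI : Fintype S := Fintype.ofFinite S
  let f : Function.End S := fun y => ⟨(g * y.1 * g⁻¹)⁻¹, by
    rw [QuotientGroup.mk_inv, QuotientGroup.mk_mul, QuotientGroup.mk_mul, QuotientGroup.mk_inv,
      y.2, hginv, inv_inv]⟩
  have hf2 : ∀ (j : ℕ) (y : S), (((f * f) ^ j) y).1 = g ^ (2 * j) * y.1 * (g ^ (2 * j))⁻¹ := by
    intro j
    induction j with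
    | zero =>
      intro y
      rw [pow_zero]
      show y.1 = _
      simp
    | succ j ih =>
      intro y
      rw [pow_succ']
      show ((f * f) (((f * f) ^ j) y)).1 = _
      have e1 : ∀ z : S, ((f * f) z).1 = g * g * z.1 * (g * g)⁻¹ := by
        intro z
        show (g * (g * z.1 * g⁻¹)⁻¹ * g⁻¹)⁻¹ = _
        simp only [mul_inv_rev, inv_inv, mul_assoc]
      rw [e1, ih]
      have e2 : g ^ (2 * (j + 1)) = g * g * g ^ (2 * j) := by
        rw [show 2 * (j + 1) = 2 + 2 * j by ring, pow_add, pow_two]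
      rw [e2]
      group
  have hf : f ^ 2 ^ (a + 1) = 1 := by
    have e1 : f ^ 2 ^ (a + 1) = (f * f) ^ (2 ^ a) := by
      rw [pow_succ, mul_comm, pow_mul, pow_two]
    rw [e1]
    funext y
    apply Subtype.ext
    rw [hf2]
    have e2 : g ^ (2 * 2 ^ a) = 1 := by
      rw [mul_comm, pow_mul, ← hgord, pow_orderOf_eq_one, one_pow]
    rw [e2]
    show 1 * y.1 * 1⁻¹ = y.1
    simp
  have hmod := Equiv.Perm.card_fixedPoints_modEq (p := 2) (n := a + 1) hf
  have hcardS : Fintype.card S = Nat.card M := by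
    rw [← Nat.card_eq_fintype_card]
    apply Nat.card_congr
    refine ⟨fun y => ⟨x⁻¹ * y.1, ?_⟩, fun z => ⟨x * z.1, ?_⟩, ?_, ?_⟩
    · exact QuotientGroup.eq.mp y.2.symm
    · rw [QuotientGroup.mk_mul, (QuotientGroup.eq_one_iff z.1).mpr z.2, mul_one]
    · intro y
      apply Subtype.ext
      simp
    · intro z
      apply Subtype.ext
      simp
  have hfix : 0 < Fintype.card (Function.fixedPoints f) := by
    rw [hcardS] at hmod
    have h1 : Nat.card M % 2 = 1 := Nat.odd_iff.mp hodd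
    unfold Nat.ModEq at hmod
    omega
  obtain ⟨⟨y, hy⟩⟩ := Fintype.card_pos_iff.mp hfix
  have hy1 : (g * y.1 * g⁻¹)⁻¹ = y.1 := congrArg Subtype.val hy
  have hyreal : IsConj y.1 y.1⁻¹ := by
    rw [isConj_iff]
    refine ⟨g, ?_⟩
    rw [← hy1, inv_inv]
    rw [hy1]
  refine ⟨realClMk y.1 hyreal, ?_⟩
  apply Subtype.ext
  show ConjClasses.mk ((QuotientGroup.mk' M) y.1) = ConjClasses.mk (x : G ⧸ M)
  have : (QuotientGroup.mk' M) y.1 = (x : G ⧸ M) := y.2
  rw [this]

end RealElts

section Count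

variable {G : Type u} [Group G] [Finite G]

/-- If all real-valued irreducible characters are trivial on `M` and real classes lift modulo
`M`, then `M` contains no nontrivial real element. -/
theorem no_real_of_trivial (M : Subgroup G) [M.Normal]
    (hker : ∀ χ : IrrCharacter G, (∀ g, ((χ : G → ℂ) g).im = 0) →
      ∀ v ∈ M, (χ : G → ℂ) v = (χ : G → ℂ) 1)
    (hsurj : Function.Surjective (realClMap (QuotientGroup.mk' M))) :
    ∀ v ∈ M, IsConj v v⁻¹ → v = 1 := by
  have hcard : Nat.card (RealCl G) ≤ Nat.card (RealCl (G ⧸ M)) := by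
    rw [← card_realIrr_eq_card_realCl, ← card_realIrr_eq_card_realCl]
    exact card_realIrr_le_quot M hker
  have hbij := (Nat.bijective_iff_surjective_and_card (realClMap (QuotientGroup.mk' M))).mpr
      ⟨hsurj, le_antisymm hcard (Nat.card_le_card_of_surjective _ hsurj)⟩
  exact no_real_of_injective M hbij.1

/-- If every real-valued irreducible character has degree prime to the odd prime `p`, then the
`2`-elements centralize every normal subgroup contained in the derived subgroup of a Sylow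
`p`-subgroup. -/
theorem le_centralizer_of_le_commutator (p : ℕ) [hp : Fact p.Prime] (hp2 : p ≠ 2)
    (hreal : ∀ χ : IrrCharacter G, (∀ g, ((χ : G → ℂ) g).im = 0) →
      ¬ p ∣ charDegree (χ : G → ℂ))
    (P : Sylow p G) (M : Subgroup G) [hMn : M.Normal]
    (hMP : M ≤ ⁅(P : Subgroup G), (P : Subgroup G)⁆) :
    pGen 2 G ≤ Subgroup.centralizer (M : Set G) := by
  by_contra h
  obtain ⟨v₀, hv₀M, hv₀1, hv₀real⟩ := exists_real_of_not_le_centralizer M h
  apply hv₀1
  refine no_real_of_trivial M ?_ ?_ v₀ hv₀M hv₀real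
  · intro χ hχ v hv
    exact helper58.irr_eq_of_mem_sup_commutator P ⊥ (by simp) M
      (by rw [bot_sup_eq]; exact hMP) χ (hreal χ hχ) v hv
  · apply realClMap_surjective_of_odd
    have hPP : ⁅(P : Subgroup G), (P : Subgroup G)⁆ ≤ (P : Subgroup G) := by
      rw [Subgroup.commutator_le]
      intro a ha b hb
      rw [commutatorElement_def]
      exact Subgroup.mul_mem _ (Subgroup.mul_mem _ (Subgroup.mul_mem _ ha hb)
        (Subgroup.inv_mem _ ha)) (Subgroup.inv_mem _ hb)
    have hMp : IsPGroup p M := P.2.to_le (hMP.trans hPP)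
    obtain ⟨k, hk⟩ := IsPGroup.iff_card.mp hMp
    rw [hk]
    exact (hp.out.odd_of_ne_two hp2).pow

/-- `V` an abelian minimal normal `p'`-subgroup, `N = V Q` normal with `Q` a Sylow `p`-subgroup
of `N` not centralizing `V`; if all real-valued irreducible characters have degree prime to `p`,
then `V` contains no nontrivial real element. -/
theorem no_real_of_fixedPointFree (p : ℕ) [hp : Fact p.Prime] (V N : Subgroup G) [hVn : V.Normal]
    [hNn : N.Normal] (hVab : ∀ a ∈ V, ∀ b ∈ V, a * b = b * a) (hpV : ¬ p ∣ Nat.card V)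
    (hVmin : ∀ M : Subgroup G, M.Normal → M ≠ ⊥ → M ≤ V → M = V)
    (P : Sylow p N) (hN : N = V ⊔ (P : Subgroup N).map N.subtype)
    (hnc : ¬ ∀ q ∈ (P : Subgroup N).map N.subtype, ∀ v ∈ V, q * v = v * q)
    (hreal : ∀ χ : IrrCharacter G, (∀ g, ((χ : G → ℂ) g).im = 0) →
      ¬ p ∣ charDegree (χ : G → ℂ)) : ∀ v ∈ V, IsConj v v⁻¹ → v = 1 := by
  classical
  set Q : Subgroup G := (P : Subgroup N).map N.subtype with hQdef
  have hQp : IsPGroup p Q := P.2.map N.subtype
  have hQN : Q ≤ N := by rw [hN]; exact le_sup_right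
  -- (a) no nontrivial fixed points
  have hfix : ∀ v ∈ V, (∀ q ∈ Q, q * v = v * q) → v = 1 := by
    intro v hv hvq
    have hC : V ⊓ Subgroup.centralizer (N : Set G) = ⊥ := by
      by_contra hne
      have h1 := hVmin (V ⊓ Subgroup.centralizer (N : Set G)) inferInstance hne inf_le_left
      apply hnc
      intro q hq w hw
      have h2 : w ∈ V ⊓ Subgroup.centralizer (N : Set G) := by rw [h1]; exact hw
      exact Subgroup.mem_centralizer_iff.mp h2.2 q (hQN hq)
    have h3 : v ∈ V ⊓ Subgroup.centralizer (N : Set G) := by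
      refine Subgroup.mem_inf.mpr ⟨hv, ?_⟩
      rw [Subgroup.mem_centralizer_iff]
      intro n hn
      have hn' : n ∈ V ⊔ Q := by rw [← hN]; exact hn
      obtain ⟨y, hy, z, hz, rfl⟩ := Subgroup.mem_sup_of_normal_left.mp hn'
      rw [mul_assoc, hvq z hz, ← mul_assoc, hVab y hy v hv, mul_assoc]
    rw [hC, Subgroup.mem_bot] at h3
    exact h3
  -- (b) real characters are trivial on `V`
  have hker : ∀ χ : IrrCharacter G, (∀ g, ((χ : G → ℂ) g).im = 0) →
      ∀ v ∈ V, (χ : G → ℂ) v = (χ : G → ℂ) 1 :=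
    fun χ hχ => irr_trivial_of_fixedPointFree p V Q hQp hfix χ (hreal χ hχ)
  -- (d) the complement
  set H : Subgroup G := Subgroup.normalizer (Q : Set G) with hH
  have hHV : H ⊔ V = ⊤ := by
    have h1 := Sylow.normalizer_sup_eq_top P
    rw [← hQdef, ← hH, hN] at h1
    have h2 : Q ≤ H := Subgroup.le_normalizer
    rw [sup_comm V Q, ← sup_assoc, sup_eq_left.mpr h2] at h1
    exact h1
  have hQV : Q ⊓ V = ⊥ := by
    apply Disjoint.eq_bot
    apply Subgroup.disjoint_of_coprime_natCard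
    obtain ⟨k, hk⟩ := IsPGroup.iff_card.mp hQp
    rw [hk]
    exact Nat.Coprime.pow_left k ((Nat.Prime.coprime_iff_not_dvd hp.out).mpr hpV)
  have hHVbot : ∀ v ∈ V, v ∈ H → v = 1 := by
    intro v hv hvH
    apply hfix v hv
    intro q hq
    have h1 : v * q * v⁻¹ * q⁻¹ ∈ Q ⊓ V := by
      constructor
      · exact Subgroup.mul_mem _ ((Subgroup.mem_normalizer_iff.mp hvH q).mp hq)
          (Subgroup.inv_mem _ hq)
      · have : v * q * v⁻¹ * q⁻¹ = v * (q * v⁻¹ * q⁻¹) := by group
        rw [this]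
        exact Subgroup.mul_mem _ hv (hVn.conj_mem _ (Subgroup.inv_mem _ hv) q)
    rw [hQV, Subgroup.mem_bot] at h1
    calc q * v = (v * q * v⁻¹ * q⁻¹)⁻¹ * (v * q) := by group
      _ = v * q := by rw [h1, inv_one, one_mul]
  -- every element is `h * v`
  have hdec : ∀ g : G, ∃ h ∈ H, (g : G ⧸ V) = (h : G ⧸ V) := by
    intro g
    have hg : g ∈ H ⊔ V := by rw [hHV]; exact Subgroup.mem_top g
    obtain ⟨y, hy, z, hz, rfl⟩ := Subgroup.mem_sup_of_normal_right.mp hg
    refine ⟨y, hy, ?_⟩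
    rw [QuotientGroup.mk_mul, (QuotientGroup.eq_one_iff z).mpr hz, mul_one]
  -- (e) surjectivity
  have hsurj : Function.Surjective (realClMap (QuotientGroup.mk' V)) := by
    intro Kb
    obtain ⟨x, hx, rfl⟩ := exists_realClMk Kb
    obtain ⟨g, rfl⟩ := QuotientGroup.mk_surjective x
    obtain ⟨h, hhH, hgh⟩ := hdec g
    obtain ⟨c, hc⟩ := isConj_iff.mp hx
    obtain ⟨c', rfl⟩ := QuotientGroup.mk_surjective c
    obtain ⟨k, hkH, hck⟩ := hdec c'
    rw [hck, hgh] at hc
    have h1 : k * h * k⁻¹ * h ∈ V := by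
      rw [← QuotientGroup.eq_one_iff]
      rw [QuotientGroup.mk_mul, QuotientGroup.mk_mul, QuotientGroup.mk_mul, QuotientGroup.mk_inv,
        hc, inv_mul_cancel]
    have h2 : k * h * k⁻¹ * h ∈ H :=
      Subgroup.mul_mem _ (Subgroup.mul_mem _ (Subgroup.mul_mem _ hkH hhH) (Subgroup.inv_mem _ hkH))
        hhH
    have h3 := hHVbot _ h1 h2
    have h4 : k * h * k⁻¹ = h⁻¹ := eq_inv_of_mul_eq_one_left h3
    have hreal_h : IsConj h h⁻¹ := isConj_iff.mpr ⟨k, h4⟩
    refine ⟨realClMk h hreal_h, ?_⟩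
    apply Subtype.ext
    show ConjClasses.mk ((QuotientGroup.mk' V) h) = ConjClasses.mk (g : G ⧸ V)
    rw [hgh]
    rfl
  exact no_real_of_trivial V hker hsurj

end Count

end Cfsg.Agent.Lib.helper79
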