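import Mathlib
import Cfsg.Agent.Lib.helper79.RealDegC

/-!
# Real characters of degree prime to `p` (helper79), part D

`exists_normal_sylow_over_pGen_two` : if the subgroup generated by the `p`-elements of `G` is
solvable and every real-valued irreducible character of `G` has degree prime to `p`, then every
normal subgroup `W` containing `pGen 2 G` with `p`-power index over it has a Sylow `p`-subgroup
which is normal in `G`.
-/

set_option autoImplicit false
set_option linter.style.haveILetI false
set_option linter.unusedSectionVars false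

namespace Cfsg.Agent.Lib.helper79

open Cfsg
open Cfsg.Agent.Lib

universe u

/-- A nontrivial element of `2`-power order in `V` gives a nontrivial element of `V` with
trivial square. -/
theorem exists_involution_of_pow_two {G : Type u} [Group G] (V : Subgroup G) :
    ∀ (k : ℕ) (c : G), c ∈ V → c ^ (2 ^ k) = 1 → c ≠ 1 → ∃ u ∈ V, u ≠ 1 ∧ u * u = 1 := by
  intro k
  induction k with
  | zero =>
    intro c _ hc hc1
    rw [pow_zero, pow_one] at hc
    exact absurd hc hc1
  | succ k ih =>
    intro c hcV hc hc1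
    by_cases h2 : c * c = 1
    · exact ⟨c, hcV, hc1, h2⟩
    · apply ih (c * c) (Subgroup.mul_mem _ hcV hcV) _ h2
      rw [← pow_two, ← pow_mul, ← pow_succ']
      exact hc

/-- **Isaacs–Navarro**, second form. If the subgroup generated by the `p`-elements is solvable
and every real-valued irreducible character of `G` has degree prime to `p`, then every normal
subgroup `W` containing the subgroup generated by the `2`-elements with `p`-power index has a
Sylow `p`-subgroup which is normal in `G`. -/
theorem exists_normal_sylow_over_pGen_two : ∀ (n : ℕ) (G : Type u) [Group G] [Finite G],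
    Nat.card G = n → ∀ (p : ℕ) [Fact p.Prime], Group.IsSolvable ↥(pGen p G) →
    (∀ χ : IrrCharacter G, (∀ g, ((χ : G → ℂ) g).im = 0) → ¬ p ∣ charDegree (χ : G → ℂ)) →
    ∀ W : Subgroup G, W.Normal → pGen 2 G ≤ W → (∃ a : ℕ, (pGen 2 G).relIndex W = p ^ a) →
    ∃ R : Subgroup G, R.Normal ∧ R ≤ W ∧ IsPGroup p R ∧ ¬ p ∣ R.relIndex W := by
  intro n
  induction n using Nat.strong_induction_on with
  | _ n ih =>
  intro G _ _ hn p hp hsolv hreal W hWn hKW hWa
  classical
  haveI hKn := pGen_normal (G := G) 2
  by_cases hK : pGen 2 G = ⊥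
  · obtain ⟨a, ha⟩ := hWa
    rw [hK, Subgroup.relIndex_bot_left] at ha
    refine ⟨W, hWn, le_rfl, IsPGroup.of_card ha, ?_⟩
    rw [Subgroup.relIndex_self]
    exact hp.out.not_dvd_one
  obtain ⟨N₀, hN₀n, hN₀K, hN₀p, hN₀idx⟩ := exists_normal_sylow_pGen_two n G hn p hsolv hreal
  obtain ⟨V, hVn, hVbot, hVK, hVmin, hVN₀⟩ : ∃ V : Subgroup G, V.Normal ∧ V ≠ ⊥ ∧
      V ≤ pGen 2 G ∧ (∀ N : Subgroup G, N.Normal → N ≠ ⊥ → N ≤ V → N = V) ∧
      (N₀ ≠ ⊥ → V ≤ N₀) := by
    by_cases hN₀ : N₀ = ⊥
    · obtain ⟨V, hVn, hVbot, hVK, hVmin⟩ := exists_minimal_normal_le (pGen 2 G) hK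
      exact ⟨V, hVn, hVbot, hVK, hVmin, fun h => absurd hN₀ h⟩
    · haveI := hN₀n
      obtain ⟨V, hVn, hVbot, hVN, hVmin⟩ := exists_minimal_normal_le N₀ hN₀
      exact ⟨V, hVn, hVbot, hVN.trans hN₀K, hVmin, fun _ => hVN⟩
  haveI := hVn
  have hVW : V ≤ W := hVK.trans hKW
  have hVcard : 1 < Nat.card V := by
    haveI : Nontrivial ↥V := (Subgroup.nontrivial_iff_ne_bot V).mpr hVbot
    exact Finite.one_lt_card
  have hcardlt : Nat.card (G ⧸ V) < n := by
    rw [← hn, Subgroup.card_eq_card_quotient_mul_card_subgroup V]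
    have hpos : 0 < Nat.card (G ⧸ V) := Nat.card_pos
    nlinarith
  have hsolv' : Group.IsSolvable ↥(pGen p (G ⧸ V)) := by
    have h1 := pGen_map_of_surjective (QuotientGroup.mk' V) (QuotientGroup.mk'_surjective V) p
    have h2 : Group.IsSolvable ↥((pGen p G).map (QuotientGroup.mk' V)) :=
      Group.isSolvable_of_surjective ((QuotientGroup.mk' V).subgroupMap_surjective (pGen p G))
    rw [h1] at h2
    exact h2
  have hreal' : ∀ ψ : IrrCharacter (G ⧸ V), (∀ x, ((ψ : G ⧸ V → ℂ) x).im = 0) →
      ¬ p ∣ charDegree (ψ : G ⧸ V → ℂ) := by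
    intro ψ hψ
    exact hreal ⟨fun g => (ψ : G ⧸ V → ℂ) (g : G ⧸ V), helper82.isIrrCharacter_inflation V ψ.2⟩
      (fun g => hψ _)
  have hπs : Function.Surjective (QuotientGroup.mk' V) := QuotientGroup.mk'_surjective V
  have hK2 : (pGen 2 G).map (QuotientGroup.mk' V) = pGen 2 (G ⧸ V) :=
    pGen_map_of_surjective (QuotientGroup.mk' V) hπs 2
  set Wb : Subgroup (G ⧸ V) := W.map (QuotientGroup.mk' V) with hWb
  have hWbn : Wb.Normal := hWn.map _ hπs
  have hKWb : pGen 2 (G ⧸ V) ≤ Wb := by
    rw [← hK2]
    exact Subgroup.map_mono hKW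
  have hKcomap : (pGen 2 (G ⧸ V)).comap (QuotientGroup.mk' V) = pGen 2 G := by
    rw [← hK2, Subgroup.comap_map_eq, QuotientGroup.ker_mk', sup_eq_left.mpr hVK]
  have hWba : ∃ a : ℕ, (pGen 2 (G ⧸ V)).relIndex Wb = p ^ a := by
    obtain ⟨a, ha⟩ := hWa
    refine ⟨a, ?_⟩
    rw [← ha, ← hKcomap, Subgroup.relIndex_comap]
  obtain ⟨Rb, hRbn, hRbW, hRbp, hRbidx⟩ :=
    ih (Nat.card (G ⧸ V)) hcardlt (G ⧸ V) rfl p hsolv' hreal' Wb hWbn hKWb hWba
  set N : Subgroup G := Rb.comap (QuotientGroup.mk' V) with hNdef
  haveI hNn : N.Normal := hRbn.comap _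
  have hVN : V ≤ N := by
    intro v hv
    show (QuotientGroup.mk' V) v ∈ Rb
    have : (QuotientGroup.mk' V) v = 1 := (QuotientGroup.eq_one_iff v).mpr hv
    rw [this]
    exact Subgroup.one_mem _
  have hNW : N ≤ W := by
    have h1 : N ≤ (W.map (QuotientGroup.mk' V)).comap (QuotientGroup.mk' V) :=
      Subgroup.comap_mono hRbW
    rw [Subgroup.comap_map_eq, QuotientGroup.ker_mk', sup_eq_left.mpr hVW] at h1
    exact h1
  have hNidx : N.relIndex W = Rb.relIndex Wb := by
    rw [hNdef, Subgroup.relIndex_comap]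
  by_cases hVp : IsPGroup p V
  · refine ⟨N, hNn, hNW, ?_, by rw [hNidx]; exact hRbidx⟩
    intro x
    obtain ⟨k, hk⟩ := hRbp ⟨(QuotientGroup.mk' V) x, x.2⟩
    have hxV : (x : G) ^ (p ^ k) ∈ V := by
      rw [← QuotientGroup.eq_one_iff]
      have h1 := congrArg Subtype.val hk
      simpa using h1
    obtain ⟨l, hl⟩ := hVp ⟨_, hxV⟩
    refine ⟨k + l, ?_⟩
    apply Subtype.ext
    have h2 := congrArg Subtype.val hl
    simp only [Subgroup.coe_pow, Subgroup.coe_one] at h2 ⊢
    rw [pow_add, pow_mul]
    exact h2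
  · have hN₀bot : N₀ = ⊥ := by
      by_contra h
      exact hVp (hN₀p.to_le (hVN₀ h))
    have hpK : ¬ p ∣ Nat.card (pGen 2 G) := by
      rw [hN₀bot, Subgroup.relIndex_bot_left] at hN₀idx
      exact hN₀idx
    rcases minimal_normal_dichotomy p V hVbot hVmin hsolv with h | ⟨hpV, hcases⟩
    · exact absurd h hVp
    obtain ⟨P⟩ : Nonempty (Sylow p N) := inferInstance
    set Q : Subgroup G := (P : Subgroup N).map N.subtype with hQdef
    have hQN : Q ≤ N := Subgroup.map_subtype_le _
    have hQp : IsPGroup p Q := P.2.map N.subtype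
    have hmemP : ∀ y : N, y ∈ (P : Subgroup N) ↔ (y : G) ∈ Q := by
      intro y
      constructor
      · intro hy
        exact Subgroup.mem_map_of_mem N.subtype hy
      · intro hy
        obtain ⟨z, hz, hzy⟩ := Subgroup.mem_map.mp hy
        have : z = y := Subtype.ext hzy
        rw [← this]
        exact hz
    -- cardinalities
    obtain ⟨a, ha⟩ := IsPGroup.iff_card.mp hRbp
    have hcardN : Nat.card N = Nat.card V * Nat.card Rb := by
      have h1 := Subgroup.card_mul_index N
      have h2 : N.index = Rb.index := Subgroup.index_comap_of_surjective Rb hπs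
      have h3 := Subgroup.card_mul_index Rb
      have h4 := Subgroup.card_eq_card_quotient_mul_card_subgroup V
      have hpos : 0 < Rb.index := Nat.pos_of_ne_zero Subgroup.index_ne_zero_of_finite
      rw [h2] at h1
      have h5 : Nat.card N * Rb.index = (Nat.card V * Nat.card Rb) * Rb.index := by
        rw [h1, h4, ← h3]
        ring
      exact Nat.eq_of_mul_eq_mul_right hpos h5
    have hcardQ : Nat.card Q = Nat.card Rb := by
      rw [hQdef, Subgroup.card_map_of_injective N.subtype_injective, Sylow.card_eq_multiplicity,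
        hcardN, ha, Nat.factorization_mul (Nat.card_pos.ne') (pow_pos hp.out.pos a).ne',
        Finsupp.add_apply, Nat.factorization_eq_zero_of_not_dvd hpV, zero_add,
        Nat.Prime.factorization_pow hp.out, Finsupp.single_eq_same]
    have hcop : Nat.Coprime (Nat.card V) (Nat.card Q) := by
      rw [hcardQ, ha]
      exact Nat.Coprime.pow_right a ((Nat.Prime.coprime_iff_not_dvd hp.out).mpr hpV).symm
    have hNsup : N = V ⊔ Q := by
      symm
      apply Subgroup.eq_of_le_of_card_ge (sup_le hVN hQN)
      rw [hcardN, ← hcardQ]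
      apply Nat.le_of_dvd Nat.card_pos
      exact Nat.Coprime.mul_dvd_of_dvd_of_dvd hcop (Subgroup.card_dvd_of_le le_sup_left)
        (Subgroup.card_dvd_of_le le_sup_right)
    have hQidx : ¬ p ∣ Q.relIndex W := by
      rw [← Subgroup.relIndex_mul_relIndex Q N W hQN hNW]
      have h1 : Nat.card Q * Q.relIndex N = Nat.card N := by
        have := Subgroup.relIndex_mul_relIndex ⊥ Q N bot_le hQN
        rwa [Subgroup.relIndex_bot_left, Subgroup.relIndex_bot_left] at this
      have h2 : Q.relIndex N = Nat.card V := by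
        rw [hcardN, ← hcardQ, mul_comm] at h1
        exact Nat.eq_of_mul_eq_mul_right Nat.card_pos h1
      rw [h2, hNidx]
      exact fun h => (hp.out.dvd_mul.mp h).elim hpV hRbidx
    have hQL : Q ≤ pGen p G := le_pGen_of_isPGroup Q hQp
    by_cases hcent : ∀ q ∈ Q, ∀ v ∈ V, q * v = v * q
    · refine ⟨Q, ?_, hQN.trans hNW, hQp, hQidx⟩
      have hPn : (P : Subgroup N).Normal := by
        constructor
        intro y hy g
        rw [hmemP] at hy ⊢
        have hg : (g : G) ∈ V ⊔ Q := by rw [← hNsup]; exact g.2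
        obtain ⟨v, hv, q, hq, hvq⟩ := Subgroup.mem_sup_of_normal_left.mp hg
        have h1 : ((g * y * g⁻¹ : N) : G) = q * (y : G) * q⁻¹ := by
          have hyv : (y : G) * v = v * (y : G) := hcent _ hy v hv
          have hqv : q * v = v * q := hcent q hq v hv
          have hqyq : (q * (y : G) * q⁻¹) * v = v * (q * (y : G) * q⁻¹) :=
            hcent _ (Subgroup.mul_mem _ (Subgroup.mul_mem _ hq hy) (Subgroup.inv_mem _ hq)) v hv
          simp only [Subgroup.coe_mul, Subgroup.coe_inv]
          rw [← hvq]
          calc v * q * (y : G) * (v * q)⁻¹ = v * (q * (y : G) * q⁻¹) * v⁻¹ := by group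
            _ = (q * (y : G) * q⁻¹) * v * v⁻¹ := by rw [hqyq]
            _ = q * (y : G) * q⁻¹ := by group
        rw [h1]
        exact Subgroup.mul_mem _ (Subgroup.mul_mem _ hq hy) (Subgroup.inv_mem _ hq)
      haveI := Sylow.characteristic_of_normal P hPn
      exact ConjAct.normal_of_characteristic_of_normal
    · exfalso
      have hVab : ∀ a ∈ V, ∀ b ∈ V, a * b = b * a := by
        rcases hcases with h | h
        · exact absurd (fun q hq v hv => h q (hQL hq) v hv) hcent
        · exact h
      have hnoreal := no_real_of_fixedPointFree p V N hVab hpV hVmin P hNsup hcent hreal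
      have hKC : pGen 2 G ≤ Subgroup.centralizer (V : Set G) := by
        by_contra h
        obtain ⟨v₀, hv₀V, hv₀1, hv₀real⟩ := exists_real_of_not_le_centralizer V h
        exact hv₀1 (hnoreal v₀ hv₀V hv₀real)
      have hKN : ∀ x ∈ pGen 2 G, x ∈ N → x ∈ V := by
        intro x hxK hxN
        have hx' : x ∈ V ⊔ Q := by rw [← hNsup]; exact hxN
        obtain ⟨v, hv, q, hq, rfl⟩ := Subgroup.mem_sup_of_normal_left.mp hx'
        have hqK : q ∈ pGen 2 G := by
          have : q = v⁻¹ * (v * q) := by group
          rw [this]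
          exact Subgroup.mul_mem _ (Subgroup.inv_mem _ (hVK hv)) hxK
        have hq1 : q = 1 := by
          obtain ⟨k, hk⟩ := (IsPGroup.iff_orderOf.mp hQp) ⟨q, hq⟩
          rw [Subgroup.orderOf_mk] at hk
          have h1 : orderOf q ∣ Nat.card (pGen 2 G) := by
            have := orderOf_dvd_natCard (⟨q, hqK⟩ : pGen 2 G)
            rwa [Subgroup.orderOf_mk] at this
          rw [hk] at h1
          rcases Nat.eq_zero_or_pos k with hk0 | hkpos
          · rw [hk0, pow_zero] at hk
            exact orderOf_eq_one_iff.mp hk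
          · exact absurd ((dvd_pow_self p hkpos.ne').trans h1) hpK
        rw [hq1, mul_one]
        exact hv
      apply hcent
      intro q hq v hv
      have hq2 : ∀ t : G, (∃ k : ℕ, orderOf t = 2 ^ k) → t * q = q * t := by
        rintro t ⟨k, hk⟩
        set c := t * q * t⁻¹ * q⁻¹ with hc
        have htK : t ∈ pGen 2 G := mem_pGen_of_orderOf hk
        have hcK : c ∈ pGen 2 G := by
          have : c = t * (q * t⁻¹ * q⁻¹) := by rw [hc]; group
          rw [this]
          exact Subgroup.mul_mem _ htK (hKn.conj_mem _ (Subgroup.inv_mem _ htK) q)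
        have hcN : c ∈ N :=
          Subgroup.mul_mem _ (hNn.conj_mem q (hQN hq) t) (Subgroup.inv_mem _ (hQN hq))
        have hcV : c ∈ V := hKN c hcK hcN
        have htc : Commute t c := (Subgroup.mem_centralizer_iff.mp (hKC htK) c hcV).symm
        have hpow : ∀ m : ℕ, t ^ m * q * (t ^ m)⁻¹ = c ^ m * q := by
          intro m
          induction m with
          | zero => simp
          | succ m ihm =>
            have e1 : t ^ (m + 1) * q * (t ^ (m + 1))⁻¹ = t * (t ^ m * q * (t ^ m)⁻¹) * t⁻¹ := by
              rw [pow_succ']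
              group
            rw [e1, ihm]
            have e2 : t * (c ^ m * q) * t⁻¹ = (t * c ^ m * t⁻¹) * (t * q * t⁻¹ * q⁻¹) * q := by
              group
            rw [e2, ← hc]
            have e3 : t * c ^ m * t⁻¹ = c ^ m := by
              rw [(htc.pow_right m).eq]
              group
            rw [e3, ← pow_succ]
        have hc2 : c ^ (2 ^ k) = 1 := by
          have h1 := hpow (orderOf t)
          rw [pow_orderOf_eq_one, one_mul, inv_one, mul_one, hk] at h1
          exact (mul_eq_right.mp h1.symm)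
        have hc1 : c = 1 := by
          by_contra hne
          obtain ⟨u, huV, hu1, huu⟩ := exists_involution_of_pow_two V k c hcV hc2 hne
          apply hu1
          apply hnoreal u huV
          have : u⁻¹ = u := inv_eq_of_mul_eq_one_left huu
          rw [this]
        calc t * q = (t * q * t⁻¹ * q⁻¹) * (q * t) := by group
          _ = q * t := by rw [← hc, hc1, one_mul]
      have hqK : ∀ x ∈ pGen 2 G, x * q = q * x := by
        intro x hx
        unfold pGen at hx
        induction hx using Subgroup.closure_induction with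
        | mem x hx => exact hq2 x hx
        | one => simp
        | mul x y _ _ hx hy => rw [mul_assoc, hy, ← mul_assoc, hx, mul_assoc]
        | inv x _ hx =>
          calc x⁻¹ * q = x⁻¹ * (q * x) * x⁻¹ := by group
            _ = x⁻¹ * (x * q) * x⁻¹ := by rw [hx]
            _ = q * x⁻¹ := by group
      exact (hqK v (hVK hv)).symm

end Cfsg.Agent.Lib.helper79
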