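import Mathlib
import Cfsg.Prelude.Def_Characters
import Cfsg.Prelude.Def_Blocks
import Cfsg.Agent.Lib.helper79.RealDegD
import Cfsg.Agent.Lib.helper83.RealNormA
import Cfsg.Agent.Lib.helper84.Brauer
import Cfsg.Agent.Lib.helper78.FrobSchur2
import Cfsg.Agent.Lib.helper83.FrobSchur

/-!
# Real characters over a normal subgroup of odd index (helper79), part E

`M` a normal subgroup of the finite group `H` containing all `2`-elements (so `|H : M|` is odd).

* `exists_real_under` : a real-valued irreducible character of `H` lies over a real-valued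
  irreducible character of `M`.
* `real_over_unique` : over a real-valued irreducible character of `M` lies exactly one
  real-valued irreducible character of `H` (existence is `helper83.RealNorm.exists_real_over`).
* `real_over_mult_one`, `real_over_degree` : the multiplicity is one, and so
  `χ 1 = |H : I_H(θ)| θ 1`.
-/

set_option autoImplicit false
set_option linter.style.haveILetI false
set_option linter.unusedSectionVars false

namespace Cfsg.Agent.Lib.helper79

open Cfsg
open Cfsg.Agent.Lib Cfsg.Agent.Lib.helper83 Cfsg.Agent.Lib.helper82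
open Cfsg.Agent.Lib.helper83.RealNorm
open scoped ComplexConjugate

universe u

section Under

variable {H : Type u} [Group H] [Fintype H] (M : Subgroup H) [hM : M.Normal] [Fintype M]

/-- Linearity of the inner product in the first variable, for finite combinations. -/
theorem classInner_sum_mul_left {ι : Type*} [Fintype ι] (c : ι → ℂ) (P : ι → M → ℂ)
    (ψ : M → ℂ) :
    classInner (fun g => ∑ i, c i * P i g) ψ = ∑ i, c i * classInner (P i) ψ := by
  simp only [classInner_def, Finset.sum_mul, Finset.mul_sum]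
  rw [Finset.sum_comm]
  refine Finset.sum_congr rfl fun i _ => ?_
  refine Finset.sum_congr rfl fun g _ => ?_
  ring

/-- The multiplicity of the complex conjugate character in a real-valued function. -/
theorem classInner_starIrr_of_real (f : M → ℂ) (hf : ∀ m, (f m).im = 0) (φ : IrrCharacter M) :
    classInner f (starIrr φ : M → ℂ) = conj (classInner f (φ : M → ℂ)) := by
  rw [classInner_def, classInner_def, map_mul, map_inv₀, Complex.conj_natCast, map_sum]
  congr 1
  refine Finset.sum_congr rfl fun m _ => ?_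
  rw [map_mul, starIrr_apply, Complex.conj_conj, Complex.conj_eq_iff_im.mpr (hf m)]

/-- A real-valued irreducible character of `H` lies over a real-valued irreducible character of
the normal subgroup `M` of odd index. -/
theorem exists_real_under (hodd : Odd M.index) (χ : IrrCharacter H)
    (hχ : ∀ g, ((χ : H → ℂ) g).im = 0) :
    ∃ θ : IrrCharacter M, (∀ m, ((θ : M → ℂ) m).im = 0) ∧
      classInner (fun n : M => (χ : H → ℂ) n) (θ : M → ℂ) ≠ 0 := by
  classical
  letI : Fintype (IrrCharacter M) := Fintype.ofFinite _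
  have hres : IsCharacter M (fun n : M => (χ : H → ℂ) n) :=
    helper84.isCharacter_restrict M (isCharacter_of_irr χ.2)
  obtain ⟨Nm, hN, hNg, hN1⟩ := exists_nat_decomp hres
  have hex : ∃ θ₀ : IrrCharacter M, Nm θ₀ ≠ 0 := by
    by_contra hcon
    simp only [not_exists, not_not] at hcon
    have h1 : (χ : H → ℂ) 1 = 0 := by
      have h2 := hNg 1
      simp only [hcon, Nat.cast_zero, zero_mul, Finset.sum_const_zero] at h2
      exact h2
    exact irr_one_ne_zero χ h1
  obtain ⟨θ₀, hθ₀⟩ := hex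
  have hc₀ : classInner (fun n : M => (χ : H → ℂ) n) (θ₀ : M → ℂ) ≠ 0 := by
    rw [hN θ₀]; exact_mod_cast hθ₀
  have hcf : IsClassFunction H (χ : H → ℂ) := isClassFunction_irr χ
  have hset : (Finset.univ.filter fun φ : IrrCharacter M =>
      classInner (fun n : M => (χ : H → ℂ) n) (φ : M → ℂ) ≠ 0) = conjOrbit M (θ₀ : M → ℂ) := by
    ext φ
    rw [Finset.mem_filter, mem_conjOrbit]
    constructor
    · rintro ⟨-, hφ⟩
      exact clifford_conj M χ.2 θ₀.2 φ.2 hc₀ hφ
    · rintro ⟨x, hx⟩
      refine ⟨Finset.mem_univ _, ?_⟩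
      rw [hx, classInner_restrict_cconj M hcf]
      exact hc₀
  have hcard : Odd (conjOrbit M (θ₀ : M → ℂ)).card := by
    rw [card_conjOrbit M θ₀.2]
    have hdvd : (inertia M (θ₀ : M → ℂ)).index ∣ M.index :=
      Subgroup.index_dvd_of_le (le_inertia M (isClassFunction_irr θ₀))
    exact Odd.of_dvd_nat hodd hdvd
  obtain ⟨θ, hfix, hoddθ⟩ := exists_fixed_odd (fun φ : IrrCharacter M => starIrr φ)
    (fun φ => starIrr_starIrr φ)
    (fun φ => if classInner (fun n : M => (χ : H → ℂ) n) (φ : M → ℂ) ≠ 0 then 1 else 0)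
    (fun φ => by
      have h := classInner_starIrr_of_real M (fun n : M => (χ : H → ℂ) n) (fun m => hχ m) φ
      by_cases h0 : classInner (fun n : M => (χ : H → ℂ) n) (φ : M → ℂ) = 0
      · have h1 : classInner (fun n : M => (χ : H → ℂ) n) (starIrr φ : M → ℂ) = 0 := by
          rw [h, h0, map_zero]
        simp [h1, h0]
      · have h1 : classInner (fun n : M => (χ : H → ℂ) n) (starIrr φ : M → ℂ) ≠ 0 := by
          rw [h]; exact (map_ne_zero _).mpr h0
        simp [h1, h0])
    (by
      rw [Finset.sum_boole, hset]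
      exact_mod_cast hcard)
  refine ⟨θ, (starIrr_eq_iff θ).mp hfix, ?_⟩
  intro h0
  rw [if_neg (not_not.mpr h0)] at hoddθ
  exact absurd hoddθ (by decide)

end Under

section Actions

variable {H : Type u} [Group H] (M : Subgroup H) [hM : M.Normal]

/-- The conjugation action of `H` on the real-valued irreducible characters of `M`. -/
@[instance_reducible]
noncomputable def realIrrAction : MulAction H (RealIrr M) where
  smul h θ := ⟨⟨cconj M h θ.1.1, isIrrCharacter_cconj M h θ.1.2⟩, fun _ => θ.2 _⟩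
  one_smul θ := Subtype.ext (Subtype.ext (cconj_one M θ.1.1))
  mul_smul g h θ := Subtype.ext (Subtype.ext (cconj_mul M g h θ.1.1))

/-- The conjugation action of `H` on the real classes of `M`. -/
@[instance_reducible]
noncomputable def realClAction : MulAction H (RealCl M) where
  smul h C := realClMap (MulAut.conjNormal h : M ≃* M).toMonoidHom C
  one_smul C := by
    obtain ⟨m, hm, rfl⟩ := exists_realClMk C
    apply Subtype.ext
    show ConjClasses.mk ((MulAut.conjNormal (1 : H) : M ≃* M) m) = ConjClasses.mk m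
    rw [map_one]; rfl
  mul_smul g h C := by
    obtain ⟨m, hm, rfl⟩ := exists_realClMk C
    apply Subtype.ext
    show ConjClasses.mk ((MulAut.conjNormal (g * h) : M ≃* M) m) =
      ConjClasses.mk ((MulAut.conjNormal g : M ≃* M) ((MulAut.conjNormal h : M ≃* M) m))
    rw [map_mul]; rfl

attribute [local instance] realIrrAction realClAction

theorem realIrr_smul_eq_iff (h : H) (θ : RealIrr M) :
    h • θ = θ ↔ cconj M h (θ.1 : M → ℂ) = (θ.1 : M → ℂ) := by
  constructor
  · intro e
    exact congrArg (fun x : RealIrr M => (x.1 : M → ℂ)) e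
  · intro e
    exact Subtype.ext (Subtype.ext e)

theorem conjNormal_conjNormal_inv (h : H) (m : M) :
    (MulAut.conjNormal h : M ≃* M) ((MulAut.conjNormal h⁻¹ : M ≃* M) m) = m := by
  rw [← MulAut.mul_apply, ← map_mul, mul_inv_cancel, map_one, MulAut.one_apply]

/-- Real elements of `H` lying in `M` are real in `M`, when `M` contains the `2`-elements. -/
theorem real_in_of_real [Finite H] (hKM : pGen 2 H ≤ M) (m : M)
    (hm : IsConj (m : H) (m : H)⁻¹) : IsConj m m⁻¹ := by
  obtain ⟨t, ⟨k, hk⟩, ht⟩ := exists_two_elt_inverting hm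
  have htM : t ∈ M := hKM (mem_pGen_of_orderOf hk)
  refine isConj_iff.mpr ⟨⟨t, htM⟩, ?_⟩
  apply Subtype.ext
  simpa using ht

/-- The twisted fixed-point condition on characters: `conj (θ^h) = θ` iff `θ` is real-valued and
`h`-invariant. -/
theorem twist_fixed_iff [Finite H] (hodd : Odd M.index) (h : H) (θ : IrrCharacter M) :
    (∀ m : M, conj ((θ : M → ℂ) (MulAut.conjNormal h⁻¹ m)) = (θ : M → ℂ) m) ↔
      ((∀ m, ((θ : M → ℂ) m).im = 0) ∧ cconj M h (θ : M → ℂ) = (θ : M → ℂ)) := by
  constructor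
  · intro hT
    have hc : ∀ x : M, cconj M h (θ : M → ℂ) x = conj ((θ : M → ℂ) x) := by
      intro x
      have h1 := congrArg conj (hT x)
      rw [Complex.conj_conj] at h1
      exact h1
    have h2 : cconj M (h * h) (θ : M → ℂ) = (θ : M → ℂ) := by
      funext m
      rw [cconj_mul, cconj_def, hc]
      exact hT m
    have hpow : ∀ j : ℕ, cconj M ((h * h) ^ j) (θ : M → ℂ) = (θ : M → ℂ) := by
      intro j
      induction j with
      | zero => rw [pow_zero, cconj_one]
      | succ j ih => rw [pow_succ, cconj_mul, h2, ih]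
    obtain ⟨k, hk⟩ := hodd
    have hmem : h ^ M.index ∈ M := Subgroup.pow_index_mem M h
    have h3 : (h * h) ^ (k + 1) = h ^ M.index * h := by
      have h6 : 2 * (k + 1) = 2 * k + 1 + 1 := by ring
      rw [hk, ← pow_two, ← pow_mul, ← pow_succ, h6]
    have h4 := hpow (k + 1)
    rw [h3, cconj_mul,
      cconj_of_mem M (isClassFunction_cconj M h (isClassFunction_irr θ)) hmem] at h4
    refine ⟨fun m => ?_, h4⟩
    have h5 := hc m
    rw [h4] at h5
    exact Complex.conj_eq_iff_im.mp h5.symm
  · rintro ⟨hre, hinv⟩ m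
    have h1 : (θ : M → ℂ) (MulAut.conjNormal h⁻¹ m) = (θ : M → ℂ) m := congrFun hinv m
    rw [h1]
    exact Complex.conj_eq_iff_im.mpr (hre m)

/-- The twisted fixed-point condition on classes. -/
theorem twist_class_iff [Finite H] (hKM : pGen 2 H ≤ M) (h : H) (m : M) :
    ((∀ g : M, ConjClasses.mk g = ConjClasses.mk m → IsConj g g⁻¹) ∧
      ConjClasses.map (MulAut.conjNormal h : M ≃* M).toMonoidHom (ConjClasses.mk m) =
        ConjClasses.mk m) ↔
    IsConj m ((MulAut.conjNormal h⁻¹ m : M)⁻¹) := by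
  constructor
  · rintro ⟨hr, hfix⟩
    have hreal : IsConj m m⁻¹ := hr m rfl
    have h1 : IsConj ((MulAut.conjNormal h : M ≃* M) m) m :=
      ConjClasses.mk_eq_mk_iff_isConj.mp hfix
    have h2 := (MulAut.conjNormal h⁻¹ : M ≃* M).toMonoidHom.map_isConj h1
    have h3 : (MulAut.conjNormal h⁻¹ : M ≃* M).toMonoidHom ((MulAut.conjNormal h : M ≃* M) m)
        = m := by
      have := conjNormal_conjNormal_inv M h⁻¹ m
      rw [inv_inv] at this
      exact this
    rw [h3] at h2
    exact hreal.trans (isConj_inv_of_isConj h2)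
  · intro hc
    have hH : IsConj (m : H) (m : H)⁻¹ := by
      obtain ⟨k, hk⟩ := isConj_iff.mp hc
      have hk' := congrArg (Subtype.val : M → H) hk
      rw [Subgroup.coe_mul, Subgroup.coe_mul, Subgroup.coe_inv, Subgroup.coe_inv,
        MulAut.conjNormal_apply, inv_inv] at hk'
      refine isConj_iff.mpr ⟨h * k, ?_⟩
      have h5 : h * (k : H) * (m : H) * (h * (k : H))⁻¹ =
          h * ((k : H) * (m : H) * (k : H)⁻¹) * h⁻¹ := by group
      rw [h5, hk']
      group
    have hreal : IsConj m m⁻¹ := real_in_of_real M hKM m hH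
    refine ⟨(realClMk m hreal).2, ?_⟩
    have h1 : IsConj m⁻¹ ((MulAut.conjNormal h⁻¹ : M ≃* M) m) := by
      have := isConj_inv_of_isConj hc
      rwa [inv_inv] at this
    have h2 : IsConj m ((MulAut.conjNormal h⁻¹ : M ≃* M) m) := hreal.trans h1
    have h3 := (MulAut.conjNormal h : M ≃* M).toMonoidHom.map_isConj h2
    have h4 : (MulAut.conjNormal h : M ≃* M).toMonoidHom ((MulAut.conjNormal h⁻¹ : M ≃* M) m)
        = m := conjNormal_conjNormal_inv M h m
    rw [h4] at h3
    exact ConjClasses.mk_eq_mk_iff_isConj.mpr h3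

/-- Brauer's permutation lemma for the twisted action: an element of `H` fixes equally many
real-valued irreducible characters and real classes of `M`. -/
theorem card_fixed_eq [Finite H] (hKM : pGen 2 H ≤ M) (h : H) :
    Nat.card (MulAction.fixedBy (RealIrr M) h) = Nat.card (MulAction.fixedBy (RealCl M) h) := by
  classical
  letI : Fintype H := Fintype.ofFinite H
  letI : Fintype M := Fintype.ofFinite M
  have hodd := odd_index_of_pGen_two_le M hKM
  obtain ⟨τ, hτ⟩ : ∃ τ : M → M, τ = fun m => (MulAut.conjNormal h⁻¹ m : M)⁻¹ := ⟨_, rfl⟩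
  obtain ⟨T, hTdef⟩ : ∃ T : IrrCharacter M → IrrCharacter M,
      T = fun θ => starIrr ⟨cconj M h θ.1, isIrrCharacter_cconj M h θ.2⟩ := ⟨_, rfl⟩
  have hTval : ∀ (θ : IrrCharacter M) (m : M),
      (T θ : M → ℂ) m = conj ((θ : M → ℂ) (MulAut.conjNormal h⁻¹ m)) := by
    intro θ m
    subst hTdef
    exact starIrr_apply _ m
  have hT : ∀ (θ : IrrCharacter M) (m : M), (T θ : M → ℂ) m = (θ : M → ℂ) (τ m) := by
    intro θ m
    rw [hTval, hτ, ← irr_inv θ]
  obtain ⟨P, hPdef⟩ : ∃ P : ConjClasses M → Prop, P = fun K =>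
      (∀ g : M, ConjClasses.mk g = K → IsConj g g⁻¹) ∧
        ConjClasses.map (MulAut.conjNormal h : M ≃* M).toMonoidHom K = K := ⟨_, rfl⟩
  have hP : ∀ m : M, P (ConjClasses.mk m) ↔ IsConj m (τ m) := by
    intro m
    rw [hPdef, hτ]
    exact twist_class_iff M hKM h m
  have key := helper84.card_irr_fixed_eq τ T hT P hP
  subst hPdef
  have hTfix : ∀ θ : IrrCharacter M, T θ = θ ↔
      ((∀ m, ((θ : M → ℂ) m).im = 0) ∧ cconj M h (θ : M → ℂ) = (θ : M → ℂ)) := by
    intro θ
    rw [← twist_fixed_iff M hodd h θ]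
    constructor
    · intro e m
      rw [← hTval, e]
    · intro e
      apply Subtype.ext
      funext m
      rw [hTval, e]
  have e1 : Nat.card (MulAction.fixedBy (RealIrr M) h) =
      Nat.card {θ : IrrCharacter M // T θ = θ} := by
    apply Nat.card_congr
    exact
      { toFun := fun x => ⟨x.1.1, (hTfix _).mpr
          ⟨x.1.2, (realIrr_smul_eq_iff M h x.1).mp (MulAction.mem_fixedBy.mp x.2)⟩⟩
        invFun := fun y => ⟨⟨y.1, ((hTfix y.1).mp y.2).1⟩,
          MulAction.mem_fixedBy.mpr
            ((realIrr_smul_eq_iff M h ⟨y.1, ((hTfix y.1).mp y.2).1⟩).mpr ((hTfix y.1).mp y.2).2)⟩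
        left_inv := fun x => Subtype.ext (Subtype.ext rfl)
        right_inv := fun y => Subtype.ext rfl }
  have e2 : Nat.card (MulAction.fixedBy (RealCl M) h) = Nat.card {K : ConjClasses M //
      (∀ g : M, ConjClasses.mk g = K → IsConj g g⁻¹) ∧
        ConjClasses.map (MulAut.conjNormal h : M ≃* M).toMonoidHom K = K} := by
    apply Nat.card_congr
    exact
      { toFun := fun x => ⟨x.1.1,
          ⟨x.1.2, congrArg Subtype.val (MulAction.mem_fixedBy.mp x.2)⟩⟩
        invFun := fun y => ⟨⟨y.1, y.2.1⟩,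
          MulAction.mem_fixedBy.mpr (Subtype.ext y.2.2)⟩
        left_inv := fun x => Subtype.ext (Subtype.ext rfl)
        right_inv := fun y => Subtype.ext rfl }
  rw [e1, e2]
  exact key

/-- `H` has equally many orbits on the real-valued irreducible characters and on the real
classes of `M`. -/
theorem card_orbits_eq [Finite H] (hKM : pGen 2 H ≤ M) :
    Nat.card (MulAction.orbitRel.Quotient H (RealIrr M)) =
      Nat.card (MulAction.orbitRel.Quotient H (RealCl M)) := by
  classical
  letI : Fintype H := Fintype.ofFinite H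
  letI : Fintype (MulAction.orbitRel.Quotient H (RealIrr M)) := Fintype.ofFinite _
  letI : Fintype (MulAction.orbitRel.Quotient H (RealCl M)) := Fintype.ofFinite _
  letI : ∀ g : H, Fintype (MulAction.fixedBy (RealIrr M) g) := fun g => Fintype.ofFinite _
  letI : ∀ g : H, Fintype (MulAction.fixedBy (RealCl M) g) := fun g => Fintype.ofFinite _
  have h1 := MulAction.sum_card_fixedBy_eq_card_orbits_mul_card_group H (RealIrr M)
  have h2 := MulAction.sum_card_fixedBy_eq_card_orbits_mul_card_group H (RealCl M)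
  have h3 : ∑ g : H, Fintype.card (MulAction.fixedBy (RealIrr M) g) =
      ∑ g : H, Fintype.card (MulAction.fixedBy (RealCl M) g) := by
    refine Finset.sum_congr rfl fun g _ => ?_
    rw [← Nat.card_eq_fintype_card, ← Nat.card_eq_fintype_card]
    exact card_fixed_eq M hKM g
  rw [h1, h2] at h3
  have h4 := Nat.eq_of_mul_eq_mul_right Fintype.card_pos h3
  rw [Nat.card_eq_fintype_card, Nat.card_eq_fintype_card]
  exact h4

/-- The orbits of `H` on the real classes of `M` correspond to the real classes of `H`. -/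
theorem card_orbits_realCl [Finite H] (hKM : pGen 2 H ≤ M) :
    Nat.card (MulAction.orbitRel.Quotient H (RealCl M)) = Nat.card (RealCl H) := by
  classical
  have hwd : ∀ a b : RealCl M, (MulAction.orbitRel H (RealCl M)) a b →
      realClMap M.subtype a = realClMap M.subtype b := by
    intro a b hab
    obtain ⟨g, rfl⟩ := hab
    obtain ⟨m, hm, rfl⟩ := exists_realClMk b
    apply Subtype.ext
    show ConjClasses.mk (((MulAut.conjNormal g : M ≃* M) m : M) : H) = ConjClasses.mk (m : H)
    rw [ConjClasses.mk_eq_mk_iff_isConj, MulAut.conjNormal_apply]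
    exact (isConj_iff.mpr ⟨g, rfl⟩).symm
  apply Nat.card_eq_of_bijective (Quotient.lift (realClMap M.subtype) hwd)
  constructor
  · intro a b hab
    induction a using Quotient.inductionOn with
    | _ a =>
    induction b using Quotient.inductionOn with
    | _ b =>
    obtain ⟨m₁, hm₁, rfl⟩ := exists_realClMk a
    obtain ⟨m₂, hm₂, rfl⟩ := exists_realClMk b
    have h1 : realClMap M.subtype (realClMk m₁ hm₁) = realClMap M.subtype (realClMk m₂ hm₂) :=
      hab
    have h2 : ConjClasses.mk (m₁ : H) = ConjClasses.mk (m₂ : H) := congrArg Subtype.val h1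
    rw [ConjClasses.mk_eq_mk_iff_isConj] at h2
    obtain ⟨g, hg⟩ := isConj_iff.mp h2
    apply Quotient.sound
    refine ⟨g⁻¹, ?_⟩
    apply Subtype.ext
    show ConjClasses.mk ((MulAut.conjNormal g⁻¹ : M ≃* M) m₂) = ConjClasses.mk m₁
    congr 1
    apply Subtype.ext
    rw [MulAut.conjNormal_apply, ← hg]
    group
  · intro K
    obtain ⟨y, hy, rfl⟩ := exists_realClMk K
    have hyM : y ∈ M := hKM (real_mem_pGen_two hy)
    have hyr : IsConj (⟨y, hyM⟩ : M) (⟨y, hyM⟩ : M)⁻¹ := real_in_of_real M hKM ⟨y, hyM⟩ hy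
    exact ⟨Quotient.mk _ (realClMk ⟨y, hyM⟩ hyr), Subtype.ext rfl⟩

/-- **Uniqueness**: over a real-valued irreducible character of `M` lies at most one
real-valued irreducible character of `H`. -/
theorem real_over_unique [Fintype H] [Fintype M] (hKM : pGen 2 H ≤ M) (χ₁ χ₂ : IrrCharacter H)
    (h₁ : ∀ g, ((χ₁ : H → ℂ) g).im = 0) (h₂ : ∀ g, ((χ₂ : H → ℂ) g).im = 0)
    (θ : IrrCharacter M) (hθ : ∀ m, ((θ : M → ℂ) m).im = 0)
    (hc₁ : classInner (fun n : M => (χ₁ : H → ℂ) n) (θ : M → ℂ) ≠ 0)
    (hc₂ : classInner (fun n : M => (χ₂ : H → ℂ) n) (θ : M → ℂ) ≠ 0) : χ₁ = χ₂ := by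
  classical
  have hodd := odd_index_of_pGen_two_le M hKM
  have hex : ∀ χ : RealIrr H, ∃ φ : RealIrr M,
      classInner (fun n : M => (χ.1 : H → ℂ) n) (φ.1 : M → ℂ) ≠ 0 := by
    intro χ
    obtain ⟨φ, hφ, hc⟩ := exists_real_under M hodd χ.1 χ.2
    exact ⟨⟨φ, hφ⟩, hc⟩
  choose F hF using hex
  obtain ⟨Φ, hΦdef⟩ : ∃ Φ : RealIrr H → MulAction.orbitRel.Quotient H (RealIrr M),
      Φ = fun χ => Quotient.mk _ (F χ) := ⟨_, rfl⟩
  have hΦ : ∀ (χ : RealIrr H) (φ : RealIrr M),
      classInner (fun n : M => (χ.1 : H → ℂ) n) (φ.1 : M → ℂ) ≠ 0 →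
      Φ χ = Quotient.mk _ φ := by
    intro χ φ hc
    obtain ⟨x, hx⟩ := clifford_conj M χ.1.2 φ.1.2 (F χ).1.2 hc (hF χ)
    rw [hΦdef]
    apply Quotient.sound
    exact ⟨x, Subtype.ext (Subtype.ext hx.symm)⟩
  have hsurj : Function.Surjective Φ := by
    intro q
    induction q using Quotient.inductionOn with
    | _ φ =>
      obtain ⟨χ, hχ, e, he0, he, -⟩ := exists_real_over M hodd φ.1 φ.2
      refine ⟨⟨χ, hχ⟩, hΦ ⟨χ, hχ⟩ φ ?_⟩
      rw [he]
      exact_mod_cast he0
  have hcard : Nat.card (RealIrr H) = Nat.card (MulAction.orbitRel.Quotient H (RealIrr M)) := by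
    rw [card_realIrr_eq_card_realCl, card_orbits_eq M hKM, card_orbits_realCl M hKM]
  have hinj : Function.Injective Φ :=
    ((Nat.bijective_iff_surjective_and_card Φ).mpr ⟨hsurj, hcard⟩).1
  have e1 := hΦ ⟨χ₁, h₁⟩ ⟨θ, hθ⟩ hc₁
  have e2 := hΦ ⟨χ₂, h₂⟩ ⟨θ, hθ⟩ hc₂
  have h3 := hinj (e1.trans e2.symm)
  exact congrArg Subtype.val h3

/-- An element of `H` whose square lies in `M` lies in `M` (odd index). -/
theorem mem_of_sq_mem [Finite H] (hodd : Odd M.index) (u : H) (hu : u * u ∈ M) : u ∈ M := by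
  have h1 : ((u : H ⧸ M)) ^ 2 = 1 := by
    rw [← QuotientGroup.mk_pow, pow_two]
    exact (QuotientGroup.eq_one_iff _).mpr hu
  have h2 : ((u : H ⧸ M)) ^ M.index = 1 := by
    rw [← QuotientGroup.mk_pow]
    exact (QuotientGroup.eq_one_iff _).mpr (Subgroup.pow_index_mem M u)
  have h3 := pow_gcd_eq_one.mpr ⟨h1, h2⟩
  have hg : Nat.gcd 2 M.index = 1 := Nat.coprime_two_left.mpr hodd
  rw [hg, pow_one] at h3
  exact (QuotientGroup.eq_one_iff u).mp h3

/-- **Multiplicity one**: a real-valued irreducible character of `H` over a real-valued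
irreducible character `θ` of `M` contains `θ` exactly once. -/
theorem real_over_mult_one [Fintype H] [Fintype M] (hKM : pGen 2 H ≤ M) (χ : IrrCharacter H)
    (hχ : ∀ g, ((χ : H → ℂ) g).im = 0) (θ : IrrCharacter M)
    (hθ : ∀ m, ((θ : M → ℂ) m).im = 0)
    (hc : classInner (fun n : M => (χ : H → ℂ) n) (θ : M → ℂ) ≠ 0) :
    classInner (fun n : M => (χ : H → ℂ) n) (θ : M → ℂ) = 1 := by
  classical
  letI : Fintype (IrrCharacter H) := Fintype.ofFinite _
  letI : Fintype (IrrCharacter M) := Fintype.ofFinite _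
  have hodd := odd_index_of_pGen_two_le M hKM
  have hsq : ∀ m : M, Nat.card {u : H // u * u = (m : H)} = Nat.card {u : M // u * u = m} := by
    intro m
    symm
    apply Nat.card_congr
    exact
      { toFun := fun u => ⟨(u.1 : H), by rw [← Subgroup.coe_mul, u.2]⟩
        invFun := fun u => ⟨⟨u.1, mem_of_sq_mem M hodd u.1 (by rw [u.2]; exact m.2)⟩,
          Subtype.ext u.2⟩
        left_inv := fun u => Subtype.ext (Subtype.ext rfl)
        right_inv := fun u => Subtype.ext rfl }
  obtain ⟨cH, hcH⟩ : ∃ cH : IrrCharacter H → ℂ, cH = fun ψ : IrrCharacter H =>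
      (Nat.card H : ℂ)⁻¹ * ∑ u : H, conj ((ψ : H → ℂ) (u * u)) := ⟨_, rfl⟩
  obtain ⟨cM, hcM⟩ : ∃ cM : IrrCharacter M → ℂ, cM = fun φ : IrrCharacter M =>
      (Nat.card M : ℂ)⁻¹ * ∑ u : M, conj ((φ : M → ℂ) (u * u)) := ⟨_, rfl⟩
  have hid : ∀ m : M, ∑ ψ : IrrCharacter H, cH ψ * (ψ : H → ℂ) m =
      ∑ φ : IrrCharacter M, cM φ * (φ : M → ℂ) m := by
    intro m
    rw [hcH, hcM]
    rw [← card_sqrt_eq_sum (m : H), ← card_sqrt_eq_sum m, hsq m]
  have hL : classInner (fun m : M => ∑ ψ : IrrCharacter H, cH ψ * (ψ : H → ℂ) m) (θ : M → ℂ) =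
      ∑ ψ : IrrCharacter H, cH ψ * classInner (fun m : M => (ψ : H → ℂ) m) (θ : M → ℂ) :=
    classInner_sum_mul_left M cH (fun ψ (m : M) => (ψ : H → ℂ) m) _
  have hR : classInner (fun m : M => ∑ φ : IrrCharacter M, cM φ * (φ : M → ℂ) m) (θ : M → ℂ) =
      cM θ := by
    rw [classInner_sum_mul_left M cM (fun φ => (φ : M → ℂ))]
    rw [Finset.sum_eq_single θ]
    · rw [classInner_irr, if_pos rfl, mul_one]
    · intro φ _ hne
      rw [classInner_irr, if_neg hne, mul_zero]
    · intro h
      exact absurd (Finset.mem_univ _) h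
  have hfun : (fun m : M => ∑ ψ : IrrCharacter H, cH ψ * (ψ : H → ℂ) m) =
      (fun m : M => ∑ φ : IrrCharacter M, cM φ * (φ : M → ℂ) m) := funext hid
  have hmain : ∑ ψ : IrrCharacter H, cH ψ * classInner (fun m : M => (ψ : H → ℂ) m) (θ : M → ℂ)
      = cM θ := by
    rw [← hL, hfun, hR]
  have hcHval : ∀ ψ : IrrCharacter H,
      cH ψ = conj ((Nat.card H : ℂ)⁻¹ * ∑ s : H, (ψ : H → ℂ) (s * s)) := by
    intro ψ
    rw [hcH, map_mul, map_inv₀, Complex.conj_natCast, map_sum]
  rw [Finset.sum_eq_single χ] at hmain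
  rotate_left
  · intro ψ _ hne
    by_cases hψ : ∀ g, ((ψ : H → ℂ) g).im = 0
    · have h0 : classInner (fun m : M => (ψ : H → ℂ) m) (θ : M → ℂ) = 0 := by
        by_contra h0
        exact hne (real_over_unique M hKM ψ χ hψ hχ θ hθ h0 hc)
      rw [h0, mul_zero]
    · have h0 : cH ψ = 0 := by
        obtain ⟨e, he, hval, hre⟩ := helper78.irr_fs_indicator ψ
        have he0 : e = 0 := by
          by_contra h
          exact hψ (hre h)
        rw [hcHval, hval, he0]
        simp
      rw [h0, zero_mul]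
  · intro h
    exact absurd (Finset.mem_univ _) h
  obtain ⟨n, hn⟩ := helper4.exists_nat_classInner_irr
    (helper84.isCharacter_restrict M (isCharacter_of_irr χ.2)) θ.2
  obtain ⟨e, he, hval, -⟩ := helper78.irr_fs_indicator χ
  obtain ⟨k, ρ, hρ, hρθ⟩ := θ.2
  have hrealρ : ∀ g : M, conj (ρ.character g) = ρ.character g := by
    intro g
    rw [hρθ]
    exact Complex.conj_eq_iff_im.mpr (hθ g)
  obtain ⟨-, hpm, -⟩ := helper78.fs_of_real ρ hρ hrealρ
  have hcMθ : cM θ = 1 ∨ cM θ = -1 := by
    have h5 : cM θ = conj ((Nat.card M : ℂ)⁻¹ * ∑ g : M, ρ.character (g * g)) := by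
      rw [hcM, hρθ, map_mul, map_inv₀, Complex.conj_natCast, map_sum]
    rcases hpm with h | h
    · left
      rw [h5, h, map_one]
    · right
      rw [h5, h, map_neg, map_one]
  have hcHχ : cH χ = (e : ℂ) := by
    rw [hcHval, hval]
    simp
  rw [hcHχ, hn] at hmain
  have hint : (e * (n : ℤ) = 1) ∨ (e * (n : ℤ) = -1) := by
    rcases hcMθ with h | h
    · left
      rw [h] at hmain
      exact_mod_cast hmain
    · right
      rw [h] at hmain
      exact_mod_cast hmain
  have hdvd : (n : ℤ) ∣ 1 := by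
    rcases hint with h | h
    · exact ⟨e, by rw [← h]; ring⟩
    · exact ⟨-e, by linarith⟩
  have hn1 : n = 1 := Nat.dvd_one.mp (by exact_mod_cast hdvd)
  rw [hn, hn1]
  simp

/-- The degree of the real-valued irreducible character of `H` over a real-valued irreducible
character `θ` of `M` is `|H : I_H(θ)| θ(1)`. -/
theorem real_over_degree [Fintype H] [Fintype M] (hKM : pGen 2 H ≤ M) (χ : IrrCharacter H)
    (hχ : ∀ g, ((χ : H → ℂ) g).im = 0) (θ : IrrCharacter M)
    (hθ : ∀ m, ((θ : M → ℂ) m).im = 0)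
    (hc : classInner (fun n : M => (χ : H → ℂ) n) (θ : M → ℂ) ≠ 0) :
    charDegree (χ : H → ℂ) = (inertia M (θ : M → ℂ)).index * charDegree (θ : M → ℂ) := by
  classical
  letI : Fintype (IrrCharacter M) := Fintype.ofFinite _
  have h1 := real_over_mult_one M hKM χ hχ θ hθ hc
  have h2 := clifford_degree M χ.2 θ.2 1 (by rw [h1]; simp) one_ne_zero
  rw [irr_one_eq_charDegree χ, irr_one_eq_charDegree θ] at h2
  have h3 : (charDegree (χ : H → ℂ) : ℂ) =
      (((inertia M (θ : M → ℂ)).index * charDegree (θ : M → ℂ) : ℕ) : ℂ) := by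
    rw [h2]
    push_cast
    ring
  exact_mod_cast h3

end Actions

end Cfsg.Agent.Lib.helper79
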