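import Mathlib
import Cfsg.Prelude.Def_Characters
import Cfsg.Prelude.Def_Blocks
import Cfsg.Agent.Lib.helper79.RealDegE
import Cfsg.Agent.Lib.helper82.RelGlaub7
import Cfsg.Agent.Lib.helper82.CliffordCorr
import Cfsg.Agent.Lib.helper83.RealMcKayGrp

/-!
# Real characters and Sylow normalizers (helper79), part F

Group-theoretic and transport lemmas for the real McKay bijection:

* `exists_conj_mem_of_not_dvd_index` : a `p`-subgroup is conjugate into every subgroup of index
  prime to `p`.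
* `le_of_normal_of_not_dvd_index` : a normal `p`-subgroup lies in every such subgroup.
* `PInv` : invariance of a function on a subgroup under conjugation by a subgroup.
* `nP`, `cP`, `mP` : the normalizer of a Sylow subgroup, its intersection with `K`, and the
  latter as a subgroup of the former.
* `GlaubProp` : the characterising property of a relative Glauberman map.
-/

set_option autoImplicit false
set_option linter.style.haveILetI false
set_option linter.unusedSectionVars false

namespace Cfsg.Agent.Lib.helper79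

open Cfsg
open Cfsg.Agent.Lib Cfsg.Agent.Lib.helper83 Cfsg.Agent.Lib.helper82
open Cfsg.Agent.Lib.helper83.RealNorm
open scoped ComplexConjugate

universe u

section Grp

variable {G : Type u} [Group G]

/-- A `p`-subgroup is conjugate into every subgroup of index prime to `p`. -/
theorem exists_conj_mem_of_not_dvd_index (p : ℕ) [hp : Fact p.Prime] (P T : Subgroup G)
    (hP : IsPGroup p P) (hT : ¬ p ∣ T.index) : ∃ g : G, ∀ x ∈ P, g⁻¹ * x * g ∈ T := by
  have h1 : ¬ p ∣ Nat.card (G ⧸ T) := by rwa [← Subgroup.index_eq_card]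
  obtain ⟨q, hq⟩ := hP.nonempty_fixed_point_of_prime_not_dvd_card (G ⧸ T) h1
  obtain ⟨g, rfl⟩ := QuotientGroup.mk_surjective q
  refine ⟨g, fun x hx => ?_⟩
  have h2 : (⟨x, hx⟩ : P) • (g : G ⧸ T) = (g : G ⧸ T) := hq ⟨x, hx⟩
  have h3 : ((x * g : G) : G ⧸ T) = (g : G ⧸ T) := h2
  rw [QuotientGroup.eq] at h3
  have h4 := T.inv_mem h3
  have h5 : ((x * g)⁻¹ * g)⁻¹ = g⁻¹ * x * g := by group
  rwa [h5] at h4

/-- A normal `p`-subgroup lies in every subgroup of index prime to `p`. -/
theorem le_of_normal_of_not_dvd_index (p : ℕ) [hp : Fact p.Prime] (P T : Subgroup G)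
    [hPn : P.Normal] (hP : IsPGroup p P) (hT : ¬ p ∣ T.index) : P ≤ T := by
  obtain ⟨g, hg⟩ := exists_conj_mem_of_not_dvd_index p P T hP hT
  intro y hy
  have h1 := hg (g * y * g⁻¹) (hPn.conj_mem y hy g)
  have h2 : g⁻¹ * (g * y * g⁻¹) * g = y := by group
  rwa [h2] at h1

/-- Membership is invariant under conjugation by an element of the subgroup. -/
theorem mem_iff_inv_conj_mem (S : Subgroup G) {n : G} (hn : n ∈ S) (c : G) :
    c ∈ S ↔ n⁻¹ * c * n ∈ S := by
  constructor
  · intro h
    exact S.mul_mem (S.mul_mem (S.inv_mem hn) h) hn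
  · intro h
    have h1 := S.mul_mem (S.mul_mem hn h) (S.inv_mem hn)
    have h2 : n * (n⁻¹ * c * n) * n⁻¹ = c := by group
    rwa [h2] at h1

/-- Invariance of a function on a subgroup under conjugation by the elements of `P`. -/
abbrev PInv (P S : Subgroup G) (θ : ↥S → ℂ) : Prop :=
  ∀ x ∈ P, ∀ k k' : ↥S, (k' : G) = x * (k : G) * x⁻¹ → θ k' = θ k

/-- For a normal subgroup, `P`-invariance means that `P` lies in the inertia group. -/
theorem pinv_iff_le_inertia (P K : Subgroup G) [hKn : K.Normal] (θ : ↥K → ℂ) :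
    PInv P K θ ↔ P ≤ inertia K θ := by
  constructor
  · intro h x hx
    rw [mem_inertia_iff]
    intro n
    exact h x hx n _ rfl
  · intro h x hx k k' hk'
    have h1 := (mem_inertia_iff K θ x).mp (h hx) k
    rw [← h1]
    congr 1
    exact Subtype.ext hk'

/-- The normalizer of a Sylow subgroup. -/
abbrev nP {p : ℕ} (P : Sylow p G) : Subgroup G :=
  Subgroup.normalizer ((P : Subgroup G) : Set G)

/-- The intersection of `K` with the normalizer of a Sylow subgroup. -/
abbrev cP {p : ℕ} (K : Subgroup G) (P : Sylow p G) : Subgroup G :=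
  K ⊓ nP P

/-- The subgroup `K ∩ N_G(P)` of `N_G(P)`. -/
abbrev mP {p : ℕ} (K : Subgroup G) (P : Sylow p G) : Subgroup ↥(nP P) :=
  (cP K P).subgroupOf (nP P)

theorem cP_le_nP {p : ℕ} (K : Subgroup G) (P : Sylow p G) : cP K P ≤ nP P := inf_le_right

theorem cP_le {p : ℕ} (K : Subgroup G) (P : Sylow p G) : cP K P ≤ K := inf_le_left

theorem mP_normal {p : ℕ} (K : Subgroup G) [hKn : K.Normal] (P : Sylow p G) :
    (mP K P).Normal := by
  have h : mP K P = K.subgroupOf (nP P) := Subgroup.inf_subgroupOf_right K (nP P)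
  rw [h]
  infer_instance

theorem pGen_two_le_mP {p : ℕ} (K : Subgroup G) (P : Sylow p G) (hK2 : pGen 2 G ≤ K) :
    pGen 2 ↥(nP P) ≤ mP K P := by
  unfold pGen at hK2 ⊢
  rw [Subgroup.closure_le]
  rintro g ⟨k, hk⟩
  show g ∈ mP K P
  rw [Subgroup.mem_subgroupOf]
  refine ⟨hK2 (Subgroup.subset_closure ⟨k, ?_⟩), g.2⟩
  rw [Subgroup.orderOf_coe]
  exact hk

/-- Conjugating a `P`-invariant function by an element of the normalizer of `P` gives a
`P`-invariant function. -/
theorem pinv_cconj {p : ℕ} (K : Subgroup G) [hKn : K.Normal] (P : Sylow p G) (θ : ↥K → ℂ)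
    (hθ : PInv (P : Subgroup G) K θ) (n : G) (hn : n ∈ nP P) :
    PInv (P : Subgroup G) K (cconj K n θ) := by
  rw [pinv_iff_le_inertia] at hθ ⊢
  intro x hx
  rw [mem_inertia, ← cconj_mul]
  have h1 : x * n = n * (n⁻¹ * x * n) := by group
  rw [h1, cconj_mul]
  congr 1
  rw [← mem_inertia]
  apply hθ
  have h2 := (Subgroup.mem_normalizer_iff.mp ((nP P).inv_mem hn) x).mp hx
  rw [inv_inv] at h2
  exact h2

/-- The transport to `C.subgroupOf N` is injective. -/
theorem subRes_injective (C N : Subgroup G) (hCN : C ≤ N) (a b : ↥C → ℂ)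
    (h : subRes C N a = subRes C N b) : a = b := by
  funext c
  exact congrFun h ⟨⟨c, hCN c.2⟩, Subgroup.mem_subgroupOf.mpr c.2⟩

/-- The characterising property of a relative Glauberman map `f`. -/
def GlaubProp (p : ℕ) (P K C : Subgroup G) (hCK : C ≤ K)
    (f : {χ : IrrCharacter ↥K // PInv P K χ} → {ξ : IrrCharacter ↥C // PInv P C ξ}) : Prop :=
  ∀ χ, ∀ ξ : {ξ : IrrCharacter ↥C // PInv P C ξ},
    ∃ m : ℕ, (Nat.card ↥C : ℂ)⁻¹ * ∑ᶠ c : ↥C, (χ.1 : ↥K → ℂ) (Subgroup.inclusion hCK c) *
        (starRingEnd ℂ) ((ξ.1 : ↥C → ℂ) c) = (m : ℂ) ∧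
      (ξ = f χ → ((m : ZMod p) = 1 ∨ (m : ZMod p) = -1)) ∧ (ξ ≠ f χ → p ∣ m)

end Grp

end Cfsg.Agent.Lib.helper79
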