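/-
S5006 piece SHIFT (`shift_sum_zero`): for an irreducible character `χ` vanishing on a
conjugation-invariant set `L`, the shifted sums `∑_{x ∈ L} χ(x g)` vanish.
-/
import Mathlib
import Cfsg.Agent.Lib.helper33.M24BDefs
import Cfsg.Agent.Lib.helper20.PrincipalIdem

set_option autoImplicit false

namespace Cfsg.Agent.Lib.helper79.M24B

open Cfsg Cfsg.Agent.Lib.helper33.M24B
open scoped ComplexConjugate

/-- SHIFT -/
theorem shift_sum_zero {G : Type*} [Group G] [Fintype G] [DecidableEq G] (χ : IrrCharacter G)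
    (L : Finset G) (hL : ∀ g x : G, x ∈ L → g * x * g⁻¹ ∈ L)
    (hvan : ∀ x ∈ L, (χ : G → ℂ) x = 0) (g : G) : ∑ x ∈ L, (χ : G → ℂ) (x * g) = 0 := by
  classical
  have hS : ∀ g x : G, (x * g * x⁻¹ ∈ L) ↔ g ∈ L := by
    intro g x
    constructor
    · intro h
      have := hL x⁻¹ _ h
      rw [inv_inv] at this
      have e : x⁻¹ * (x * g * x⁻¹) * x = g := by group
      rwa [e] at this
    · exact hL x g
  have hcen := Cfsg.Agent.Lib.helper20.isCentralElt_indAlg (fun x : G => x ∈ L) hS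
  have key : ∀ h : G, ∑ x : G, (Cfsg.Agent.Lib.helper20.indAlg (fun x : G => x ∈ L)).coeff x
      * (χ : G → ℂ) (x * h) = ∑ x ∈ L, (χ : G → ℂ) (x * h) := by
    intro h
    rw [← Finset.sum_filter_add_sum_filter_not Finset.univ (fun x : G => x ∈ L)]
    have h1 : ∑ x ∈ Finset.univ.filter (fun x : G => ¬ x ∈ L),
        (Cfsg.Agent.Lib.helper20.indAlg (fun x : G => x ∈ L)).coeff x * (χ : G → ℂ) (x * h) = 0 := by
      refine Finset.sum_eq_zero fun x hx => ?_
      rw [Cfsg.Agent.Lib.helper20.coeff_indAlg, if_neg (Finset.mem_filter.1 hx).2, zero_mul]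
    have h2 : ∑ x ∈ Finset.univ.filter (fun x : G => x ∈ L),
        (Cfsg.Agent.Lib.helper20.indAlg (fun x : G => x ∈ L)).coeff x * (χ : G → ℂ) (x * h)
        = ∑ x ∈ L, (χ : G → ℂ) (x * h) := by
      have e : Finset.univ.filter (fun x : G => x ∈ L) = L := by
        ext x
        simp
      rw [e]
      refine Finset.sum_congr rfl fun x hx => ?_
      rw [Cfsg.Agent.Lib.helper20.coeff_indAlg, if_pos hx, one_mul]
    rw [h1, h2, add_zero]
  have h1 := Cfsg.Agent.Lib.helper20.sum_coeff_mul_irr_shift χ _ hcen 1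
  rw [key 1] at h1
  have h0 : ∑ x ∈ L, (χ : G → ℂ) (x * 1) = 0 := by
    refine Finset.sum_eq_zero fun x hx => ?_
    rw [mul_one]
    exact hvan x hx
  rw [h0] at h1
  have hχ1 : (χ : G → ℂ) 1 ≠ 0 := Cfsg.Agent.Lib.helper81.irr_one_ne_zero χ
  have hω : Cfsg.Agent.Lib.helper20.omega (χ : G → ℂ) (Cfsg.Agent.Lib.helper20.indAlg (fun x : G => x ∈ L)) = 0 := by
    rcases mul_eq_zero.1 h1.symm with h | h
    · exact h
    · exact absurd h hχ1
  have h2 := Cfsg.Agent.Lib.helper20.sum_coeff_mul_irr_shift χ _ hcen g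
  rw [key g, hω, zero_mul] at h2
  exact h2

end Cfsg.Agent.Lib.helper79.M24B
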