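import Mathlib
import Cfsg.Agent.Lib.helper24.SfoDefs

/-!
# S5981, piece OIDX0: a prime `r ≠ p` dividing the index of a subgroup of `SL_n(q)` divides some
`q ^ j - 1` with `1 ≤ j ≤ n`.
-/

set_option autoImplicit false

namespace Cfsg.Agent.Lib.helper24

open Module Matrix Cfsg.Geo

/-- OIDX0 -/
theorem sfo_idx_le {F : Type*} [Field F] [Fintype F] {n : ℕ} (Q : (Fin n → F) → F) (r : ℕ)
    [Fact r.Prime] (hrF : (r : F) ≠ 0)
    (hΩ : r ∣ (quadSimilarityGroup Q).relIndex (specialLinear (Fin n) F)) :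
    ∃ j, 1 ≤ j ∧ j ≤ n ∧ r ∣ Fintype.card F ^ j - 1 := by
  classical
  have hr : r.Prime := Fact.out
  have h1 : r ∣ Nat.card (GL (Fin n) F) :=
    dvd_trans hΩ (dvd_trans (Subgroup.relIndex_dvd_card _ _) (Subgroup.card_subgroup_dvd_card _))
  rw [Matrix.card_GL_field] at h1
  obtain ⟨i, -, hi⟩ := (Prime.dvd_finsetProd_iff (Nat.Prime.prime hr) _).1 h1
  have h2 : Fintype.card F ^ n - Fintype.card F ^ (i : ℕ) =
      Fintype.card F ^ (i : ℕ) * (Fintype.card F ^ (n - i) - 1) := by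
    rw [Nat.mul_sub, mul_one, ← pow_add, Nat.add_sub_cancel' (le_of_lt i.2)]
  rw [h2] at hi
  rcases (Nat.Prime.dvd_mul hr).1 hi with h3 | h3
  · exfalso
    have h4 : r ∣ Fintype.card F := Nat.Prime.dvd_of_dvd_pow hr h3
    apply hrF
    obtain ⟨p, hp⟩ := CharP.exists F
    have := hp
    obtain ⟨k, hpp, hk⟩ := FiniteField.card F p
    rw [hk] at h4
    have h5 : r ∣ p := Nat.Prime.dvd_of_dvd_pow hr h4
    have h6 : r = p := (Nat.prime_dvd_prime_iff_eq hr hpp).1 h5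
    rw [h6]
    exact CharP.cast_eq_zero F p
  · exact ⟨n - i, by omega, by omega, h3⟩

end Cfsg.Agent.Lib.helper24
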