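import Mathlib
import Cfsg.Agent.Lib.helper24.SroDefs
import Cfsg.Agent.Lib.helper13.SroEMB

/-! S5991 split, PIECE K1: invariant nondegenerate odd-dimensional subspaces on which
`(T - 1)^2 = 0` are isometric when `dim ker (T - 1) ≤ dim (ker ⊓ range) + 1`. -/

set_option autoImplicit false
set_option linter.unusedSectionVars false
set_option linter.unusedVariables false

namespace Cfsg.Agent.Lib.helper24

open Module Cfsg.Agent.Lib.helper45 Cfsg.Agent.Lib.helper49

universe u

section genericM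

variable {F : Type u} [Field F] [Fintype F]

/-- two orthogonal subspaces of a nondegenerate subspace -/
theorem h79_perp_dim {V : Type u} [AddCommGroup V] [Module F V] [FiniteDimensional F V]
    (Q : QuadraticForm F V) (hnd : ∀ v, (∀ w, QuadraticMap.polar Q v w = 0) → v = 0)
    (W J A : Submodule F V) (hW : SpNd (QuadraticMap.polarBilin Q) W) (hJ : J ≤ W) (hA : A ≤ W)
    (horth : ∀ j ∈ J, ∀ a ∈ A, QuadraticMap.polar Q j a = 0) :
    finrank F J + finrank F A ≤ finrank F W := by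
  have hBnd : (QuadraticMap.polarBilin Q).Nondegenerate := by
    have hL : ∀ x : V, (∀ y : V, QuadraticMap.polarBilin Q x y = 0) → x = 0 := by
      intro x hx
      apply hnd x
      intro w
      have := hx w
      rwa [QuadraticMap.polarBilin_apply_apply] at this
    refine ⟨hL, ?_⟩
    intro y hy
    apply hL
    intro x
    rw [sr_sym]
    exact hy x
  have hc := so_perp_compl (QuadraticMap.polarBilin Q) (sr_sym Q) W hW
  have h1 : finrank F W + finrank F (spPerp (QuadraticMap.polarBilin Q) W) = finrank F V :=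
    Submodule.finrank_add_eq_of_isCompl hc
  have h2 := LinearMap.BilinForm.finrank_orthogonal hBnd J
  have h3 : A ⊔ spPerp (QuadraticMap.polarBilin Q) W ≤
      LinearMap.BilinForm.orthogonal (QuadraticMap.polarBilin Q) J := by
    apply sup_le
    · intro a ha
      rw [LinearMap.BilinForm.mem_orthogonal_iff]
      intro j hj
      rw [QuadraticMap.polarBilin_apply_apply]
      exact horth j hj a ha
    · intro x hx
      rw [LinearMap.BilinForm.mem_orthogonal_iff]
      intro j hj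
      exact hx j (hJ hj)
  have h4 : A ⊓ spPerp (QuadraticMap.polarBilin Q) W = ⊥ := by
    rw [eq_bot_iff, ← hc.inf_eq_bot]
    exact inf_le_inf_right _ hA
  have h5 := Submodule.finrank_sup_add_finrank_inf_eq A (spPerp (QuadraticMap.polarBilin Q) W)
  rw [h4, finrank_bot, add_zero] at h5
  have h6 := Submodule.finrank_mono h3
  have h7 := Submodule.finrank_le J
  omega

/-- structure of an invariant nondegenerate odd-dimensional subspace with `(T-1)^2 = 0` -/
theorem h79_k1_struct {V : Type u} [AddCommGroup V] [Module F V] [FiniteDimensional F V]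
    (Q : QuadraticForm F V) (hnd : ∀ v, (∀ w, QuadraticMap.polar Q v w = 0) → v = 0)
    (h2 : (2 : F) ≠ 0) (T : Module.End F V) (hT : ∀ v, Q (T v) = Q v)
    (hstar : finrank F (LinearMap.ker (T - 1)) ≤
      finrank F ↥(LinearMap.ker (T - 1) ⊓ LinearMap.range (T - 1)) + 1)
    (W : Submodule F V) (hW : SpNd (QuadraticMap.polarBilin Q) W) (hWinv : ∀ w ∈ W, T w ∈ W)
    (hN2 : ∀ w ∈ W, ((T - 1) ^ (2 : ℕ)) w = 0) (hodd : Odd (finrank F W)) :
    ∃ w ∈ W, w ∈ LinearMap.ker (T - 1) ∧ Q w ≠ 0 ∧ ∃ Wb : Submodule F V, Wb ≤ W ∧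
      SpNd (QuadraticMap.polarBilin Q) Wb ∧ SrTy Q Wb 1 ∧ finrank F Wb + 1 = finrank F W ∧
      (∀ x ∈ Wb, QuadraticMap.polar Q x w = 0) ∧ Wb ⊔ Submodule.span F {w} = W := by
  classical
  obtain ⟨K, hK⟩ : ∃ K : Submodule F V, K = LinearMap.ker (T - 1) := ⟨_, rfl⟩
  obtain ⟨R, hR⟩ : ∃ R : Submodule F V, R = LinearMap.range (T - 1) := ⟨_, rfl⟩
  have hKmem : ∀ k, k ∈ K → T k = k := by
    intro k hk
    rw [hK, LinearMap.mem_ker, LinearMap.sub_apply, Module.End.one_apply, sub_eq_zero] at hk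
    exact hk
  have hKR : ∀ k ∈ K, ∀ x ∈ R, QuadraticMap.polar Q k x = 0 := by
    intro k hk x hx
    rw [hR] at hx
    obtain ⟨y, rfl⟩ := hx
    have := sp_fix_orth (QuadraticMap.polarBilin Q) T (sr_iso_bilin Q T hT) k (hKmem k hk) y
    rw [QuadraticMap.polarBilin_apply_apply] at this
    rw [LinearMap.sub_apply, Module.End.one_apply]
    exact this
  obtain ⟨U, hU⟩ : ∃ U : Submodule F V, U = W.map (T - 1) := ⟨_, rfl⟩
  have hUW : U ≤ W := by
    rw [hU]
    rintro _ ⟨w, hw, rfl⟩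
    rw [LinearMap.sub_apply, Module.End.one_apply]
    exact W.sub_mem (hWinv w hw) hw
  have hUK : U ≤ K := by
    rw [hU, hK]
    rintro _ ⟨w, hw, rfl⟩
    rw [LinearMap.mem_ker, ← Module.End.mul_apply, ← pow_two]
    exact hN2 w hw
  have hUR : U ≤ R := by
    rw [hU, hR]
    rintro _ ⟨w, hw, rfl⟩
    exact ⟨w, rfl⟩
  have hrn := sq_rank_nullity (T - 1) W
  rw [← hK, ← hU] at hrn
  rw [← hK, ← hR] at hstar
  have hJ : finrank F ↥((K ⊓ W) ⊓ (K ⊓ R)) + finrank F ↥(K ⊓ W) ≤ finrank F W :=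
    h79_perp_dim Q hnd W _ _ hW (inf_le_left.trans inf_le_right) inf_le_right (by
      intro j hj a ha
      rw [QuadraticMap.polar_comm]
      exact hKR a ha.1 j hj.2.2)
  have ha := Submodule.finrank_sup_add_finrank_inf_eq (K ⊓ W) (K ⊓ R)
  have hb : finrank F ↥((K ⊓ W) ⊔ (K ⊓ R)) ≤ finrank F K :=
    Submodule.finrank_mono (sup_le inf_le_left inf_le_left)
  have hc : finrank F U ≤ finrank F ↥(K ⊓ W) := Submodule.finrank_mono (le_inf hUK hUW)
  obtain ⟨k, hk⟩ := hodd
  have hdimKW : finrank F ↥(K ⊓ W) = finrank F U + 1 := by omega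
  -- an anisotropic fixed vector
  have hex : ∃ w ∈ K ⊓ W, Q w ≠ 0 := by
    by_contra hcon
    push Not at hcon
    have h5 : finrank F ↥(K ⊓ W) + finrank F ↥(K ⊓ W) ≤ finrank F W :=
      h79_perp_dim Q hnd W _ _ hW inf_le_right inf_le_right (by
        intro j hj a ha
        unfold QuadraticMap.polar
        rw [hcon _ (Submodule.add_mem _ hj ha), hcon j hj, hcon a ha]
        simp)
    omega
  obtain ⟨w, hwKW, hQw⟩ := hex
  have hwK : w ∈ K := hwKW.1
  have hwW : w ∈ W := hwKW.2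
  have hw0 : w ≠ 0 := by
    rintro rfl
    exact hQw (map_zero Q)
  have hww : QuadraticMap.polar Q w w ≠ 0 := by
    rw [sr_polar_self]
    exact mul_ne_zero h2 hQw
  have hspnd : SpNd (QuadraticMap.polarBilin Q) (Submodule.span F {w}) := by
    intro u hu hu2
    obtain ⟨c, rfl⟩ := Submodule.mem_span_singleton.mp hu
    have h6 := hu2 w (Submodule.mem_span_singleton_self w)
    rw [map_smul, LinearMap.smul_apply, QuadraticMap.polarBilin_apply_apply, smul_eq_mul] at h6
    rcases mul_eq_zero.mp h6 with h7 | h7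
    · rw [h7, zero_smul]
    · exact absurd h7 hww
  have hsple : Submodule.span F {w} ≤ W := by
    rw [Submodule.span_singleton_le_iff_mem]
    exact hwW
  obtain ⟨hWbnd, hWbsup, hWbinf, hWbdim⟩ :=
    so_rel (QuadraticMap.polarBilin Q) (sr_sym Q) W (Submodule.span F {w}) hW hspnd hsple
  rw [finrank_span_singleton hw0] at hWbdim
  have hUWb : U ≤ spPerp (QuadraticMap.polarBilin Q) (Submodule.span F {w}) ⊓ W := by
    intro u hu
    refine ⟨?_, hUW hu⟩
    intro x hx
    obtain ⟨c, rfl⟩ := Submodule.mem_span_singleton.mp hx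
    rw [map_smul, LinearMap.smul_apply, QuadraticMap.polarBilin_apply_apply,
      hKR w hwK u (hUR hu), smul_zero]
  have hUts : ∀ u ∈ U, Q u = 0 := by
    intro u hu
    have h8 := hKR u (hUK hu) u (hUR hu)
    rw [sr_polar_self] at h8
    rcases mul_eq_zero.mp h8 with h9 | h9
    · exact absurd h9 h2
    · exact h9
  have hpl : SrPlus Q (spPerp (QuadraticMap.polarBilin Q) (Submodule.span F {w}) ⊓ W) :=
    ⟨U, hUWb, hUts, by omega⟩
  refine ⟨w, hwW, hK ▸ hwK, hQw, _, inf_le_right, hWbnd, sr_plus_ty Q h2 _ hWbnd hpl, by omega,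
    ?_, ?_⟩
  · intro x hx
    have h10 := hx.1 w (Submodule.mem_span_singleton_self w)
    rw [QuadraticMap.polarBilin_apply_apply] at h10
    rw [QuadraticMap.polar_comm]
    exact h10
  · rw [sup_comm]
    exact hWbsup

/-- gluing an isometry with a vector of the same norm -/
theorem h79_glue {V : Type u} [AddCommGroup V] [Module F V] [FiniteDimensional F V]
    (Q : QuadraticForm F V) (h2 : (2 : F) ≠ 0) (N N' : Submodule F V) (w w' : V)
    (φ : N ≃ₗ[F] N') (hφ : ∀ x : N, Q ((φ x : N') : V) = Q (x : V))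
    (hQw : Q w ≠ 0) (hQ : Q w' = Q w)
    (horth : ∀ x ∈ N, QuadraticMap.polar Q x w = 0)
    (horth' : ∀ x ∈ N', QuadraticMap.polar Q x w' = 0) :
    SrIsoTo Q (N ⊔ Submodule.span F {w}) Q (N' ⊔ Submodule.span F {w'}) := by
  classical
  have hgv : ∀ p : N × F, (N.subtype.coprod (LinearMap.toSpanSingleton F V w)) p =
      (p.1 : V) + p.2 • w := fun p => by simp
  have hg₀v : ∀ p : N × F, ((N'.subtype.comp φ.toLinearMap).coprod
      (LinearMap.toSpanSingleton F V w')) p = ((φ p.1 : N') : V) + p.2 • w' :=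
    fun p => by simp
  have hinj : ∀ (M : Submodule F V) (v : V), Q v ≠ 0 →
      (∀ x ∈ M, QuadraticMap.polar Q x v = 0) → ∀ (n : V) (t : F), n ∈ M → n + t • v = 0 →
      n = 0 ∧ t = 0 := by
    intro M v hv ho n t hn h
    have h3 : QuadraticMap.polar Q (n + t • v) v = 0 := by
      rw [h]
      simp
    rw [QuadraticMap.polar_add_left, ho n hn, zero_add, QuadraticMap.polar_smul_left,
      sr_polar_self, smul_eq_mul] at h3
    have ht : t = 0 := by
      rcases mul_eq_zero.mp h3 with h4 | h4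
      · exact h4
      · exact absurd h4 (mul_ne_zero h2 hv)
    rw [ht, zero_smul, add_zero] at h
    exact ⟨h, ht⟩
  apply sro_iso_of_param Q Q _ _
    (N.subtype.coprod (LinearMap.toSpanSingleton F V w))
    ((N'.subtype.comp φ.toLinearMap).coprod (LinearMap.toSpanSingleton F V w'))
  · rw [← LinearMap.ker_eq_bot, LinearMap.ker_eq_bot']
    rintro ⟨n, t⟩ h
    rw [hgv] at h
    obtain ⟨h3, h4⟩ := hinj N w hQw horth (n : V) t n.2 h
    have hn0 : n = 0 := Subtype.ext h3
    rw [hn0, h4]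
    rfl
  · rw [← LinearMap.ker_eq_bot, LinearMap.ker_eq_bot']
    rintro ⟨n, t⟩ h
    rw [hg₀v] at h
    obtain ⟨h3, h4⟩ := hinj N' w' (hQ ▸ hQw) horth' ((φ n : N') : V) t (φ n).2 h
    have hn0 : n = 0 := by
      have h5 : φ n = 0 := Subtype.ext h3
      exact φ.map_eq_zero_iff.mp h5
    rw [hn0, h4]
    rfl
  · rw [LinearMap.range_coprod, Submodule.range_subtype, ← LinearMap.span_singleton_eq_range]
  · rw [LinearMap.range_coprod, LinearMap.range_comp, LinearEquiv.range, Submodule.map_top,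
      Submodule.range_subtype, ← LinearMap.span_singleton_eq_range]
  · intro p
    rw [hgv, hg₀v, QuadraticMap.map_add Q, QuadraticMap.map_add Q, hφ, QuadraticMap.map_smul,
      QuadraticMap.map_smul, hQ, QuadraticMap.polar_smul_right, QuadraticMap.polar_smul_right,
      horth _ p.1.2, horth' _ (φ p.1).2]

/-- Let `T` be an isometry, `N = T - 1`, with `dim ker N ≤ dim (ker N ∩ im N) + 1`.  Two
`T`-invariant nondegenerate subspaces of the same odd dimension on which `N² = 0` are
isometric. -/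
theorem sro_kind1 {V : Type u} [AddCommGroup V] [Module F V] [FiniteDimensional F V]
    (Q : QuadraticForm F V) (hnd : ∀ v, (∀ w, QuadraticMap.polar Q v w = 0) → v = 0)
    (h2 : (2 : F) ≠ 0) (T T' : Module.End F V) (hT : ∀ v, Q (T v) = Q v)
    (hTT' : T * T' = 1) (hT'T : T' * T = 1)
    (hstar : finrank F (LinearMap.ker (T - 1)) ≤
      finrank F ↥(LinearMap.ker (T - 1) ⊓ LinearMap.range (T - 1)) + 1)
    (W W' : Submodule F V) (hW : SpNd (QuadraticMap.polarBilin Q) W)
    (hW' : SpNd (QuadraticMap.polarBilin Q) W') (hWinv : ∀ w ∈ W, T w ∈ W)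
    (hW'inv : ∀ w ∈ W', T w ∈ W')
    (hN2 : ∀ w ∈ W, ((T - 1) ^ (2 : ℕ)) w = 0) (hN2' : ∀ w ∈ W', ((T - 1) ^ (2 : ℕ)) w = 0)
    (hdim : finrank F W = finrank F W') (hodd : Odd (finrank F W)) :
    SrIsoTo Q W Q W' := by
  classical
  obtain ⟨w, hwW, hwK, hQw, Wb, hWbW, hWbnd, hWbty, hWbdim, hWbw, hWbsup⟩ :=
    h79_k1_struct Q hnd h2 T hT hstar W hW hWinv hN2 hodd
  obtain ⟨w', hw'W, hw'K, hQw', Wb', hWb'W, hWb'nd, hWb'ty, hWb'dim, hWb'w, hWb'sup⟩ :=
    h79_k1_struct Q hnd h2 T hT hstar W' hW' hW'inv hN2' (hdim ▸ hodd)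
  obtain ⟨K, hK⟩ : ∃ K : Submodule F V, K = LinearMap.ker (T - 1) := ⟨_, rfl⟩
  obtain ⟨R, hR⟩ : ∃ R : Submodule F V, R = LinearMap.range (T - 1) := ⟨_, rfl⟩
  rw [← hK] at hwK hw'K
  rw [← hK, ← hR] at hstar
  have hKmem : ∀ k, k ∈ K → T k = k := by
    intro k hk
    rw [hK, LinearMap.mem_ker, LinearMap.sub_apply, Module.End.one_apply, sub_eq_zero] at hk
    exact hk
  have hKR : ∀ k ∈ K, ∀ x ∈ R, QuadraticMap.polar Q k x = 0 := by
    intro k hk x hx
    rw [hR] at hx
    obtain ⟨y, rfl⟩ := hx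
    have := sp_fix_orth (QuadraticMap.polarBilin Q) T (sr_iso_bilin Q T hT) k (hKmem k hk) y
    rw [QuadraticMap.polarBilin_apply_apply] at this
    rw [LinearMap.sub_apply, Module.End.one_apply]
    exact this
  have hw0 : w ≠ 0 := by
    rintro rfl
    exact hQw (map_zero Q)
  have hwI : w ∉ K ⊓ R := by
    intro hwI
    have h8 := hKR w hwI.1 w hwI.2
    rw [sr_polar_self] at h8
    rcases mul_eq_zero.mp h8 with h9 | h9
    · exact h2 h9
    · exact hQw h9
  have hsupK : (K ⊓ R) ⊔ Submodule.span F {w} = K := by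
    apply Submodule.eq_of_le_of_finrank_le
    · apply sup_le inf_le_left
      rw [Submodule.span_singleton_le_iff_mem]
      exact hwK
    · have h1 := Submodule.finrank_sup_add_finrank_inf_eq (K ⊓ R) (Submodule.span F {w})
      have h3 : (K ⊓ R) ⊓ Submodule.span F {w} = ⊥ :=
        disjoint_iff.mp ((Submodule.disjoint_span_singleton' hw0).mpr hwI)
      rw [h3, finrank_bot, add_zero, finrank_span_singleton hw0] at h1
      omega
  have hw'mem : w' ∈ (K ⊓ R) ⊔ Submodule.span F {w} := by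
    rw [hsupK]
    exact hw'K
  obtain ⟨s, hs, y, hy, hsum⟩ := Submodule.mem_sup.mp hw'mem
  obtain ⟨c, rfl⟩ := Submodule.mem_span_singleton.mp hy
  have hQs : Q s = 0 := by
    have h8 := hKR s hs.1 s hs.2
    rw [sr_polar_self] at h8
    rcases mul_eq_zero.mp h8 with h9 | h9
    · exact absurd h9 h2
    · exact h9
  have hQw'c : Q w' = c * c * Q w := by
    rw [← hsum, QuadraticMap.map_add Q, QuadraticMap.map_smul, hQs,
      QuadraticMap.polar_smul_right, QuadraticMap.polar_comm, hKR w hwK s hs.2]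
    simp
  have hc0 : c ≠ 0 := by
    rintro rfl
    apply hQw'
    rw [hQw'c]
    simp
  have hQv : Q (c⁻¹ • w') = Q w := by
    rw [QuadraticMap.map_smul, hQw'c, smul_eq_mul]
    field_simp
  have hspan : Submodule.span F {c⁻¹ • w'} = Submodule.span F {w'} :=
    Submodule.span_singleton_smul_eq (IsUnit.mk0 _ (inv_ne_zero hc0)) w'
  have hev : Even (finrank F Wb) := by
    obtain ⟨k, hk⟩ := hodd
    exact ⟨k, by omega⟩
  obtain ⟨φ, hφ⟩ := sr_isometric Q 1 (Or.inl rfl) (finrank F Wb) hev Wb Wb'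
    ⟨rfl, hWbnd, hWbty⟩ ⟨by omega, hWb'nd, hWb'ty⟩
  have hglue := h79_glue Q h2 Wb Wb' w (c⁻¹ • w') φ hφ hQw hQv hWbw (by
    intro x hx
    rw [QuadraticMap.polar_smul_right, hWb'w x hx, smul_zero])
  rw [hspan, hWbsup, hWb'sup] at hglue
  exact hglue

end genericM

end Cfsg.Agent.Lib.helper24
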