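import Mathlib
import Cfsg.Agent.Lib.helper24.SroDefs

/-! S5991 split, PIECE K2: a nondegenerate subspace of odd dimension has no self-similarity with a
non-square multiplier. -/

set_option autoImplicit false
set_option linter.unusedSectionVars false
set_option linter.unusedVariables false

namespace Cfsg.Agent.Lib.helper24

open Module Cfsg.Agent.Lib.helper45 Cfsg.Agent.Lib.helper49

universe u

section genericM

variable {F : Type u} [Field F] [Fintype F]

/-- A nondegenerate subspace of odd dimension has no self-similarity with a non-square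
multiplier (determinants: `det(e)² det(G) = lam ^ dim * det(G)` for a Gram matrix `G`). -/
theorem sro_no_simil {V : Type u} [AddCommGroup V] [Module F V] [FiniteDimensional F V]
    (Q : QuadraticForm F V) (h2 : (2 : F) ≠ 0) (W : Submodule F V)
    (hW : SpNd (QuadraticMap.polarBilin Q) W) (hodd : Odd (finrank F W)) (lam : F)
    (e : W ≃ₗ[F] W) (he : ∀ w : W, Q ((e w : W) : V) = lam * Q (w : V)) : IsSquare lam := by
  classical
  obtain ⟨QW, hQW⟩ : ∃ QW : QuadraticForm F W, QW = Q.comp W.subtype := ⟨_, rfl⟩
  have hQWa : ∀ w : W, QW w = Q (w : V) := by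
    intro w
    rw [hQW]
    rfl
  have hpol : ∀ u v : W, QuadraticMap.polar QW u v = QuadraticMap.polar Q (u : V) (v : V) := by
    intro u v
    simp only [QuadraticMap.polar, hQWa]
    rfl
  obtain ⟨B, hB⟩ : ∃ B : LinearMap.BilinForm F W, B = QuadraticMap.polarBilin QW := ⟨_, rfl⟩
  have hBa : ∀ u v : W, B u v = QuadraticMap.polar Q (u : V) (v : V) := by
    intro u v
    rw [hB, QuadraticMap.polarBilin_apply_apply, hpol]
  have hBnd : B.Nondegenerate := by
    have hL : ∀ x : W, (∀ y : W, B x y = 0) → x = 0 := by
      intro x hx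
      apply Subtype.ext
      apply hW x x.2
      intro v hv
      have := hx ⟨v, hv⟩
      rw [hBa] at this
      rw [QuadraticMap.polarBilin_apply_apply]
      exact this
    refine ⟨hL, ?_⟩
    intro y hy
    apply hL
    intro x
    rw [hBa, QuadraticMap.polar_comm, ← hBa]
    exact hy x
  obtain ⟨b, -⟩ : ∃ b : Basis (Fin (finrank F W)) F W, b = Module.finBasis F W := ⟨_, rfl⟩
  have hdet : (LinearMap.BilinForm.toMatrix b B).det ≠ 0 :=
    (LinearMap.BilinForm.nondegenerate_iff_det_ne_zero b).mp hBnd
  have hsim : B.comp e.toLinearMap e.toLinearMap = lam • B := by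
    apply LinearMap.ext
    intro u
    apply LinearMap.ext
    intro v
    have h1 : QuadraticMap.polar Q ((e u : W) : V) ((e v : W) : V) =
        lam * QuadraticMap.polar Q (u : V) (v : V) := by
      unfold QuadraticMap.polar
      have h3 : ((e u : W) : V) + ((e v : W) : V) = ((e (u + v) : W) : V) := by
        rw [map_add]
        rfl
      rw [h3, he, he, he]
      push_cast
      ring
    simp only [LinearMap.BilinForm.comp_apply, LinearEquiv.coe_coe, LinearMap.smul_apply,
      smul_eq_mul, hBa, h1]
  have hmat := LinearMap.BilinForm.toMatrix_comp b b B e.toLinearMap e.toLinearMap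
  rw [hsim, map_smul] at hmat
  have hd := congrArg Matrix.det hmat
  rw [Matrix.det_smul, Matrix.det_mul, Matrix.det_mul, Matrix.det_transpose, Fintype.card_fin]
    at hd
  have hsq : lam ^ finrank F W = (LinearMap.toMatrix b b e.toLinearMap).det ^ 2 := by
    apply mul_right_cancel₀ hdet
    rw [hd]
    ring
  generalize (LinearMap.toMatrix b b e.toLinearMap).det = D at hsq
  obtain ⟨k, hk⟩ := hodd
  by_cases hl : lam = 0
  · exact ⟨0, by rw [hl, mul_zero]⟩
  · refine ⟨D / lam ^ k, ?_⟩
    rw [hk] at hsq
    have hlk : lam ^ k ≠ 0 := pow_ne_zero k hl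
    field_simp
    rw [← hsq]
    ring

end genericM

end Cfsg.Agent.Lib.helper24
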