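import Mathlib
import Cfsg.Agent.Lib.helper44.PresDefs

/-! S2286 piece HC: commutation lemmas (for helper44's split). -/

set_option autoImplicit false

namespace Cfsg.Agent.Lib.helper44.Pres

private lemma h79_comm_aux {G : Type*} [Group G] {a b x y : G} (hax : Commute a x)
    (hbx : Commute b x) (hby : Commute b y) (h : Commute (a * b) (x * y)) : Commute a y := by
  have h1 : a * b * (x * y) = x * y * (a * b) := h.eq
  have h2 : a * b * (x * y) = x * (a * y) * b := by
    calc a * b * (x * y) = a * (b * x) * y := by group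
      _ = a * (x * b) * y := by rw [hbx.eq]
      _ = (a * x) * (b * y) := by group
      _ = (x * a) * (y * b) := by rw [hax.eq, hby.eq]
      _ = x * (a * y) * b := by group
  have h3 : x * (a * y) * b = x * (y * a) * b := by rw [← h2, h1]; group
  exact mul_left_cancel (mul_right_cancel h3)

-- HC
theorem comm_trick {G : Type*} [Group G] (u g₁ g₂ : G) (h12 : Commute g₁ g₂)
    (hE : Commute u (g₁ * u * g₁⁻¹)) (hF : g₂ * u * g₂⁻¹ = u * (g₁ * u * g₁⁻¹)) :
    ∀ n : ℕ, Commute u (g₁ ^ n * u * (g₁ ^ n)⁻¹) := by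
  set c : ℕ → G := fun k => g₁ ^ k * u * (g₁ ^ k)⁻¹ with hc
  have c0 : c 0 = u := by simp [hc]
  have c1 : c 1 = g₁ * u * g₁⁻¹ := by simp [hc]
  have cshift : ∀ a k, c (a + k) = g₁ ^ a * c k * (g₁ ^ a)⁻¹ := by
    intro a k; simp only [hc, pow_add]; group
  have ctau : ∀ k, g₂ * c k * g₂⁻¹ = c k * c (k + 1) := by
    intro k
    have e1 : g₂ * g₁ ^ k = g₁ ^ k * g₂ := ((h12.pow_left k).eq).symm
    have e2 : (g₁ ^ k)⁻¹ * g₂⁻¹ = g₂⁻¹ * (g₁ ^ k)⁻¹ := by
      rw [← mul_inv_rev, ← mul_inv_rev, e1]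
    calc g₂ * c k * g₂⁻¹ = (g₂ * g₁ ^ k) * u * ((g₁ ^ k)⁻¹ * g₂⁻¹) := by
          simp only [hc]; group
      _ = (g₁ ^ k * g₂) * u * (g₂⁻¹ * (g₁ ^ k)⁻¹) := by rw [e1, e2]
      _ = g₁ ^ k * (g₂ * u * g₂⁻¹) * (g₁ ^ k)⁻¹ := by group
      _ = g₁ ^ k * (u * (g₁ * u * g₁⁻¹)) * (g₁ ^ k)⁻¹ := by rw [hF]
      _ = c k * c (k + 1) := by simp only [hc, pow_succ]; group
  have key : ∀ n, Commute (c 0) (c n) → ∀ a, Commute (c a) (c (a + n)) := by
    intro n h a
    have h1 := cshift a 0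
    have h2 := cshift a n
    rw [add_zero] at h1
    rw [h1, h2]
    have := h.eq
    show g₁ ^ a * c 0 * (g₁ ^ a)⁻¹ * (g₁ ^ a * c n * (g₁ ^ a)⁻¹) =
      g₁ ^ a * c n * (g₁ ^ a)⁻¹ * (g₁ ^ a * c 0 * (g₁ ^ a)⁻¹)
    calc g₁ ^ a * c 0 * (g₁ ^ a)⁻¹ * (g₁ ^ a * c n * (g₁ ^ a)⁻¹)
          = g₁ ^ a * (c 0 * c n) * (g₁ ^ a)⁻¹ := by group
      _ = g₁ ^ a * (c n * c 0) * (g₁ ^ a)⁻¹ := by rw [this]
      _ = _ := by group
  have main : ∀ n, Commute (c 0) (c n) := by
    intro n
    induction n using Nat.strong_induction_on with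
    | _ n ih =>
      rcases n with _ | _ | m
      · exact Commute.refl _
      · rw [c0, c1]; exact hE
      · -- n = m + 2, from P(m+1), P(m), P(1)
        have A : Commute (c 0) (c (m + 1)) := ih (m + 1) (by omega)
        have B : Commute (c 1) (c (m + 1)) := by
          have := key m (ih m (by omega)) 1
          rwa [add_comm 1 m] at this
        have C : Commute (c 1) (c (m + 2)) := by
          have := key (m + 1) A 1
          rwa [show 1 + (m + 1) = m + 2 by omega] at this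
        have T : Commute (c 0 * c 1) (c (m + 1) * c (m + 2)) := by
          have h1 := ctau 0
          have h2 := ctau (m + 1)
          rw [zero_add] at h1
          rw [show m + 1 + 1 = m + 2 by omega] at h2
          rw [← h1, ← h2]
          have := A.eq
          show g₂ * c 0 * g₂⁻¹ * (g₂ * c (m + 1) * g₂⁻¹) = g₂ * c (m + 1) * g₂⁻¹ * (g₂ * c 0 * g₂⁻¹)
          calc g₂ * c 0 * g₂⁻¹ * (g₂ * c (m + 1) * g₂⁻¹)
                = g₂ * (c 0 * c (m + 1)) * g₂⁻¹ := by group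
            _ = g₂ * (c (m + 1) * c 0) * g₂⁻¹ := by rw [this]
            _ = _ := by group
        exact h79_comm_aux A B C T
  intro n
  have := main n
  rwa [c0] at this

-- HC
theorem comm_of_mem_zpowers {G : Type*} [Group G] (u g : G)
    (hg : g * u * g⁻¹ ∈ Subgroup.zpowers u) :
    ∀ n : ℕ, Commute u (g ^ n * u * (g ^ n)⁻¹) := by
  have hmem : ∀ n : ℕ, g ^ n * u * (g ^ n)⁻¹ ∈ Subgroup.zpowers u := by
    intro n
    induction n with
    | zero => simp
    | succ n ih =>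
      obtain ⟨k, hk⟩ := Subgroup.mem_zpowers_iff.mp ih
      have e : g ^ (n + 1) * u * (g ^ (n + 1))⁻¹ = (g * u * g⁻¹) ^ k := by
        rw [conj_zpow, hk, pow_succ']; group
      rw [e]
      exact Subgroup.zpow_mem _ hg k
  intro n
  obtain ⟨k, hk⟩ := Subgroup.mem_zpowers_iff.mp (hmem n)
  rw [← hk]
  exact (Commute.refl u).zpow_right k

-- HC
theorem comm_deg_two {G : Type*} [Group G] (u g : G) (hE : Commute u (g * u * g⁻¹))
    (h2 : g ^ 2 * u * (g ^ 2)⁻¹ ∈ Subgroup.closure {u, g * u * g⁻¹}) :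
    ∀ n : ℕ, Commute u (g ^ n * u * (g ^ n)⁻¹) := by
  set K : Subgroup G := Subgroup.closure {u, g * u * g⁻¹} with hK
  have huK : u ∈ K := Subgroup.subset_closure (by simp)
  have hvK : g * u * g⁻¹ ∈ K := Subgroup.subset_closure (by simp)
  -- conjugation by g maps K into K
  have hconj : ∀ x ∈ K, g * x * g⁻¹ ∈ K := by
    intro x hx
    induction hx using Subgroup.closure_induction with
    | mem y hy =>
      rw [Set.mem_insert_iff, Set.mem_singleton_iff] at hy
      rcases hy with hy | hy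
      · rw [hy]; exact hvK
      · have : g * (g * u * g⁻¹) * g⁻¹ = g ^ 2 * u * (g ^ 2)⁻¹ := by
          rw [pow_two, mul_inv_rev]; simp only [mul_assoc]
        rw [hy, this]; exact h2
    | one => simp [K.one_mem]
    | mul a b _ _ iha ihb =>
      have : g * (a * b) * g⁻¹ = (g * a * g⁻¹) * (g * b * g⁻¹) := by group
      rw [this]; exact K.mul_mem iha ihb
    | inv a _ iha =>
      have : g * a⁻¹ * g⁻¹ = (g * a * g⁻¹)⁻¹ := by group
      rw [this]; exact K.inv_mem iha
  have hmem : ∀ n : ℕ, g ^ n * u * (g ^ n)⁻¹ ∈ K := by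
    intro n
    induction n with
    | zero => simpa using huK
    | succ n ih =>
      have e : g ^ (n + 1) * u * (g ^ (n + 1))⁻¹ = g * (g ^ n * u * (g ^ n)⁻¹) * g⁻¹ := by
        rw [pow_succ']; group
      rw [e]; exact hconj _ ih
  -- u commutes with every element of K
  have hcent : K ≤ Subgroup.centralizer {u} := by
    rw [hK, Subgroup.closure_le]
    intro y hy
    rw [SetLike.mem_coe, Subgroup.mem_centralizer_iff]
    intro z hz
    rw [Set.mem_singleton_iff] at hz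
    rw [hz]
    rw [Set.mem_insert_iff, Set.mem_singleton_iff] at hy
    rcases hy with hy | hy
    · rw [hy]
    · rw [hy]; exact hE.eq
  intro n
  have := hcent (hmem n)
  rw [Subgroup.mem_centralizer_iff] at this
  exact this u (Set.mem_singleton u)

-- HC
theorem comm_of_sq {G : Type*} [Group G] (u g₁ g₂ : G) (hu : u ^ 2 = 1)
    (hF : g₂ * u * g₂⁻¹ = u * (g₁ * u * g₁⁻¹)) : Commute u (g₁ * u * g₁⁻¹) := by
  set v := g₁ * u * g₁⁻¹ with hv
  have hv2 : v ^ 2 = 1 := by rw [hv, conj_pow, hu]; group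
  have huv : (u * v) ^ 2 = 1 := by rw [← hF, conj_pow, hu]; group
  have hui : u⁻¹ = u := by
    rw [inv_eq_iff_mul_eq_one, ← pow_two, hu]
  have hvi : v⁻¹ = v := by
    rw [inv_eq_iff_mul_eq_one, ← pow_two, hv2]
  have h1 : u * v * (u * v) = 1 := by rw [← pow_two, huv]
  have h2 : u * v = (u * v)⁻¹ := by
    rw [eq_inv_iff_mul_eq_one]; exact h1
  show u * v = v * u
  rw [h2, mul_inv_rev, hui, hvi]

-- HC
theorem eq_one_of_merge {G : Type*} [Group G] (u g₁ g₂ c : G) (p : ℕ) (hc : u ^ p = c)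
    (hE : Commute u (g₁ * u * g₁⁻¹)) (hF : g₂ * u * g₂⁻¹ = u * (g₁ * u * g₁⁻¹))
    (h1 : Commute c g₁) (h2 : Commute c g₂) : c = 1 := by
  have e1 : (g₂ * u * g₂⁻¹) ^ p = c := by
    rw [conj_pow, hc, ← h2.eq]; group
  have e2 : (u * (g₁ * u * g₁⁻¹)) ^ p = c * c := by
    rw [hE.mul_pow, conj_pow, hc, ← h1.eq]; group
  rw [hF, e2] at e1
  exact mul_left_cancel (a := c) (by rw [e1, mul_one])

end Cfsg.Agent.Lib.helper44.Pres
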