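import Mathlib
import Cfsg.Prelude.Def_Characters
import Cfsg.Agent.Lib.helper79.CycloNorm
import Cfsg.Agent.Lib.helper79.GaloisChar

/-!
# Galois orbits of irreducible characters and AM–GM bounds (helper79)

* `card_le_sum_norm_sq_coprime_pow`: if `χ g ≠ 0` then `∑_{k ∈ U} |χ (g ^ k)|² ≥ #U`, where `U` is
  the set of residues coprime to `|G|`.
* `character_ne_zero_of_pow_prime_pow_eq_one`: a character of degree prime to `p` does not vanish
  on `p`-elements.
* `irrPow k hk`: the Galois action `χ ↦ χ (· ^ k)` on `IrrCharacter G`, a bijection.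
* `card_le_sum_norm_sq_of_galois_stable`: for a Galois-stable finite set `S` of irreducible
  characters not vanishing at `g`, `#S ≤ ∑_{χ ∈ S} |χ g|²`.
-/

set_option autoImplicit false

namespace Cfsg.Agent.Lib.helper79

open Polynomial

section Rep

variable {G V : Type*} [Group G] [Fintype G] [AddCommGroup V] [Module ℂ V]
  [FiniteDimensional ℂ V]

/-- If `χ g ≠ 0` then the sum of `|χ (g ^ k)|²` over residues `k` coprime to `|G|` is at least the
number of such residues. -/
theorem card_le_sum_norm_sq_coprime_pow (ρ : Representation ℂ G V) (g : G)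
    (hg : ρ.character g ≠ 0) :
    (((Finset.range (Fintype.card G)).filter (fun k => k.Coprime (Fintype.card G))).card : ℝ) ≤
      ∑ k ∈ (Finset.range (Fintype.card G)).filter (fun k => k.Coprime (Fintype.card G)),
        ‖ρ.character (g ^ k)‖ ^ 2 := by
  classical
  set N := Fintype.card G with hNdef
  have hNpos : 0 < N := Fintype.card_pos
  have hζ : IsPrimitiveRoot (Complex.exp (2 * Real.pi * Complex.I / (N : ℕ))) N :=
    Complex.isPrimitiveRoot_exp _ hNpos.ne'
  set ζ := Complex.exp (2 * Real.pi * Complex.I / (N : ℕ)) with hζdef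
  obtain ⟨F, hF⟩ := character_pow_eq_aeval ρ g N hNpos (pow_card_eq_one) ζ hζ
  have hF1 : ρ.character g = aeval ζ F := by
    have := hF 1
    simpa using this
  set U := (Finset.range N).filter (fun k => k.Coprime N) with hUdef
  have h1 : aeval ζ F ≠ 0 := by rw [← hF1]; exact hg
  have h2 := one_le_prod_norm_aeval_primitiveRoots hNpos hζ F h1
  have h3 := card_le_sum_sq_of_one_le_prod (primitiveRoots N ℂ) (fun ξ => ‖aeval ξ F‖)
    (fun _ _ => norm_nonneg _) h2
  have h4 := sum_primitiveRoots_eq_sum_coprime hNpos hζ (fun ξ => ‖aeval ξ F‖ ^ 2)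
  have h5 := sum_primitiveRoots_eq_sum_coprime hNpos hζ (fun _ => (1 : ℝ))
  simp only [Finset.sum_const, nsmul_eq_mul, mul_one] at h5
  rw [← hUdef] at h4 h5
  have h6 : ∑ k ∈ U, ‖ρ.character (g ^ k)‖ ^ 2 =
      ∑ ξ ∈ primitiveRoots N ℂ, ‖aeval ξ F‖ ^ 2 := by
    rw [← h4]
    exact Finset.sum_congr rfl (fun k _ => by rw [hF k])
  rw [h5, h6]
  exact h3

omit [Fintype G] in
/-- A character of degree prime to `p` does not vanish on `p`-elements. -/
theorem character_ne_zero_of_pow_prime_pow_eq_one (ρ : Representation ℂ G V) (p a : ℕ)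
    [Fact p.Prime] (g : G) (hg : g ^ (p ^ a) = 1) (hp : ¬ p ∣ Module.finrank ℂ V) :
    ρ.character g ≠ 0 := by
  have hpp : p.Prime := Fact.out
  have hNpos : 0 < p ^ a := pow_pos hpp.pos a
  have hζ : IsPrimitiveRoot (Complex.exp (2 * Real.pi * Complex.I / ((p ^ a : ℕ) : ℕ))) (p ^ a) :=
    Complex.isPrimitiveRoot_exp _ hNpos.ne'
  set ζ := Complex.exp (2 * Real.pi * Complex.I / ((p ^ a : ℕ) : ℕ)) with hζdef
  obtain ⟨F, hF⟩ := character_pow_eq_aeval ρ g (p ^ a) hNpos hg ζ hζ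
  have hF1 : ρ.character g = aeval ζ F := by
    have := hF 1
    simpa using this
  have hF0 : (Module.finrank ℂ V : ℂ) = aeval (1 : ℂ) F := by
    have := hF 0
    simpa [Representation.char_one] using this
  have hF0' : ((F.eval 1 : ℤ) : ℂ) = (Module.finrank ℂ V : ℂ) := by
    rw [hF0, Polynomial.aeval_def, Polynomial.eval₂_eq_eval_map]
    have : (1 : ℂ) = algebraMap ℤ ℂ 1 := by simp
    rw [this, Polynomial.eval_map_algebraMap]
    simp [Polynomial.aeval_def, Polynomial.eval₂_eq_eval_map]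
  have hF0'' : F.eval 1 = (Module.finrank ℂ V : ℤ) := by exact_mod_cast hF0'
  intro h0
  rw [hF1] at h0
  have hdvd : minpoly ℤ ζ ∣ F := minpoly.isIntegrallyClosed_dvd (hζ.isIntegral hNpos) h0
  rw [← cyclotomic_eq_minpoly hζ hNpos] at hdvd
  obtain ⟨Q, hQ⟩ := hdvd
  rcases Nat.eq_zero_or_pos a with ha | ha
  · subst ha
    rw [pow_zero, cyclotomic_one] at hQ
    have h1 : F.eval 1 = 0 := by rw [hQ]; simp
    rw [hF0''] at h1
    have h2 : Module.finrank ℂ V = 0 := by exact_mod_cast h1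
    exact hp (h2 ▸ dvd_zero p)
  · obtain ⟨a', rfl⟩ := Nat.exists_eq_succ_of_ne_zero ha.ne'
    have h1 : F.eval 1 = (p : ℤ) * Q.eval 1 := by
      rw [hQ, eval_mul, eval_one_cyclotomic_prime_pow]
    rw [hF0''] at h1
    have h2 : (p : ℤ) ∣ (Module.finrank ℂ V : ℤ) := ⟨_, h1⟩
    exact hp (Int.natCast_dvd_natCast.mp h2)

end Rep

section Irr

universe u

variable {G : Type u} [Group G] [Finite G]

/-- The Galois action `χ ↦ χ (· ^ k)` on irreducible characters, for `k` coprime to `|G|`. -/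
noncomputable def irrPow (k : ℕ) (hk : k.Coprime (Nat.card G)) (χ : Cfsg.IrrCharacter G) :
    Cfsg.IrrCharacter G :=
  ⟨fun g => (χ : G → ℂ) (g ^ k), isIrrCharacter_pow_coprime k hk χ.2⟩

theorem irrPow_apply (k : ℕ) (hk : k.Coprime (Nat.card G)) (χ : Cfsg.IrrCharacter G) (g : G) :
    (irrPow k hk χ : G → ℂ) g = (χ : G → ℂ) (g ^ k) := rfl

theorem irrPow_injective (k : ℕ) (hk : k.Coprime (Nat.card G)) :
    Function.Injective (irrPow (G := G) k hk) := by
  intro χ ψ h
  apply Subtype.ext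
  funext g
  obtain ⟨g', hg'⟩ := (powCoprime hk.symm).surjective g
  have h1 := congrFun (congrArg Subtype.val h) g'
  rw [powCoprime_apply] at hg'
  simp only [irrPow] at h1
  rw [hg'] at h1
  exact h1

theorem irrPow_bijective (k : ℕ) (hk : k.Coprime (Nat.card G)) :
    Function.Bijective (irrPow (G := G) k hk) :=
  (Finite.injective_iff_bijective).mp (irrPow_injective k hk)

/-- Dual Burnside–Thompson bound: for a Galois-stable finite set `S` of irreducible characters,
none of which vanishes at `g`, we have `#S ≤ ∑_{χ ∈ S} |χ g|²`. -/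
theorem card_le_sum_norm_sq_of_galois_stable (S : Finset (Cfsg.IrrCharacter G))
    (hS : ∀ (k : ℕ) (hk : k.Coprime (Nat.card G)) (χ : Cfsg.IrrCharacter G),
      irrPow k hk χ ∈ S ↔ χ ∈ S) (g : G) (hne : ∀ χ ∈ S, (χ : G → ℂ) g ≠ 0) :
    (S.card : ℝ) ≤ ∑ χ ∈ S, ‖(χ : G → ℂ) g‖ ^ 2 := by
  classical
  have := Fintype.ofFinite G
  set N := Fintype.card G with hNdef
  have hNcard : Nat.card G = N := Nat.card_eq_fintype_card
  have hNpos : 0 < N := Fintype.card_pos
  set U := (Finset.range N).filter (fun k => k.Coprime N) with hUdef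
  have hUne : U.Nonempty := by
    rcases Nat.lt_or_ge 1 N with h1 | h1
    · exact ⟨1, Finset.mem_filter.mpr ⟨Finset.mem_range.mpr h1, Nat.coprime_one_left N⟩⟩
    · have hN1 : N = 1 := le_antisymm h1 hNpos
      exact ⟨0, Finset.mem_filter.mpr ⟨Finset.mem_range.mpr hNpos, by
        rw [hN1]; exact Nat.coprime_one_right 0⟩⟩
  have hUpos : (0 : ℝ) < U.card := by exact_mod_cast Finset.card_pos.mpr hUne
  have h1 : ∀ k ∈ U, ∑ χ ∈ S, ‖(χ : G → ℂ) (g ^ k)‖ ^ 2 = ∑ χ ∈ S, ‖(χ : G → ℂ) g‖ ^ 2 := by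
    intro k hk
    have hkc : k.Coprime (Nat.card G) := by
      rw [hNcard]; exact (Finset.mem_filter.mp hk).2
    refine Finset.sum_equiv (Equiv.ofBijective _ (irrPow_bijective k hkc)) ?_ ?_
    · intro χ
      exact (hS k hkc χ).symm
    · intro χ _
      rfl
  have h2 : (U.card : ℝ) * ∑ χ ∈ S, ‖(χ : G → ℂ) g‖ ^ 2 =
      ∑ χ ∈ S, ∑ k ∈ U, ‖(χ : G → ℂ) (g ^ k)‖ ^ 2 := by
    rw [Finset.sum_comm, Finset.sum_congr rfl h1, Finset.sum_const, nsmul_eq_mul]
  have h3 : (U.card : ℝ) * S.card ≤ ∑ χ ∈ S, ∑ k ∈ U, ‖(χ : G → ℂ) (g ^ k)‖ ^ 2 := by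
    have : (U.card : ℝ) * S.card = ∑ χ ∈ S, (U.card : ℝ) := by
      rw [Finset.sum_const, nsmul_eq_mul, mul_comm]
    rw [this]
    refine Finset.sum_le_sum (fun χ hχ => ?_)
    obtain ⟨d, ρ, -, hρ⟩ := χ.2
    have h4 := card_le_sum_norm_sq_coprime_pow ρ g (by rw [hρ]; exact hne χ hχ)
    rw [hρ] at h4
    exact h4
  rw [← h2] at h3
  exact le_of_mul_le_mul_left h3 hUpos

end Irr

end Cfsg.Agent.Lib.helper79
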