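import Mathlib
import Cfsg.Agent.Lib.helper79.Contrib
import Cfsg.Agent.Lib.helper79.FixedTrace
import Cfsg.Agent.Lib.helper84.BlockOrth

/-!
# The `p`-part of the sum of the squares of the degrees in a block

For a `p`-block `B` of defect `d` of a finite group `G` with `|G|_p = p ^ a`:

* `sum_contrib_mul_sum_pGroup`: `∑_ψ m χ ψ * (∑_{u ∈ P} ψ u) = p ^ d * χ 1` for a `p`-subgroup `P`
  (`m` the contribution matrix of `Contrib`);
* `sum_degree_mul_conj_sum_pGroup`: `∑_{χ ∈ B} χ 1 * conj (∑_{u ∈ P} χ u) = ∑_{χ ∈ B} χ(1) ^ 2`;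
* `factorization_sum_degree_sq`: the exact power of `p` dividing `∑_{χ ∈ B} χ(1) ^ 2` is
  `p ^ (2 a - d)`.
-/

set_option autoImplicit false

namespace Cfsg.Agent.Lib.helper79

open Cfsg
open scoped ComplexConjugate

section DegSq

variable {G : Type*} [Group G] [Fintype G] {p : ℕ} [Fact p.Prime] {M : Ideal AlgInt}
  {B : Set (IrrCharacter G)}

omit [Fintype G] in
/-- A nontrivial element of a `p`-subgroup has order divisible by `p`. -/
theorem dvd_orderOf_of_isPGroup {P : Subgroup G} (hP : IsPGroup p P) (u : P) (hu : u ≠ 1) :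
    p ∣ orderOf (u : G) := by
  have hp : p.Prime := Fact.out
  obtain ⟨k, hk⟩ := hP u
  have h1 : orderOf u ∣ p ^ k := orderOf_dvd_of_pow_eq_one hk
  obtain ⟨j, -, hj'⟩ := (Nat.dvd_prime_pow hp).mp h1
  rw [Subgroup.orderOf_coe, hj']
  have : j ≠ 0 := by
    rintro rfl
    rw [pow_zero, orderOf_eq_one_iff] at hj'
    exact hu hj'
  exact dvd_pow_self p this

omit [Fintype G] in
open Classical in
/-- On a `p`-subgroup the `p`-regular part of a function is supported at the identity. -/
theorem pRegularPart_coe_of_isPGroup {P : Subgroup G} (hP : IsPGroup p P) (χ : G → ℂ) (u : P) :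
    pRegularPart p χ (u : G) = if u = 1 then χ 1 else 0 := by
  have hp : p.Prime := Fact.out
  unfold pRegularPart IsPRegular
  by_cases hu : u = 1
  · subst hu
    simp [hp.one_lt.ne']
  · have hdvd : p ∣ orderOf (u : G) := dvd_orderOf_of_isPGroup hP u hu
    rw [if_neg (not_not.mpr hdvd), if_neg hu]

open Classical in
/-- `∑_ψ m χ ψ * (∑_{u ∈ P} ψ u) = p ^ d * χ 1` for a `p`-subgroup `P`. -/
theorem sum_contrib_mul_sum_pGroup (hM : IsPModular p M) (hB : IsPBlock M B)
    {χ : IrrCharacter G} (hχ : χ ∈ B) {P : Subgroup G} [Fintype P] (hP : IsPGroup p P) :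
    ∑ ψ : IrrCharacter G, (contrib p B χ ψ : ℂ) * ∑ u : P, (ψ : G → ℂ) (u : G) =
      (p ^ blockDefect p B : ℂ) * (charDegree (χ : G → ℂ) : ℂ) := by
  have h1 : ∀ u : P, (p ^ blockDefect p B : ℂ) * pRegularPart p (χ : G → ℂ) (u : G) =
      ∑ ψ : IrrCharacter G, (contrib p B χ ψ : ℂ) * (ψ : G → ℂ) (u : G) :=
    fun u => contrib_expand hM hB hχ (u : G)
  simp_rw [Finset.mul_sum]
  rw [Finset.sum_comm]
  simp_rw [← h1, pRegularPart_coe_of_isPGroup hP]
  rw [← Finset.mul_sum, Finset.sum_ite_eq' Finset.univ (1 : P)]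
  simp [helper82.irr_one_eq]

open Classical in
/-- `∑_{χ ∈ B} χ 1 * conj (∑_{u ∈ P} χ u) = ∑_{χ ∈ B} χ(1) ^ 2` for a `p`-subgroup `P`
(block orthogonality). -/
theorem sum_degree_mul_conj_sum_pGroup (hM : IsPModular p M) (hB : IsPBlock M B)
    {P : Subgroup G} [Fintype P] (hP : IsPGroup p P) :
    ∑ χ ∈ B.toFinset, (charDegree (χ : G → ℂ) : ℂ) * conj (∑ u : P, (χ : G → ℂ) (u : G)) =
      ((∑ χ ∈ B.toFinset, charDegree (χ : G → ℂ) ^ 2 : ℕ) : ℂ) := by
  have hp : p.Prime := Fact.out
  simp_rw [map_sum, Finset.mul_sum]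
  rw [Finset.sum_comm, Finset.sum_eq_single (1 : P)]
  · push_cast
    apply Finset.sum_congr rfl
    intro χ _
    rw [helper82.irr_one_eq, Complex.conj_natCast]
    ring
  · intro u _ hu
    have hdvd : p ∣ orderOf (u : G) := dvd_orderOf_of_isPGroup hP u hu
    have h1 := helper84.block_orthogonality hM hB (1 : G) (u : G)
      (by rw [orderOf_one]; exact fun h => hp.one_lt.ne' (Nat.dvd_one.mp h)) hdvd
    rw [← Finset.sum_filter] at h1
    have h2 : (Finset.univ.filter (fun χ : IrrCharacter G => χ ∈ B)) = B.toFinset := by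
      ext χ
      simp
    rw [h2] at h1
    rw [← h1]
    apply Finset.sum_congr rfl
    intro χ _
    rw [helper82.irr_one_eq]
  · intro h
    exact absurd (Finset.mem_univ _) h

open Classical in
/-- The exact power of `p` dividing `∑_{χ ∈ B} χ(1) ^ 2` is `p ^ (2 a - d)`, where `p ^ a` is the
`p`-part of `|G|` and `d` the defect of the block `B`. -/
theorem factorization_sum_degree_sq (hM : IsPModular p M) (hB : IsPBlock M B) :
    (∑ χ ∈ B.toFinset, charDegree (χ : G → ℂ) ^ 2).factorization p =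
      2 * (Nat.card G).factorization p - blockDefect p B := by
  have hp : p.Prime := Fact.out
  have hprime : M.IsPrime := isPModular_isPrime hM
  have hpc : (p : ℂ) ≠ 0 := Nat.cast_ne_zero.mpr hp.ne_zero
  obtain ⟨χ₀, hχ₀, h0⟩ := exists_height_zero (p := p) hM hB
  -- a Sylow subgroup and the averages over it
  let P : Sylow p G := default
  have hPG : IsPGroup p (P : Subgroup G) := P.isPGroup'
  have hPcard : Fintype.card (P : Subgroup G) = p ^ (Nat.card G).factorization p := by
    rw [← Nat.card_eq_fintype_card]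
    exact Sylow.card_eq_multiplicity P
  choose β hβint hβsum using fun χ : IrrCharacter G =>
    exists_isIntegral_sum_mul_of_isCharacter (helper20.isCharacter_of_isIrrCharacter χ.2)
      (P : Subgroup G) 1 (by intro u _; simp)
  have hβ : ∀ χ : IrrCharacter G, ∑ u : (P : Subgroup G), (χ : G → ℂ) (u : G) =
      (p : ℂ) ^ (Nat.card G).factorization p * β χ := by
    intro χ
    have := hβsum χ
    simp only [one_mul] at this
    rw [this, hPcard, Nat.cast_pow]
  -- the degrees
  have hdeg : ∀ ψ : IrrCharacter G, ψ ∈ B →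
      (charDegree (ψ : G → ℂ)).factorization p + blockDefect p B =
        (Nat.card G).factorization p + blockHeight p B (ψ : G → ℂ) :=
    fun ψ hψ => factorization_add_defect hψ
  have hda : blockDefect p B ≤ (Nat.card G).factorization p := by
    have := hdeg χ₀ hχ₀
    omega
  have hx : ∀ ψ : IrrCharacter G, ψ ∈ B → charDegree (ψ : G → ℂ) =
      p ^ ((Nat.card G).factorization p - blockDefect p B) *
        (p ^ blockHeight p B (ψ : G → ℂ) *
          (charDegree (ψ : G → ℂ) / p ^ (charDegree (ψ : G → ℂ)).factorization p)) := by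
    intro ψ hψ
    have h1 := hdeg ψ hψ
    have h2 : (charDegree (ψ : G → ℂ)).factorization p =
        ((Nat.card G).factorization p - blockDefect p B) + blockHeight p B (ψ : G → ℂ) := by
      omega
    rw [← mul_assoc, ← pow_add, ← h2]
    exact (Nat.ordProj_mul_ordCompl_eq_self _ p).symm
  -- the sum `S`
  have hS : ((∑ χ ∈ B.toFinset, charDegree (χ : G → ℂ) ^ 2 : ℕ) : ℂ) =
      ((p ^ (2 * (Nat.card G).factorization p - blockDefect p B) : ℕ) : ℂ) *
        ∑ χ ∈ B.toFinset, ((p ^ blockHeight p B (χ : G → ℂ) *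
          (charDegree (χ : G → ℂ) / p ^ (charDegree (χ : G → ℂ)).factorization p) : ℕ) : ℂ) *
            conj (β χ) := by
    rw [← sum_degree_mul_conj_sum_pGroup hM hB hPG, Finset.mul_sum]
    apply Finset.sum_congr rfl
    intro χ hχ
    have hχB : χ ∈ B := Set.mem_toFinset.mp hχ
    rw [hβ χ, map_mul, map_pow, Complex.conj_natCast]
    conv_lhs => rw [hx χ hχB]
    have h3 : 2 * (Nat.card G).factorization p - blockDefect p B =
        ((Nat.card G).factorization p - blockDefect p B) + (Nat.card G).factorization p := by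
      omega
    rw [h3]
    push_cast
    ring
  have hSint : IsIntegral ℤ (∑ χ ∈ B.toFinset, ((p ^ blockHeight p B (χ : G → ℂ) *
      (charDegree (χ : G → ℂ) / p ^ (charDegree (χ : G → ℂ)).factorization p) : ℕ) : ℂ) *
        conj (β χ)) := by
    apply IsIntegral.sum
    intro χ _
    exact IsIntegral.mul (isIntegral_natCast _) (map_isIntegral_int (starRingEnd ℂ) (hβint χ))
  -- lower bound
  have hlow : p ^ (2 * (Nat.card G).factorization p - blockDefect p B) ∣
      ∑ χ ∈ B.toFinset, charDegree (χ : G → ℂ) ^ 2 := by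
    have h1 : ((p ^ (2 * (Nat.card G).factorization p - blockDefect p B) : ℕ) : ℤ) ∣
        ((∑ χ ∈ B.toFinset, charDegree (χ : G → ℂ) ^ 2 : ℕ) : ℤ) :=
      Cfsg.Agent.S4666.int_dvd_of_isIntegral (pow_ne_zero _ hp.ne_zero) _ hSint
        (by rw [Int.cast_natCast]; exact hS)
    exact_mod_cast h1
  -- upper bound
  have hup : ¬ p ^ (2 * (Nat.card G).factorization p - blockDefect p B + 1) ∣
      ∑ χ ∈ B.toFinset, charDegree (χ : G → ℂ) ^ 2 := by
    rintro ⟨t, ht⟩
    -- `S = p * t` lies in the local ideal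
    have hSJ : MemLocalIdeal M (∑ χ ∈ B.toFinset, ((p ^ blockHeight p B (χ : G → ℂ) *
        (charDegree (χ : G → ℂ) / p ^ (charDegree (χ : G → ℂ)).factorization p) : ℕ) : ℂ) *
          conj (β χ)) := by
      have h1 : (∑ χ ∈ B.toFinset, ((p ^ blockHeight p B (χ : G → ℂ) *
          (charDegree (χ : G → ℂ) / p ^ (charDegree (χ : G → ℂ)).factorization p) : ℕ) : ℂ) *
            conj (β χ)) = (p : ℂ) * (t : ℂ) := by
        have h2 : ((p ^ (2 * (Nat.card G).factorization p - blockDefect p B) : ℕ) : ℂ) ≠ 0 :=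
          Nat.cast_ne_zero.mpr (pow_ne_zero _ hp.ne_zero)
        apply mul_left_cancel₀ h2
        rw [← hS, ht]
        push_cast
        ring
      rw [h1]
      have h4 : (p : ℂ) * (t : ℂ) = (((p : AlgInt) * (t : AlgInt) : AlgInt) : ℂ) := by
        push_cast
        ring
      rw [h4]
      exact helper20.memLocalIdeal_of_mem hprime (M.mul_mem_right _ hM.2.2)
    -- the row of `χ₀`
    have hA := sum_contrib_mul_sum_pGroup hM hB hχ₀ hPG
    have hA2 : ∑ ψ ∈ B.toFinset, (contrib p B χ₀ ψ : ℂ) * conj (β ψ) =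
        ((p ^ blockHeight p B (χ₀ : G → ℂ) *
          (charDegree (χ₀ : G → ℂ) / p ^ (charDegree (χ₀ : G → ℂ)).factorization p) : ℕ) : ℂ) := by
      have h1 : ∑ ψ ∈ B.toFinset, (contrib p B χ₀ ψ : ℂ) * β ψ =
          ((p ^ blockHeight p B (χ₀ : G → ℂ) *
          (charDegree (χ₀ : G → ℂ) / p ^ (charDegree (χ₀ : G → ℂ)).factorization p) : ℕ) : ℂ) := by
        have h2 : ∑ ψ ∈ B.toFinset, (contrib p B χ₀ ψ : ℂ) * β ψ =
            ∑ ψ : IrrCharacter G, (contrib p B χ₀ ψ : ℂ) * β ψ := by
          apply Finset.sum_subset (Finset.subset_univ _)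
          intro ψ _ hψ
          have hψ' : ψ ∉ B := fun h => hψ (Set.mem_toFinset.mpr h)
          rw [contrib_eq_zero hM hB hχ₀ hψ']
          simp
        rw [h2]
        have h3 : ((p : ℂ) ^ (Nat.card G).factorization p) ≠ 0 := pow_ne_zero _ hpc
        apply mul_left_cancel₀ h3
        rw [Finset.mul_sum]
        have h5 : ∀ ψ : IrrCharacter G, (p : ℂ) ^ (Nat.card G).factorization p *
            ((contrib p B χ₀ ψ : ℂ) * β ψ) =
            (contrib p B χ₀ ψ : ℂ) * ∑ u : (P : Subgroup G), (ψ : G → ℂ) (u : G) := by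
          intro ψ
          rw [hβ ψ]
          ring
        simp_rw [h5]
        rw [hA]
        conv_lhs => rw [hx χ₀ hχ₀]
        have h6 : (p : ℂ) ^ (Nat.card G).factorization p =
            (p : ℂ) ^ blockDefect p B *
              (p : ℂ) ^ ((Nat.card G).factorization p - blockDefect p B) := by
          rw [← pow_add]
          congr 1
          omega
        rw [h6]
        push_cast
        ring
      have h7 := congrArg (starRingEnd ℂ) h1
      rw [map_sum, Complex.conj_natCast] at h7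
      rw [← h7]
      apply Finset.sum_congr rfl
      intro ψ _
      rw [map_mul, map_intCast]
    -- multiply by `|G|_{p'}` and use the congruences
    have hkey : ((Nat.card G / p ^ (Nat.card G).factorization p : ℕ) : ℂ) *
        ((p ^ blockHeight p B (χ₀ : G → ℂ) *
          (charDegree (χ₀ : G → ℂ) / p ^ (charDegree (χ₀ : G → ℂ)).factorization p) : ℕ) : ℂ) =
        ∑ ψ ∈ B.toFinset, ((p ^ blockHeight p B (ψ : G → ℂ) *
          (charDegree (ψ : G → ℂ) / p ^ (charDegree (ψ : G → ℂ)).factorization p) : ℕ) : ℂ) *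
            (cc p (χ₀ : G → ℂ) (ψ : G → ℂ) - cc p (χ₀ : G → ℂ) (χ₀ : G → ℂ)) * conj (β ψ) +
        cc p (χ₀ : G → ℂ) (χ₀ : G → ℂ) *
          ∑ χ ∈ B.toFinset, ((p ^ blockHeight p B (χ : G → ℂ) *
            (charDegree (χ : G → ℂ) / p ^ (charDegree (χ : G → ℂ)).factorization p) : ℕ) : ℂ) *
              conj (β χ) := by
      rw [← hA2, Finset.mul_sum, Finset.mul_sum, ← Finset.sum_add_distrib]
      apply Finset.sum_congr rfl
      intro ψ hψ
      have hψB : ψ ∈ B := Set.mem_toFinset.mp hψ
      have h1 := contrib_mul_eq hM hB hχ₀ hψB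
      rw [Int.cast_mul, Int.cast_natCast] at h1
      have h2 : ((Nat.card G / p ^ (Nat.card G).factorization p : ℕ) : ℂ) *
          ((contrib p B χ₀ ψ : ℂ) * conj (β ψ)) =
          ((contrib p B χ₀ ψ : ℂ) * ((Nat.card G / p ^ (Nat.card G).factorization p : ℕ) : ℂ)) *
            conj (β ψ) := by ring
      rw [h2, h1]
      push_cast
      ring
    have hJ : MemLocalIdeal M (((((Nat.card G / p ^ (Nat.card G).factorization p : ℕ) : ℤ) *
        ((p ^ blockHeight p B (χ₀ : G → ℂ) *
          (charDegree (χ₀ : G → ℂ) / p ^ (charDegree (χ₀ : G → ℂ)).factorization p) : ℕ) : ℤ) : ℤ)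
            : ℂ)) := by
      rw [Int.cast_mul, Int.cast_natCast, Int.cast_natCast, hkey]
      apply helper20.memLocalIdeal_add hprime
      · apply helper20.memLocalIdeal_sum hprime
        intro ψ hψ
        have hψB : ψ ∈ B := Set.mem_toFinset.mp hψ
        apply helper20.memLocalIdeal_mul_right hprime
        · exact helper20.memLocalIdeal_mul_left hprime (helper20.memLocalRing_natCast hprime _)
            (cc_congr hM hB χ₀ hψB hχ₀)
        · exact helper20.memLocalRing_of_algInt hprime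
            ⟨_, map_isIntegral_int (starRingEnd ℂ) (hβint ψ)⟩
      · exact helper20.memLocalIdeal_mul_left hprime
          (helper20.memLocalRing_of_algInt hprime ⟨_, cc_isIntegral χ₀ χ₀⟩) hSJ
    have hdvd := int_dvd_of_memLocalIdeal hM hJ
    have hpz : Prime (p : ℤ) := Nat.prime_iff_prime_int.mp hp
    have hGm : ¬ p ∣ Nat.card G / p ^ (Nat.card G).factorization p :=
      Nat.not_dvd_ordCompl hp Nat.card_pos.ne'
    have hkm : ¬ p ∣ charDegree (χ₀ : G → ℂ) / p ^ (charDegree (χ₀ : G → ℂ)).factorization p :=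
      Nat.not_dvd_ordCompl hp (helper82.irr_charDegree_pos χ₀).ne'
    rcases hpz.dvd_or_dvd hdvd with h3 | h3
    · exact hGm (by exact_mod_cast h3)
    · rw [h0, pow_zero, one_mul] at h3
      exact hkm (by exact_mod_cast h3)
  -- conclusion
  have hN : (∑ χ ∈ B.toFinset, charDegree (χ : G → ℂ) ^ 2) ≠ 0 := by
    have h1 : charDegree (χ₀ : G → ℂ) ^ 2 ≤ ∑ χ ∈ B.toFinset, charDegree (χ : G → ℂ) ^ 2 :=
      Finset.single_le_sum (f := fun χ : IrrCharacter G => charDegree (χ : G → ℂ) ^ 2)
        (fun _ _ => Nat.zero_le _) (Set.mem_toFinset.mpr hχ₀)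
    have h2 : 0 < charDegree (χ₀ : G → ℂ) ^ 2 := pow_pos (helper82.irr_charDegree_pos χ₀) 2
    omega
  have h1 := (Nat.Prime.pow_dvd_iff_le_factorization hp hN).mp hlow
  have h2 : ¬ (2 * (Nat.card G).factorization p - blockDefect p B + 1 ≤
      (∑ χ ∈ B.toFinset, charDegree (χ : G → ℂ) ^ 2).factorization p) :=
    fun h => hup ((Nat.Prime.pow_dvd_iff_le_factorization hp hN).mpr h)
  omega

end DegSq

end Cfsg.Agent.Lib.helper79
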