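import Mathlib
import Cfsg.Prelude.Def_Blocks
import Cfsg.Prelude.Def_BlockRank
import Cfsg.Agent.Lib.helper78.KLCount
import Cfsg.Agent.Lib.helper20.SecondMain
import Cfsg.Agent.Lib.helper79.DefectCount

/-!
# Subsections: the Gram matrix of the generalized decomposition map

Let `z` be a `p`-element of the finite group `G`, `H = C_G(z)` (given as a subgroup `H` with
`hH : ∀ g, g ∈ H ↔ g * z = z * g`) and `b` a `p`-block of `H`.  For a function `f` on `G`,
`gdm p H b z f` is the function `s ↦ ∑_k e_b(k) f(k z s)` on the `p`-regular elements of `H`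
(extended by zero): the `b`-component of the generalized decomposition map at `z`.

* `gdm_eq_sum`, `gdm_mem_regSpan`: for a class function `f`, `gdm f` is an explicit combination of
  the `p`-regular parts of the members of `b`;
* `gdm_eq_zero_of_not_mem`: Brauer's second main theorem (`gdm χ = 0` unless `χ ∈ b^G`);
* `sum_mul_conj_gdm`: `∑_s w(s) conj(gdm f s) = ∑_s w(s) conj(f(z s))` for `w` in the span of the
  `p`-regular parts of `b`;
* `sum_inner_gdm_mul`: the reproducing identity
  `∑_χ (∑_{s'} w(s') conj(gdm χ s')) gdm χ s = |H| w(s)`;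
* `gram`, `gram_conj`, `gram_sum_mul`, `gram_trace`: the Gram matrix
  `gram χ ψ = |H|⁻¹ ∑_s gdm χ s * conj (gdm ψ s)` is Hermitian, idempotent, of trace
  `blockRank p b`.
-/

set_option autoImplicit false
set_option linter.unusedSectionVars false

namespace Cfsg.Agent.Lib.helper79

open Cfsg
open scoped ComplexConjugate

universe u

section Subsection

variable {G : Type u} [Group G]

/-- The `b`-component of the generalized decomposition map at `z`, for a subgroup `H` and a set
`b` of irreducible characters of `H`. -/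
noncomputable def gdm (p : ℕ) (H : Subgroup G) [Fintype H] (b : Set (IrrCharacter H)) (z : G) :
    (G → ℂ) →ₗ[ℂ] (H → ℂ) where
  toFun f := fun s => if ¬ p ∣ orderOf s then
    ∑ k : H, blockCoeff b k * f ((k : G) * (z * (s : G))) else 0
  map_add' f g := by
    funext y
    by_cases hy : p ∣ orderOf y
    · simp [hy]
    · simp only [Pi.add_apply, if_pos hy]
      rw [← Finset.sum_add_distrib]
      exact Finset.sum_congr rfl (fun k _ => by ring)
  map_smul' c f := by
    funext y
    by_cases hy : p ∣ orderOf y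
    · simp [hy]
    · simp only [Pi.smul_apply, smul_eq_mul, if_pos hy, RingHom.id_apply]
      rw [Finset.mul_sum]
      exact Finset.sum_congr rfl (fun k _ => by ring)

theorem gdm_apply (p : ℕ) (H : Subgroup G) [Fintype H] (b : Set (IrrCharacter H)) (z : G)
    (f : G → ℂ) (s : H) :
    gdm p H b z f s = if ¬ p ∣ orderOf s then
      ∑ k : H, blockCoeff b k * f ((k : G) * (z * (s : G))) else 0 := rfl

theorem gdm_apply_of_reg (p : ℕ) (H : Subgroup G) [Fintype H] (b : Set (IrrCharacter H)) (z : G)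
    (f : G → ℂ) {s : H} (hs : ¬ p ∣ orderOf s) :
    gdm p H b z f s = ∑ k : H, blockCoeff b k * f ((k : G) * (z * (s : G))) := by
  rw [gdm_apply, if_pos hs]

theorem gdm_apply_of_sing (p : ℕ) (H : Subgroup G) [Fintype H] (b : Set (IrrCharacter H)) (z : G)
    (f : G → ℂ) {s : H} (hs : p ∣ orderOf s) : gdm p H b z f s = 0 := by
  rw [gdm_apply, if_neg (not_not.mpr hs)]

/-- The coefficient of the `p`-regular part of `θ` in `gdm f`. -/
noncomputable def gdmCoeff (H : Subgroup G) [Fintype H] (z : H) (f : G → ℂ)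
    (θ : IrrCharacter H) : ℂ :=
  classInner (fun c : H => f (c : G)) (θ : H → ℂ) * ((θ : H → ℂ) z / (θ : H → ℂ) 1)

open Classical in
/-- Explicit form of `gdm f` for a class function `f`: a combination of the `p`-regular parts of
the members of `b`. -/
theorem gdm_eq_sum [Finite G] (p : ℕ) (H : Subgroup G) [Fintype H] (b : Set (IrrCharacter H))
    (z : G) (hzH : z ∈ H) (hzc : ∀ h : H, h * (⟨z, hzH⟩ : H) = ⟨z, hzH⟩ * h)
    (f : G → ℂ) (hf : IsClassFunction G f) :
    gdm p H b z f = ∑ θ : IrrCharacter H,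
      if θ ∈ b then gdmCoeff H ⟨z, hzH⟩ f θ • pRegularPart p (θ : H → ℂ) else 0 := by
  have hcf : IsClassFunction H (fun c : H => f (c : G)) := by
    intro g h
    show f ((h * g * h⁻¹ : H) : G) = f (g : G)
    push_cast
    exact hf _ _
  funext y
  rw [Finset.sum_apply, gdm_apply]
  by_cases hy : p ∣ orderOf y
  · rw [if_neg (not_not.mpr hy)]
    symm
    apply Finset.sum_eq_zero
    intro θ _
    split_ifs with hθ
    · rw [Pi.smul_apply, helper78.pRegularPart_apply_of_sing p _ hy, smul_zero]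
    · rfl
  · rw [if_pos hy]
    have h1 := helper20.finsum_classInner_eq_sum b (fun c : H => f (c : G)) hcf
      ((⟨z, hzH⟩ : H) * y)
    have h2 : ∑ k : H, blockCoeff b k * f ((k : G) * (z * (y : G)))
        = ∑ k : H, blockCoeff b k *
          (fun c : H => f (c : G)) (k * ((⟨z, hzH⟩ : H) * y)) := rfl
    rw [h2, ← h1, finsum_mem_def, finsum_eq_sum_of_fintype]
    refine Finset.sum_congr rfl (fun θ _ => ?_)
    rw [Set.indicator_apply]
    split_ifs with hθ
    · rw [Pi.smul_apply, helper78.pRegularPart_apply_of_reg p _ hy,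
        helper78.irr_central_mul θ ⟨z, hzH⟩ hzc y, smul_eq_mul]
      unfold gdmCoeff
      ring
    · rfl

/-- For a class function `f`, `gdm f` lies in the span of the `p`-regular parts of the members
of `b`. -/
theorem gdm_mem_regSpan [Finite G] (p : ℕ) (H : Subgroup G) [Fintype H]
    (b : Set (IrrCharacter H)) (z : G) (hzH : z ∈ H)
    (hzc : ∀ h : H, h * (⟨z, hzH⟩ : H) = ⟨z, hzH⟩ * h) (f : G → ℂ) (hf : IsClassFunction G f) :
    gdm p H b z f ∈ helper78.regSpan p b := by
  classical
  rw [gdm_eq_sum p H b z hzH hzc f hf]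
  refine Submodule.sum_mem _ (fun θ _ => ?_)
  split_ifs with hθ
  · exact Submodule.smul_mem _ _ (helper78.pRegularPart_mem_regSpan p hθ)
  · exact Submodule.zero_mem _

/-- Membership in `H = C_G(z)` gives centrality of `z` in `H`. -/
theorem central_of_centralizer (H : Subgroup G) (z : G) (hH : ∀ g : G, g ∈ H ↔ g * z = z * g) :
    ∃ hzH : z ∈ H, ∀ h : H, h * (⟨z, hzH⟩ : H) = ⟨z, hzH⟩ * h := by
  refine ⟨(hH z).mpr rfl, fun h => ?_⟩
  apply Subtype.ext
  exact (hH h).mp h.2

/-- **Second main theorem** for `gdm`: the `b`-component of `χ` vanishes unless `χ ∈ b^G`. -/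
theorem gdm_eq_zero_of_not_mem [Fintype G] {p : ℕ} [Fact p.Prime] {M : Ideal AlgInt}
    (hM : IsPModular p M) (H : Subgroup G) [Fintype H] (b : Set (IrrCharacter H))
    (B : Set (IrrCharacter G)) (hind : IsInducedBlock M H b B) (z : G)
    (hH : ∀ g : G, g ∈ H ↔ g * z = z * g) (hz : ∃ k : ℕ, orderOf z = p ^ k)
    (χ : IrrCharacter G) (hχ : χ ∉ B) : gdm p H b z (χ : G → ℂ) = 0 := by
  obtain ⟨hzH, -⟩ := central_of_centralizer H z hH
  funext y
  rw [gdm_apply]
  by_cases hy : p ∣ orderOf y
  · rw [if_neg (not_not.mpr hy)]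
    rfl
  · rw [if_pos hy]
    have hyx : z * (y : G) = (y : G) * z := ((hH y).mp y.2).symm
    have hPP : IsPPart p (z * (y : G)) z :=
      helper20.isPPart_mul hyx hz (by rw [Subgroup.orderOf_coe]; exact hy)
    have hC : ∀ z' : G, IsPPart p (((⟨z, hzH⟩ : H) * y : H) : G) z' →
        Subgroup.centralizer ({z'} : Set G) ≤ H := by
      intro z' hz'
      have hz'' : IsPPart p (z * (y : G)) z' := hz'
      rw [helper20.isPPart_unique hM.1 hz'' hPP]
      intro g hg
      rw [hH]
      exact Subgroup.mem_centralizer_singleton_iff.mp hg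
    exact helper20.sum_blockCoeff_mul_eq_zero hM H b B hind ((⟨z, hzH⟩ : H) * y) hC χ hχ

/-- Complex conjugation of the idempotent coefficients. -/
theorem conj_blockCoeff {K : Type u} [Group K] [Finite K] (B : Set (IrrCharacter K)) (g : K) :
    conj (blockCoeff B g) = blockCoeff B g⁻¹ := by
  classical
  have : Fintype K := Fintype.ofFinite K
  rw [helper81.blockCoeff_eq_sum, helper81.blockCoeff_eq_sum, map_mul, map_inv₀,
    Complex.conj_natCast, map_sum]
  congr 1
  apply Finset.sum_congr rfl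
  intro χ _
  split_ifs
  · rw [map_mul, Complex.conj_conj, helper81.irr_inv, Complex.conj_conj, helper82.irr_one_eq,
      Complex.conj_natCast]
  · exact map_zero _

/-- Self-adjointness of the block projection: against a function `w` in the span of the
`p`-regular parts of `b`, `gdm f` can be replaced by `s ↦ f (z s)`. -/
theorem sum_mul_conj_gdm [Fintype G] {p : ℕ} {M : Ideal AlgInt}
    (hM : IsPModular p M) (H : Subgroup G) [Fintype H] {b : Set (IrrCharacter H)}
    (hb : IsPBlock M b) (z : G) (hH : ∀ g : G, g ∈ H ↔ g * z = z * g)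
    {w : H → ℂ} (hw : w ∈ helper78.regSpan p b) (f : G → ℂ) :
    ∑ s : H, w s * conj (gdm p H b z f s) = ∑ s : H, w s * conj (f (z * (s : G))) := by
  have hwcl := (helper78.regSpan_le_regCl p b hw).2
  have hbp : helper78.bpL b w = w := by
    have := helper78.bpL_regSpan hM hb hb hw
    rwa [if_pos rfl] at this
  -- drop the `if`
  have h1 : ∀ s : H, w s * conj (gdm p H b z f s) =
      ∑ k : H, w s * (blockCoeff b k⁻¹ * conj (f (z * ((k * s : H) : G)))) := by
    intro s
    by_cases hs : p ∣ orderOf s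
    · rw [hwcl s hs]
      simp
    · rw [gdm_apply_of_reg p H b z f hs, map_sum, Finset.mul_sum]
      apply Finset.sum_congr rfl
      intro k _
      rw [map_mul, conj_blockCoeff]
      have hk : (k : G) * (z * (s : G)) = z * ((k * s : H) : G) := by
        rw [← mul_assoc, (hH k).mp k.2, mul_assoc]
        rfl
      rw [hk]
  simp_rw [h1]
  rw [Finset.sum_comm]
  -- reindex `s ↦ k⁻¹ * s`
  have h2 : ∀ k : H, ∑ s : H, w s * (blockCoeff b k⁻¹ * conj (f (z * ((k * s : H) : G)))) =
      ∑ s : H, w (k⁻¹ * s) * (blockCoeff b k⁻¹ * conj (f (z * (s : G)))) := by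
    intro k
    apply Fintype.sum_equiv (Equiv.mulLeft k)
    intro s
    simp
  simp_rw [h2]
  rw [Finset.sum_comm]
  apply Finset.sum_congr rfl
  intro s _
  have h3 : ∑ k : H, w (k⁻¹ * s) * (blockCoeff b k⁻¹ * conj (f (z * (s : G)))) =
      (∑ k : H, blockCoeff b k * w (k * s)) * conj (f (z * (s : G))) := by
    rw [Finset.sum_mul]
    apply Fintype.sum_equiv (Equiv.inv H)
    intro k
    simp only [Equiv.inv_apply]
    ring
  rw [h3, ← helper78.bpL_apply, hbp]

open Classical in
/-- The second orthogonality relation in counting form. -/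
theorem sum_irr_mul_conj_eq_card [Fintype G] (g h : G) :
    ∑ χ : IrrCharacter G, (χ : G → ℂ) g * conj ((χ : G → ℂ) h) =
      ((Finset.univ.filter (fun x : G => x⁻¹ * g * x = h)).card : ℂ) := by
  rw [helper83.second_orthogonality]
  split_ifs with hgh
  · rw [helper20.card_conj_fiber g h hgh, card_centralizer_eq_of_isConj hgh]
  · have : Finset.univ.filter (fun x : G => x⁻¹ * g * x = h) = ∅ := by
      rw [Finset.filter_eq_empty_iff]
      intro x _ hx
      apply hgh
      rw [isConj_iff]
      exact ⟨x⁻¹, by rw [inv_inv]; exact hx⟩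
    rw [this]
    simp

/-- Conjugation of a `p`-part decomposition. -/
theorem isPPart_conj {p : ℕ} {g x : G} (h : IsPPart p g x) (t : G) :
    IsPPart p (t⁻¹ * g * t) (t⁻¹ * x * t) := by
  obtain ⟨y, hxy, hc, ⟨k, hk⟩, hy⟩ := h
  refine ⟨t⁻¹ * y * t, ?_, ?_, ⟨k, ?_⟩, ?_⟩
  · rw [← hxy]
    group
  · show (t⁻¹ * x * t) * (t⁻¹ * y * t) = (t⁻¹ * y * t) * (t⁻¹ * x * t)
    have h1 : x * y = y * x := hc
    calc (t⁻¹ * x * t) * (t⁻¹ * y * t) = t⁻¹ * (x * y) * t := by group
      _ = t⁻¹ * (y * x) * t := by rw [h1]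
      _ = (t⁻¹ * y * t) * (t⁻¹ * x * t) := by group
  · rw [← hk]
    exact (orderOf_eq_of_isConj (isConj_iff.mpr ⟨t⁻¹, by rw [inv_inv]⟩)).symm
  · have : orderOf (t⁻¹ * y * t) = orderOf y :=
      (orderOf_eq_of_isConj (isConj_iff.mpr ⟨t⁻¹, by rw [inv_inv]⟩)).symm
    rwa [this]

open Classical in
/-- The kernel `∑_χ χ(z c) conj(χ(z s'))`, integrated against `w`, reproduces `w` on the
`p`-regular elements of `H = C_G(z)`. -/
theorem sum_kernel_eq [Fintype G] {p : ℕ} [Fact p.Prime]
    (H : Subgroup G) [Fintype H] (z : G) (hH : ∀ g : G, g ∈ H ↔ g * z = z * g)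
    (hz : ∃ k : ℕ, orderOf z = p ^ k) (w : H → ℂ) (hwcl : IsClassFunction H w)
    (hw0 : ∀ h : H, p ∣ orderOf h → w h = 0) (c : H) (hc : ¬ p ∣ orderOf c) :
    ∑ χ : IrrCharacter G, (∑ s' : H, w s' * conj ((χ : G → ℂ) (z * (s' : G)))) *
      (χ : G → ℂ) (z * (c : G)) = (Nat.card H : ℂ) * w c := by
  have hp : p.Prime := Fact.out
  have h1 : ∑ χ : IrrCharacter G, (∑ s' : H, w s' * conj ((χ : G → ℂ) (z * (s' : G)))) *
      (χ : G → ℂ) (z * (c : G)) =
      ∑ s' : H, w s' * ∑ χ : IrrCharacter G,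
        (χ : G → ℂ) (z * (c : G)) * conj ((χ : G → ℂ) (z * (s' : G))) := by
    simp_rw [Finset.sum_mul, Finset.mul_sum]
    rw [Finset.sum_comm]
    apply Finset.sum_congr rfl
    intro s' _
    apply Finset.sum_congr rfl
    intro χ _
    ring
  rw [h1]
  simp_rw [sum_irr_mul_conj_eq_card]
  have h2 : ∀ s' : H, w s' *
      ((Finset.univ.filter (fun x : G => x⁻¹ * (z * (c : G)) * x = z * (s' : G))).card : ℂ) =
      ∑ x : G, if x⁻¹ * (z * (c : G)) * x = z * (s' : G) then w s' else 0 := by
    intro s'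
    rw [Finset.sum_ite, Finset.sum_const_zero, add_zero, Finset.sum_const, nsmul_eq_mul, mul_comm]
  simp_rw [h2]
  rw [Finset.sum_comm]
  have hPc : IsPPart p (z * (c : G)) z :=
    helper20.isPPart_mul ((hH c).mp c.2).symm hz (by rw [Subgroup.orderOf_coe]; exact hc)
  have h3 : ∀ x : G, (∑ s' : H, if x⁻¹ * (z * (c : G)) * x = z * (s' : G) then w s' else 0) =
      if x ∈ H then w c else 0 := by
    intro x
    by_cases hx : x ∈ H
    · rw [if_pos hx]
      have hxz : x * z = z * x := (hH x).mp hx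
      have hxz' : x⁻¹ * z = z * x⁻¹ := by
        have : z = x⁻¹ * z * x := by rw [mul_assoc, ← hxz, ← mul_assoc, inv_mul_cancel, one_mul]
        calc x⁻¹ * z = x⁻¹ * z * x * x⁻¹ := by group
          _ = z * x⁻¹ := by rw [← this]
      have hconj : x⁻¹ * (z * (c : G)) * x = z * (((⟨x, hx⟩ : H)⁻¹ * c * ⟨x, hx⟩ : H) : G) := by
        push_cast
        rw [← mul_assoc, hxz', mul_assoc, mul_assoc, mul_assoc]
      rw [Finset.sum_eq_single ((⟨x, hx⟩ : H)⁻¹ * c * ⟨x, hx⟩)]
      · rw [if_pos hconj]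
        have := hwcl c (⟨x, hx⟩ : H)⁻¹
        rw [inv_inv] at this
        exact this
      · intro s' _ hs'
        rw [if_neg]
        intro h
        apply hs'
        rw [hconj] at h
        exact (Subtype.ext (mul_left_cancel h)).symm
      · intro h
        exact absurd (Finset.mem_univ _) h
    · rw [if_neg hx]
      apply Finset.sum_eq_zero
      intro s' _
      split_ifs with h
      · by_cases hs' : p ∣ orderOf s'
        · exact hw0 s' hs'
        · exfalso
          apply hx
          have hP1 : IsPPart p (z * (s' : G)) z :=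
            helper20.isPPart_mul ((hH s').mp s'.2).symm hz
              (by rw [Subgroup.orderOf_coe]; exact hs')
          have hP2 : IsPPart p (z * (s' : G)) (x⁻¹ * z * x) := by
            rw [← h]
            exact isPPart_conj hPc x
          have h4 := helper20.isPPart_unique hp hP1 hP2
          rw [hH]
          calc x * z = x * (x⁻¹ * z * x) := by rw [← h4]
            _ = z * x := by group
      · rfl
  simp_rw [h3]
  rw [Finset.sum_ite, Finset.sum_const_zero, add_zero, Finset.sum_const, nsmul_eq_mul]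
  congr 2
  rw [Nat.card_eq_fintype_card, ← Finset.card_subtype (fun x => x ∈ H) Finset.univ]
  rw [Fintype.card, Finset.subtype_univ]

/-- **Reproducing identity** for the generalized decomposition map. -/
theorem sum_inner_gdm_mul [Fintype G] {p : ℕ} [Fact p.Prime] {M : Ideal AlgInt}
    (hM : IsPModular p M) (H : Subgroup G) [Fintype H] {b : Set (IrrCharacter H)}
    (hb : IsPBlock M b) (z : G) (hH : ∀ g : G, g ∈ H ↔ g * z = z * g)
    (hz : ∃ k : ℕ, orderOf z = p ^ k) {w : H → ℂ} (hw : w ∈ helper78.regSpan p b) (s : H) :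
    ∑ χ : IrrCharacter G, (∑ s' : H, w s' * conj (gdm p H b z (χ : G → ℂ) s')) *
      gdm p H b z (χ : G → ℂ) s = (Nat.card H : ℂ) * w s := by
  classical
  have hwcl : IsClassFunction H w := (helper78.regSpan_le_regCl p b hw).1
  have hw0 := (helper78.regSpan_le_regCl p b hw).2
  simp_rw [sum_mul_conj_gdm hM H hb z hH hw]
  by_cases hs : p ∣ orderOf s
  · rw [hw0 s hs, mul_zero]
    apply Finset.sum_eq_zero
    intro χ _
    rw [gdm_apply_of_sing p H b z _ hs, mul_zero]
  · -- the kernel function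
    set Ψ : H → ℂ := fun c => ∑ χ : IrrCharacter G,
      (∑ s' : H, w s' * conj ((χ : G → ℂ) (z * (s' : G)))) * (χ : G → ℂ) (z * (c : G)) with hΨ
    have hΨcl : IsClassFunction H Ψ := by
      intro g h
      simp only [hΨ]
      apply Finset.sum_congr rfl
      intro χ _
      congr 1
      have hhz : (h : G) * z = z * (h : G) := (hH h).mp h.2
      have : z * ((h * g * h⁻¹ : H) : G) = (h : G) * (z * (g : G)) * (h : G)⁻¹ := by
        push_cast
        rw [← mul_assoc, ← mul_assoc, ← mul_assoc, hhz]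
      rw [this]
      exact helper81.irr_classFun χ _ _
    have hΨreg : ∀ c : H, ¬ p ∣ orderOf c → Ψ c = (Nat.card H : ℂ) * w c := fun c hc =>
      sum_kernel_eq H z hH hz w hwcl hw0 c hc
    have h1 : ∑ χ : IrrCharacter G, (∑ s' : H, w s' * conj ((χ : G → ℂ) (z * (s' : G)))) *
        gdm p H b z (χ : G → ℂ) s = ∑ k : H, blockCoeff b k * Ψ (k * s) := by
      simp only [hΨ]
      simp_rw [gdm_apply_of_reg p H b z _ hs, Finset.mul_sum]
      rw [Finset.sum_comm]
      apply Finset.sum_congr rfl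
      intro k _
      apply Finset.sum_congr rfl
      intro χ _
      have hk : (k : G) * (z * (s : G)) = z * ((k * s : H) : G) := by
        rw [← mul_assoc, (hH k).mp k.2, mul_assoc]
        rfl
      rw [hk]
      ring
    rw [h1]
    -- split `Ψ = |H| w + Ψ'`
    set Ψ' : H → ℂ := fun c => Ψ c - (Nat.card H : ℂ) * w c with hΨ'
    have hΨ'cl : IsClassFunction H Ψ' := by
      intro g h
      simp only [hΨ']
      rw [hΨcl g h, hwcl g h]
    have h2 : ∑ k : H, blockCoeff b k * Ψ (k * s) =
        (Nat.card H : ℂ) * ∑ k : H, blockCoeff b k * w (k * s) +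
          ∑ k : H, blockCoeff b k * Ψ' (k * s) := by
      rw [Finset.mul_sum, ← Finset.sum_add_distrib]
      apply Finset.sum_congr rfl
      intro k _
      simp only [hΨ']
      ring
    have hbp : helper78.bpL b w = w := by
      have := helper78.bpL_regSpan hM hb hb hw
      rwa [if_pos rfl] at this
    have h3 : ∑ k : H, blockCoeff b k * Ψ' (k * s) = 0 := by
      rw [← helper20.finsum_classInner_eq_sum b Ψ' hΨ'cl s]
      have := helper20.finsum_classInner_eq_zero_of_section hM Ψ' hΨ'cl (1 : H) s (by simp)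
        ⟨0, by simp⟩ hs (fun c _ hc => by
          simp only [hΨ', one_mul]
          rw [hΨreg c hc, sub_self]) b hb
      simpa using this
    rw [h2, h3, add_zero, ← helper78.bpL_apply, hbp]

/-- The Gram matrix of the generalized decomposition map at `z`. -/
noncomputable def gram (p : ℕ) (H : Subgroup G) [Fintype H] (b : Set (IrrCharacter H)) (z : G)
    (χ ψ : G → ℂ) : ℂ :=
  (Nat.card H : ℂ)⁻¹ * ∑ s : H, gdm p H b z χ s * conj (gdm p H b z ψ s)

theorem gram_conj (p : ℕ) (H : Subgroup G) [Fintype H] (b : Set (IrrCharacter H)) (z : G)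
    (χ ψ : G → ℂ) : conj (gram p H b z χ ψ) = gram p H b z ψ χ := by
  unfold gram
  rw [map_mul, map_inv₀, Complex.conj_natCast, map_sum]
  congr 1
  apply Finset.sum_congr rfl
  intro s _
  rw [map_mul, Complex.conj_conj, mul_comm]

theorem card_subgroup_ne_zero (H : Subgroup G) [Finite G] : (Nat.card H : ℂ) ≠ 0 :=
  Nat.cast_ne_zero.mpr Nat.card_pos.ne'

/-- The Gram matrix is idempotent. -/
theorem gram_sum_mul [Fintype G] {p : ℕ} [Fact p.Prime] {M : Ideal AlgInt}
    (hM : IsPModular p M) (H : Subgroup G) [Fintype H] {b : Set (IrrCharacter H)}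
    (hb : IsPBlock M b) (z : G) (hH : ∀ g : G, g ∈ H ↔ g * z = z * g)
    (hz : ∃ k : ℕ, orderOf z = p ^ k) (χ χ' : IrrCharacter G) :
    ∑ ψ : IrrCharacter G, gram p H b z (χ : G → ℂ) (ψ : G → ℂ) *
      gram p H b z (ψ : G → ℂ) (χ' : G → ℂ) = gram p H b z (χ : G → ℂ) (χ' : G → ℂ) := by
  obtain ⟨hzH, hzc⟩ := central_of_centralizer H z hH
  have hw := gdm_mem_regSpan p H b z hzH hzc (χ : G → ℂ) (helper81.irr_classFun χ)
  have hH0 := card_subgroup_ne_zero H
  have key : ∑ ψ : IrrCharacter G,
      (∑ s' : H, gdm p H b z (χ : G → ℂ) s' * conj (gdm p H b z (ψ : G → ℂ) s')) *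
        (∑ s : H, gdm p H b z (ψ : G → ℂ) s * conj (gdm p H b z (χ' : G → ℂ) s)) =
      (Nat.card H : ℂ) * ∑ s : H, gdm p H b z (χ : G → ℂ) s *
        conj (gdm p H b z (χ' : G → ℂ) s) := by
    simp_rw [Finset.mul_sum]
    rw [Finset.sum_comm]
    apply Finset.sum_congr rfl
    intro s _
    have := sum_inner_gdm_mul hM H hb z hH hz hw s
    rw [← mul_assoc, ← this, Finset.sum_mul]
    apply Finset.sum_congr rfl
    intro ψ _
    ring
  unfold gram
  have h2 : ∀ ψ : IrrCharacter G,
      (Nat.card H : ℂ)⁻¹ * (∑ s : H, gdm p H b z (χ : G → ℂ) s *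
        conj (gdm p H b z (ψ : G → ℂ) s)) *
      ((Nat.card H : ℂ)⁻¹ * ∑ s : H, gdm p H b z (ψ : G → ℂ) s *
        conj (gdm p H b z (χ' : G → ℂ) s)) =
      (Nat.card H : ℂ)⁻¹ * (Nat.card H : ℂ)⁻¹ *
        ((∑ s' : H, gdm p H b z (χ : G → ℂ) s' * conj (gdm p H b z (ψ : G → ℂ) s')) *
        (∑ s : H, gdm p H b z (ψ : G → ℂ) s * conj (gdm p H b z (χ' : G → ℂ) s))) := by
    intro ψ
    ring
  simp_rw [h2]
  rw [← Finset.mul_sum, key]
  field_simp

/-- Each row of the Gram matrix has square norm equal to its diagonal entry. -/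
theorem gram_sum_sq [Fintype G] {p : ℕ} [Fact p.Prime] {M : Ideal AlgInt}
    (hM : IsPModular p M) (H : Subgroup G) [Fintype H] {b : Set (IrrCharacter H)}
    (hb : IsPBlock M b) (z : G) (hH : ∀ g : G, g ∈ H ↔ g * z = z * g)
    (hz : ∃ k : ℕ, orderOf z = p ^ k) (χ : IrrCharacter G) :
    ∑ ψ : IrrCharacter G, ((‖gram p H b z (χ : G → ℂ) (ψ : G → ℂ)‖ ^ 2 : ℝ) : ℂ) =
      gram p H b z (χ : G → ℂ) (χ : G → ℂ) := by
  rw [← gram_sum_mul hM H hb z hH hz χ χ]
  apply Finset.sum_congr rfl
  intro ψ _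
  rw [← gram_conj p H b z (χ : G → ℂ) (ψ : G → ℂ), Complex.mul_conj, Complex.normSq_eq_norm_sq]

/-- The trace of the Gram matrix is the `p`-regular rank of `b`. -/
theorem gram_trace [Fintype G] {p : ℕ} [Fact p.Prime] {M : Ideal AlgInt}
    (hM : IsPModular p M) (H : Subgroup G) [Fintype H] {b : Set (IrrCharacter H)}
    (hb : IsPBlock M b) (z : G) (hH : ∀ g : G, g ∈ H ↔ g * z = z * g)
    (hz : ∃ k : ℕ, orderOf z = p ^ k) :
    ∑ χ : IrrCharacter G, gram p H b z (χ : G → ℂ) (χ : G → ℂ) = (blockRank p b : ℂ) := by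
  obtain ⟨hzH, hzc⟩ := central_of_centralizer H z hH
  have hH0 := card_subgroup_ne_zero H
  have hmem : ∀ χ : IrrCharacter G, gdm p H b z (χ : G → ℂ) ∈ helper78.regSpan p b :=
    fun χ => gdm_mem_regSpan p H b z hzH hzc (χ : G → ℂ) (helper81.irr_classFun χ)
  let u : IrrCharacter G → helper78.regSpan p b := fun χ => ⟨gdm p H b z (χ : G → ℂ), hmem χ⟩
  let φ : IrrCharacter G → Module.Dual ℂ (helper78.regSpan p b) := fun χ =>
    { toFun := fun w => (Nat.card H : ℂ)⁻¹ *
        ∑ s : H, (w : H → ℂ) s * conj (gdm p H b z (χ : G → ℂ) s)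
      map_add' := by
        intro w w'
        rw [← mul_add, ← Finset.sum_add_distrib]
        congr 1
        apply Finset.sum_congr rfl
        intro s _
        rw [Submodule.coe_add, Pi.add_apply]
        ring
      map_smul' := by
        intro c w
        simp only [RingHom.id_apply, smul_eq_mul]
        rw [Finset.mul_sum, Finset.mul_sum, Finset.mul_sum]
        apply Finset.sum_congr rfl
        intro s _
        rw [Submodule.coe_smul, Pi.smul_apply, smul_eq_mul]
        ring }
  have hid : (LinearMap.id : helper78.regSpan p b →ₗ[ℂ] helper78.regSpan p b) =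
      ∑ χ : IrrCharacter G, dualTensorHom ℂ (helper78.regSpan p b) (helper78.regSpan p b)
        (φ χ ⊗ₜ[ℂ] u χ) := by
    ext w s
    rw [LinearMap.id_apply, LinearMap.sum_apply, Submodule.coe_sum, Finset.sum_apply]
    have h1 := sum_inner_gdm_mul hM H hb z hH hz w.2 s
    have h2 : ∀ χ : IrrCharacter G,
        ((dualTensorHom ℂ (helper78.regSpan p b) (helper78.regSpan p b) (φ χ ⊗ₜ[ℂ] u χ) w :
          helper78.regSpan p b) : H → ℂ) s =
        (Nat.card H : ℂ)⁻¹ * ((∑ s' : H, (w : H → ℂ) s' * conj (gdm p H b z (χ : G → ℂ) s')) *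
          gdm p H b z (χ : G → ℂ) s) := by
      intro χ
      rw [dualTensorHom_apply, Submodule.coe_smul, Pi.smul_apply, smul_eq_mul]
      show (Nat.card H : ℂ)⁻¹ * (∑ s' : H, (w : H → ℂ) s' * conj (gdm p H b z (χ : G → ℂ) s')) *
        gdm p H b z (χ : G → ℂ) s = _
      ring
    simp_rw [h2]
    rw [← Finset.mul_sum, h1, ← mul_assoc, inv_mul_cancel₀ hH0, one_mul]
  have htr := congrArg (LinearMap.trace ℂ (helper78.regSpan p b)) hid
  rw [LinearMap.trace_id, map_sum] at htr
  simp_rw [LinearMap.trace_eq_contract_apply, contractLeft_apply] at htr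
  rw [helper78.blockRank_eq_finrank_regSpan, htr]
  rfl

/-- Translating a class function of `G` by an element commuting with `H` gives a class function
of `H`. -/
theorem isClassFunction_shift_left (H : Subgroup G) (z : G)
    (hzc : ∀ h : H, (h : G) * z = z * (h : G)) {f : G → ℂ} (hf : IsClassFunction G f) :
    IsClassFunction H (fun c : H => f (z * (c : G))) := by
  intro g h
  have : z * ((h * g * h⁻¹ : H) : G) = (h : G) * (z * (g : G)) * (h : G)⁻¹ := by
    push_cast
    rw [← mul_assoc, ← mul_assoc, ← mul_assoc, hzc h]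
  show f (z * ((h * g * h⁻¹ : H) : G)) = f (z * (g : G))
  rw [this]
  exact hf _ _

/-- The block parts appearing in the orthogonality relation for generalized decomposition
numbers, in terms of `gdm`. -/
theorem blockPart_mul_eq_gdm [Fintype G] (p : ℕ) (H : Subgroup G) [Fintype H]
    (b : Set (IrrCharacter H)) (z : G) (hH : ∀ g : G, g ∈ H ↔ g * z = z * g)
    (χ : IrrCharacter G) (s : H) :
    pRegularPart p (blockPart b (fun c : H => (χ : G → ℂ) (z * (c : G)))) s *
      blockPart b (fun c : H => (χ : G → ℂ) (z⁻¹ * (c : G))) s⁻¹ =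
    gdm p H b z (χ : G → ℂ) s * conj (gdm p H b z (χ : G → ℂ) s) := by
  by_cases hs : p ∣ orderOf s
  · rw [helper78.pRegularPart_apply_of_sing p _ hs, gdm_apply_of_sing p H b z _ hs]
    simp
  · rw [helper78.pRegularPart_apply_of_reg p _ hs, gdm_apply_of_reg p H b z _ hs]
    have hzc : ∀ h : H, (h : G) * z = z * (h : G) := fun h => (hH h).mp h.2
    have hzc' : ∀ h : H, (h : G) * z⁻¹ = z⁻¹ * (h : G) := by
      intro h
      calc (h : G) * z⁻¹ = z⁻¹ * (z * (h : G)) * z⁻¹ := by group
        _ = z⁻¹ * ((h : G) * z) * z⁻¹ := by rw [hzc h]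
        _ = z⁻¹ * (h : G) := by group
    have hcl1 := isClassFunction_shift_left H z hzc (helper81.irr_classFun χ)
    have hcl2 := isClassFunction_shift_left H z⁻¹ hzc' (helper81.irr_classFun χ)
    rw [helper20.blockPart_eq_finsum b _ hcl1 s, helper20.blockPart_eq_finsum b _ hcl2 s⁻¹,
      finsum_eq_sum_of_fintype, finsum_eq_sum_of_fintype]
    congr 1
    · apply Finset.sum_congr rfl
      intro k _
      have hk : z * ((k * s : H) : G) = (k : G) * (z * (s : G)) := by
        push_cast
        rw [← mul_assoc, ← mul_assoc, hzc k]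
      show blockCoeff b k * (χ : G → ℂ) (z * ((k * s : H) : G)) = _
      rw [hk]
    · rw [map_sum]
      apply Fintype.sum_equiv (Equiv.inv H)
      intro k
      simp only [Equiv.inv_apply]
      rw [map_mul, conj_blockCoeff, ← helper81.irr_inv, inv_inv]
      congr 1
      show (χ : G → ℂ) (z⁻¹ * ((k * s⁻¹ : H) : G)) =
        (χ : G → ℂ) (((k⁻¹ : H) : G) * (z * (s : G)))⁻¹
      have h1 := helper81.irr_classFun χ (z⁻¹ * ((k : G) * (s : G)⁻¹)) (s : G)⁻¹
      rw [inv_inv] at h1
      have h2 : ((k⁻¹ : H) : G) * (z * (s : G)) =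
          ((s : G)⁻¹ * (z⁻¹ * ((k : G) * (s : G)⁻¹)) * (s : G))⁻¹ := by
        push_cast
        group
      rw [h2, inv_inv, h1]
      push_cast
      rfl

open Classical in
/-- Orthogonality relation for the generalized decomposition numbers of a subsection `(z, b)`
with `b^G = B`: `∑_{χ ∈ B} ∑_s χ_z(s) χ_z'(s⁻¹) = |C_G(z)| l(b)`. -/
theorem sum_blockPart_mul [Fintype G] {p : ℕ} [Fact p.Prime] {M : Ideal AlgInt}
    (hM : IsPModular p M) (H : Subgroup G) {b : Set (IrrCharacter H)}
    (hb : IsPBlock M b) (B : Set (IrrCharacter G)) (hind : IsInducedBlock M H b B) (z : G)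
    (hH : ∀ g : G, g ∈ H ↔ g * z = z * g) (hz : ∃ k : ℕ, orderOf z = p ^ k) :
    ∑ᶠ χ ∈ B, ∑ᶠ s : H,
      pRegularPart p (blockPart b (fun c : H => (χ : G → ℂ) (z * (c : G)))) s *
        blockPart b (fun c : H => (χ : G → ℂ) (z⁻¹ * (c : G))) s⁻¹ =
      (Nat.card H : ℂ) * (blockRank p b : ℂ) := by
  have : Fintype H := Fintype.ofFinite H
  have hH0 := card_subgroup_ne_zero H
  rw [finsum_mem_eq_toFinset_sum]
  simp_rw [blockPart_mul_eq_gdm p H b z hH]
  simp_rw [finsum_eq_sum_of_fintype]
  have hgram : ∀ χ : IrrCharacter G,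
      ∑ s : H, gdm p H b z (χ : G → ℂ) s * conj (gdm p H b z (χ : G → ℂ) s) =
      (Nat.card H : ℂ) * gram p H b z (χ : G → ℂ) (χ : G → ℂ) := by
    intro χ
    unfold gram
    rw [← mul_assoc, mul_inv_cancel₀ hH0, one_mul]
  simp_rw [hgram]
  rw [← gram_trace hM H hb z hH hz, Finset.mul_sum]
  apply Finset.sum_subset (Finset.subset_univ _)
  intro χ _ hχ
  have hχB : χ ∉ B := fun h => hχ (Set.mem_toFinset.mpr h)
  unfold gram
  rw [gdm_eq_zero_of_not_mem hM H b B hind z hH hz χ hχB]
  simp

end Subsection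

end Cfsg.Agent.Lib.helper79
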