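import Mathlib
import Cfsg.Agent.Lib.helper79.Subsection
import Cfsg.Agent.Lib.helper79.Contrib
import Cfsg.Agent.Lib.helper79.DegSq
import Cfsg.Agent.Lib.helper79.PPartCong
import Cfsg.Agent.Lib.helper4.CharDecomp

/-!
# Major subsections: contributions modulo the local ideal

For `H = C_G(z)`, `b` a block of `H`, `gram p H b z χ ψ` the Gram matrix of `Subsection`:

* `memLocalIdeal_sum_sub_of_sameBlock`: for a local-valued class function `ξ` on `H`,
  `|G|/|H| ∑_h ξ(h) ψ(h)/ψ(1)` only depends, modulo the local ideal, on the block of `ψ`;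
* `memLocalIdeal_gram_row`, `memLocalIdeal_gram_col`: `|G| gram χ ψ / ψ(1)` (resp.
  `|G| gram ψ χ / ψ(1)`) only depends on the block of `ψ` modulo the local ideal;
* `pow_defect_mul_gram`: `p ^ d(b) * gram χ ψ = ∑_{θ, θ' ∈ b} a_θ conj(a'_θ') m_b(θ, θ')`
  (`m_b` the contribution matrix of `b`);
* `exists_gram_not_memLocalIdeal`: some `p ^ d(b) * gram χ χ` is a local unit.
-/

set_option autoImplicit false
set_option linter.unusedSectionVars false

namespace Cfsg.Agent.Lib.helper79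

open Cfsg
open scoped ComplexConjugate

universe u

section Major

variable {G : Type u} [Group G] [Fintype G] {p : ℕ} [Fact p.Prime] {M : Ideal AlgInt}

/-- For a class function `ξ` of `H` with local values, `|G|/|H| ∑_{h ∈ H} ξ(h) ψ(h)/ψ(1)` depends
only on the block of `ψ`, modulo the local ideal. -/
theorem memLocalIdeal_sum_sub_of_sameBlock (hprime : M.IsPrime) (H : Subgroup G) [Fintype H]
    (ξ : H → ℂ) (hξcl : IsClassFunction H ξ) (hξR : ∀ h : H, MemLocalRing M (ξ h))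
    {ψ ψ' : IrrCharacter G} (hs : SameBlock M (ψ : G → ℂ) (ψ' : G → ℂ)) :
    MemLocalIdeal M ((Nat.card G : ℂ) / (Nat.card H : ℂ) *
      ∑ h : H, ξ h * ((ψ : G → ℂ) h / (ψ : G → ℂ) 1 - (ψ' : G → ℂ) h / (ψ' : G → ℂ) 1)) := by
  rw [Finset.mul_sum]
  apply memLocalIdeal_sum_of_class hprime
  · intro x y hxy
    obtain ⟨c, hc⟩ := isConj_iff.mp hxy
    have hxyG : IsConj (x : G) (y : G) := isConj_iff.mpr ⟨(c : G), by rw [← hc]; rfl⟩
    have h1 : ξ y = ξ x := by rw [← hc]; exact hξcl x c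
    rw [h1, helper81.irr_conjInv ψ _ _ hxyG, helper81.irr_conjInv ψ' _ _ hxyG]
  · intro x
    -- index computations
    have hH0 : (Nat.card H : ℂ) ≠ 0 := card_subgroup_ne_zero H
    have hle : (Subgroup.centralizer ({x} : Set H)).map H.subtype ≤
        Subgroup.centralizer ({(x : G)} : Set G) := by
      rintro _ ⟨k, hk, rfl⟩
      rw [Subgroup.mem_centralizer_singleton_iff]
      have := Subgroup.mem_centralizer_singleton_iff.mp hk
      exact congrArg Subtype.val this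
    obtain ⟨N, hN⟩ := Subgroup.card_dvd_of_le hle
    rw [Subgroup.card_map_of_injective H.subtype_injective] at hN
    have h1 : (Subgroup.centralizer ({x} : Set H)).index *
        Nat.card (Subgroup.centralizer ({x} : Set H)) = Nat.card H := Subgroup.index_mul_card _
    have h2 : (Subgroup.centralizer ({(x : G)} : Set G)).index *
        Nat.card (Subgroup.centralizer ({(x : G)} : Set G)) = Nat.card G :=
      Subgroup.index_mul_card _
    have hc0 : (Nat.card (Subgroup.centralizer ({x} : Set H)) : ℂ) ≠ 0 :=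
      Nat.cast_ne_zero.mpr Nat.card_pos.ne'
    have hi0 : ((Subgroup.centralizer ({x} : Set H)).index : ℂ) ≠ 0 := by
      apply Nat.cast_ne_zero.mpr
      intro h0
      rw [h0, zero_mul] at h1
      exact Nat.card_pos.ne' h1.symm
    have h3 : ((Subgroup.centralizer ({x} : Set H)).index : ℂ) *
        ((Nat.card G : ℂ) / (Nat.card H : ℂ) *
          (ξ x * ((ψ : G → ℂ) x / (ψ : G → ℂ) 1 - (ψ' : G → ℂ) x / (ψ' : G → ℂ) 1))) =
        ((N : ℂ) * ξ x) * (centralChar (ψ : G → ℂ) (x : G) - centralChar (ψ' : G → ℂ) (x : G)) := by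
      unfold centralChar
      rw [← h1, ← h2, hN]
      push_cast
      field_simp
    rw [h3]
    exact helper20.memLocalIdeal_mul_left hprime
      (helper20.memLocalRing_mul hprime (helper20.memLocalRing_natCast hprime N) (hξR x)) (hs x)

/-- The values of `gdm χ` are local. -/
theorem memLocalRing_gdm (hM : IsPModular p M) (H : Subgroup G) [Fintype H]
    {b : Set (IrrCharacter H)} (hb : IsPBlock M b) (z : G) (χ : IrrCharacter G) (s : H) :
    MemLocalRing M (gdm p H b z (χ : G → ℂ) s) := by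
  have hprime : M.IsPrime := isPModular_isPrime hM
  by_cases hs : p ∣ orderOf s
  · rw [gdm_apply_of_sing p H b z _ hs]
    exact helper20.memLocalRing_zero hprime
  · rw [gdm_apply_of_reg p H b z _ hs]
    apply helper20.memLocalRing_sum hprime
    intro k _
    exact helper20.memLocalRing_mul hprime (helper81.memLocalRing_blockCoeff hprime hb k)
      (helper20.memLocalRing_of_algInt hprime ⟨_, helper81.irr_isIntegral χ _⟩)

/-- The complex conjugates of the values of `gdm χ` are local. -/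
theorem memLocalRing_conj_gdm (hM : IsPModular p M) (H : Subgroup G) [Fintype H]
    {b : Set (IrrCharacter H)} (hb : IsPBlock M b) (z : G) (χ : IrrCharacter G) (s : H) :
    MemLocalRing M (conj (gdm p H b z (χ : G → ℂ) s)) := by
  have hprime : M.IsPrime := isPModular_isPrime hM
  by_cases hs : p ∣ orderOf s
  · rw [gdm_apply_of_sing p H b z _ hs, map_zero]
    exact helper20.memLocalRing_zero hprime
  · rw [gdm_apply_of_reg p H b z _ hs, map_sum]
    apply helper20.memLocalRing_sum hprime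
    intro k _
    rw [map_mul, conj_blockCoeff]
    exact helper20.memLocalRing_mul hprime (helper81.memLocalRing_blockCoeff hprime hb _)
      (helper20.memLocalRing_of_algInt hprime
        ⟨_, map_isIntegral_int (starRingEnd ℂ) (helper81.irr_isIntegral χ _)⟩)

/-- `gdm χ` is a class function of `H = C_G(z)`. -/
theorem isClassFunction_gdm (H : Subgroup G) [Fintype H] (b : Set (IrrCharacter H)) (z : G)
    (hH : ∀ g : G, g ∈ H ↔ g * z = z * g) (χ : IrrCharacter G) :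
    IsClassFunction H (gdm p H b z (χ : G → ℂ)) := by
  obtain ⟨hzH, hzc⟩ := central_of_centralizer H z hH
  exact (helper78.regSpan_le_regCl p b
    (gdm_mem_regSpan p H b z hzH hzc (χ : G → ℂ) (helper81.irr_classFun χ))).1

/-- `∑_h gdm χ (z⁻¹ h⁻¹) ψ(h) = |H| gram χ ψ`. -/
theorem sum_gdm_inv_mul (hM : IsPModular p M) (H : Subgroup G) [Fintype H]
    {b : Set (IrrCharacter H)} (hb : IsPBlock M b) (z : G) (hH : ∀ g : G, g ∈ H ↔ g * z = z * g)
    (hzH : z ∈ H) (χ ψ : IrrCharacter G) :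
    ∑ h : H, gdm p H b z (χ : G → ℂ) ((⟨z, hzH⟩ : H)⁻¹ * h⁻¹) * (ψ : G → ℂ) (h : G) =
      (Nat.card H : ℂ) * gram p H b z (χ : G → ℂ) (ψ : G → ℂ) := by
  have hzc : ∀ h : H, h * (⟨z, hzH⟩ : H) = ⟨z, hzH⟩ * h :=
    fun h => Subtype.ext ((hH h).mp h.2)
  have hw := gdm_mem_regSpan p H b z hzH hzc (χ : G → ℂ) (helper81.irr_classFun χ)
  have hH0 := card_subgroup_ne_zero H
  unfold gram
  rw [← mul_assoc, mul_inv_cancel₀ hH0, one_mul, sum_mul_conj_gdm hM H hb z hH hw]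
  symm
  apply Fintype.sum_equiv ((Equiv.mulLeft (⟨z, hzH⟩ : H)).trans (Equiv.inv H))
  intro s
  simp only [Equiv.trans_apply, Equiv.coe_mulLeft, Equiv.inv_apply, inv_inv]
  rw [inv_mul_cancel_left, ← helper81.irr_inv]
  rfl

/-- `∑_h conj (gdm χ (z⁻¹ h)) ψ(h) = |H| gram ψ χ`. -/
theorem sum_conj_gdm_mul (hM : IsPModular p M) (H : Subgroup G) [Fintype H]
    {b : Set (IrrCharacter H)} (hb : IsPBlock M b) (z : G) (hH : ∀ g : G, g ∈ H ↔ g * z = z * g)
    (hzH : z ∈ H) (χ ψ : IrrCharacter G) :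
    ∑ h : H, conj (gdm p H b z (χ : G → ℂ) ((⟨z, hzH⟩ : H)⁻¹ * h)) * (ψ : G → ℂ) (h : G) =
      (Nat.card H : ℂ) * gram p H b z (ψ : G → ℂ) (χ : G → ℂ) := by
  have hzc : ∀ h : H, h * (⟨z, hzH⟩ : H) = ⟨z, hzH⟩ * h :=
    fun h => Subtype.ext ((hH h).mp h.2)
  have hw := gdm_mem_regSpan p H b z hzH hzc (χ : G → ℂ) (helper81.irr_classFun χ)
  have hH0 := card_subgroup_ne_zero H
  rw [← gram_conj]
  unfold gram
  rw [map_mul, map_inv₀, Complex.conj_natCast, ← mul_assoc, mul_inv_cancel₀ hH0, one_mul,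
    sum_mul_conj_gdm hM H hb z hH hw, map_sum]
  symm
  apply Fintype.sum_equiv (Equiv.mulLeft (⟨z, hzH⟩ : H))
  intro s
  simp only [Equiv.coe_mulLeft]
  rw [inv_mul_cancel_left, map_mul, Complex.conj_conj]
  rfl

/-- Row congruence: `|G| gram χ ψ / ψ(1)` depends only on the block of `ψ`, modulo the local
ideal. -/
theorem memLocalIdeal_gram_row (hM : IsPModular p M) (H : Subgroup G) [Fintype H]
    {b : Set (IrrCharacter H)} (hb : IsPBlock M b) (z : G) (hH : ∀ g : G, g ∈ H ↔ g * z = z * g)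
    (χ : IrrCharacter G) {ψ ψ' : IrrCharacter G}
    (hs : SameBlock M (ψ : G → ℂ) (ψ' : G → ℂ)) :
    MemLocalIdeal M ((Nat.card G : ℂ) * gram p H b z (χ : G → ℂ) (ψ : G → ℂ) / (ψ : G → ℂ) 1 -
      (Nat.card G : ℂ) * gram p H b z (χ : G → ℂ) (ψ' : G → ℂ) / (ψ' : G → ℂ) 1) := by
  have hprime : M.IsPrime := isPModular_isPrime hM
  obtain ⟨hzH, hzc⟩ := central_of_centralizer H z hH
  have hH0 := card_subgroup_ne_zero H
  have hcl := isClassFunction_gdm (p := p) H b z hH χ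
  have key := memLocalIdeal_sum_sub_of_sameBlock hprime H
    (fun h : H => gdm p H b z (χ : G → ℂ) ((⟨z, hzH⟩ : H)⁻¹ * h⁻¹))
    (by
      intro g h
      have : (⟨z, hzH⟩ : H)⁻¹ * (h * g * h⁻¹)⁻¹ = h * ((⟨z, hzH⟩ : H)⁻¹ * g⁻¹) * h⁻¹ := by
        have h1 : (⟨z, hzH⟩ : H)⁻¹ * h = h * (⟨z, hzH⟩ : H)⁻¹ := by
          have := hzc h
          calc (⟨z, hzH⟩ : H)⁻¹ * h = (⟨z, hzH⟩ : H)⁻¹ * (h * ⟨z, hzH⟩) * (⟨z, hzH⟩ : H)⁻¹ := by
                group
            _ = (⟨z, hzH⟩ : H)⁻¹ * (⟨z, hzH⟩ * h) * (⟨z, hzH⟩ : H)⁻¹ := by rw [this]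
            _ = h * (⟨z, hzH⟩ : H)⁻¹ := by group
        calc (⟨z, hzH⟩ : H)⁻¹ * (h * g * h⁻¹)⁻¹ = ((⟨z, hzH⟩ : H)⁻¹ * h) * g⁻¹ * h⁻¹ := by group
          _ = h * ((⟨z, hzH⟩ : H)⁻¹ * g⁻¹) * h⁻¹ := by rw [h1]; group
      show gdm p H b z (χ : G → ℂ) ((⟨z, hzH⟩ : H)⁻¹ * (h * g * h⁻¹)⁻¹) = _
      rw [this]
      exact hcl _ _)
    (fun h => memLocalRing_gdm hM H hb z χ _) hs
  have h2 : (Nat.card G : ℂ) / (Nat.card H : ℂ) *
      ∑ h : H, gdm p H b z (χ : G → ℂ) ((⟨z, hzH⟩ : H)⁻¹ * h⁻¹) *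
        ((ψ : G → ℂ) h / (ψ : G → ℂ) 1 - (ψ' : G → ℂ) h / (ψ' : G → ℂ) 1) =
      (Nat.card G : ℂ) * gram p H b z (χ : G → ℂ) (ψ : G → ℂ) / (ψ : G → ℂ) 1 -
      (Nat.card G : ℂ) * gram p H b z (χ : G → ℂ) (ψ' : G → ℂ) / (ψ' : G → ℂ) 1 := by
    have h3 : ∑ h : H, gdm p H b z (χ : G → ℂ) ((⟨z, hzH⟩ : H)⁻¹ * h⁻¹) *
        ((ψ : G → ℂ) h / (ψ : G → ℂ) 1 - (ψ' : G → ℂ) h / (ψ' : G → ℂ) 1) =
        (∑ h : H, gdm p H b z (χ : G → ℂ) ((⟨z, hzH⟩ : H)⁻¹ * h⁻¹) * (ψ : G → ℂ) h) /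
          (ψ : G → ℂ) 1 -
        (∑ h : H, gdm p H b z (χ : G → ℂ) ((⟨z, hzH⟩ : H)⁻¹ * h⁻¹) * (ψ' : G → ℂ) h) /
          (ψ' : G → ℂ) 1 := by
      rw [Finset.sum_div, Finset.sum_div, ← Finset.sum_sub_distrib]
      apply Finset.sum_congr rfl
      intro h _
      ring
    rw [h3, sum_gdm_inv_mul hM H hb z hH hzH χ ψ, sum_gdm_inv_mul hM H hb z hH hzH χ ψ']
    field_simp
  rw [← h2]
  exact key

/-- Column congruence: `|G| gram ψ χ / ψ(1)` depends only on the block of `ψ`, modulo the local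
ideal. -/
theorem memLocalIdeal_gram_col (hM : IsPModular p M) (H : Subgroup G) [Fintype H]
    {b : Set (IrrCharacter H)} (hb : IsPBlock M b) (z : G) (hH : ∀ g : G, g ∈ H ↔ g * z = z * g)
    (χ : IrrCharacter G) {ψ ψ' : IrrCharacter G}
    (hs : SameBlock M (ψ : G → ℂ) (ψ' : G → ℂ)) :
    MemLocalIdeal M ((Nat.card G : ℂ) * gram p H b z (ψ : G → ℂ) (χ : G → ℂ) / (ψ : G → ℂ) 1 -
      (Nat.card G : ℂ) * gram p H b z (ψ' : G → ℂ) (χ : G → ℂ) / (ψ' : G → ℂ) 1) := by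
  have hprime : M.IsPrime := isPModular_isPrime hM
  obtain ⟨hzH, hzc⟩ := central_of_centralizer H z hH
  have hH0 := card_subgroup_ne_zero H
  have hcl := isClassFunction_gdm (p := p) H b z hH χ
  have key := memLocalIdeal_sum_sub_of_sameBlock hprime H
    (fun h : H => conj (gdm p H b z (χ : G → ℂ) ((⟨z, hzH⟩ : H)⁻¹ * h)))
    (by
      intro g h
      have : (⟨z, hzH⟩ : H)⁻¹ * (h * g * h⁻¹) = h * ((⟨z, hzH⟩ : H)⁻¹ * g) * h⁻¹ := by
        have h1 : (⟨z, hzH⟩ : H)⁻¹ * h = h * (⟨z, hzH⟩ : H)⁻¹ := by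
          have := hzc h
          calc (⟨z, hzH⟩ : H)⁻¹ * h = (⟨z, hzH⟩ : H)⁻¹ * (h * ⟨z, hzH⟩) * (⟨z, hzH⟩ : H)⁻¹ := by
                group
            _ = (⟨z, hzH⟩ : H)⁻¹ * (⟨z, hzH⟩ * h) * (⟨z, hzH⟩ : H)⁻¹ := by rw [this]
            _ = h * (⟨z, hzH⟩ : H)⁻¹ := by group
        calc (⟨z, hzH⟩ : H)⁻¹ * (h * g * h⁻¹) = ((⟨z, hzH⟩ : H)⁻¹ * h) * g * h⁻¹ := by group
          _ = h * ((⟨z, hzH⟩ : H)⁻¹ * g) * h⁻¹ := by rw [h1]; group
      show conj (gdm p H b z (χ : G → ℂ) ((⟨z, hzH⟩ : H)⁻¹ * (h * g * h⁻¹))) = _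
      rw [this, hcl _ _])
    (fun h => memLocalRing_conj_gdm hM H hb z χ _) hs
  have h2 : (Nat.card G : ℂ) / (Nat.card H : ℂ) *
      ∑ h : H, conj (gdm p H b z (χ : G → ℂ) ((⟨z, hzH⟩ : H)⁻¹ * h)) *
        ((ψ : G → ℂ) h / (ψ : G → ℂ) 1 - (ψ' : G → ℂ) h / (ψ' : G → ℂ) 1) =
      (Nat.card G : ℂ) * gram p H b z (ψ : G → ℂ) (χ : G → ℂ) / (ψ : G → ℂ) 1 -
      (Nat.card G : ℂ) * gram p H b z (ψ' : G → ℂ) (χ : G → ℂ) / (ψ' : G → ℂ) 1 := by
    have h3 : ∑ h : H, conj (gdm p H b z (χ : G → ℂ) ((⟨z, hzH⟩ : H)⁻¹ * h)) *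
        ((ψ : G → ℂ) h / (ψ : G → ℂ) 1 - (ψ' : G → ℂ) h / (ψ' : G → ℂ) 1) =
        (∑ h : H, conj (gdm p H b z (χ : G → ℂ) ((⟨z, hzH⟩ : H)⁻¹ * h)) * (ψ : G → ℂ) h) /
          (ψ : G → ℂ) 1 -
        (∑ h : H, conj (gdm p H b z (χ : G → ℂ) ((⟨z, hzH⟩ : H)⁻¹ * h)) * (ψ' : G → ℂ) h) /
          (ψ' : G → ℂ) 1 := by
      rw [Finset.sum_div, Finset.sum_div, ← Finset.sum_sub_distrib]
      apply Finset.sum_congr rfl
      intro h _
      ring
    rw [h3, sum_conj_gdm_mul hM H hb z hH hzH χ ψ, sum_conj_gdm_mul hM H hb z hH hzH χ ψ']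
    field_simp
  rw [← h2]
  exact key

open Classical in
/-- The Gram matrix in terms of the contribution matrix of `b`:
`p ^ d(b) * gram χ ψ = ∑_{θ, θ' ∈ b} a_θ(χ) conj(a_θ'(ψ)) m_b(θ, θ')`. -/
theorem pow_defect_mul_gram (hM : IsPModular p M) (H : Subgroup G) [Fintype H]
    {b : Set (IrrCharacter H)} (hb : IsPBlock M b) (z : G) (hzH : z ∈ H)
    (hzc : ∀ h : H, h * (⟨z, hzH⟩ : H) = ⟨z, hzH⟩ * h) (χ ψ : IrrCharacter G) :
    (p ^ blockDefect p b : ℂ) * gram p H b z (χ : G → ℂ) (ψ : G → ℂ) =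
      ∑ θ : IrrCharacter H, ∑ θ' : IrrCharacter H,
        if θ ∈ b ∧ θ' ∈ b then
          gdmCoeff H ⟨z, hzH⟩ (χ : G → ℂ) θ * conj (gdmCoeff H ⟨z, hzH⟩ (ψ : G → ℂ) θ') *
            (contrib p b θ θ' : ℂ)
        else 0 := by
  have hH0 := card_subgroup_ne_zero H
  have hχ := congrFun (gdm_eq_sum p H b z hzH hzc (χ : G → ℂ) (helper81.irr_classFun χ))
  have hψ := congrFun (gdm_eq_sum p H b z hzH hzc (ψ : G → ℂ) (helper81.irr_classFun ψ))
  have h1 : ∀ s : H, gdm p H b z (χ : G → ℂ) s * conj (gdm p H b z (ψ : G → ℂ) s) =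
      ∑ θ : IrrCharacter H, ∑ θ' : IrrCharacter H,
        if θ ∈ b ∧ θ' ∈ b then
          gdmCoeff H ⟨z, hzH⟩ (χ : G → ℂ) θ * conj (gdmCoeff H ⟨z, hzH⟩ (ψ : G → ℂ) θ') *
            (pRegularPart p (θ : H → ℂ) s * conj ((θ' : H → ℂ) s))
        else 0 := by
    intro s
    rw [hχ s, hψ s, Finset.sum_apply, Finset.sum_apply, map_sum, Finset.sum_mul_sum]
    apply Finset.sum_congr rfl
    intro θ _
    apply Finset.sum_congr rfl
    intro θ' _
    by_cases h : θ ∈ b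
    · by_cases h' : θ' ∈ b
      · rw [if_pos h, if_pos h', if_pos ⟨h, h'⟩, Pi.smul_apply, Pi.smul_apply, smul_eq_mul,
          smul_eq_mul, map_mul]
        by_cases hs : p ∣ orderOf s
        · rw [helper78.pRegularPart_apply_of_sing p _ hs]
          ring
        · rw [helper78.pRegularPart_apply_of_reg p _ hs, helper78.pRegularPart_apply_of_reg p _ hs]
          ring
      · rw [if_neg h', if_neg (fun hh : θ ∈ b ∧ θ' ∈ b => h' hh.2)]
        simp
    · rw [if_neg h, if_neg (fun hh : θ ∈ b ∧ θ' ∈ b => h hh.1)]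
      simp
  have h3 : ∀ θ θ' : IrrCharacter H, (p ^ blockDefect p b : ℂ) * ((Nat.card H : ℂ)⁻¹ *
      ∑ s : H, (if θ ∈ b ∧ θ' ∈ b then
          gdmCoeff H ⟨z, hzH⟩ (χ : G → ℂ) θ * conj (gdmCoeff H ⟨z, hzH⟩ (ψ : G → ℂ) θ') *
            (pRegularPart p (θ : H → ℂ) s * conj ((θ' : H → ℂ) s))
        else 0)) =
      if θ ∈ b ∧ θ' ∈ b then
          gdmCoeff H ⟨z, hzH⟩ (χ : G → ℂ) θ * conj (gdmCoeff H ⟨z, hzH⟩ (ψ : G → ℂ) θ') *
            (contrib p b θ θ' : ℂ)
        else 0 := by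
    intro θ θ'
    by_cases h : θ ∈ b ∧ θ' ∈ b
    · simp_rw [if_pos h]
      rw [← Finset.mul_sum]
      have hspec := contrib_spec hM hb h.1 θ'
      unfold regInner at hspec
      have h2 : (p ^ blockDefect p b : ℂ) *
          ∑ s : H, pRegularPart p (θ : H → ℂ) s * conj ((θ' : H → ℂ) s) =
          (contrib p b θ θ' : ℂ) * (Nat.card H : ℂ) := hspec.symm
      calc (p ^ blockDefect p b : ℂ) * ((Nat.card H : ℂ)⁻¹ *
            (gdmCoeff H ⟨z, hzH⟩ (χ : G → ℂ) θ * conj (gdmCoeff H ⟨z, hzH⟩ (ψ : G → ℂ) θ') *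
              ∑ s : H, pRegularPart p (θ : H → ℂ) s * conj ((θ' : H → ℂ) s)))
          = (Nat.card H : ℂ)⁻¹ * (gdmCoeff H ⟨z, hzH⟩ (χ : G → ℂ) θ *
              conj (gdmCoeff H ⟨z, hzH⟩ (ψ : G → ℂ) θ')) *
              ((p ^ blockDefect p b : ℂ) *
                ∑ s : H, pRegularPart p (θ : H → ℂ) s * conj ((θ' : H → ℂ) s)) := by ring
        _ = gdmCoeff H ⟨z, hzH⟩ (χ : G → ℂ) θ * conj (gdmCoeff H ⟨z, hzH⟩ (ψ : G → ℂ) θ') *
              (contrib p b θ θ' : ℂ) := by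
          rw [h2]
          field_simp
    · simp_rw [if_neg h]
      simp
  unfold gram
  simp_rw [h1]
  have h4 : ∑ s : H, ∑ θ : IrrCharacter H, ∑ θ' : IrrCharacter H,
      (if θ ∈ b ∧ θ' ∈ b then
          gdmCoeff H ⟨z, hzH⟩ (χ : G → ℂ) θ * conj (gdmCoeff H ⟨z, hzH⟩ (ψ : G → ℂ) θ') *
            (pRegularPart p (θ : H → ℂ) s * conj ((θ' : H → ℂ) s))
        else 0) =
      ∑ θ : IrrCharacter H, ∑ θ' : IrrCharacter H, ∑ s : H,
      (if θ ∈ b ∧ θ' ∈ b then
          gdmCoeff H ⟨z, hzH⟩ (χ : G → ℂ) θ * conj (gdmCoeff H ⟨z, hzH⟩ (ψ : G → ℂ) θ') *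
            (pRegularPart p (θ : H → ℂ) s * conj ((θ' : H → ℂ) s))
        else 0) := by
    rw [Finset.sum_comm]
    apply Finset.sum_congr rfl
    intro θ _
    rw [Finset.sum_comm]
  rw [h4, Finset.mul_sum, Finset.mul_sum]
  apply Finset.sum_congr rfl
  intro θ _
  rw [Finset.mul_sum, Finset.mul_sum]
  apply Finset.sum_congr rfl
  intro θ' _
  exact h3 θ θ'

/-- The multiplicity of `θ` in the restriction of `χ` to `H`. -/
noncomputable def resMult (H : Subgroup G) [Fintype H] (χ : IrrCharacter G)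
    (θ : IrrCharacter H) : ℕ :=
  Classical.choose (helper4.exists_nat_classInner_irr
    (helper4.isCharacter_restrict H (helper20.isCharacter_of_isIrrCharacter χ.2)) θ.2)

theorem resMult_spec (H : Subgroup G) [Fintype H] (χ : IrrCharacter G) (θ : IrrCharacter H) :
    classInner (fun h : H => (χ : G → ℂ) h) (θ : H → ℂ) = (resMult H χ θ : ℂ) :=
  Classical.choose_spec (helper4.exists_nat_classInner_irr
    (helper4.isCharacter_restrict H (helper20.isCharacter_of_isIrrCharacter χ.2)) θ.2)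

/-- A central element acts on an irreducible character by a scalar; powers. -/
theorem irr_central_pow {K : Type u} [Group K] [Fintype K] (θ : IrrCharacter K) (z : K)
    (hz : ∀ h : K, h * z = z * h) (j : ℕ) :
    (θ : K → ℂ) (z ^ j) / (θ : K → ℂ) 1 = ((θ : K → ℂ) z / (θ : K → ℂ) 1) ^ j := by
  have h1 : (θ : K → ℂ) 1 ≠ 0 := helper81.irr_one_ne_zero θ
  induction j with
  | zero => rw [pow_zero, pow_zero, div_self h1]
  | succ j ih =>
    rw [pow_succ', helper78.irr_central_mul θ z hz (z ^ j), pow_succ', mul_div_assoc, ih]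

/-- The scalar by which a central element of `p`-power order acts is a `p`-power root of unity. -/
theorem irr_central_pow_eq_one {K : Type u} [Group K] [Fintype K] (θ : IrrCharacter K) (z : K)
    (hz : ∀ h : K, h * z = z * h) (N : ℕ) (hN : z ^ N = 1) :
    ((θ : K → ℂ) z / (θ : K → ℂ) 1) ^ N = 1 := by
  rw [← irr_central_pow θ z hz N, hN, div_self (helper81.irr_one_ne_zero θ)]

/-- `gdmCoeff` as multiplicity times root of unity. -/
theorem gdmCoeff_eq (H : Subgroup G) [Fintype H] (z : H) (χ : IrrCharacter G)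
    (θ : IrrCharacter H) :
    gdmCoeff H z (χ : G → ℂ) θ = (resMult H χ θ : ℂ) * ((θ : H → ℂ) z / (θ : H → ℂ) 1) := by
  unfold gdmCoeff
  rw [resMult_spec]

/-- The degree of `θ` divided by `p ^ (a - d)` (for `θ` in a block of defect `d`). -/
noncomputable def htDeg (p : ℕ) {K : Type u} [Group K] (b : Set (IrrCharacter K))
    (θ : IrrCharacter K) : ℕ :=
  p ^ blockHeight p b (θ : K → ℂ) *
    (charDegree (θ : K → ℂ) / p ^ (charDegree (θ : K → ℂ)).factorization p)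

/-- The contribution matrix of a block has rank one modulo the local ideal. -/
theorem memLocalIdeal_contrib_sub {K : Type u} [Group K] [Fintype K] (hM : IsPModular p M)
    {b : Set (IrrCharacter K)} (hb : IsPBlock M b) {θ θ' θ₀ : IrrCharacter K}
    (hθ : θ ∈ b) (hθ' : θ' ∈ b) (hθ₀ : θ₀ ∈ b) :
    MemLocalIdeal M ((htDeg p b θ₀ : ℂ) *
        ((Nat.card K / p ^ (Nat.card K).factorization p : ℕ) : ℂ) * (contrib p b θ θ' : ℂ) -
      (htDeg p b θ : ℂ) * (htDeg p b θ' : ℂ) * cc p (θ₀ : K → ℂ) (θ₀ : K → ℂ)) := by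
  have hprime : M.IsPrime := isPModular_isPrime hM
  have e1 := contrib_mul_eq hM hb hθ hθ'
  have e2 := contrib_mul_eq hM hb hθ hθ₀
  have e3 := contrib_mul_eq hM hb hθ₀ hθ
  rw [contrib_symm hM hb hθ₀ hθ] at e3
  rw [Int.cast_mul, Int.cast_natCast] at e1 e2 e3
  have c1 := cc_congr hM hb θ hθ' hθ₀
  have c2 := cc_congr hM hb θ₀ hθ hθ₀
  have key : (htDeg p b θ₀ : ℂ) *
        ((Nat.card K / p ^ (Nat.card K).factorization p : ℕ) : ℂ) * (contrib p b θ θ' : ℂ) -
      (htDeg p b θ : ℂ) * (htDeg p b θ' : ℂ) * cc p (θ₀ : K → ℂ) (θ₀ : K → ℂ) =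
      ((htDeg p b θ' : ℂ) * (htDeg p b θ₀ : ℂ)) *
        (cc p (θ : K → ℂ) (θ' : K → ℂ) - cc p (θ : K → ℂ) (θ₀ : K → ℂ)) +
      ((htDeg p b θ' : ℂ) * (htDeg p b θ : ℂ)) *
        (cc p (θ₀ : K → ℂ) (θ : K → ℂ) - cc p (θ₀ : K → ℂ) (θ₀ : K → ℂ)) := by
    unfold htDeg
    push_cast
    push_cast at e1 e2 e3
    linear_combination
      ((p : ℂ) ^ blockHeight p b (θ₀ : K → ℂ) *
        ((charDegree (θ₀ : K → ℂ) / p ^ (charDegree (θ₀ : K → ℂ)).factorization p : ℕ) : ℂ)) * e1 -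
      ((p : ℂ) ^ blockHeight p b (θ' : K → ℂ) *
        ((charDegree (θ' : K → ℂ) / p ^ (charDegree (θ' : K → ℂ)).factorization p : ℕ) : ℂ)) * e2 +
      ((p : ℂ) ^ blockHeight p b (θ' : K → ℂ) *
        ((charDegree (θ' : K → ℂ) / p ^ (charDegree (θ' : K → ℂ)).factorization p : ℕ) : ℂ)) * e3
  rw [key]
  apply helper20.memLocalIdeal_add hprime
  · exact helper20.memLocalIdeal_mul_left hprime
      (helper20.memLocalRing_mul hprime (helper20.memLocalRing_natCast hprime _)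
        (helper20.memLocalRing_natCast hprime _)) c1
  · exact helper20.memLocalIdeal_mul_left hprime
      (helper20.memLocalRing_mul hprime (helper20.memLocalRing_natCast hprime _)
        (helper20.memLocalRing_natCast hprime _)) c2

open Classical in
/-- The degree of the `b`-part of the restriction of `χ` to `H`, divided by `p ^ (a_H - d)`. -/
noncomputable def resDeg (p : ℕ) (H : Subgroup G) [Fintype H] (b : Set (IrrCharacter H))
    (χ : IrrCharacter G) : ℕ :=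
  ∑ θ : IrrCharacter H, if θ ∈ b then resMult H χ θ * htDeg p b θ else 0

open Classical in
/-- Modulo the local ideal, `p ^ d(b) * gram χ ψ` is (up to local units) the product of the
normalized degrees of the `b`-parts of the restrictions of `χ` and `ψ`. -/
theorem memLocalIdeal_gram_sub (hM : IsPModular p M) (H : Subgroup G) [Fintype H]
    {b : Set (IrrCharacter H)} (hb : IsPBlock M b) (z : G) (hzH : z ∈ H)
    (hzc : ∀ h : H, h * (⟨z, hzH⟩ : H) = ⟨z, hzH⟩ * h) (k : ℕ) (hzk : z ^ p ^ k = 1)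
    {θ₀ : IrrCharacter H} (hθ₀ : θ₀ ∈ b) (χ ψ : IrrCharacter G) :
    MemLocalIdeal M ((htDeg p b θ₀ : ℂ) *
        ((Nat.card H / p ^ (Nat.card H).factorization p : ℕ) : ℂ) *
          ((p ^ blockDefect p b : ℂ) * gram p H b z (χ : G → ℂ) (ψ : G → ℂ)) -
      cc p (θ₀ : H → ℂ) (θ₀ : H → ℂ) * (resDeg p H b χ : ℂ) * (resDeg p H b ψ : ℂ)) := by
  have hprime : M.IsPrime := isPModular_isPrime hM
  have hp : p.Prime := Fact.out
  have hzk' : (⟨z, hzH⟩ : H) ^ p ^ k = 1 := Subtype.ext (by push_cast; exact hzk)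
  rw [pow_defect_mul_gram hM H hb z hzH hzc χ ψ]
  have hL : (htDeg p b θ₀ : ℂ) * ((Nat.card H / p ^ (Nat.card H).factorization p : ℕ) : ℂ) *
      (∑ θ : IrrCharacter H, ∑ θ' : IrrCharacter H,
        if θ ∈ b ∧ θ' ∈ b then
          gdmCoeff H ⟨z, hzH⟩ (χ : G → ℂ) θ * conj (gdmCoeff H ⟨z, hzH⟩ (ψ : G → ℂ) θ') *
            (contrib p b θ θ' : ℂ)
        else 0) -
      cc p (θ₀ : H → ℂ) (θ₀ : H → ℂ) * (resDeg p H b χ : ℂ) * (resDeg p H b ψ : ℂ) =
      ∑ θ : IrrCharacter H, ∑ θ' : IrrCharacter H,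
        ((htDeg p b θ₀ : ℂ) * ((Nat.card H / p ^ (Nat.card H).factorization p : ℕ) : ℂ) *
          (if θ ∈ b ∧ θ' ∈ b then
            gdmCoeff H ⟨z, hzH⟩ (χ : G → ℂ) θ * conj (gdmCoeff H ⟨z, hzH⟩ (ψ : G → ℂ) θ') *
              (contrib p b θ θ' : ℂ)
          else 0) -
        cc p (θ₀ : H → ℂ) (θ₀ : H → ℂ) *
          ((if θ ∈ b then (resMult H χ θ : ℂ) * (htDeg p b θ : ℂ) else 0) *
           (if θ' ∈ b then (resMult H ψ θ' : ℂ) * (htDeg p b θ' : ℂ) else 0))) := by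
    have hr : ∀ χ' : IrrCharacter G, (resDeg p H b χ' : ℂ) =
        ∑ θ : IrrCharacter H, if θ ∈ b then (resMult H χ' θ : ℂ) * (htDeg p b θ : ℂ) else 0 := by
      intro χ'
      unfold resDeg
      rw [Nat.cast_sum]
      apply Finset.sum_congr rfl
      intro θ _
      split_ifs
      · rw [Nat.cast_mul]
      · rw [Nat.cast_zero]
    rw [hr χ, hr ψ, mul_assoc (cc p (θ₀ : H → ℂ) (θ₀ : H → ℂ)), Finset.sum_mul_sum,
      Finset.mul_sum, Finset.mul_sum, ← Finset.sum_sub_distrib]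
    apply Finset.sum_congr rfl
    intro θ _
    rw [Finset.mul_sum, Finset.mul_sum, ← Finset.sum_sub_distrib]
  rw [hL]
  apply helper20.memLocalIdeal_sum hprime
  intro θ _
  apply helper20.memLocalIdeal_sum hprime
  intro θ' _
  by_cases h : θ ∈ b ∧ θ' ∈ b
  · rw [if_pos h, if_pos h.1, if_pos h.2, gdmCoeff_eq, gdmCoeff_eq, map_mul, Complex.conj_natCast]
    have hl1 := irr_central_pow_eq_one θ (⟨z, hzH⟩ : H) hzc (p ^ k) hzk'
    have hl2 := irr_central_pow_eq_one θ' (⟨z, hzH⟩ : H) hzc (p ^ k) hzk'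
    have hpk : 0 < p ^ k := pow_pos hp.pos k
    have hi1 : IsIntegral ℤ ((θ : H → ℂ) ⟨z, hzH⟩ / (θ : H → ℂ) 1) :=
      IsIntegral.of_pow hpk (by rw [hl1]; exact isIntegral_one)
    have hi2 : IsIntegral ℤ ((θ' : H → ℂ) ⟨z, hzH⟩ / (θ' : H → ℂ) 1) :=
      IsIntegral.of_pow hpk (by rw [hl2]; exact isIntegral_one)
    have hR1 : MemLocalRing M ((θ : H → ℂ) ⟨z, hzH⟩ / (θ : H → ℂ) 1) :=
      helper20.memLocalRing_of_algInt hprime ⟨_, hi1⟩
    have hR2 : MemLocalRing M (conj ((θ' : H → ℂ) ⟨z, hzH⟩ / (θ' : H → ℂ) 1)) :=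
      helper20.memLocalRing_of_algInt hprime ⟨_, map_isIntegral_int (starRingEnd ℂ) hi2⟩
    have hJ1 := memLocalIdeal_contrib_sub hM hb h.1 h.2 hθ₀
    have hJ2 : MemLocalIdeal M (((θ : H → ℂ) ⟨z, hzH⟩ / (θ : H → ℂ) 1) *
        conj ((θ' : H → ℂ) ⟨z, hzH⟩ / (θ' : H → ℂ) 1) - 1) := by
      apply memLocalIdeal_sub_one_of_pow hM _ k
      rw [mul_pow, hl1, ← map_pow, hl2, map_one, one_mul]
    have hsplit : (htDeg p b θ₀ : ℂ) * ((Nat.card H / p ^ (Nat.card H).factorization p : ℕ) : ℂ) *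
        ((resMult H χ θ : ℂ) * ((θ : H → ℂ) ⟨z, hzH⟩ / (θ : H → ℂ) 1) *
          ((resMult H ψ θ' : ℂ) * conj ((θ' : H → ℂ) ⟨z, hzH⟩ / (θ' : H → ℂ) 1)) *
            (contrib p b θ θ' : ℂ)) -
        cc p (θ₀ : H → ℂ) (θ₀ : H → ℂ) *
          ((resMult H χ θ : ℂ) * (htDeg p b θ : ℂ) * ((resMult H ψ θ' : ℂ) * (htDeg p b θ' : ℂ))) =
        ((resMult H χ θ : ℂ) * (resMult H ψ θ' : ℂ) *
          (((θ : H → ℂ) ⟨z, hzH⟩ / (θ : H → ℂ) 1) *
            conj ((θ' : H → ℂ) ⟨z, hzH⟩ / (θ' : H → ℂ) 1))) *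
          ((htDeg p b θ₀ : ℂ) * ((Nat.card H / p ^ (Nat.card H).factorization p : ℕ) : ℂ) *
            (contrib p b θ θ' : ℂ) -
            (htDeg p b θ : ℂ) * (htDeg p b θ' : ℂ) * cc p (θ₀ : H → ℂ) (θ₀ : H → ℂ)) +
        ((resMult H χ θ : ℂ) * (resMult H ψ θ' : ℂ) * ((htDeg p b θ : ℂ) * (htDeg p b θ' : ℂ)) *
          cc p (θ₀ : H → ℂ) (θ₀ : H → ℂ)) *
          (((θ : H → ℂ) ⟨z, hzH⟩ / (θ : H → ℂ) 1) *
            conj ((θ' : H → ℂ) ⟨z, hzH⟩ / (θ' : H → ℂ) 1) - 1) := by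
      ring
    rw [hsplit]
    apply helper20.memLocalIdeal_add hprime
    · apply helper20.memLocalIdeal_mul_left hprime _ hJ1
      exact helper20.memLocalRing_mul hprime
        (helper20.memLocalRing_mul hprime (helper20.memLocalRing_natCast hprime _)
          (helper20.memLocalRing_natCast hprime _))
        (helper20.memLocalRing_mul hprime hR1 hR2)
    · apply helper20.memLocalIdeal_mul_left hprime _ hJ2
      exact helper20.memLocalRing_mul hprime
        (helper20.memLocalRing_mul hprime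
          (helper20.memLocalRing_mul hprime (helper20.memLocalRing_natCast hprime _)
            (helper20.memLocalRing_natCast hprime _))
          (helper20.memLocalRing_mul hprime (helper20.memLocalRing_natCast hprime _)
            (helper20.memLocalRing_natCast hprime _)))
        (helper20.memLocalRing_of_algInt hprime ⟨_, cc_isIntegral θ₀ θ₀⟩)
  · rw [if_neg h]
    have h0 : (if θ ∈ b then (resMult H χ θ : ℂ) * (htDeg p b θ : ℂ) else 0) *
        (if θ' ∈ b then (resMult H ψ θ' : ℂ) * (htDeg p b θ' : ℂ) else 0) = 0 := by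
      by_cases h1 : θ ∈ b
      · have h2 : θ' ∉ b := fun h2 => h ⟨h1, h2⟩
        rw [if_neg h2, mul_zero]
      · rw [if_neg h1, zero_mul]
    rw [h0, mul_zero, mul_zero, sub_zero]
    exact helper20.memLocalIdeal_zero hprime

open Classical in
/-- Degrees in a block: `θ(1) = p ^ (a - d) * htDeg θ`, and `d ≤ a`. -/
theorem charDegree_eq_pow_mul_htDeg {K : Type u} [Group K] [Fintype K] (hM : IsPModular p M)
    {b : Set (IrrCharacter K)} (hb : IsPBlock M b) :
    blockDefect p b ≤ (Nat.card K).factorization p ∧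
    ∀ θ : IrrCharacter K, θ ∈ b → charDegree (θ : K → ℂ) =
      p ^ ((Nat.card K).factorization p - blockDefect p b) * htDeg p b θ := by
  obtain ⟨θ₀, hθ₀, h0⟩ := exists_height_zero (p := p) hM hb
  have hdeg : ∀ ψ : IrrCharacter K, ψ ∈ b →
      (charDegree (ψ : K → ℂ)).factorization p + blockDefect p b =
        (Nat.card K).factorization p + blockHeight p b (ψ : K → ℂ) :=
    fun ψ hψ => factorization_add_defect hψ
  have hda : blockDefect p b ≤ (Nat.card K).factorization p := by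
    have := hdeg θ₀ hθ₀
    omega
  refine ⟨hda, fun ψ hψ => ?_⟩
  have h1 := hdeg ψ hψ
  have h2 : (charDegree (ψ : K → ℂ)).factorization p =
      ((Nat.card K).factorization p - blockDefect p b) + blockHeight p b (ψ : K → ℂ) := by
    omega
  unfold htDeg
  rw [← mul_assoc, ← pow_add, ← h2]
  exact (Nat.ordProj_mul_ordCompl_eq_self _ p).symm

open Classical in
/-- `∑_k e_b(k) χ(k) = p ^ (a_H - d) * resDeg χ`: the degree of the `b`-part of `χ|_H`. -/
theorem sum_blockCoeff_mul_irr (hM : IsPModular p M) (H : Subgroup G) [Fintype H]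
    {b : Set (IrrCharacter H)} (hb : IsPBlock M b) (χ : IrrCharacter G) :
    ∑ k : H, blockCoeff b k * (χ : G → ℂ) (k : G) =
      ((p ^ ((Nat.card H).factorization p - blockDefect p b) * resDeg p H b χ : ℕ) : ℂ) := by
  have hcf : IsClassFunction H (fun c : H => (χ : G → ℂ) (c : G)) :=
    helper4.isClassFunction_restrict H (helper81.irr_classFun χ)
  have h1 := helper20.finsum_classInner_eq_sum b (fun c : H => (χ : G → ℂ) (c : G)) hcf 1
  simp only [mul_one] at h1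
  rw [← h1, finsum_mem_def, finsum_eq_sum_of_fintype]
  unfold resDeg
  rw [Nat.cast_mul, Nat.cast_sum, Finset.mul_sum]
  apply Finset.sum_congr rfl
  intro θ _
  rw [Set.indicator_apply]
  split_ifs with hθ
  · rw [resMult_spec, helper82.irr_one_eq, ((charDegree_eq_pow_mul_htDeg hM hb).2 θ hθ)]
    push_cast
    ring
  · simp

open Classical in
/-- Some irreducible character of `G` has a `b`-part of its restriction to `H` whose degree has
the minimal possible `p`-part. -/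
theorem exists_not_dvd_resDeg (hM : IsPModular p M) (H : Subgroup G) [Fintype H]
    {b : Set (IrrCharacter H)} (hb : IsPBlock M b) :
    ∃ χ : IrrCharacter G, ¬ p ∣ resDeg p H b χ := by
  have hp : p.Prime := Fact.out
  have hprime : M.IsPrime := isPModular_isPrime hM
  have hpc : (p : ℂ) ≠ 0 := Nat.cast_ne_zero.mpr hp.ne_zero
  have hH0 := card_subgroup_ne_zero H
  by_contra hall
  push Not at hall
  choose X' hX' using hall
  obtain ⟨hda, -⟩ := charDegree_eq_pow_mul_htDeg hM hb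
  -- a Sylow subgroup of `G` and the averages over it
  let P : Sylow p G := default
  have hPG : IsPGroup p (P : Subgroup G) := P.isPGroup'
  have hPcard : Fintype.card (P : Subgroup G) = p ^ (Nat.card G).factorization p := by
    rw [← Nat.card_eq_fintype_card]
    exact Sylow.card_eq_multiplicity P
  choose β hβint hβsum using fun χ : IrrCharacter G =>
    exists_isIntegral_sum_mul_of_isCharacter (helper20.isCharacter_of_isIrrCharacter χ.2)
      (P : Subgroup G) 1 (by intro u _; simp)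
  have hβ : ∀ χ : IrrCharacter G, ∑ u : (P : Subgroup G), (χ : G → ℂ) (u : G) =
      (p : ℂ) ^ (Nat.card G).factorization p * β χ := by
    intro χ
    have := hβsum χ
    simp only [one_mul] at this
    rw [this, hPcard, Nat.cast_pow]
  -- the orthogonality computation
  have hid : ∑ χ : IrrCharacter G, (∑ k : H, blockCoeff b k * (χ : G → ℂ) (k : G)) *
      conj (∑ u : (P : Subgroup G), (χ : G → ℂ) (u : G)) =
      (Nat.card G : ℂ) * blockCoeff b 1 := by
    simp_rw [map_sum, Finset.sum_mul, Finset.mul_sum]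
    rw [Finset.sum_comm]
    have h1 : ∀ k : H, ∑ χ : IrrCharacter G, ∑ u : (P : Subgroup G),
        blockCoeff b k * (χ : G → ℂ) (k : G) * conj ((χ : G → ℂ) (u : G)) =
        if k = 1 then (Nat.card G : ℂ) * blockCoeff b 1 else 0 := by
      intro k
      rw [Finset.sum_comm]
      have h2 : ∀ u : (P : Subgroup G), ∑ χ : IrrCharacter G,
          blockCoeff b k * (χ : G → ℂ) (k : G) * conj ((χ : G → ℂ) (u : G)) =
          if u = 1 then (if k = 1 then (Nat.card G : ℂ) * blockCoeff b 1 else 0) else 0 := by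
        intro u
        simp_rw [mul_assoc]
        rw [← Finset.mul_sum, helper83.second_orthogonality]
        by_cases hu : u = 1
        · rw [if_pos hu, hu]
          by_cases hk : k = 1
          · rw [if_pos hk, hk, if_pos (by simp)]
            have : Nat.card (Subgroup.centralizer ({((1 : (P : Subgroup G)) : G)} : Set G)) =
                Nat.card G := by
              rw [OneMemClass.coe_one, Subgroup.centralizer_eq_top_iff_subset.mpr (by simp)]
              exact Subgroup.card_top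
            rw [this, mul_comm]
          · rw [if_neg hk, if_neg, mul_zero]
            intro hc
            apply hk
            rw [OneMemClass.coe_one, isConj_one_left] at hc
            exact Subtype.ext hc
        · rw [if_neg hu]
          split_ifs with hc
          · have ho : orderOf (k : G) = orderOf (u : G) := orderOf_eq_of_isConj hc
            have hdvd : p ∣ orderOf (u : G) := dvd_orderOf_of_isPGroup hPG u hu
            have hk0 : blockCoeff b k = 0 :=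
              helper20.blockCoeff_eq_zero_of_singular hM hb k
                (by rw [← Subgroup.orderOf_coe, ho]; exact hdvd)
            rw [hk0, zero_mul]
          · rw [mul_zero]
      simp_rw [h2]
      rw [Finset.sum_ite_eq' Finset.univ (1 : (P : Subgroup G)), if_pos (Finset.mem_univ _)]
    simp_rw [h1]
    rw [Finset.sum_ite_eq' Finset.univ (1 : H), if_pos (Finset.mem_univ _)]
  -- the value of the idempotent coefficient at `1`
  have he1 : blockCoeff b 1 = (Nat.card H : ℂ)⁻¹ *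
      ((∑ θ ∈ b.toFinset, charDegree (θ : H → ℂ) ^ 2 : ℕ) : ℂ) := by
    rw [helper81.blockCoeff_eq_sum, Nat.cast_sum, ← Finset.sum_filter]
    congr 1
    have hf : (Finset.univ.filter (fun θ : IrrCharacter H => θ ∈ b)) = b.toFinset := by
      ext θ
      simp
    rw [hf]
    apply Finset.sum_congr rfl
    intro θ _
    rw [helper82.irr_one_eq, Complex.conj_natCast]
    push_cast
    ring
  -- divisibility
  have hmain : ((Nat.card G * ∑ θ ∈ b.toFinset, charDegree (θ : H → ℂ) ^ 2 : ℕ) : ℂ) =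
      ((p ^ ((Nat.card H).factorization p - blockDefect p b + 1 + (Nat.card G).factorization p) *
        Nat.card H : ℕ) : ℂ) * ∑ χ : IrrCharacter G, (X' χ : ℂ) * conj (β χ) := by
    have h3 : (Nat.card G : ℂ) * ((∑ θ ∈ b.toFinset, charDegree (θ : H → ℂ) ^ 2 : ℕ) : ℂ) =
        (Nat.card H : ℂ) * ((Nat.card G : ℂ) * blockCoeff b 1) := by
      rw [he1]
      field_simp
    rw [Nat.cast_mul, h3, ← hid, Finset.mul_sum, Finset.mul_sum]
    apply Finset.sum_congr rfl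
    intro χ _
    rw [sum_blockCoeff_mul_irr hM H hb χ, hβ χ, hX' χ, map_mul, map_pow, Complex.conj_natCast]
    push_cast
    ring
  have hint : IsIntegral ℤ (∑ χ : IrrCharacter G, (X' χ : ℂ) * conj (β χ)) := by
    apply IsIntegral.sum
    intro χ _
    exact IsIntegral.mul (isIntegral_natCast _) (map_isIntegral_int (starRingEnd ℂ) (hβint χ))
  have hdvd : p ^ ((Nat.card H).factorization p - blockDefect p b + 1 +
      (Nat.card G).factorization p) * Nat.card H ∣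
      Nat.card G * ∑ θ ∈ b.toFinset, charDegree (θ : H → ℂ) ^ 2 := by
    have h4 : ((p ^ ((Nat.card H).factorization p - blockDefect p b + 1 +
        (Nat.card G).factorization p) * Nat.card H : ℕ) : ℤ) ∣
        ((Nat.card G * ∑ θ ∈ b.toFinset, charDegree (θ : H → ℂ) ^ 2 : ℕ) : ℤ) :=
      Cfsg.Agent.S4666.int_dvd_of_isIntegral
        (Nat.mul_ne_zero (pow_ne_zero _ hp.ne_zero) Nat.card_pos.ne') _ hint
        (by rw [Int.cast_natCast]; exact hmain)
    exact_mod_cast h4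
  have hN := factorization_sum_degree_sq hM hb
  have hN0 : (∑ θ ∈ b.toFinset, charDegree (θ : H → ℂ) ^ 2) ≠ 0 := by
    obtain ⟨θ₀, hθ₀, -⟩ := exists_height_zero (p := p) hM hb
    have h1 : charDegree (θ₀ : H → ℂ) ^ 2 ≤ ∑ θ ∈ b.toFinset, charDegree (θ : H → ℂ) ^ 2 :=
      Finset.single_le_sum (f := fun θ : IrrCharacter H => charDegree (θ : H → ℂ) ^ 2)
        (fun _ _ => Nat.zero_le _) (Set.mem_toFinset.mpr hθ₀)
    have h2 : 0 < charDegree (θ₀ : H → ℂ) ^ 2 := pow_pos (helper82.irr_charDegree_pos θ₀) 2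
    omega
  have hdvd2 : p ^ ((Nat.card H).factorization p - blockDefect p b + 1 +
      (Nat.card G).factorization p + (Nat.card H).factorization p) ∣
      Nat.card G * ∑ θ ∈ b.toFinset, charDegree (θ : H → ℂ) ^ 2 := by
    refine dvd_trans ?_ hdvd
    rw [pow_add]
    exact Nat.mul_dvd_mul_left _ (Nat.ordProj_dvd _ _)
  have hle := (Nat.Prime.pow_dvd_iff_le_factorization hp
    (Nat.mul_ne_zero Nat.card_pos.ne' hN0)).mp hdvd2
  rw [Nat.factorization_mul Nat.card_pos.ne' hN0, Finsupp.add_apply, hN] at hle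
  omega

/-- For `ψ` of height zero in `B`, `|G| / ψ(1)` is `p ^ d(B)` times a local unit. -/
theorem exists_unit_card_div_degree (hM : IsPModular p M) {B : Set (IrrCharacter G)}
    (hB : IsPBlock M B) {ψ : IrrCharacter G} (hψ : ψ ∈ B)
    (h0 : blockHeight p B (ψ : G → ℂ) = 0) :
    ∃ u v : ℂ, MemLocalRing M u ∧ MemLocalRing M v ∧ v * u = 1 ∧
      (Nat.card G : ℂ) / (ψ : G → ℂ) 1 = (p ^ blockDefect p B : ℂ) * u := by
  have hp : p.Prime := Fact.out
  have hpc : (p : ℂ) ≠ 0 := Nat.cast_ne_zero.mpr hp.ne_zero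
  have hk0 : charDegree (ψ : G → ℂ) ≠ 0 := (helper82.irr_charDegree_pos ψ).ne'
  have hGm : ¬ p ∣ Nat.card G / p ^ (Nat.card G).factorization p :=
    Nat.not_dvd_ordCompl hp Nat.card_pos.ne'
  have hkm : ¬ p ∣ charDegree (ψ : G → ℂ) / p ^ (charDegree (ψ : G → ℂ)).factorization p :=
    Nat.not_dvd_ordCompl hp hk0
  have hn0 : ((Nat.card G / p ^ (Nat.card G).factorization p : ℕ) : ℂ) ≠ 0 := by
    apply Nat.cast_ne_zero.mpr
    intro h
    exact hGm (h ▸ dvd_zero p)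
  have hx0 : ((charDegree (ψ : G → ℂ) / p ^ (charDegree (ψ : G → ℂ)).factorization p : ℕ) : ℂ)
      ≠ 0 := by
    apply Nat.cast_ne_zero.mpr
    intro h
    exact hkm (h ▸ dvd_zero p)
  refine ⟨((Nat.card G / p ^ (Nat.card G).factorization p : ℕ) : ℂ) /
      ((charDegree (ψ : G → ℂ) / p ^ (charDegree (ψ : G → ℂ)).factorization p : ℕ) : ℂ),
    ((charDegree (ψ : G → ℂ) / p ^ (charDegree (ψ : G → ℂ)).factorization p : ℕ) : ℂ) /
      ((Nat.card G / p ^ (Nat.card G).factorization p : ℕ) : ℂ), ?_, ?_, ?_, ?_⟩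
  · exact ⟨((Nat.card G / p ^ (Nat.card G).factorization p : ℕ) : AlgInt),
      ((charDegree (ψ : G → ℂ) / p ^ (charDegree (ψ : G → ℂ)).factorization p : ℕ) : AlgInt),
      isPModular_natCast_not_mem hM hkm, by push_cast; rfl⟩
  · exact ⟨((charDegree (ψ : G → ℂ) / p ^ (charDegree (ψ : G → ℂ)).factorization p : ℕ) : AlgInt),
      ((Nat.card G / p ^ (Nat.card G).factorization p : ℕ) : AlgInt),
      isPModular_natCast_not_mem hM hGm, by push_cast; rfl⟩
  · field_simp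
  · have harith := factorization_add_defect (p := p) hψ
    rw [h0, add_zero] at harith
    have hG : (p : ℂ) ^ (Nat.card G).factorization p *
        ((Nat.card G / p ^ (Nat.card G).factorization p : ℕ) : ℂ) = (Nat.card G : ℂ) := by
      exact_mod_cast Nat.ordProj_mul_ordCompl_eq_self (Nat.card G) p
    have hk : (p : ℂ) ^ (charDegree (ψ : G → ℂ)).factorization p *
        ((charDegree (ψ : G → ℂ) / p ^ (charDegree (ψ : G → ℂ)).factorization p : ℕ) : ℂ) =
        (charDegree (ψ : G → ℂ) : ℂ) := by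
      exact_mod_cast Nat.ordProj_mul_ordCompl_eq_self (charDegree (ψ : G → ℂ)) p
    rw [helper82.irr_one_eq, ← hG, ← hk, ← harith, pow_add]
    have h1 : (p : ℂ) ^ (charDegree (ψ : G → ℂ)).factorization p ≠ 0 := pow_ne_zero _ hpc
    field_simp

/-- **Major subsections.** Let `b` be a block of `H = C_G(z)` inducing `B`, of the same defect,
and suppose all members of `B` have height zero.  Then all the contributions
`p ^ d * gram χ ψ`, `χ, ψ ∈ B`, lie outside the local ideal. -/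
theorem gram_not_memLocalIdeal_of_height_zero (hM : IsPModular p M) (H : Subgroup G) [Fintype H]
    {b : Set (IrrCharacter H)} (hb : IsPBlock M b) {B : Set (IrrCharacter G)}
    (hB : IsPBlock M B) (hind : IsInducedBlock M H b B) (z : G)
    (hH : ∀ g : G, g ∈ H ↔ g * z = z * g) (hz : ∃ k : ℕ, orderOf z = p ^ k)
    (hdd : blockDefect p b = blockDefect p B)
    (hh : ∀ χ ∈ B, blockHeight p B (χ : G → ℂ) = 0) {χ ψ : IrrCharacter G}
    (hχ : χ ∈ B) (hψ : ψ ∈ B) :
    ¬ MemLocalIdeal M ((p ^ blockDefect p B : ℂ) * gram p H b z (χ : G → ℂ) (ψ : G → ℂ)) := by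
  have hp : p.Prime := Fact.out
  have hprime : M.IsPrime := isPModular_isPrime hM
  obtain ⟨hzH, hzc⟩ := central_of_centralizer H z hH
  obtain ⟨k, hk⟩ := hz
  have hzk : z ^ p ^ k = 1 := by rw [← hk]; exact pow_orderOf_eq_one z
  obtain ⟨χ₁, hχ₁⟩ := exists_not_dvd_resDeg hM H hb (G := G)
  obtain ⟨θ₀, hθ₀, hθ₀0⟩ := exists_height_zero (p := p) hM hb
  -- `cc θ₀ θ₀` is a local unit
  have hc₀ : ¬ MemLocalIdeal M (cc p (θ₀ : H → ℂ) (θ₀ : H → ℂ)) := by
    rw [cc_memLocalIdeal_iff hM hb hθ₀ hθ₀]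
    exact not_dvd_of_height_zero hM hb hθ₀ hθ₀0 hθ₀
  have hc₀R : MemLocalRing M (cc p (θ₀ : H → ℂ) (θ₀ : H → ℂ)) :=
    helper20.memLocalRing_of_algInt hprime ⟨_, cc_isIntegral θ₀ θ₀⟩
  -- step 1: the diagonal entry at `χ₁` is a unit
  have h1 : ¬ MemLocalIdeal M ((p ^ blockDefect p B : ℂ) *
      gram p H b z (χ₁ : G → ℂ) (χ₁ : G → ℂ)) := by
    intro hJ
    have hsub := memLocalIdeal_gram_sub hM H hb z hzH hzc k hzk hθ₀ χ₁ χ₁
    rw [hdd] at hsub
    have hA : MemLocalIdeal M ((htDeg p b θ₀ : ℂ) *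
        ((Nat.card H / p ^ (Nat.card H).factorization p : ℕ) : ℂ) *
          ((p ^ blockDefect p B : ℂ) * gram p H b z (χ₁ : G → ℂ) (χ₁ : G → ℂ))) :=
      helper20.memLocalIdeal_mul_left hprime
        (helper20.memLocalRing_mul hprime (helper20.memLocalRing_natCast hprime _)
          (helper20.memLocalRing_natCast hprime _)) hJ
    have h2 := helper20.memLocalIdeal_sub hprime hA hsub
    rw [sub_sub_cancel] at h2
    have hX : ¬ MemLocalIdeal M ((resDeg p H b χ₁ : ℕ) : ℂ) := by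
      intro hXJ
      have : MemLocalIdeal M (((resDeg p H b χ₁ : ℤ)) : ℂ) := by
        rw [Int.cast_natCast]; exact hXJ
      exact hχ₁ (by exact_mod_cast int_dvd_of_memLocalIdeal hM this)
    have hXR : MemLocalRing M ((resDeg p H b χ₁ : ℕ) : ℂ) := helper20.memLocalRing_natCast hprime _
    exact helper20.not_memLocalIdeal_mul hprime (helper20.memLocalRing_mul hprime hc₀R hXR) hXR
      (helper20.not_memLocalIdeal_mul hprime hc₀R hXR hc₀ hX) hX h2
  -- step 2: `χ₁ ∈ B`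
  have hχ₁B : χ₁ ∈ B := by
    by_contra hnot
    apply h1
    unfold gram
    rw [gdm_eq_zero_of_not_mem hM H b B hind z hH ⟨k, hk⟩ χ₁ hnot]
    simp only [Pi.zero_apply, zero_mul, Finset.sum_const_zero, mul_zero]
    exact helper20.memLocalIdeal_zero hprime
  -- rows and columns
  have hrow : ∀ (χ' : IrrCharacter G) (ψ₁ ψ₂ : IrrCharacter G), ψ₁ ∈ B → ψ₂ ∈ B →
      MemLocalIdeal M ((p ^ blockDefect p B : ℂ) * gram p H b z (χ' : G → ℂ) (ψ₁ : G → ℂ)) →
      MemLocalIdeal M ((p ^ blockDefect p B : ℂ) * gram p H b z (χ' : G → ℂ) (ψ₂ : G → ℂ)) := by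
    intro χ' ψ₁ ψ₂ hψ₁ hψ₂ hJ
    obtain ⟨u₁, v₁, hu₁, -, -, e₁⟩ := exists_unit_card_div_degree hM hB hψ₁ (hh ψ₁ hψ₁)
    obtain ⟨u₂, v₂, -, hv₂, huv₂, e₂⟩ := exists_unit_card_div_degree hM hB hψ₂ (hh ψ₂ hψ₂)
    have hr := memLocalIdeal_gram_row hM H hb z hH χ'
      (helper81.sameBlock_of_mem hprime hB hψ₂ hψ₁)
    have hr2 : (Nat.card G : ℂ) * gram p H b z (χ' : G → ℂ) (ψ₂ : G → ℂ) / (ψ₂ : G → ℂ) 1 -
        (Nat.card G : ℂ) * gram p H b z (χ' : G → ℂ) (ψ₁ : G → ℂ) / (ψ₁ : G → ℂ) 1 =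
        u₂ * ((p ^ blockDefect p B : ℂ) * gram p H b z (χ' : G → ℂ) (ψ₂ : G → ℂ)) -
        u₁ * ((p ^ blockDefect p B : ℂ) * gram p H b z (χ' : G → ℂ) (ψ₁ : G → ℂ)) := by
      rw [mul_div_right_comm, mul_div_right_comm _ _ ((ψ₁ : G → ℂ) 1), e₁, e₂]
      ring
    rw [hr2] at hr
    have h3 := helper20.memLocalIdeal_add hprime hr (helper20.memLocalIdeal_mul_left hprime hu₁ hJ)
    rw [sub_add_cancel] at h3
    have h4 := helper20.memLocalIdeal_mul_left hprime hv₂ h3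
    rwa [← mul_assoc, huv₂, one_mul] at h4
  have hcol : ∀ (χ' : IrrCharacter G) (ψ₁ ψ₂ : IrrCharacter G), ψ₁ ∈ B → ψ₂ ∈ B →
      MemLocalIdeal M ((p ^ blockDefect p B : ℂ) * gram p H b z (ψ₁ : G → ℂ) (χ' : G → ℂ)) →
      MemLocalIdeal M ((p ^ blockDefect p B : ℂ) * gram p H b z (ψ₂ : G → ℂ) (χ' : G → ℂ)) := by
    intro χ' ψ₁ ψ₂ hψ₁ hψ₂ hJ
    obtain ⟨u₁, v₁, hu₁, -, -, e₁⟩ := exists_unit_card_div_degree hM hB hψ₁ (hh ψ₁ hψ₁)
    obtain ⟨u₂, v₂, -, hv₂, huv₂, e₂⟩ := exists_unit_card_div_degree hM hB hψ₂ (hh ψ₂ hψ₂)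
    have hr := memLocalIdeal_gram_col hM H hb z hH χ'
      (helper81.sameBlock_of_mem hprime hB hψ₂ hψ₁)
    have hr2 : (Nat.card G : ℂ) * gram p H b z (ψ₂ : G → ℂ) (χ' : G → ℂ) / (ψ₂ : G → ℂ) 1 -
        (Nat.card G : ℂ) * gram p H b z (ψ₁ : G → ℂ) (χ' : G → ℂ) / (ψ₁ : G → ℂ) 1 =
        u₂ * ((p ^ blockDefect p B : ℂ) * gram p H b z (ψ₂ : G → ℂ) (χ' : G → ℂ)) -
        u₁ * ((p ^ blockDefect p B : ℂ) * gram p H b z (ψ₁ : G → ℂ) (χ' : G → ℂ)) := by
      rw [mul_div_right_comm, mul_div_right_comm _ _ ((ψ₁ : G → ℂ) 1), e₁, e₂]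
      ring
    rw [hr2] at hr
    have h3 := helper20.memLocalIdeal_add hprime hr (helper20.memLocalIdeal_mul_left hprime hu₁ hJ)
    rw [sub_add_cancel] at h3
    have h4 := helper20.memLocalIdeal_mul_left hprime hv₂ h3
    rwa [← mul_assoc, huv₂, one_mul] at h4
  intro hJ
  exact h1 (hcol χ₁ χ χ₁ hχ hχ₁B (hrow χ ψ χ₁ hψ hχ₁B hJ))

end Major

end Cfsg.Agent.Lib.helper79
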