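import Mathlib
import Cfsg.Agent.Lib.helper79.SubsectionMajor
import Cfsg.Agent.Lib.helper79.CycloNorm

/-!
# Major subsections: the Galois / AM-GM argument

* `exists_poly_gram`: the numbers `p ^ d(b) * gram (y ^ j) χ ψ` are the values of a single integer
  polynomial at the powers `ζ ^ j` of a primitive root of unity;
* `card_sq_le_of_major`: `k(B)^2 ≤ p^(2d) l(b)` for a major subsection `(y, b)` when all the
  characters of `B` have height zero.
-/

set_option autoImplicit false
set_option linter.unusedSectionVars false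
set_option linter.unusedSimpArgs false

namespace Cfsg.Agent.Lib.helper79

open Cfsg
open scoped ComplexConjugate

universe u

section MajorGalois

variable {G : Type u} [Group G] [Fintype G] {p : ℕ} [Fact p.Prime] {M : Ideal AlgInt}

open Classical in
/-- The numbers `p ^ d(b) * gram (y ^ j) χ ψ` are the values of a single integer polynomial at the
powers `ζ ^ j` of a primitive `N`-th root of unity (`y ^ N = 1`). -/
theorem exists_poly_gram (hM : IsPModular p M) (H : Subgroup G) [Fintype H]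
    {b : Set (IrrCharacter H)} (hb : IsPBlock M b) (y : G) (hyH : y ∈ H)
    (hyc : ∀ h : H, h * (⟨y, hyH⟩ : H) = ⟨y, hyH⟩ * h) (N : ℕ) (hN : 0 < N) (hyN : y ^ N = 1)
    (ζ : ℂ) (hζ : IsPrimitiveRoot ζ N) (χ ψ : IrrCharacter G) :
    ∃ F : Polynomial ℤ, ∀ j : ℕ,
      (p ^ blockDefect p b : ℂ) * gram p H b (y ^ j) (χ : G → ℂ) (ψ : G → ℂ) =
        Polynomial.aeval (ζ ^ j) F := by
  have : NeZero N := ⟨hN.ne'⟩
  have hyN' : (⟨y, hyH⟩ : H) ^ N = 1 := Subtype.ext (by simpa using hyN)
  have hex : ∀ θ : IrrCharacter H, ∃ e : ℕ, ζ ^ e = (θ : H → ℂ) ⟨y, hyH⟩ / (θ : H → ℂ) 1 := by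
    intro θ
    obtain ⟨e, _, he⟩ := hζ.eq_pow_of_pow_eq_one (irr_central_pow_eq_one θ ⟨y, hyH⟩ hyc N hyN')
    exact ⟨e, he⟩
  choose e he using hex
  have hconj : conj ζ = ζ ^ (N - 1) := by
    have h1 : ‖ζ‖ = 1 := hζ.norm'_eq_one hN.ne'
    rw [← Complex.inv_eq_conj h1]
    symm
    apply eq_inv_of_mul_eq_one_left
    rw [← pow_succ, Nat.sub_add_cancel hN, hζ.pow_eq_one]
  refine ⟨∑ θ : IrrCharacter H, ∑ θ' : IrrCharacter H,
    if θ ∈ b ∧ θ' ∈ b then
      Polynomial.C ((resMult H χ θ : ℤ) * (resMult H ψ θ' : ℤ) * contrib p b θ θ') *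
        Polynomial.X ^ (e θ + (N - 1) * e θ')
    else 0, ?_⟩
  intro j
  have hzH : y ^ j ∈ H := pow_mem hyH j
  have hzeq : (⟨y ^ j, hzH⟩ : H) = (⟨y, hyH⟩ : H) ^ j := Subtype.ext (by simp)
  have hzc : ∀ h : H, h * (⟨y ^ j, hzH⟩ : H) = ⟨y ^ j, hzH⟩ * h := by
    intro h
    rw [hzeq]
    exact (Commute.pow_right (show Commute h (⟨y, hyH⟩ : H) from hyc h) j).eq
  rw [pow_defect_mul_gram hM H hb (y ^ j) hzH hzc χ ψ, map_sum]
  apply Finset.sum_congr rfl
  intro θ _
  rw [map_sum]
  apply Finset.sum_congr rfl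
  intro θ' _
  by_cases h : θ ∈ b ∧ θ' ∈ b
  · rw [if_pos h, if_pos h, gdmCoeff_eq, gdmCoeff_eq, hzeq, irr_central_pow θ _ hyc j,
      irr_central_pow θ' _ hyc j, ← he θ, ← he θ']
    simp only [map_mul, map_pow, map_natCast, map_intCast, hconj, Polynomial.aeval_X,
      Polynomial.aeval_C, eq_intCast, Int.cast_mul, Int.cast_natCast]
    ring
  · rw [if_neg h, if_neg h, map_zero]

open Classical in
/-- **Major subsections and heights zero** (Brauer).  Let `(y, b)` be a major subsection of the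
block `B` (so `H = C_G(y)`, `b^G = B`, and `b`, `B` have the same defect `d`), and suppose that all
the characters of `B` have height zero.  Then `k(B)^2 ≤ p^(2d) l(b)`. -/
theorem card_sq_le_of_major (hM : IsPModular p M) (H : Subgroup G) [Fintype H]
    {b : Set (IrrCharacter H)} {B : Set (IrrCharacter G)}
    (hB : IsPBlock M B) (hind : IsInducedBlock M H b B) (y : G)
    (hH : ∀ g : G, g ∈ H ↔ g * y = y * g) (hy : ∃ k : ℕ, orderOf y = p ^ k)
    (hdd : blockDefect p b = blockDefect p B)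
    (hh : ∀ χ ∈ B, blockHeight p B (χ : G → ℂ) = 0) :
    Nat.card B ^ 2 ≤ p ^ (2 * blockDefect p B) * blockRank p b := by
  have hp : p.Prime := Fact.out
  have hprime : M.IsPrime := isPModular_isPrime hM
  have hb : IsPBlock M b := hind.1
  obtain ⟨hyH, hyc⟩ := central_of_centralizer H y hH
  have hN : 0 < orderOf y := orderOf_pos y
  have hyN : y ^ orderOf y = 1 := pow_orderOf_eq_one y
  have hζ : IsPrimitiveRoot (Complex.exp (2 * Real.pi * Complex.I / (orderOf y : ℂ))) (orderOf y) :=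
    Complex.isPrimitiveRoot_exp (orderOf y) hN.ne'
  generalize Complex.exp (2 * Real.pi * Complex.I / (orderOf y : ℂ)) = ζ at hζ
  generalize hNdef : orderOf y = N at hN hyN hζ
  set S := (Finset.range N).filter (fun k => k.Coprime N) with hS
  -- each power of `y` prime to its order has the same centralizer
  have hHj : ∀ j ∈ S, ∀ g : G, g ∈ H ↔ g * y ^ j = y ^ j * g := by
    intro j hj g
    rw [hS, Finset.mem_filter] at hj
    rw [hH g]
    constructor
    · intro h
      exact (Commute.pow_right (show Commute g y from h) j).eq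
    · intro h
      obtain ⟨m, hm⟩ := exists_pow_eq_self_of_coprime (x := y) (hNdef ▸ hj.2)
      have := (Commute.pow_right (show Commute g (y ^ j) from h) m).eq
      rwa [hm] at this
  have hzj : ∀ j ∈ S, ∃ k : ℕ, orderOf (y ^ j) = p ^ k := by
    intro j hj
    rw [hS, Finset.mem_filter] at hj
    obtain ⟨k, hk⟩ := hy
    refine ⟨k, ?_⟩
    rw [Nat.Coprime.orderOf_pow (hNdef ▸ hj.2.symm), hk]
  -- the number of Galois conjugates
  have hScard : (S.card : ℝ) = ((primitiveRoots N ℂ).card : ℝ) := by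
    have := sum_primitiveRoots_eq_sum_coprime hN hζ (fun _ => (1 : ℝ))
    simpa using this
  have hSpos : (0 : ℝ) < S.card := by
    rw [hScard, Complex.card_primitiveRoots]
    exact_mod_cast Nat.totient_pos.mpr hN
  -- the key inequality for a pair of characters of `B`
  have hpair : ∀ χ ∈ B, ∀ ψ ∈ B, (S.card : ℝ) ≤ ∑ j ∈ S,
      (p : ℝ) ^ (2 * blockDefect p B) * ‖gram p H b (y ^ j) (χ : G → ℂ) (ψ : G → ℂ)‖ ^ 2 := by
    intro χ hχ ψ hψ
    obtain ⟨F, hF⟩ := exists_poly_gram hM H hb y hyH hyc N hN hyN ζ hζ χ ψ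
    have hne : Polynomial.aeval ζ F ≠ 0 := by
      have h1 := hF 1
      rw [pow_one, pow_one] at h1
      rw [← h1, hdd]
      intro h0
      exact gram_not_memLocalIdeal_of_height_zero hM H hb hB hind y hH hy hdd hh hχ hψ
        (h0 ▸ helper20.memLocalIdeal_zero hprime)
    have h1 := one_le_prod_norm_aeval_primitiveRoots hN hζ F hne
    have h2 := card_le_sum_sq_of_one_le_prod (primitiveRoots N ℂ)
      (fun ξ => ‖Polynomial.aeval ξ F‖) (fun _ _ => norm_nonneg _) h1
    rw [← hScard,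
      ← sum_primitiveRoots_eq_sum_coprime hN hζ (fun ξ => ‖Polynomial.aeval ξ F‖ ^ 2)] at h2
    refine h2.trans (le_of_eq ?_)
    apply Finset.sum_congr rfl
    intro j _
    rw [← hF j, hdd, norm_mul, mul_pow, norm_pow, Complex.norm_natCast, ← pow_mul, mul_comm 2]
  -- the Gram matrix at `y ^ j` has square norm `l(b)`
  have hrow : ∀ j ∈ S, ∑ χ : IrrCharacter G, ∑ ψ : IrrCharacter G,
      ‖gram p H b (y ^ j) (χ : G → ℂ) (ψ : G → ℂ)‖ ^ 2 = (blockRank p b : ℝ) := by
    intro j hj
    have h1 := gram_trace hM H hb (y ^ j) (hHj j hj) (hzj j hj)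
    have h2 : ((∑ χ : IrrCharacter G, ∑ ψ : IrrCharacter G,
        ‖gram p H b (y ^ j) (χ : G → ℂ) (ψ : G → ℂ)‖ ^ 2 : ℝ) : ℂ) = (blockRank p b : ℂ) := by
      rw [← h1, Complex.ofReal_sum]
      apply Finset.sum_congr rfl
      intro χ _
      rw [Complex.ofReal_sum]
      exact gram_sum_sq hM H hb (y ^ j) (hHj j hj) (hzj j hj) χ
    exact_mod_cast h2
  have hk : Nat.card B = B.toFinset.card := by
    rw [Nat.card_eq_fintype_card, Set.toFinset_card]
  have hsum : ((B.toFinset.card : ℝ)) ^ 2 * S.card ≤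
      ((p : ℝ) ^ (2 * blockDefect p B) * blockRank p b) * S.card := by
    calc ((B.toFinset.card : ℝ)) ^ 2 * S.card
        = ∑ χ ∈ B.toFinset, ∑ ψ ∈ B.toFinset, (S.card : ℝ) := by
          simp only [Finset.sum_const, nsmul_eq_mul]
          ring
      _ ≤ ∑ χ ∈ B.toFinset, ∑ ψ ∈ B.toFinset, ∑ j ∈ S,
            (p : ℝ) ^ (2 * blockDefect p B) *
              ‖gram p H b (y ^ j) (χ : G → ℂ) (ψ : G → ℂ)‖ ^ 2 := by
          apply Finset.sum_le_sum
          intro χ hχ
          apply Finset.sum_le_sum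
          intro ψ hψ
          exact hpair χ (Set.mem_toFinset.mp hχ) ψ (Set.mem_toFinset.mp hψ)
      _ = ∑ χ ∈ B.toFinset, ∑ j ∈ S, ∑ ψ ∈ B.toFinset,
            (p : ℝ) ^ (2 * blockDefect p B) *
              ‖gram p H b (y ^ j) (χ : G → ℂ) (ψ : G → ℂ)‖ ^ 2 :=
          Finset.sum_congr rfl (fun χ _ => Finset.sum_comm)
      _ = ∑ j ∈ S, ∑ χ ∈ B.toFinset, ∑ ψ ∈ B.toFinset,
            (p : ℝ) ^ (2 * blockDefect p B) *
              ‖gram p H b (y ^ j) (χ : G → ℂ) (ψ : G → ℂ)‖ ^ 2 := Finset.sum_comm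
      _ = ∑ j ∈ S, (p : ℝ) ^ (2 * blockDefect p B) * ∑ χ ∈ B.toFinset, ∑ ψ ∈ B.toFinset,
              ‖gram p H b (y ^ j) (χ : G → ℂ) (ψ : G → ℂ)‖ ^ 2 := by
          simp_rw [Finset.mul_sum]
      _ ≤ ∑ j ∈ S, (p : ℝ) ^ (2 * blockDefect p B) * (blockRank p b : ℝ) := by
          apply Finset.sum_le_sum
          intro j hj
          apply mul_le_mul_of_nonneg_left _ (by positivity)
          rw [← hrow j hj]
          refine le_trans ?_ (Finset.sum_le_sum_of_subset_of_nonneg (Finset.subset_univ B.toFinset)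
            (fun _ _ _ => Finset.sum_nonneg (fun _ _ => by positivity)))
          apply Finset.sum_le_sum
          intro χ _
          exact Finset.sum_le_sum_of_subset_of_nonneg (Finset.subset_univ _)
            (fun _ _ _ => by positivity)
      _ = ((p : ℝ) ^ (2 * blockDefect p B) * blockRank p b) * S.card := by
          rw [Finset.sum_const, nsmul_eq_mul, mul_comm]
  have hfin : ((B.toFinset.card : ℝ)) ^ 2 ≤ (p : ℝ) ^ (2 * blockDefect p B) * blockRank p b :=
    le_of_mul_le_mul_right hsum hSpos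
  rw [hk]
  exact_mod_cast hfin

end MajorGalois

end Cfsg.Agent.Lib.helper79
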