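import Mathlib
import Cfsg.Agent.Lib.helper79.SubsectionGalois
import Cfsg.Agent.Lib.helper20.HtZeroRes

/-!
# Subsections and characters of height zero

For an arbitrary subsection `(z, b)` of a block `B` (`H = C_G(z)`, `b^G = B`):

* `not_dvd_resDeg_of_height_zero`: for `χ ∈ B` of height zero the normalized degree of the
  `b`-part of `χ|_H` is prime to `p` (uses `helper20.not_dvd_sum_mul_contrib`);
* `gram_not_memLocalIdeal_of_heights_zero`: `p ^ d(b) * gram χ ψ` is a local unit for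
  `χ, ψ ∈ B` of height zero (Brauer, Broué);
* `pow_defect_mul_gram_pow`: explicit formula for the contributions at the powers of `z`;
* `exists_int_sum_pow_two_pow`: averages of roots of unity of `2`-power order;
* `exists_odd_of_height_zero` (`p = 2`): the Galois averages `Z χ` of `2 ^ d(b) * gram χ χ`
  are odd integers for `χ` of height zero, `k₀(B) ≤ 2 ^ d(b) * Z χ`, `∑ Z χ ≤ 2 ^ d(b) * l(b)`.
-/

set_option autoImplicit false
set_option linter.unusedSectionVars false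
set_option linter.unusedSimpArgs false

namespace Cfsg.Agent.Lib.helper79

open Cfsg
open scoped ComplexConjugate

universe u

section Ht

variable {G : Type u} [Group G] [Fintype G] {p : ℕ} [Fact p.Prime] {M : Ideal AlgInt}

theorem not_memLocalIdeal_natCast (hM : IsPModular p M) {n : ℕ} (hn : ¬ p ∣ n) :
    ¬ MemLocalIdeal M (n : ℂ) := by
  intro h
  have h' : MemLocalIdeal M (((n : ℤ)) : ℂ) := by rw [Int.cast_natCast]; exact h
  exact hn (by exact_mod_cast int_dvd_of_memLocalIdeal hM h')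

theorem memLocalIdeal_natCast_of_dvd (hM : IsPModular p M) {n : ℕ} (hn : p ∣ n) :
    MemLocalIdeal M (n : ℂ) := by
  have hprime := isPModular_isPrime hM
  obtain ⟨t, rfl⟩ := hn
  have hpJ : MemLocalIdeal M (p : ℂ) := by
    have := helper20.memLocalIdeal_of_mem hprime hM.2.2
    simpa using this
  rw [Nat.cast_mul]
  exact helper20.memLocalIdeal_mul_right hprime hpJ (helper20.memLocalRing_natCast hprime t)

theorem not_dvd_htDeg_of_height_zero {K : Type u} [Group K] [Fintype K]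
    {b : Set (IrrCharacter K)} {θ₀ : IrrCharacter K}
    (h0 : blockHeight p b (θ₀ : K → ℂ) = 0) : ¬ p ∣ htDeg p b θ₀ := by
  have hp : p.Prime := Fact.out
  unfold htDeg
  rw [h0, pow_zero, one_mul]
  exact Nat.not_dvd_ordCompl hp (helper82.irr_charDegree_pos θ₀).ne'

open Classical in
/-- For `χ ∈ B` of height zero and a block `b` of `H` inducing `B`, the normalized degree of the
`b`-part of `χ|_H` is prime to `p`. -/
theorem not_dvd_resDeg_of_height_zero (hM : IsPModular p M) (H : Subgroup G) [Fintype H]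
    {b : Set (IrrCharacter H)} {B : Set (IrrCharacter G)} (hind : IsInducedBlock M H b B)
    {χ : IrrCharacter G} (hχ : χ ∈ B) (h0 : blockHeight p B (χ : G → ℂ) = 0) :
    ¬ p ∣ resDeg p H b χ := by
  have hp : p.Prime := Fact.out
  have hprime := isPModular_isPrime hM
  have hb : IsPBlock M b := hind.1
  obtain ⟨θ₀, hθ₀, hθ₀0⟩ := exists_height_zero (p := p) hM hb
  have hS := helper20.not_dvd_sum_mul_contrib p M hM H b B hind χ hχ h0 (resMult H χ)
    (resMult_spec H χ) θ₀ hθ₀ hθ₀0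
  intro hdvd
  apply hS
  set U : ℕ := htDeg p b θ₀ * (Nat.card H / p ^ (Nat.card H).factorization p) with hU
  have hUp : ¬ p ∣ U := by
    rw [hU, hp.dvd_mul]
    push Not
    exact ⟨not_dvd_htDeg_of_height_zero hθ₀0, Nat.not_dvd_ordCompl hp Nat.card_pos.ne'⟩
  have hWR : MemLocalRing M (cc p (θ₀ : H → ℂ) (θ₀ : H → ℂ)) :=
    helper20.memLocalRing_of_algInt hprime ⟨_, cc_isIntegral θ₀ θ₀⟩
  have hJ : MemLocalIdeal M (((U : ℤ) * ∑ ξ' : IrrCharacter H, (resMult H χ ξ' : ℤ) *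
      (if ξ' ∈ b then contrib p b ξ' θ₀ else 0) : ℤ) : ℂ) := by
    have e : (((U : ℤ) * ∑ ξ' : IrrCharacter H, (resMult H χ ξ' : ℤ) *
        (if ξ' ∈ b then contrib p b ξ' θ₀ else 0) : ℤ) : ℂ) =
        (∑ ξ' : IrrCharacter H, if ξ' ∈ b then (resMult H χ ξ' : ℂ) *
          ((htDeg p b θ₀ : ℂ) * ((Nat.card H / p ^ (Nat.card H).factorization p : ℕ) : ℂ) *
            (contrib p b ξ' θ₀ : ℂ) -
          (htDeg p b ξ' : ℂ) * (htDeg p b θ₀ : ℂ) * cc p (θ₀ : H → ℂ) (θ₀ : H → ℂ)) else 0) +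
        (resDeg p H b χ : ℂ) * ((htDeg p b θ₀ : ℂ) * cc p (θ₀ : H → ℂ) (θ₀ : H → ℂ)) := by
      unfold resDeg
      push_cast
      rw [Finset.mul_sum, Finset.sum_mul, ← Finset.sum_add_distrib]
      apply Finset.sum_congr rfl
      intro ξ' _
      by_cases h : ξ' ∈ b
      · simp only [if_pos h]
        rw [hU]
        push_cast
        ring
      · simp only [if_neg h]
        ring
    rw [e]
    apply helper20.memLocalIdeal_add hprime
    · apply helper20.memLocalIdeal_sum hprime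
      intro ξ' _
      by_cases h : ξ' ∈ b
      · rw [if_pos h]
        exact helper20.memLocalIdeal_mul_left hprime (helper20.memLocalRing_natCast hprime _)
          (memLocalIdeal_contrib_sub hM hb h hθ₀ hθ₀)
      · rw [if_neg h]
        exact helper20.memLocalIdeal_zero hprime
    · exact helper20.memLocalIdeal_mul_right hprime (memLocalIdeal_natCast_of_dvd hM hdvd)
        (helper20.memLocalRing_mul hprime (helper20.memLocalRing_natCast hprime _) hWR)
  have h1 := int_dvd_of_memLocalIdeal hM hJ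
  rcases (Nat.prime_iff_prime_int.mp hp).dvd_or_dvd h1 with h2 | h2
  · exact absurd (by exact_mod_cast h2) hUp
  · exact h2

/-- **Characters of height zero and arbitrary subsections** (Brauer, Broué): for a subsection
`(z, b)` of `B` and `χ, ψ ∈ B` of height zero, `p ^ d(b) * gram χ ψ` is a local unit. -/
theorem gram_not_memLocalIdeal_of_heights_zero (hM : IsPModular p M) (H : Subgroup G) [Fintype H]
    {b : Set (IrrCharacter H)} {B : Set (IrrCharacter G)} (hind : IsInducedBlock M H b B) (z : G)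
    (hH : ∀ g : G, g ∈ H ↔ g * z = z * g) (hz : ∃ k : ℕ, orderOf z = p ^ k)
    {χ ψ : IrrCharacter G} (hχ : χ ∈ B) (hχ0 : blockHeight p B (χ : G → ℂ) = 0)
    (hψ : ψ ∈ B) (hψ0 : blockHeight p B (ψ : G → ℂ) = 0) :
    ¬ MemLocalIdeal M ((p ^ blockDefect p b : ℂ) * gram p H b z (χ : G → ℂ) (ψ : G → ℂ)) := by
  have hp : p.Prime := Fact.out
  have hprime : M.IsPrime := isPModular_isPrime hM
  have hb : IsPBlock M b := hind.1
  obtain ⟨hzH, hzc⟩ := central_of_centralizer H z hH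
  obtain ⟨k, hk⟩ := hz
  have hzk : z ^ p ^ k = 1 := by rw [← hk]; exact pow_orderOf_eq_one z
  obtain ⟨θ₀, hθ₀, hθ₀0⟩ := exists_height_zero (p := p) hM hb
  have hc₀ : ¬ MemLocalIdeal M (cc p (θ₀ : H → ℂ) (θ₀ : H → ℂ)) := by
    rw [cc_memLocalIdeal_iff hM hb hθ₀ hθ₀]
    exact not_dvd_of_height_zero hM hb hθ₀ hθ₀0 hθ₀
  have hc₀R : MemLocalRing M (cc p (θ₀ : H → ℂ) (θ₀ : H → ℂ)) :=
    helper20.memLocalRing_of_algInt hprime ⟨_, cc_isIntegral θ₀ θ₀⟩
  intro hJ
  have hsub := memLocalIdeal_gram_sub hM H hb z hzH hzc k hzk hθ₀ χ ψ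
  have hA : MemLocalIdeal M ((htDeg p b θ₀ : ℂ) *
      ((Nat.card H / p ^ (Nat.card H).factorization p : ℕ) : ℂ) *
        ((p ^ blockDefect p b : ℂ) * gram p H b z (χ : G → ℂ) (ψ : G → ℂ))) :=
    helper20.memLocalIdeal_mul_left hprime
      (helper20.memLocalRing_mul hprime (helper20.memLocalRing_natCast hprime _)
        (helper20.memLocalRing_natCast hprime _)) hJ
  have h2 := helper20.memLocalIdeal_sub hprime hA hsub
  rw [sub_sub_cancel] at h2
  have hX := not_memLocalIdeal_natCast hM (not_dvd_resDeg_of_height_zero hM H hind hχ hχ0)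
  have hY := not_memLocalIdeal_natCast hM (not_dvd_resDeg_of_height_zero hM H hind hψ hψ0)
  exact helper20.not_memLocalIdeal_mul hprime
    (helper20.memLocalRing_mul hprime hc₀R (helper20.memLocalRing_natCast hprime _))
    (helper20.memLocalRing_natCast hprime _)
    (helper20.not_memLocalIdeal_mul hprime hc₀R (helper20.memLocalRing_natCast hprime _) hc₀ hX)
    hY h2

/-- Powers of `y` prime to its order have the same centralizer, and are `p`-elements. -/
theorem pow_coprime_spec (H : Subgroup G) (y : G) (hH : ∀ g : G, g ∈ H ↔ g * y = y * g)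
    (hy : ∃ k : ℕ, orderOf y = p ^ k) {j : ℕ} (hj : j.Coprime (orderOf y)) :
    (∀ g : G, g ∈ H ↔ g * y ^ j = y ^ j * g) ∧ ∃ k : ℕ, orderOf (y ^ j) = p ^ k := by
  constructor
  · intro g
    rw [hH g]
    constructor
    · intro h
      exact (Commute.pow_right (show Commute g y from h) j).eq
    · intro h
      obtain ⟨m, hm⟩ := exists_pow_eq_self_of_coprime (x := y) hj
      have := (Commute.pow_right (show Commute g (y ^ j) from h) m).eq
      rwa [hm] at this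
  · obtain ⟨k, hk⟩ := hy
    exact ⟨k, by rw [Nat.Coprime.orderOf_pow hj.symm, hk]⟩

/-- The scalars by which the central element `y` acts, as powers of a primitive root of unity. -/
theorem exists_exponent (H : Subgroup G) [Fintype H] (y : G) (hyH : y ∈ H)
    (hyc : ∀ h : H, h * (⟨y, hyH⟩ : H) = ⟨y, hyH⟩ * h) (N : ℕ) (hN : 0 < N) (hyN : y ^ N = 1)
    (ζ : ℂ) (hζ : IsPrimitiveRoot ζ N) :
    ∃ e : IrrCharacter H → ℕ, ∀ θ : IrrCharacter H,
      ζ ^ e θ = (θ : H → ℂ) ⟨y, hyH⟩ / (θ : H → ℂ) 1 := by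
  have : NeZero N := ⟨hN.ne'⟩
  have hyN' : (⟨y, hyH⟩ : H) ^ N = 1 := Subtype.ext (by simpa using hyN)
  have hex : ∀ θ : IrrCharacter H, ∃ e : ℕ, ζ ^ e = (θ : H → ℂ) ⟨y, hyH⟩ / (θ : H → ℂ) 1 := by
    intro θ
    obtain ⟨e, _, he⟩ := hζ.eq_pow_of_pow_eq_one (irr_central_pow_eq_one θ ⟨y, hyH⟩ hyc N hyN')
    exact ⟨e, he⟩
  choose e he using hex
  exact ⟨e, he⟩

open Classical in
/-- Explicit formula for the contributions at the powers of `y`. -/
theorem pow_defect_mul_gram_pow (hM : IsPModular p M) (H : Subgroup G) [Fintype H]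
    {b : Set (IrrCharacter H)} (hb : IsPBlock M b) (y : G) (hyH : y ∈ H)
    (hyc : ∀ h : H, h * (⟨y, hyH⟩ : H) = ⟨y, hyH⟩ * h) (N : ℕ) (hN : 0 < N)
    (ζ : ℂ) (hζ : IsPrimitiveRoot ζ N) (e : IrrCharacter H → ℕ)
    (he : ∀ θ : IrrCharacter H, ζ ^ e θ = (θ : H → ℂ) ⟨y, hyH⟩ / (θ : H → ℂ) 1)
    (χ ψ : IrrCharacter G) (j : ℕ) :
    (p ^ blockDefect p b : ℂ) * gram p H b (y ^ j) (χ : G → ℂ) (ψ : G → ℂ) =
      ∑ θ : IrrCharacter H, ∑ θ' : IrrCharacter H,
        if θ ∈ b ∧ θ' ∈ b then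
          (((resMult H χ θ : ℤ) * (resMult H ψ θ' : ℤ) * contrib p b θ θ' : ℤ) : ℂ) *
            ζ ^ (j * (e θ + (N - 1) * e θ'))
        else 0 := by
  have hconj : conj ζ = ζ ^ (N - 1) := by
    have h1 : ‖ζ‖ = 1 := hζ.norm'_eq_one hN.ne'
    rw [← Complex.inv_eq_conj h1]
    symm
    apply eq_inv_of_mul_eq_one_left
    rw [← pow_succ, Nat.sub_add_cancel hN, hζ.pow_eq_one]
  have hzH : y ^ j ∈ H := pow_mem hyH j
  have hzeq : (⟨y ^ j, hzH⟩ : H) = (⟨y, hyH⟩ : H) ^ j := Subtype.ext (by simp)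
  have hzc : ∀ h : H, h * (⟨y ^ j, hzH⟩ : H) = ⟨y ^ j, hzH⟩ * h := by
    intro h
    rw [hzeq]
    exact (Commute.pow_right (show Commute h (⟨y, hyH⟩ : H) from hyc h) j).eq
  rw [pow_defect_mul_gram hM H hb (y ^ j) hzH hzc χ ψ]
  apply Finset.sum_congr rfl
  intro θ _
  apply Finset.sum_congr rfl
  intro θ' _
  by_cases h : θ ∈ b ∧ θ' ∈ b
  · rw [if_pos h, if_pos h, gdmCoeff_eq, gdmCoeff_eq, hzeq, irr_central_pow θ _ hyc j,
      irr_central_pow θ' _ hyc j, ← he θ, ← he θ']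
    simp only [map_mul, map_pow, map_natCast, hconj, Int.cast_mul, Int.cast_natCast]
    ring
  · rw [if_neg h, if_neg h]

/-- Sums of powers of a primitive `2 ^ n`-th root of unity over the Galois group. -/
theorem exists_int_sum_pow_two_pow (n : ℕ) {ζ : ℂ} (hζ : IsPrimitiveRoot ζ (2 ^ n)) (t : ℕ) :
    ∃ ε : ℤ, ∑ j ∈ (Finset.range (2 ^ n)).filter (fun j => j.Coprime (2 ^ n)), ζ ^ (j * t) =
      (ε : ℂ) * (((Finset.range (2 ^ n)).filter (fun j => j.Coprime (2 ^ n))).card : ℂ) := by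
  cases n with
  | zero =>
    refine ⟨1, ?_⟩
    have h1 : (Finset.range (2 ^ 0)).filter (fun j => j.Coprime (2 ^ 0)) = {0} := by
      ext j
      simp
    rw [h1]
    simp
  | succ n =>
    have hS : (Finset.range (2 ^ (n + 1))).filter (fun j => j.Coprime (2 ^ (n + 1))) =
        (Finset.range (2 ^ n)).image (fun i => 2 * i + 1) := by
      ext j
      simp only [Finset.mem_filter, Finset.mem_range, Finset.mem_image]
      rw [Nat.coprime_pow_right_iff (Nat.succ_pos n), Nat.coprime_two_right]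
      constructor
      · rintro ⟨hj, ⟨i, rfl⟩⟩
        refine ⟨i, ?_, rfl⟩
        rw [pow_succ] at hj
        omega
      · rintro ⟨i, hi, rfl⟩
        refine ⟨?_, ⟨i, rfl⟩⟩
        rw [pow_succ]
        omega
    have hinj : Set.InjOn (fun i : ℕ => 2 * i + 1) (Finset.range (2 ^ n) : Set ℕ) := by
      intro a _ b _ hab
      simp only at hab
      omega
    rw [hS, Finset.sum_image hinj, Finset.card_image_of_injOn hinj, Finset.card_range]
    have h1 : ∀ i ∈ Finset.range (2 ^ n), ζ ^ ((2 * i + 1) * t) = ζ ^ t * (ζ ^ (2 * t)) ^ i := by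
      intro i _
      rw [← pow_mul, ← pow_add]
      congr 1
      ring
    rw [Finset.sum_congr rfl h1, ← Finset.mul_sum]
    by_cases hω : ζ ^ (2 * t) = 1
    · have h2 : (ζ ^ t) ^ 2 = 1 := by rw [← pow_mul, mul_comm]; exact hω
      rw [hω]
      simp only [one_pow, Finset.sum_const, Finset.card_range, nsmul_eq_mul, mul_one]
      rcases sq_eq_one_iff.mp h2 with h3 | h3
      · exact ⟨1, by rw [h3]; push_cast; ring⟩
      · exact ⟨-1, by rw [h3]; push_cast; ring⟩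
    · refine ⟨0, ?_⟩
      rw [geom_sum_eq hω]
      have h3 : (ζ ^ (2 * t)) ^ 2 ^ n = 1 := by
        rw [← pow_mul]
        have : 2 * t * 2 ^ n = 2 ^ (n + 1) * t := by rw [pow_succ]; ring
        rw [this, pow_mul, hζ.pow_eq_one, one_pow]
      rw [h3]
      simp

/-- A symmetric double sum is congruent to its diagonal modulo `2`. -/
theorem two_dvd_sum_sum_sub_sum_diag {ι : Type*} [DecidableEq ι] (T : Finset ι) (s : ι → ι → ℤ)
    (hs : ∀ a a', s a a' = s a' a) :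
    (2 : ℤ) ∣ (∑ a ∈ T, ∑ a' ∈ T, s a a') - ∑ a ∈ T, s a a := by
  induction T using Finset.induction_on with
  | empty => simp
  | insert a T ha ih =>
    obtain ⟨c, hc⟩ := ih
    refine ⟨c + ∑ a' ∈ T, s a a', ?_⟩
    rw [Finset.sum_insert ha, Finset.sum_insert ha, Finset.sum_insert ha]
    have h1 : ∑ x ∈ T, ∑ a' ∈ insert a T, s x a' =
        ∑ x ∈ T, s a x + ∑ x ∈ T, ∑ a' ∈ T, s x a' := by
      rw [← Finset.sum_add_distrib]
      apply Finset.sum_congr rfl
      intro x _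
      rw [Finset.sum_insert ha, hs x a]
    rw [h1]
    linarith

/-- Parity of the contributions of a `2`-block. -/
theorem two_dvd_contrib_sub {K : Type u} [Group K] [Fintype K] {M : Ideal AlgInt}
    (hM : IsPModular 2 M) {b : Set (IrrCharacter K)} (hb : IsPBlock M b) {ξ θ₀ : IrrCharacter K}
    (hξ : ξ ∈ b) (hθ₀ : θ₀ ∈ b) (h0 : blockHeight 2 b (θ₀ : K → ℂ) = 0) :
    (2 : ℤ) ∣ contrib 2 b ξ ξ - contrib 2 b ξ θ₀ := by
  have hprime := isPModular_isPrime hM
  have c1 := memLocalIdeal_contrib_sub hM hb hξ hξ hθ₀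
  have c2 := memLocalIdeal_contrib_sub hM hb hξ hθ₀ hθ₀
  have hWR : MemLocalRing M (cc 2 (θ₀ : K → ℂ) (θ₀ : K → ℂ)) :=
    helper20.memLocalRing_of_algInt hprime ⟨_, cc_isIntegral θ₀ θ₀⟩
  set U : ℕ := htDeg 2 b θ₀ * (Nat.card K / 2 ^ (Nat.card K).factorization 2) with hU
  have hodd : ¬ 2 ∣ htDeg 2 b θ₀ := not_dvd_htDeg_of_height_zero h0
  have hUp : ¬ 2 ∣ U := by
    rw [hU, Nat.prime_two.dvd_mul]
    push Not
    exact ⟨hodd, Nat.not_dvd_ordCompl Nat.prime_two Nat.card_pos.ne'⟩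
  have hc : ¬ Even (htDeg 2 b θ₀ : ℤ) := by
    rw [Int.even_coe_nat, even_iff_two_dvd]
    exact hodd
  have hev : Even ((htDeg 2 b ξ : ℤ) * ((htDeg 2 b ξ : ℤ) - (htDeg 2 b θ₀ : ℤ))) := by
    rw [Int.even_mul, Int.even_sub]
    by_cases h : Even (htDeg 2 b ξ : ℤ)
    · left; exact h
    · right; exact ⟨fun h' => absurd h' h, fun h' => absurd h' hc⟩
  obtain ⟨t, ht⟩ := hev
  have hJ : MemLocalIdeal M (((U : ℤ) * (contrib 2 b ξ ξ - contrib 2 b ξ θ₀) : ℤ) : ℂ) := by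
    have e : (((U : ℤ) * (contrib 2 b ξ ξ - contrib 2 b ξ θ₀) : ℤ) : ℂ) =
        ((htDeg 2 b θ₀ : ℂ) * ((Nat.card K / 2 ^ (Nat.card K).factorization 2 : ℕ) : ℂ) *
            (contrib 2 b ξ ξ : ℂ) -
          (htDeg 2 b ξ : ℂ) * (htDeg 2 b ξ : ℂ) * cc 2 (θ₀ : K → ℂ) (θ₀ : K → ℂ)) -
        ((htDeg 2 b θ₀ : ℂ) * ((Nat.card K / 2 ^ (Nat.card K).factorization 2 : ℕ) : ℂ) *
            (contrib 2 b ξ θ₀ : ℂ) -
          (htDeg 2 b ξ : ℂ) * (htDeg 2 b θ₀ : ℂ) * cc 2 (θ₀ : K → ℂ) (θ₀ : K → ℂ)) +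
        ((2 : ℕ) : ℂ) * ((t : ℂ) * cc 2 (θ₀ : K → ℂ) (θ₀ : K → ℂ)) := by
      have ht' : ((htDeg 2 b ξ : ℂ)) * ((htDeg 2 b ξ : ℂ) - (htDeg 2 b θ₀ : ℂ)) =
          (t : ℂ) + (t : ℂ) := by
        exact_mod_cast congrArg (fun z : ℤ => (z : ℂ)) ht
      rw [Int.cast_mul, Int.cast_natCast, hU, Nat.cast_mul, Int.cast_sub, Nat.cast_ofNat]
      linear_combination (cc 2 (θ₀ : K → ℂ) (θ₀ : K → ℂ)) * ht'
    rw [e]
    apply helper20.memLocalIdeal_add hprime (helper20.memLocalIdeal_sub hprime c1 c2)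
    exact helper20.memLocalIdeal_mul_right hprime (memLocalIdeal_natCast_of_dvd hM (dvd_refl 2))
      (helper20.memLocalRing_mul hprime (helper20.memLocalRing_intCast hprime t) hWR)
  have h1 := int_dvd_of_memLocalIdeal hM hJ
  rcases (Nat.prime_iff_prime_int.mp Nat.prime_two).dvd_or_dvd h1 with h2 | h2
  · exact absurd (by exact_mod_cast h2) hUp
  · exact_mod_cast h2

open Classical in
/-- **Subsections of `2`-blocks and characters of height zero.**  For a subsection `(u, b)` of the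
`2`-block `B` there are integers `Z χ` (the Galois averages of `2 ^ d(b) * gram χ χ`) which are odd
for `χ ∈ B` of height zero, with `k₀(B) ≤ 2 ^ d(b) * Z χ` and `∑_{χ} Z χ ≤ 2 ^ d(b) * l(b)`
(sum over the characters of height zero). -/
theorem exists_odd_of_height_zero {M : Ideal AlgInt} (hM : IsPModular 2 M) (H : Subgroup G)
    [Fintype H] {b : Set (IrrCharacter H)} {B : Set (IrrCharacter G)}
    (hind : IsInducedBlock M H b B) (u : G) (hH : ∀ g : G, g ∈ H ↔ g * u = u * g)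
    (hu : ∃ k : ℕ, orderOf u = 2 ^ k) :
    ∃ Z : IrrCharacter G → ℤ,
      (∀ χ ∈ B, blockHeight 2 B (χ : G → ℂ) = 0 → Odd (Z χ) ∧
        ((Finset.univ.filter (fun ψ : IrrCharacter G =>
          ψ ∈ B ∧ blockHeight 2 B (ψ : G → ℂ) = 0)).card : ℤ) ≤ 2 ^ blockDefect 2 b * Z χ) ∧
      ∑ χ ∈ Finset.univ.filter (fun ψ : IrrCharacter G =>
          ψ ∈ B ∧ blockHeight 2 B (ψ : G → ℂ) = 0), Z χ ≤
        2 ^ blockDefect 2 b * (blockRank 2 b : ℤ) := by
  have hprime := isPModular_isPrime hM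
  have hb : IsPBlock M b := hind.1
  obtain ⟨hyH, hyc⟩ := central_of_centralizer H u hH
  obtain ⟨n, hn⟩ := hu
  have hN : 0 < 2 ^ n := by positivity
  have hyN : u ^ 2 ^ n = 1 := by rw [← hn]; exact pow_orderOf_eq_one u
  have hζ : IsPrimitiveRoot (Complex.exp (2 * Real.pi * Complex.I / ((2 ^ n : ℕ) : ℂ))) (2 ^ n) :=
    Complex.isPrimitiveRoot_exp (2 ^ n) hN.ne'
  generalize Complex.exp (2 * Real.pi * Complex.I / ((2 ^ n : ℕ) : ℂ)) = ζ at hζ
  set S := (Finset.range (2 ^ n)).filter (fun j => j.Coprime (2 ^ n)) with hS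
  set q := blockDefect 2 b with hq
  set B₀ := Finset.univ.filter (fun ψ : IrrCharacter G =>
    ψ ∈ B ∧ blockHeight 2 B (ψ : G → ℂ) = 0) with hB₀
  have hspec : ∀ j ∈ S, (∀ g : G, g ∈ H ↔ g * u ^ j = u ^ j * g) ∧
      ∃ k : ℕ, orderOf (u ^ j) = 2 ^ k := by
    intro j hj
    rw [hS, Finset.mem_filter] at hj
    exact pow_coprime_spec H u hH ⟨n, hn⟩ (hn ▸ hj.2)
  have hScard : (S.card : ℝ) = ((primitiveRoots (2 ^ n) ℂ).card : ℝ) := by
    have := sum_primitiveRoots_eq_sum_coprime hN hζ (fun _ => (1 : ℝ))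
    simpa using this
  have hSpos : (0 : ℝ) < S.card := by
    rw [hScard, Complex.card_primitiveRoots]
    exact_mod_cast Nat.totient_pos.mpr hN
  have hS0 : (S.card : ℂ) ≠ 0 := by
    intro h
    have : S.card = 0 := by exact_mod_cast h
    rw [this] at hSpos
    simp at hSpos
  obtain ⟨e, he⟩ := exists_exponent H u hyH hyc (2 ^ n) hN hyN ζ hζ
  have h2n : 2 ^ n - 1 + 1 = 2 ^ n := Nat.sub_add_cancel hN
  -- the signs
  have hε : ∀ θ θ' : IrrCharacter H, ∃ ε : ℤ,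
      ∑ j ∈ S, ζ ^ (j * (e θ + (2 ^ n - 1) * e θ')) = (ε : ℂ) * (S.card : ℂ) :=
    fun θ θ' => exists_int_sum_pow_two_pow n hζ _
  choose ε hεs using hε
  have hε1 : ∀ θ, ε θ θ = 1 := by
    intro θ
    have h1 : ∑ j ∈ S, ζ ^ (j * (e θ + (2 ^ n - 1) * e θ)) = (S.card : ℂ) := by
      have h2 : ∀ j ∈ S, ζ ^ (j * (e θ + (2 ^ n - 1) * e θ)) = 1 := by
        intro j _
        have h3 : j * (e θ + (2 ^ n - 1) * e θ) = 2 ^ n * (j * e θ) := by
          calc j * (e θ + (2 ^ n - 1) * e θ) = j * ((2 ^ n - 1 + 1) * e θ) := by ring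
            _ = 2 ^ n * (j * e θ) := by rw [h2n]; ring
        rw [h3, pow_mul, hζ.pow_eq_one, one_pow]
      rw [Finset.sum_congr rfl h2]
      simp
    have h2 := hεs θ θ
    rw [h1] at h2
    have h3 : (1 : ℂ) * (S.card : ℂ) = (ε θ θ : ℂ) * (S.card : ℂ) := by rw [one_mul]; exact h2
    have h4 := mul_right_cancel₀ hS0 h3
    exact_mod_cast h4.symm
  have hεsymm : ∀ θ θ', ε θ θ' = ε θ' θ := by
    intro θ θ'
    have hnorm : ∀ m : ℕ, conj (ζ ^ m) = (ζ ^ m)⁻¹ := by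
      intro m
      rw [Complex.inv_eq_conj]
      rw [norm_pow, hζ.norm'_eq_one hN.ne', one_pow]
    have h1 : ∑ j ∈ S, ζ ^ (j * (e θ' + (2 ^ n - 1) * e θ)) =
        conj (∑ j ∈ S, ζ ^ (j * (e θ + (2 ^ n - 1) * e θ'))) := by
      rw [map_sum]
      apply Finset.sum_congr rfl
      intro j _
      rw [hnorm]
      apply eq_inv_of_mul_eq_one_left
      rw [← pow_add]
      have h3 : j * (e θ' + (2 ^ n - 1) * e θ) + j * (e θ + (2 ^ n - 1) * e θ') =
          2 ^ n * (j * (e θ + e θ')) := by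
        calc j * (e θ' + (2 ^ n - 1) * e θ) + j * (e θ + (2 ^ n - 1) * e θ') =
            j * ((2 ^ n - 1 + 1) * (e θ + e θ')) := by ring
          _ = 2 ^ n * (j * (e θ + e θ')) := by rw [h2n]; ring
      rw [h3, pow_mul, hζ.pow_eq_one, one_pow]
    rw [hεs θ' θ, hεs θ θ', map_mul, map_intCast, map_natCast] at h1
    have h4 := mul_right_cancel₀ hS0 h1
    exact_mod_cast h4.symm
  -- the integers `Z χ`
  let s : IrrCharacter G → IrrCharacter H → IrrCharacter H → ℤ := fun χ θ θ' =>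
    if θ ∈ b ∧ θ' ∈ b then
      (resMult H χ θ : ℤ) * (resMult H χ θ' : ℤ) * contrib 2 b θ θ' * ε θ θ'
    else 0
  let Z : IrrCharacter G → ℤ := fun χ => ∑ θ : IrrCharacter H, ∑ θ' : IrrCharacter H, s χ θ θ'
  have hZ : ∀ χ : IrrCharacter G,
      ∑ j ∈ S, ((2 : ℕ) ^ q : ℂ) * gram 2 H b (u ^ j) (χ : G → ℂ) (χ : G → ℂ) =
        (Z χ : ℂ) * (S.card : ℂ) := by
    intro χ
    have h1 : ∀ j ∈ S, ((2 : ℕ) ^ q : ℂ) * gram 2 H b (u ^ j) (χ : G → ℂ) (χ : G → ℂ) =
        ∑ θ : IrrCharacter H, ∑ θ' : IrrCharacter H,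
          if θ ∈ b ∧ θ' ∈ b then
            (((resMult H χ θ : ℤ) * (resMult H χ θ' : ℤ) * contrib 2 b θ θ' : ℤ) : ℂ) *
              ζ ^ (j * (e θ + (2 ^ n - 1) * e θ'))
          else 0 := fun j _ =>
      pow_defect_mul_gram_pow hM H hb u hyH hyc (2 ^ n) hN ζ hζ e he χ χ j
    rw [Finset.sum_congr rfl h1, Finset.sum_comm]
    show _ = ((∑ θ : IrrCharacter H, ∑ θ' : IrrCharacter H, s χ θ θ' : ℤ) : ℂ) * (S.card : ℂ)
    rw [Int.cast_sum, Finset.sum_mul]
    apply Finset.sum_congr rfl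
    intro θ _
    rw [Finset.sum_comm, Int.cast_sum, Finset.sum_mul]
    apply Finset.sum_congr rfl
    intro θ' _
    show _ = ((if θ ∈ b ∧ θ' ∈ b then
      (resMult H χ θ : ℤ) * (resMult H χ θ' : ℤ) * contrib 2 b θ θ' * ε θ θ' else 0 : ℤ) : ℂ) *
        (S.card : ℂ)
    by_cases h : θ ∈ b ∧ θ' ∈ b
    · simp only [if_pos h]
      rw [← Finset.mul_sum, hεs θ θ']
      push_cast
      ring
    · simp only [if_neg h]
      simp
  -- parity
  have hodd : ∀ χ ∈ B, blockHeight 2 B (χ : G → ℂ) = 0 → Odd (Z χ) := by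
    intro χ hχ hχ0
    obtain ⟨θ₀, hθ₀, hθ₀0⟩ := exists_height_zero (p := 2) hM hb
    have hS' := helper20.not_dvd_sum_mul_contrib 2 M hM H b B hind χ hχ hχ0 (resMult H χ)
      (resMult_spec H χ) θ₀ hθ₀ hθ₀0
    have hsymm : ∀ θ θ', s χ θ θ' = s χ θ' θ := by
      intro θ θ'
      show (if θ ∈ b ∧ θ' ∈ b then
        (resMult H χ θ : ℤ) * (resMult H χ θ' : ℤ) * contrib 2 b θ θ' * ε θ θ' else 0) =
        (if θ' ∈ b ∧ θ ∈ b then
        (resMult H χ θ' : ℤ) * (resMult H χ θ : ℤ) * contrib 2 b θ' θ * ε θ' θ else 0)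
      by_cases h : θ ∈ b ∧ θ' ∈ b
      · rw [if_pos h, if_pos ⟨h.2, h.1⟩, contrib_symm hM hb h.1 h.2, hεsymm θ θ']
        ring
      · rw [if_neg h, if_neg (fun h' : θ' ∈ b ∧ θ ∈ b => h ⟨h'.2, h'.1⟩)]
    have hQ := two_dvd_sum_sum_sub_sum_diag Finset.univ (s χ) hsymm
    have hD : (2 : ℤ) ∣ (∑ θ : IrrCharacter H, s χ θ θ) -
        ∑ ξ' : IrrCharacter H, (resMult H χ ξ' : ℤ) *
          (if ξ' ∈ b then contrib 2 b ξ' θ₀ else 0) := by
      rw [← Finset.sum_sub_distrib]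
      apply Finset.dvd_sum
      intro θ _
      show (2 : ℤ) ∣ (if θ ∈ b ∧ θ ∈ b then
        (resMult H χ θ : ℤ) * (resMult H χ θ : ℤ) * contrib 2 b θ θ * ε θ θ else 0) -
        (resMult H χ θ : ℤ) * (if θ ∈ b then contrib 2 b θ θ₀ else 0)
      by_cases h : θ ∈ b
      · rw [if_pos ⟨h, h⟩, if_pos h, hε1 θ]
        obtain ⟨c, hc⟩ := two_dvd_contrib_sub hM hb h hθ₀ hθ₀0
        obtain ⟨c', hc'⟩ := (Int.even_mul_pred_self (resMult H χ θ : ℤ)).two_dvd
        exact ⟨c' * contrib 2 b θ θ + (resMult H χ θ : ℤ) * c, by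
          linear_combination (contrib 2 b θ θ) * hc' + (resMult H χ θ : ℤ) * hc⟩
      · rw [if_neg (fun h' : θ ∈ b ∧ θ ∈ b => h h'.1), if_neg h]
        simp
    by_contra hnot
    rw [Int.not_odd_iff_even, even_iff_two_dvd] at hnot
    apply hS'
    have h3 := dvd_sub (dvd_sub hnot hQ) hD
    have e3 : Z χ - ((∑ a : IrrCharacter H, ∑ a' : IrrCharacter H, s χ a a') -
        ∑ a : IrrCharacter H, s χ a a) -
        ((∑ θ : IrrCharacter H, s χ θ θ) -
        ∑ ξ' : IrrCharacter H, (resMult H χ ξ' : ℤ) *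
          (if ξ' ∈ b then contrib 2 b ξ' θ₀ else 0)) =
        ∑ ξ' : IrrCharacter H, (resMult H χ ξ' : ℤ) *
          (if ξ' ∈ b then contrib 2 b ξ' θ₀ else 0) := by
      show (∑ θ : IrrCharacter H, ∑ θ' : IrrCharacter H, s χ θ θ') - _ - _ = _
      ring
    rw [e3] at h3
    exact_mod_cast h3
  -- the diagonal of the Gram matrix is real
  have hgr : ∀ (χ : IrrCharacter G) (j : ℕ), j ∈ S →
      ((∑ ψ : IrrCharacter G, ‖gram 2 H b (u ^ j) (χ : G → ℂ) (ψ : G → ℂ)‖ ^ 2 : ℝ) : ℂ) =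
        gram 2 H b (u ^ j) (χ : G → ℂ) (χ : G → ℂ) := by
    intro χ j hj
    rw [Complex.ofReal_sum]
    exact gram_sum_sq hM H hb (u ^ j) (hspec j hj).1 (hspec j hj).2 χ
  have hZreal : ∀ χ : IrrCharacter G, (Z χ : ℝ) * S.card =
      ∑ j ∈ S, (2 : ℝ) ^ q * ∑ ψ : IrrCharacter G,
        ‖gram 2 H b (u ^ j) (χ : G → ℂ) (ψ : G → ℂ)‖ ^ 2 := by
    intro χ
    apply Complex.ofReal_injective
    rw [Complex.ofReal_mul, Complex.ofReal_intCast, Complex.ofReal_natCast, ← hZ χ,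
      Complex.ofReal_sum]
    apply Finset.sum_congr rfl
    intro j hj
    rw [Complex.ofReal_mul, hgr χ j hj]
    push_cast
    ring
  have hb1 : ∀ χ ∈ B, blockHeight 2 B (χ : G → ℂ) = 0 →
      (B₀.card : ℝ) ≤ 2 ^ q * (Z χ : ℝ) := by
    intro χ hχ hχ0
    have hpair : ∀ ψ ∈ B₀, (S.card : ℝ) ≤ ∑ j ∈ S, ((2 : ℝ) ^ q) ^ 2 *
        ‖gram 2 H b (u ^ j) (χ : G → ℂ) (ψ : G → ℂ)‖ ^ 2 := by
      intro ψ hψ
      rw [hB₀, Finset.mem_filter] at hψ
      obtain ⟨F, hF⟩ := exists_poly_gram hM H hb u hyH hyc (2 ^ n) hN hyN ζ hζ χ ψ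
      have hne : Polynomial.aeval ζ F ≠ 0 := by
        have h1 := hF 1
        rw [pow_one, pow_one] at h1
        rw [← h1]
        intro h0
        exact gram_not_memLocalIdeal_of_heights_zero hM H hind u hH ⟨n, hn⟩ hχ hχ0 hψ.2.1 hψ.2.2
          (h0 ▸ helper20.memLocalIdeal_zero hprime)
      have h1 := one_le_prod_norm_aeval_primitiveRoots hN hζ F hne
      have h2 := card_le_sum_sq_of_one_le_prod (primitiveRoots (2 ^ n) ℂ)
        (fun ξ => ‖Polynomial.aeval ξ F‖) (fun _ _ => norm_nonneg _) h1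
      rw [← hScard,
        ← sum_primitiveRoots_eq_sum_coprime hN hζ (fun ξ => ‖Polynomial.aeval ξ F‖ ^ 2)] at h2
      refine h2.trans (le_of_eq ?_)
      apply Finset.sum_congr rfl
      intro j _
      rw [← hF j, norm_mul, mul_pow, norm_pow, Complex.norm_natCast, Nat.cast_ofNat]
    have h3 : (B₀.card : ℝ) * S.card ≤ (2 ^ q * (Z χ : ℝ)) * S.card := by
      calc (B₀.card : ℝ) * S.card = ∑ ψ ∈ B₀, (S.card : ℝ) := by simp
        _ ≤ ∑ ψ ∈ B₀, ∑ j ∈ S, ((2 : ℝ) ^ q) ^ 2 *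
              ‖gram 2 H b (u ^ j) (χ : G → ℂ) (ψ : G → ℂ)‖ ^ 2 := Finset.sum_le_sum hpair
        _ = ∑ j ∈ S, ((2 : ℝ) ^ q) ^ 2 * ∑ ψ ∈ B₀,
              ‖gram 2 H b (u ^ j) (χ : G → ℂ) (ψ : G → ℂ)‖ ^ 2 := by
            rw [Finset.sum_comm]
            simp_rw [Finset.mul_sum]
        _ ≤ ∑ j ∈ S, ((2 : ℝ) ^ q) ^ 2 * ∑ ψ : IrrCharacter G,
              ‖gram 2 H b (u ^ j) (χ : G → ℂ) (ψ : G → ℂ)‖ ^ 2 := by
            apply Finset.sum_le_sum
            intro j _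
            apply mul_le_mul_of_nonneg_left _ (by positivity)
            exact Finset.sum_le_sum_of_subset_of_nonneg (Finset.subset_univ _)
              (fun _ _ _ => by positivity)
        _ = (2 ^ q * (Z χ : ℝ)) * S.card := by
            rw [mul_assoc, hZreal χ, Finset.mul_sum]
            apply Finset.sum_congr rfl
            intro j _
            ring
    exact le_of_mul_le_mul_right h3 hSpos
  have hc1 : (∑ χ ∈ B₀, (Z χ : ℝ)) ≤ 2 ^ q * (blockRank 2 b : ℝ) := by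
    have h3 : (∑ χ ∈ B₀, (Z χ : ℝ)) * S.card ≤ (2 ^ q * (blockRank 2 b : ℝ)) * S.card := by
      calc (∑ χ ∈ B₀, (Z χ : ℝ)) * S.card =
            ∑ χ ∈ B₀, ∑ j ∈ S, (2 : ℝ) ^ q * ∑ ψ : IrrCharacter G,
              ‖gram 2 H b (u ^ j) (χ : G → ℂ) (ψ : G → ℂ)‖ ^ 2 := by
            rw [Finset.sum_mul]
            exact Finset.sum_congr rfl (fun χ _ => hZreal χ)
        _ = ∑ j ∈ S, (2 : ℝ) ^ q * ∑ χ ∈ B₀, ∑ ψ : IrrCharacter G,
              ‖gram 2 H b (u ^ j) (χ : G → ℂ) (ψ : G → ℂ)‖ ^ 2 := by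
            rw [Finset.sum_comm]
            simp_rw [Finset.mul_sum]
        _ ≤ ∑ j ∈ S, (2 : ℝ) ^ q * ∑ χ : IrrCharacter G, ∑ ψ : IrrCharacter G,
              ‖gram 2 H b (u ^ j) (χ : G → ℂ) (ψ : G → ℂ)‖ ^ 2 := by
            apply Finset.sum_le_sum
            intro j _
            apply mul_le_mul_of_nonneg_left _ (by positivity)
            exact Finset.sum_le_sum_of_subset_of_nonneg (Finset.subset_univ _)
              (fun _ _ _ => Finset.sum_nonneg (fun _ _ => by positivity))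
        _ = ∑ j ∈ S, (2 : ℝ) ^ q * (blockRank 2 b : ℝ) := by
            apply Finset.sum_congr rfl
            intro j hj
            congr 1
            have h1 := gram_trace hM H hb (u ^ j) (hspec j hj).1 (hspec j hj).2
            have h2 : ((∑ χ : IrrCharacter G, ∑ ψ : IrrCharacter G,
                ‖gram 2 H b (u ^ j) (χ : G → ℂ) (ψ : G → ℂ)‖ ^ 2 : ℝ) : ℂ) =
                (blockRank 2 b : ℂ) := by
              rw [← h1, Complex.ofReal_sum]
              apply Finset.sum_congr rfl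
              intro χ _
              exact hgr χ j hj
            exact_mod_cast h2
        _ = (2 ^ q * (blockRank 2 b : ℝ)) * S.card := by
            rw [Finset.sum_const, nsmul_eq_mul]
            ring
    exact le_of_mul_le_mul_right h3 hSpos
  refine ⟨Z, fun χ hχ hχ0 => ⟨hodd χ hχ hχ0, ?_⟩, ?_⟩
  · exact_mod_cast hb1 χ hχ hχ0
  · exact_mod_cast hc1

end Ht

end Cfsg.Agent.Lib.helper79
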