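import Mathlib
import Cfsg.Agent.Lib.helper79.CycloNorm
import Cfsg.Agent.Lib.helper79.BrauerFeit
import Cfsg.Agent.Lib.helper79.SubsectionHt

/-!
# Galois sums of cyclotomic integers and the local ring

* `exists_inv_of_not_memLocalIdeal`: local integers outside the local ideal are invertible;
* `pow_dvd_of_eq_pow_mul`: a rational integer of the form `p ^ m * r`, `r` a local integer, is
  divisible by `p ^ m`;
* `card_le_sum_norm_sq_aeval`: for an integer polynomial `F` not vanishing at the primitive `N`-th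
  root of unity `ζ`, the sum of `‖F(ζ^j)‖²` over the `j` prime to `N` is at least their number;
* `sq_mul_card_le_sum_norm_sq_aeval`: if moreover all `F(ζ^j)` are divisible by `p` in the local
  ring, the sum is at least `p²` times their number.
-/

set_option autoImplicit false
set_option linter.unusedSectionVars false

namespace Cfsg.Agent.Lib.helper79

open Cfsg Polynomial
open scoped ComplexConjugate

theorem isIntegral_aeval_int {ξ : ℂ} (hξ : IsIntegral ℤ ξ) (F : ℤ[X]) :
    IsIntegral ℤ (aeval ξ F) := by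
  have h2 : aeval ξ F = ((aeval (⟨ξ, hξ⟩ : integralClosure ℤ ℂ) F : integralClosure ℤ ℂ) : ℂ) :=
    (Subalgebra.aeval_coe (integralClosure ℤ ℂ) ⟨ξ, hξ⟩ F)
  rw [h2]
  exact (aeval (⟨ξ, hξ⟩ : integralClosure ℤ ℂ) F).2

theorem isIntegral_aeval_pow_primitiveRoot {N : ℕ} (hN : 0 < N) {ζ : ℂ}
    (hζ : IsPrimitiveRoot ζ N) (j : ℕ) (F : ℤ[X]) : IsIntegral ℤ (aeval (ζ ^ j) F) :=
  isIntegral_aeval_int ((hζ.isIntegral hN).pow j) F

theorem memLocalRing_of_isIntegral {M : Ideal AlgInt} (hprime : M.IsPrime) {x : ℂ}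
    (hx : IsIntegral ℤ x) : MemLocalRing M x :=
  helper20.memLocalRing_of_algInt hprime (⟨x, hx⟩ : AlgInt)

theorem memLocalRing_conj_of_isIntegral {M : Ideal AlgInt} (hprime : M.IsPrime) {x : ℂ}
    (hx : IsIntegral ℤ x) : MemLocalRing M (conj x) :=
  memLocalRing_of_isIntegral hprime (map_isIntegral_int (starRingEnd ℂ) hx)

theorem memLocalIdeal_prime {p : ℕ} {M : Ideal AlgInt} (hM : IsPModular p M) :
    MemLocalIdeal M (p : ℂ) := by
  have := helper20.memLocalIdeal_of_mem (isPModular_isPrime hM) hM.2.2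
  simpa using this

/-- Local integers outside the local ideal are invertible in the local ring. -/
theorem exists_inv_of_not_memLocalIdeal {M : Ideal AlgInt} {r : ℂ}
    (hr : MemLocalRing M r) (hn : ¬ MemLocalIdeal M r) : ∃ s : ℂ, MemLocalRing M s ∧ s * r = 1 := by
  obtain ⟨a, b, hb, rfl⟩ := hr
  have ha : a ∉ M := fun ha => hn ⟨a, b, ha, hb, rfl⟩
  have ha0 := helper20.coe_ne_zero_of_not_mem ha
  have hb0 := helper20.coe_ne_zero_of_not_mem hb
  refine ⟨(b : ℂ) / (a : ℂ), ⟨b, a, ha, rfl⟩, ?_⟩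
  field_simp

/-- A rational integer of the form `p ^ m * r` with `r` a local integer is divisible by
`p ^ m`. -/
theorem pow_dvd_of_eq_pow_mul {p : ℕ} [Fact p.Prime] {M : Ideal AlgInt} (hM : IsPModular p M)
    (m : ℕ) : ∀ (z : ℤ) (r : ℂ), MemLocalRing M r → (z : ℂ) = (p : ℂ) ^ m * r → (p : ℤ) ^ m ∣ z := by
  have hp : p.Prime := Fact.out
  have hprime := isPModular_isPrime hM
  have hpc : (p : ℂ) ≠ 0 := Nat.cast_ne_zero.mpr hp.ne_zero
  induction m with
  | zero =>
    intro z r _ _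
    simp
  | succ m ih =>
    intro z r hr h
    have hJ : MemLocalIdeal M (z : ℂ) := by
      rw [h, pow_succ', mul_assoc]
      exact helper20.memLocalIdeal_mul_right hprime (memLocalIdeal_prime hM)
        (helper20.memLocalRing_mul hprime
          (by
            have := helper20.memLocalRing_natCast hprime (p ^ m)
            simpa using this) hr)
    obtain ⟨z', rfl⟩ := int_dvd_of_memLocalIdeal hM hJ
    have h' : (z' : ℂ) = (p : ℂ) ^ m * r := by
      apply mul_left_cancel₀ hpc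
      rw [← mul_assoc, ← pow_succ', ← h]
      push_cast
      ring
    rw [pow_succ']
    exact mul_dvd_mul_left _ (ih z' r hr h')

section Galois

variable {N : ℕ}

/-- Reindexing products over primitive roots by exponents coprime to `N`. -/
theorem prod_primitiveRoots_eq_prod_coprime (hN : 0 < N) {ζ : ℂ} (hζ : IsPrimitiveRoot ζ N)
    (f : ℂ → ℂ) :
    ∏ k ∈ (Finset.range N).filter (fun k => k.Coprime N), f (ζ ^ k) =
      ∏ ξ ∈ primitiveRoots N ℂ, f ξ := by
  have : NeZero N := ⟨hN.ne'⟩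
  refine Finset.prod_bij (fun k _ => ζ ^ k) ?_ ?_ ?_ ?_
  · intro k hk
    rw [Finset.mem_filter] at hk
    exact (mem_primitiveRoots hN).mpr (hζ.pow_of_coprime k hk.2)
  · intro i hi j hj hij
    rw [Finset.mem_filter, Finset.mem_range] at hi hj
    exact hζ.pow_inj hi.1 hj.1 hij
  · intro ξ hξ
    rw [mem_primitiveRoots hN] at hξ
    obtain ⟨i, hi, hcop, hpow⟩ := hζ.isPrimitiveRoot_iff.mp hξ
    exact ⟨i, Finset.mem_filter.mpr ⟨Finset.mem_range.mpr hi, hcop⟩, hpow⟩
  · intro k _
    rfl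

theorem card_coprime_eq_card_primitiveRoots (hN : 0 < N) {ζ : ℂ} (hζ : IsPrimitiveRoot ζ N) :
    (((Finset.range N).filter (fun k => k.Coprime N)).card : ℝ) =
      ((primitiveRoots N ℂ).card : ℝ) := by
  have := sum_primitiveRoots_eq_sum_coprime hN hζ (fun _ => (1 : ℝ))
  simpa using this

theorem card_coprime_pos (hN : 0 < N) :
    0 < ((Finset.range N).filter (fun k => k.Coprime N)).card := by
  have hζ : IsPrimitiveRoot (Complex.exp (2 * Real.pi * Complex.I / (N : ℂ))) N :=
    Complex.isPrimitiveRoot_exp N hN.ne'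
  have h1 := card_coprime_eq_card_primitiveRoots hN hζ
  rw [Complex.card_primitiveRoots] at h1
  have h2 : (0 : ℝ) < (N.totient : ℝ) := by exact_mod_cast Nat.totient_pos.mpr hN
  rw [← h1] at h2
  exact_mod_cast h2

/-- The Galois sum of the square norms of a nonzero cyclotomic integer is at least the number of
conjugates. -/
theorem card_le_sum_norm_sq_aeval (hN : 0 < N) {ζ : ℂ} (hζ : IsPrimitiveRoot ζ N) (F : ℤ[X])
    (h : aeval ζ F ≠ 0) :
    (((Finset.range N).filter (fun k => k.Coprime N)).card : ℝ) ≤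
      ∑ j ∈ (Finset.range N).filter (fun k => k.Coprime N), ‖aeval (ζ ^ j) F‖ ^ 2 := by
  have h1 := one_le_prod_norm_aeval_primitiveRoots hN hζ F h
  have h2 := card_le_sum_sq_of_one_le_prod (primitiveRoots N ℂ)
    (fun ξ => ‖aeval ξ F‖) (fun _ _ => norm_nonneg _) h1
  rw [← card_coprime_eq_card_primitiveRoots hN hζ,
    ← sum_primitiveRoots_eq_sum_coprime hN hζ (fun ξ => ‖aeval ξ F‖ ^ 2)] at h2
  exact h2

/-- The Galois sum of the square norms of a nonzero cyclotomic integer all of whose conjugates are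
divisible by `p` in the local ring is at least `p²` times the number of conjugates. -/
theorem sq_mul_card_le_sum_norm_sq_aeval {p : ℕ} [Fact p.Prime] {M : Ideal AlgInt}
    (hM : IsPModular p M) (hN : 0 < N) {ζ : ℂ} (hζ : IsPrimitiveRoot ζ N) (F : ℤ[X])
    (h : aeval ζ F ≠ 0)
    (hdiv : ∀ j ∈ (Finset.range N).filter (fun k => k.Coprime N),
      ∃ t : ℂ, MemLocalRing M t ∧ aeval (ζ ^ j) F = (p : ℂ) * t) :
    (p : ℝ) ^ 2 * (((Finset.range N).filter (fun k => k.Coprime N)).card : ℝ) ≤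
      ∑ j ∈ (Finset.range N).filter (fun k => k.Coprime N), ‖aeval (ζ ^ j) F‖ ^ 2 := by
  have hp : p.Prime := Fact.out
  have hprime := isPModular_isPrime hM
  have hpr : (0 : ℝ) < (p : ℝ) := Nat.cast_pos.mpr hp.pos
  set S := (Finset.range N).filter (fun k => k.Coprime N) with hS
  obtain ⟨z, hz⟩ := exists_int_prod_aeval_primitiveRoots hN F
  choose! t ht using hdiv
  have hprod : (z : ℂ) = (p : ℂ) ^ S.card * ∏ j ∈ S, t j := by
    rw [← hz, ← prod_primitiveRoots_eq_prod_coprime hN hζ (fun ξ => aeval ξ F),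
      Finset.prod_congr rfl (fun j hj => (ht j hj).2), Finset.prod_mul_distrib, Finset.prod_const]
  have hdvd : (p : ℤ) ^ S.card ∣ z :=
    pow_dvd_of_eq_pow_mul hM S.card z _
      (helper20.memLocalRing_prod hprime S t (fun j hj => (ht j hj).1)) hprod
  have hne : ∏ ξ ∈ primitiveRoots N ℂ, aeval ξ F ≠ 0 := by
    rw [Finset.prod_ne_zero_iff]
    intro ξ hξ
    rw [mem_primitiveRoots hN] at hξ
    intro h0
    exact h (aeval_primitiveRoot_eq_zero hN hξ hζ F h0)
  have hz0 : z ≠ 0 := by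
    rintro rfl
    rw [hz] at hne
    simp at hne
  have hzabs : (p : ℤ) ^ S.card ≤ |z| :=
    Int.le_of_dvd (abs_pos.mpr hz0) ((dvd_abs _ _).mpr hdvd)
  have hzabsr : (p : ℝ) ^ S.card ≤ |(z : ℝ)| := by exact_mod_cast hzabs
  have hcard := card_coprime_eq_card_primitiveRoots hN hζ
  have hcard' : S.card = (primitiveRoots N ℂ).card := by exact_mod_cast hcard
  have h1 : (1 : ℝ) ≤ ∏ ξ ∈ primitiveRoots N ℂ, ‖aeval ξ F‖ / (p : ℝ) := by
    rw [Finset.prod_div_distrib, Finset.prod_const, ← norm_prod, hz, ← hcard',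
      le_div_iff₀ (pow_pos hpr _), one_mul]
    simpa using hzabsr
  have h2 := card_le_sum_sq_of_one_le_prod (primitiveRoots N ℂ)
    (fun ξ => ‖aeval ξ F‖ / (p : ℝ)) (fun _ _ => div_nonneg (norm_nonneg _) hpr.le) h1
  rw [← hcard] at h2
  have h3 : ∑ ξ ∈ primitiveRoots N ℂ, (‖aeval ξ F‖ / (p : ℝ)) ^ 2 =
      (∑ j ∈ S, ‖aeval (ζ ^ j) F‖ ^ 2) / (p : ℝ) ^ 2 := by
    rw [sum_primitiveRoots_eq_sum_coprime hN hζ (fun ξ => ‖aeval ξ F‖ ^ 2), Finset.sum_div]
    apply Finset.sum_congr rfl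
    intro ξ _
    rw [div_pow]
  rw [h3, le_div_iff₀ (pow_pos hpr _)] at h2
  linarith

end Galois

end Cfsg.Agent.Lib.helper79
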