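import Mathlib
import Cfsg.Agent.Lib.helper42.FGDefs
import Cfsg.Agent.Lib.helper28.Fitting

/-!
S1915 piece LEMN: a central step in a 2-group (pure p-group lemma).
-/

set_option autoImplicit false

namespace Cfsg.Agent.Lib.helper42.FG

variable {G : Type*} [Group G] [Finite G]

/-- LEMN -/
theorem exists_central_step (T B C : Subgroup G) (hT : IsPGroup 2 T) (hBC : B ≤ C) (hCT : C ≤ T)
    (hne : B ≠ C) (hTB : T ≤ Subgroup.normalizer (B : Set G))
    (hTC : T ≤ Subgroup.normalizer (C : Set G)) :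
    ∃ y ∈ C, y ∉ B ∧ y * y ∈ B ∧ ∀ t ∈ T, t * y * t⁻¹ * y⁻¹ ∈ B := by
  classical
  have : Fact (Nat.Prime 2) := ⟨Nat.prime_two⟩
  have hBT : B ≤ T := hBC.trans hCT
  have hN : (B.subgroupOf T).Normal := (Subgroup.normal_subgroupOf_iff_le_normalizer hBT).mpr hTB
  have hCn : (C.subgroupOf T).Normal := (Subgroup.normal_subgroupOf_iff_le_normalizer hCT).mpr hTC
  have hQ : IsPGroup 2 (↥T ⧸ B.subgroupOf T) := hT.to_quotient _
  have : Group.IsNilpotent (↥T ⧸ B.subgroupOf T) := hQ.isNilpotent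
  set π := QuotientGroup.mk' (B.subgroupOf T) with hπ
  have hπs : Function.Surjective π := QuotientGroup.mk'_surjective _
  have hC'n : ((C.subgroupOf T).map π).Normal := Subgroup.Normal.map hCn π hπs
  -- an element of C outside B
  obtain ⟨c, hcC, hcB⟩ : ∃ c ∈ C, c ∉ B := by
    by_contra hcon
    push Not at hcon
    exact hne (le_antisymm hBC hcon)
  have hC'ne : (C.subgroupOf T).map π ≠ ⊥ := by
    intro h0
    have h1 : π ⟨c, hCT hcC⟩ ∈ (C.subgroupOf T).map π :=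
      Subgroup.mem_map_of_mem _ (by rw [Subgroup.mem_subgroupOf]; exact hcC)
    rw [h0, Subgroup.mem_bot] at h1
    have h2 : (⟨c, hCT hcC⟩ : ↥T) ∈ B.subgroupOf T := by
      rw [← QuotientGroup.eq_one_iff]; exact h1
    rw [Subgroup.mem_subgroupOf] at h2
    exact hcB h2
  have h1 := Cfsg.Agent.Lib.helper28.normal_inf_center_ne_bot ((C.subgroupOf T).map π) hC'ne
  obtain ⟨w, hw1⟩ := (Subgroup.ne_bot_iff_exists_ne_one).mp h1
  have hw1' : (w : ↥T ⧸ B.subgroupOf T) ≠ 1 := fun h => hw1 (Subtype.ext h)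
  have hwC : (w : ↥T ⧸ B.subgroupOf T) ∈ (C.subgroupOf T).map π := (Subgroup.mem_inf.mp w.2).1
  have hwZ : (w : ↥T ⧸ B.subgroupOf T) ∈ Subgroup.center (↥T ⧸ B.subgroupOf T) :=
    (Subgroup.mem_inf.mp w.2).2
  obtain ⟨k, hk⟩ := (IsPGroup.iff_orderOf.mp hQ) (w : ↥T ⧸ B.subgroupOf T)
  have hk0 : k ≠ 0 := by
    intro h0
    rw [h0, pow_zero, orderOf_eq_one_iff] at hk
    exact hw1' hk
  obtain ⟨j, rfl⟩ := Nat.exists_eq_succ_of_ne_zero hk0
  set w' : ↥T ⧸ B.subgroupOf T := (w : ↥T ⧸ B.subgroupOf T) ^ (2 ^ j) with hw'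
  have hw'1 : w' ≠ 1 := by
    apply pow_ne_one_of_lt_orderOf (by positivity)
    rw [hk]
    exact Nat.pow_lt_pow_right (by norm_num) (Nat.lt_succ_self j)
  have hw'2 : w' * w' = 1 := by
    rw [hw', ← pow_add, ← two_mul, ← pow_succ', ← hk]
    exact pow_orderOf_eq_one _
  have hw'C : w' ∈ (C.subgroupOf T).map π := Subgroup.pow_mem _ hwC _
  have hw'Z : w' ∈ Subgroup.center (↥T ⧸ B.subgroupOf T) := Subgroup.pow_mem _ hwZ _
  obtain ⟨y', hy'C, hy'⟩ := Subgroup.mem_map.mp hw'C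
  rw [Subgroup.mem_subgroupOf] at hy'C
  refine ⟨(y' : G), hy'C, ?_, ?_, ?_⟩
  · intro hyB
    have h2 : y' ∈ B.subgroupOf T := by rw [Subgroup.mem_subgroupOf]; exact hyB
    have h3 : π y' = 1 := (QuotientGroup.eq_one_iff y').mpr h2
    rw [hy'] at h3
    exact hw'1 h3
  · have h3 : π (y' * y') = 1 := by rw [map_mul, hy', hw'2]
    have h4 : y' * y' ∈ B.subgroupOf T := (QuotientGroup.eq_one_iff _).mp h3
    rw [Subgroup.mem_subgroupOf] at h4
    simpa using h4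
  · intro t ht
    have h3 : π ((⟨t, ht⟩ : ↥T) * y' * (⟨t, ht⟩ : ↥T)⁻¹ * y'⁻¹) = 1 := by
      rw [map_mul, map_mul, map_mul, map_inv, map_inv, hy']
      have h5 := Subgroup.mem_center_iff.mp hw'Z (π ⟨t, ht⟩)
      rw [h5]
      group
    have h4 : (⟨t, ht⟩ : ↥T) * y' * (⟨t, ht⟩ : ↥T)⁻¹ * y'⁻¹ ∈ B.subgroupOf T :=
      (QuotientGroup.eq_one_iff _).mp h3
    rw [Subgroup.mem_subgroupOf] at h4
    simpa using h4

end Cfsg.Agent.Lib.helper42.FG
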