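import Mathlib

set_option autoImplicit false

namespace Cfsg.Agent.Lib.helper79

/-- Schur's lemma: a central element acts as a scalar in an irreducible finite-dimensional
complex representation. -/
theorem central_scalar {G V : Type*} [Group G] [AddCommGroup V] [Module ℂ V]
    [FiniteDimensional ℂ V] (ρ : Representation ℂ G V) (hρ : ρ.IsIrreducible) (c : G)
    (hc : ∀ g : G, g * c = c * g) :
    ∃ t : ℂ, ρ c = t • (LinearMap.id : V →ₗ[ℂ] V) := by
  have hcen : c ∈ Submonoid.center G := Submonoid.mem_center_iff.mpr hc
  obtain ⟨t, ht⟩ :=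
    (Representation.IsIrreducible.algebraMap_intertwiningMap_bijective_of_isAlgClosed (ρ := ρ)).2
      (Representation.IntertwiningMap.centralMul ρ c hcen)
  refine ⟨t, ?_⟩
  have h1 := congrArg Representation.IntertwiningMap.toLinearMap ht
  rw [Representation.IntertwiningMap.algebraMap_apply] at h1
  exact h1.symm

/-- Consequence of Schur's lemma at the level of characters: for a central element `c`,
`ρ.character (c * g) = t * ρ.character g` where `t` is the scalar by which `c` acts. -/
theorem central_character_mul {G V : Type*} [Group G] [AddCommGroup V] [Module ℂ V]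
    [FiniteDimensional ℂ V] (ρ : Representation ℂ G V) (hρ : ρ.IsIrreducible) (c : G)
    (hc : ∀ g : G, g * c = c * g) :
    ∃ t : ℂ, ρ c = t • (LinearMap.id : V →ₗ[ℂ] V) ∧
      ∀ g : G, ρ.character (c * g) = t * ρ.character g := by
  obtain ⟨t, ht⟩ := central_scalar ρ hρ c hc
  refine ⟨t, ht, fun g => ?_⟩
  unfold Representation.character
  rw [map_mul, ht, smul_mul_assoc, map_smul, smul_eq_mul]
  rfl

end Cfsg.Agent.Lib.helper79
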