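/-
S4504 piece D2 (`ker_le_center`), race copy by helper79 under the prefixed name
`h79_ker_le_center`: the kernel of a character `ξ` with `x ∉ ker ξ` is central, if `G` is the
normal closure of `x` and `ψ` is faithful irreducible with `2 ψ(1) + 1 ≤ p`.
-/
import Mathlib
import Cfsg.Agent.Lib.helper79.BGD

set_option autoImplicit false

open Cfsg Cfsg.Agent.Lib.helper20.D1E Cfsg.Agent.Lib.helper2.BF
open scoped ComplexConjugate

namespace Cfsg.Agent.Lib.helper2.BG

variable {G : Type*} [Group G] [Fintype G]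

/-- D2 (race copy of `ker_le_center`). -/
theorem h79_ker_le_center (p : ℕ) [Fact p.Prime] (P : Sylow p G) (hP : Nat.card P = p)
    (x : G) (hx : x ∈ (P : Subgroup G)) (hx1 : x ≠ 1)
    (hgen : Subgroup.normalClosure ({x} : Set G) = ⊤)
    (ψ : IrrCharacter G) (hdeg : 2 * charDegree (ψ : G → ℂ) + 1 ≤ p)
    (hfaith : ∀ g : G, (ψ : G → ℂ) g = (ψ : G → ℂ) 1 → g = 1)
    (hns : ‖(ψ : G → ℂ) x‖ ≠ ‖(ψ : G → ℂ) 1‖)
    (ξ : G → ℂ) (hξ : IsCharacter G ξ) (hξx : ξ x ≠ ξ 1) :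
    ∀ k : G, ξ k = ξ 1 → k ∈ Subgroup.center G := by
  intro k hk
  have hLn : (Cfsg.Agent.Lib.helper81.charKer ξ hξ).Normal :=
    Cfsg.Agent.Lib.helper81.charKer_normal ξ hξ
  have hxL : x ∉ Cfsg.Agent.Lib.helper81.charKer ξ hξ :=
    fun h => hξx ((Cfsg.Agent.Lib.helper81.mem_charKer ξ hξ x).1 h)
  have hD := h79_ker_central p P hP x hx hx1 ψ hdeg hns
    (Cfsg.Agent.Lib.helper81.charKer ξ hξ) hLn hxL
  have hcomm : ∀ k' ∈ Cfsg.Agent.Lib.helper81.charKer ξ hξ, x * k' = k' * x := by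
    intro k' hk'
    have h1 := hfaith _ (hD k' hk')
    calc x * k' = (x * k' * x⁻¹ * k'⁻¹) * (k' * x) := by group
      _ = k' * x := by rw [h1, one_mul]
  have hkL : k ∈ Cfsg.Agent.Lib.helper81.charKer ξ hξ :=
    (Cfsg.Agent.Lib.helper81.mem_charKer ξ hξ k).2 hk
  have hle : Subgroup.normalClosure ({x} : Set G) ≤ Subgroup.centralizer ({k} : Set G) := by
    unfold Subgroup.normalClosure
    rw [Subgroup.closure_le]
    intro t ht
    obtain ⟨b, hb, hconj⟩ := Group.mem_conjugatesOfSet_iff.1 ht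
    rw [Set.mem_singleton_iff] at hb
    rw [hb] at hconj
    obtain ⟨c, hc⟩ := isConj_iff.1 hconj
    rw [SetLike.mem_coe, Subgroup.mem_centralizer_iff]
    intro y hy
    rw [Set.mem_singleton_iff] at hy
    rw [hy]
    have hk' : c⁻¹ * k * c ∈ Cfsg.Agent.Lib.helper81.charKer ξ hξ := by
      have := hLn.conj_mem k hkL c⁻¹
      rwa [inv_inv] at this
    have h2 := hcomm _ hk'
    rw [← hc]
    calc k * (c * x * c⁻¹) = c * ((c⁻¹ * k * c) * x) * c⁻¹ := by group
      _ = c * (x * (c⁻¹ * k * c)) * c⁻¹ := by rw [h2]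
      _ = c * x * c⁻¹ * k := by group
  rw [Subgroup.mem_center_iff]
  intro g
  have hg : g ∈ Subgroup.centralizer ({k} : Set G) := hle (by rw [hgen]; trivial)
  exact (Subgroup.mem_centralizer_iff.1 hg k rfl).symm

end Cfsg.Agent.Lib.helper2.BG
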