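import Mathlib
import Cfsg.Prelude.Def_Classical
import Cfsg.Prelude.Def_GeometricClasses
import Cfsg.Agent.Lib.helper71.QfcPHI
import Cfsg.Agent.Lib.helper25.QfcQK
import Cfsg.Agent.Lib.helper17.SymmForm

/-!
S5977 / S5978 block [A]: KUNIQ.  Two self-adjoint matrices `κ`, `κ'` with `κ² = κ'² = δ`
(`δ` a non-square of the finite field `F`, odd characteristic) are conjugate under the isometry
group of the nondegenerate quadratic form `Q`.
-/

set_option autoImplicit false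

namespace Cfsg.Agent.Lib.helper79

open Cfsg.Geo Matrix

section KU

variable {F : Type*} [Field F]

/-- the quadratic algebra over a finite field is finite -/
theorem h79_qa_finite [Finite F] (δ : F) : Finite (QuadraticAlgebra F δ 0) :=
  Finite.of_equiv _ (QuadraticAlgebra.equivProd δ 0).symm

/-- a non-square of norm `δ` -/
theorem h79_exists_alpha [Finite F] (h2 : (2 : F) ≠ 0) (δ : F)
    [Fact (∀ r : F, r ^ 2 ≠ δ + 0 * r)] :
    ∃ α : QuadraticAlgebra F δ 0, α.re ^ 2 - δ * α.im ^ 2 = δ ∧ ¬ IsSquare α := by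
  have hδ : ∀ r : F, r ^ 2 ≠ δ + 0 * r := Fact.out
  have hδ0 : δ ≠ 0 := by
    intro h0
    exact hδ 0 (by rw [h0]; ring)
  obtain ⟨x, y, hxy⟩ := Cfsg.Agent.Lib.helper17.exists_sq_add_sq_eq_one h2 (δ⁻¹) (-1)
    (inv_ne_zero hδ0) (by norm_num)
  have h1 : x ^ 2 - δ * y ^ 2 = δ := by
    have h : δ * (δ⁻¹ * x ^ 2 + -1 * y ^ 2) = δ * 1 := congrArg (fun t => δ * t) hxy
    rw [mul_add, ← mul_assoc, mul_inv_cancel₀ hδ0] at h
    linear_combination h
  refine ⟨⟨x, y⟩, h1, ?_⟩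
  rintro ⟨γ, hγ⟩
  have hre : x = γ.re * γ.re + δ * γ.im * γ.im := by
    have h := congrArg QuadraticAlgebra.re hγ
    simpa [QuadraticAlgebra.re_mul] using h
  have him : y = γ.re * γ.im + γ.im * γ.re := by
    have h := congrArg QuadraticAlgebra.im hγ
    simpa [QuadraticAlgebra.im_mul] using h
  apply hδ (γ.re ^ 2 - δ * γ.im ^ 2)
  rw [hre, him] at h1
  linear_combination h1

theorem h79_basis_zero (δ : F) :
    (QuadraticAlgebra.basis δ 0) 0 = (⟨1, 0⟩ : QuadraticAlgebra F δ 0) := by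
  rw [Module.Basis.apply_eq_iff]
  ext i
  fin_cases i <;> simp

theorem h79_basis_one (δ : F) :
    (QuadraticAlgebra.basis δ 0) 1 = (⟨0, 1⟩ : QuadraticAlgebra F δ 0) := by
  rw [Module.Basis.apply_eq_iff]
  ext i
  fin_cases i <;> simp

/-- Gram determinant of the trace form in a `K'`-orthogonal basis. -/
theorem h79_gram {V : Type*} [AddCommGroup V] [Module F V] (δ : F)
    [Fact (∀ r : F, r ^ 2 ≠ δ + 0 * r)] {n : ℕ} (Bf : LinearMap.BilinForm F V)
    (B₁ : LinearMap.BilinForm (QuadraticAlgebra F δ 0) (Fin n → QuadraticAlgebra F δ 0))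
    (E : (Fin n → QuadraticAlgebra F δ 0) ≃ₗ[F] V)
    (hE : ∀ k k', Bf (E k) (E k') = (B₁ k k').re)
    (b : Module.Basis (Fin n) (QuadraticAlgebra F δ 0) (Fin n → QuadraticAlgebra F δ 0))
    (hb : ∀ i j, i ≠ j → B₁ (b i) (b j) = 0) :
    ∃ e : Module.Basis (Fin 2 × Fin n) F V,
      (LinearMap.BilinForm.toMatrix e Bf).det =
        ∏ j, δ * ((B₁ (b j) (b j)).re ^ 2 - δ * (B₁ (b j) (b j)).im ^ 2) := by
  classical
  let e : Module.Basis (Fin 2 × Fin n) F V := ((QuadraticAlgebra.basis δ 0).smulTower b).map E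
  refine ⟨e, ?_⟩
  have he : ∀ (ε : Fin 2) (j : Fin n), e (ε, j) = E ((QuadraticAlgebra.basis δ 0) ε • b j) := by
    intro ε j
    simp [e, Module.Basis.smulTower_apply]
  have hM : LinearMap.BilinForm.toMatrix e Bf = Matrix.blockDiagonal (fun j : Fin n =>
      !![(B₁ (b j) (b j)).re, δ * (B₁ (b j) (b j)).im;
         δ * (B₁ (b j) (b j)).im, δ * (B₁ (b j) (b j)).re]) := by
    ext ⟨ε, j⟩ ⟨ε', l⟩
    rw [LinearMap.BilinForm.toMatrix_apply, Matrix.blockDiagonal_apply', he, he, hE]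
    simp only [map_smul, LinearMap.smul_apply, smul_eq_mul]
    by_cases hjl : j = l
    · subst hjl
      rw [if_pos rfl]
      fin_cases ε <;> fin_cases ε' <;>
        simp [h79_basis_zero, h79_basis_one, QuadraticAlgebra.re_mul, QuadraticAlgebra.im_mul]
    · rw [if_neg hjl, hb j l hjl]
      simp
  rw [hM, Matrix.det_blockDiagonal]
  apply Finset.prod_congr rfl
  intro j _
  rw [Matrix.det_fin_two_of]
  ring

/-- polar form of a nondegenerate quadratic form (Prelude sense) as a Mathlib bilinear form -/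
noncomputable def h79_polarBF {R : Type*} [Field R] {m : Type} [Fintype m] [DecidableEq m]
    (q : (m → R) → R) (hq : IsNondegenerateQuadraticForm q) : LinearMap.BilinForm R (m → R) :=
  LinearMap.mk₂ R (QuadraticMap.polar q) hq.polar_bilinear.add_left
    (fun c x v => by rw [hq.polar_bilinear.smul_left, smul_eq_mul])
    hq.polar_bilinear.add_right
    (fun c v x => by rw [hq.polar_bilinear.smul_right, smul_eq_mul])

theorem h79_polarBF_apply {R : Type*} [Field R] {m : Type} [Fintype m] [DecidableEq m]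
    (q : (m → R) → R) (hq : IsNondegenerateQuadraticForm q) (u v : m → R) :
    h79_polarBF q hq u v = QuadraticMap.polar q u v := rfl

theorem h79_polarBF_symm {R : Type*} [Field R] {m : Type} [Fintype m] [DecidableEq m]
    (q : (m → R) → R) (hq : IsNondegenerateQuadraticForm q) : (h79_polarBF q hq).IsSymm :=
  ⟨fun u v => by
    simp only [h79_polarBF_apply, QuadraticMap.polar]
    rw [add_comm u v]
    abel⟩

theorem h79_polarBF_nondeg {R : Type*} [Field R] {m : Type} [Fintype m] [DecidableEq m]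
    (q : (m → R) → R) (hq : IsNondegenerateQuadraticForm q) : (h79_polarBF q hq).Nondegenerate := by
  constructor
  · intro u hu
    by_contra hne
    obtain ⟨-, ⟨y, hy⟩⟩ := hq.nondegenerate u hne
    exact hy (hu y)
  · intro u hu
    by_contra hne
    obtain ⟨⟨x, hx⟩, -⟩ := hq.nondegenerate u hne
    exact hx (hu x)

theorem h79_polar_self {R : Type*} [Field R] {m : Type} [Fintype m] [DecidableEq m]
    (q : (m → R) → R) (hq : IsNondegenerateQuadraticForm q) (k : m → R) :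
    QuadraticMap.polar q k k = 2 * q k := by
  have h1 := hq.smul 2 k
  simp only [QuadraticMap.polar]
  rw [← two_smul R k, h1]
  ring

theorem h79_mat_ext {ι : Type} [Fintype ι] [DecidableEq ι] {A B : Matrix ι ι F}
    (h : ∀ v, A *ᵥ v = B *ᵥ v) : A = B := by
  apply Matrix.toLin'.injective
  apply LinearMap.ext
  intro v
  rw [Matrix.toLin'_apply, Matrix.toLin'_apply]
  exact h v

/-- `K'`-coordinates adapted to `κ`. -/
theorem h79_coords {ι : Type} [Fintype ι] [DecidableEq ι] (h2 : (2 : F) ≠ 0)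
    (Q : (ι → F) → F) (hQ : IsNondegenerateQuadraticForm Q) (δ : F)
    [Fact (∀ r : F, r ^ 2 ≠ δ + 0 * r)] (κ : Matrix ι ι F)
    (hκ : κ * κ = δ • (1 : Matrix ι ι F))
    (hsa : ∀ u v : ι → F, QuadraticMap.polar Q (κ *ᵥ u) v = QuadraticMap.polar Q u (κ *ᵥ v))
    (d : ℕ) (hd : Fintype.card ι = 2 * d) :
    ∃ (E : (Fin d → QuadraticAlgebra F δ 0) ≃ₗ[F] (ι → F))
      (q : (Fin d → QuadraticAlgebra F δ 0) → QuadraticAlgebra F δ 0),
      IsNondegenerateQuadraticForm q ∧ (∀ k, (q k).re = Q (E k)) ∧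
      ∀ (z : QuadraticAlgebra F δ 0) (k : Fin d → QuadraticAlgebra F δ 0),
        E (z • k) = z.re • E k + z.im • (κ *ᵥ E k) := by
  obtain ⟨Φ, hΦ⟩ := Cfsg.Agent.Lib.helper2.qfc_phi δ κ hκ d hd
  have hq := Cfsg.Agent.Lib.helper2.qfc_qk_nondeg h2 Q hQ δ κ hκ hsa d Φ hΦ
  let E : (Fin d → QuadraticAlgebra F δ 0) ≃ₗ[F] (ι → F) :=
    { Φ with
      map_smul' := by
        intro c k
        have h1 : c • k = (algebraMap F (QuadraticAlgebra F δ 0) c) • k := by
          rw [algebraMap_smul]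
        show Φ (c • k) = c • Φ k
        rw [h1, hΦ, QuadraticAlgebra.algebraMap_re, QuadraticAlgebra.algebraMap_im, zero_smul,
          add_zero] }
  exact ⟨E, _, hq, fun k => rfl, hΦ⟩

/-- **KUNIQ**: two self-adjoint square roots of the non-square `δ` are conjugate under the isometry
group. -/
theorem h79_kuniq [Fintype F] {ι : Type} [Fintype ι] [DecidableEq ι] (h2 : (2 : F) ≠ 0)
    (Q : (ι → F) → F) (hQ : IsNondegenerateQuadraticForm Q) (δ : F)
    (hδ : ∀ r : F, r ^ 2 ≠ δ + 0 * r)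
    (κ κ' : Matrix ι ι F) (hκ : κ * κ = δ • (1 : Matrix ι ι F))
    (hκ' : κ' * κ' = δ • (1 : Matrix ι ι F))
    (hsa : ∀ u v : ι → F, QuadraticMap.polar Q (κ *ᵥ u) v = QuadraticMap.polar Q u (κ *ᵥ v))
    (hsa' : ∀ u v : ι → F, QuadraticMap.polar Q (κ' *ᵥ u) v = QuadraticMap.polar Q u (κ' *ᵥ v)) :
    ∃ h ∈ Cfsg.isometryGroup F Q, (h : Matrix ι ι F) * κ = κ' * (h : Matrix ι ι F) := by
  classical
  have : Fact (∀ r : F, r ^ 2 ≠ δ + 0 * r) := ⟨hδ⟩
  have hδ0 : δ ≠ 0 := by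
    intro h0
    exact hδ 0 (by rw [h0]; ring)
  -- even dimension
  obtain ⟨d, hd⟩ : ∃ d, Fintype.card ι = 2 * d := by
    rcases Nat.even_or_odd' (Fintype.card ι) with ⟨m, hm | hm⟩
    · exact ⟨m, hm⟩
    · exfalso
      have h1 : κ.det * κ.det = δ ^ (Fintype.card ι) := by
        rw [← Matrix.det_mul, hκ, Matrix.det_smul, Matrix.det_one, mul_one]
      rw [hm, pow_succ, pow_mul] at h1
      have hδm : (δ ^ m) ≠ 0 := pow_ne_zero _ hδ0
      apply hδ (κ.det / δ ^ m)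
      field_simp
      linear_combination h1
  obtain ⟨E₁, q₁, hq₁, hre₁, hE₁⟩ := h79_coords h2 Q hQ δ κ hκ hsa d hd
  obtain ⟨E₂, q₂, hq₂, hre₂, hE₂⟩ := h79_coords h2 Q hQ δ κ' hκ' hsa' d hd
  rcases Nat.eq_zero_or_pos d with hd0 | hdpos
  · have : IsEmpty ι := Fintype.card_eq_zero_iff.mp (by rw [hd, hd0])
    refine ⟨1, Subgroup.one_mem _, ?_⟩
    ext i
    exact isEmptyElim i
  obtain ⟨n, rfl⟩ : ∃ n, d = n + 1 := ⟨d - 1, by omega⟩
  have : Finite (QuadraticAlgebra F δ 0) := h79_qa_finite δ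
  have h2K : (2 : QuadraticAlgebra F δ 0) ≠ 0 := by
    intro h
    have h3 : ((2 : QuadraticAlgebra F δ 0)).re = (0 : QuadraticAlgebra F δ 0).re := by rw [h]
    have h4 : ((2 : QuadraticAlgebra F δ 0)).re = 2 := rfl
    rw [h4] at h3
    exact h2 h3
  obtain ⟨α, hαN, hαsq⟩ := h79_exists_alpha h2 δ
  have hfr : Module.finrank (QuadraticAlgebra F δ 0) (Fin (n + 1) → QuadraticAlgebra F δ 0)
      = n + 1 := Module.finrank_fin_fun _
  obtain ⟨b₁, hb₁o, hb₁n, hb₁l⟩ := Cfsg.Agent.Lib.helper17.exists_basis_symm h2K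
    (h79_polarBF q₁ hq₁) (h79_polarBF_symm q₁ hq₁) (h79_polarBF_nondeg q₁ hq₁) hfr α hαsq
  obtain ⟨b₂, hb₂o, hb₂n, hb₂l⟩ := Cfsg.Agent.Lib.helper17.exists_basis_symm h2K
    (h79_polarBF q₂ hq₂) (h79_polarBF_symm q₂ hq₂) (h79_polarBF_nondeg q₂ hq₂) hfr α hαsq
  have hEB₁ : ∀ k k', (h79_polarBF Q hQ) (E₁ k) (E₁ k') = ((h79_polarBF q₁ hq₁) k k').re := by
    intro k k'
    rw [h79_polarBF_apply, h79_polarBF_apply]
    simp only [QuadraticMap.polar]
    rw [← map_add, ← hre₁, ← hre₁, ← hre₁]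
    simp
  have hEB₂ : ∀ k k', (h79_polarBF Q hQ) (E₂ k) (E₂ k') = ((h79_polarBF q₂ hq₂) k k').re := by
    intro k k'
    rw [h79_polarBF_apply, h79_polarBF_apply]
    simp only [QuadraticMap.polar]
    rw [← map_add, ← hre₂, ← hre₂, ← hre₂]
    simp
  obtain ⟨e₁, hdet₁⟩ := h79_gram δ (h79_polarBF Q hQ) (h79_polarBF q₁ hq₁) E₁ hEB₁ b₁ hb₁o
  obtain ⟨e₂, hdet₂⟩ := h79_gram δ (h79_polarBF Q hQ) (h79_polarBF q₂ hq₂) E₂ hEB₂ b₂ hb₂o
  -- the last norms agree
  have hlast : (h79_polarBF q₁ hq₁) (b₁ (Fin.last n)) (b₁ (Fin.last n)) =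
      (h79_polarBF q₂ hq₂) (b₂ (Fin.last n)) (b₂ (Fin.last n)) := by
    obtain ⟨c₁, hc₁⟩ : ∃ c, c = (h79_polarBF q₁ hq₁) (b₁ (Fin.last n)) (b₁ (Fin.last n)) :=
      ⟨_, rfl⟩
    obtain ⟨c₂, hc₂⟩ : ∃ c, c = (h79_polarBF q₂ hq₂) (b₂ (Fin.last n)) (b₂ (Fin.last n)) :=
      ⟨_, rfl⟩
    rw [← hc₁, ← hc₂]
    rw [← hc₁] at hb₁l
    rw [← hc₂] at hb₂l
    have hp₁ : (LinearMap.BilinForm.toMatrix e₁ (h79_polarBF Q hQ)).det =
        δ ^ (n + 1) * (c₁.re ^ 2 - δ * c₁.im ^ 2) := by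
      rw [hdet₁, Fin.prod_univ_castSucc, ← hc₁]
      have h3 : ∀ i : Fin n, δ * (((h79_polarBF q₁ hq₁) (b₁ i.castSucc) (b₁ i.castSucc)).re ^ 2 -
          δ * ((h79_polarBF q₁ hq₁) (b₁ i.castSucc) (b₁ i.castSucc)).im ^ 2) = δ := by
        intro i
        rw [hb₁n i.castSucc (Fin.castSucc_lt_last i).ne, QuadraticAlgebra.re_one,
          QuadraticAlgebra.im_one]
        ring
      rw [Finset.prod_congr rfl (fun i _ => h3 i), Finset.prod_const, Finset.card_univ,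
        Fintype.card_fin]
      ring
    have hp₂ : (LinearMap.BilinForm.toMatrix e₂ (h79_polarBF Q hQ)).det =
        δ ^ (n + 1) * (c₂.re ^ 2 - δ * c₂.im ^ 2) := by
      rw [hdet₂, Fin.prod_univ_castSucc, ← hc₂]
      have h3 : ∀ i : Fin n, δ * (((h79_polarBF q₂ hq₂) (b₂ i.castSucc) (b₂ i.castSucc)).re ^ 2 -
          δ * ((h79_polarBF q₂ hq₂) (b₂ i.castSucc) (b₂ i.castSucc)).im ^ 2) = δ := by
        intro i
        rw [hb₂n i.castSucc (Fin.castSucc_lt_last i).ne, QuadraticAlgebra.re_one,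
          QuadraticAlgebra.im_one]
        ring
      rw [Finset.prod_congr rfl (fun i _ => h3 i), Finset.prod_const, Finset.card_univ,
        Fintype.card_fin]
      ring
    have hrel := LinearMap.BilinForm.toMatrix_mul_basis_toMatrix (b := e₁) e₂ (h79_polarBF Q hQ)
    obtain ⟨p, hp⟩ : ∃ p : F, p = (e₁.toMatrix e₂).det := ⟨_, rfl⟩
    have hdetrel : (LinearMap.BilinForm.toMatrix e₂ (h79_polarBF Q hQ)).det =
        p ^ 2 * (LinearMap.BilinForm.toMatrix e₁ (h79_polarBF Q hQ)).det := by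
      rw [← hrel, Matrix.det_mul, Matrix.det_mul, Matrix.det_transpose, ← hp]
      ring
    rw [hp₁, hp₂] at hdetrel
    have hδn : δ ^ (n + 1) ≠ 0 := pow_ne_zero _ hδ0
    have hN : c₂.re ^ 2 - δ * c₂.im ^ 2 = p ^ 2 * (c₁.re ^ 2 - δ * c₁.im ^ 2) := by
      apply mul_left_cancel₀ hδn
      linear_combination hdetrel
    rcases hb₁l with h1 | h1 <;> rcases hb₂l with h1' | h1'
    · rw [h1, h1']
    · exfalso
      rw [h1, h1', hαN, QuadraticAlgebra.re_one, QuadraticAlgebra.im_one] at hN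
      have hN' : δ = p ^ 2 := by linear_combination hN
      exact hδ p (by rw [← hN']; ring)
    · exfalso
      rw [h1, h1', hαN, QuadraticAlgebra.re_one, QuadraticAlgebra.im_one] at hN
      have hN' : (1 : F) = p ^ 2 * δ := by linear_combination hN
      have hp0 : p ≠ 0 := by
        intro h0
        rw [h0] at hN'
        simp at hN'
      apply hδ (p⁻¹)
      field_simp
      linear_combination hN'
    · rw [h1, h1']
  -- the `K'`-linear isometry
  obtain ⟨T, hT⟩ : ∃ T : (Fin (n + 1) → QuadraticAlgebra F δ 0) ≃ₗ[QuadraticAlgebra F δ 0]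
      (Fin (n + 1) → QuadraticAlgebra F δ 0), ∀ i, T (b₁ i) = b₂ i :=
    ⟨b₁.equiv b₂ (Equiv.refl _), fun i => by simp⟩
  have hTB : ∀ k k', (h79_polarBF q₂ hq₂) (T k) (T k') = (h79_polarBF q₁ hq₁) k k' := by
    have h3 : (h79_polarBF q₂ hq₂).compl₁₂ (T : _ →ₗ[QuadraticAlgebra F δ 0] _)
        (T : _ →ₗ[QuadraticAlgebra F δ 0] _) = h79_polarBF q₁ hq₁ := by
      apply LinearMap.BilinForm.ext_basis b₁
      intro i j
      rw [LinearMap.compl₁₂_apply]
      show (h79_polarBF q₂ hq₂) (T (b₁ i)) (T (b₁ j)) = _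
      rw [hT, hT]
      by_cases hij : i = j
      · subst hij
        by_cases hil : i = Fin.last n
        · subst hil
          exact hlast.symm
        · rw [hb₁n i hil, hb₂n i hil]
      · rw [hb₁o i j hij, hb₂o i j hij]
    intro k k'
    rw [← h3]
    rfl
  have hTq : ∀ k, q₂ (T k) = q₁ k := by
    intro k
    have h3 := hTB k k
    rw [h79_polarBF_apply, h79_polarBF_apply, h79_polar_self q₂ hq₂, h79_polar_self q₁ hq₁] at h3
    exact mul_left_cancel₀ h2K h3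
  -- the `F`-linear equivalence
  obtain ⟨hL, hLa⟩ : ∃ hL : (ι → F) ≃ₗ[F] (ι → F), ∀ v, hL v = E₂ (T (E₁.symm v)) :=
    ⟨E₁.symm.trans ((T.restrictScalars F).trans E₂), fun v => rfl⟩
  have hLQ : ∀ v, Q (hL v) = Q v := by
    intro v
    rw [hLa, ← hre₂, hTq, hre₁, LinearEquiv.apply_symm_apply]
  have hLκ : ∀ v, hL (κ *ᵥ v) = κ' *ᵥ hL v := by
    intro v
    have h3 : κ *ᵥ v = E₁ ((⟨0, 1⟩ : QuadraticAlgebra F δ 0) • E₁.symm v) := by
      rw [hE₁, LinearEquiv.apply_symm_apply, zero_smul, zero_add, one_smul]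
    rw [h3, hLa, LinearEquiv.symm_apply_apply, map_smul, hE₂, zero_smul, zero_add, one_smul, hLa]
  -- matrices
  obtain ⟨M, hM⟩ : ∃ M : Matrix ι ι F, M = LinearMap.toMatrix' (hL : (ι → F) →ₗ[F] (ι → F)) :=
    ⟨_, rfl⟩
  obtain ⟨M', hM'⟩ : ∃ M' : Matrix ι ι F,
      M' = LinearMap.toMatrix' (hL.symm : (ι → F) →ₗ[F] (ι → F)) := ⟨_, rfl⟩
  have hMv : ∀ v, M *ᵥ v = hL v := by
    intro v
    rw [hM, ← Matrix.toLin'_apply, Matrix.toLin'_toMatrix']
    rfl
  have hM'v : ∀ v, M' *ᵥ v = hL.symm v := by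
    intro v
    rw [hM', ← Matrix.toLin'_apply, Matrix.toLin'_toMatrix']
    rfl
  have hMM' : M * M' = 1 := h79_mat_ext (fun v => by
    rw [← Matrix.mulVec_mulVec, hM'v, hMv, Matrix.one_mulVec, LinearEquiv.apply_symm_apply])
  have hM'M : M' * M = 1 := h79_mat_ext (fun v => by
    rw [← Matrix.mulVec_mulVec, hMv, hM'v, Matrix.one_mulVec, LinearEquiv.symm_apply_apply])
  refine ⟨⟨M, M', hMM', hM'M⟩, ?_, ?_⟩
  · intro u v
    show Q (M *ᵥ u) = Q u
    rw [hMv, hLQ]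
  · apply h79_mat_ext
    intro v
    show (M * κ) *ᵥ v = (κ' * M) *ᵥ v
    rw [← Matrix.mulVec_mulVec, ← Matrix.mulVec_mulVec, hMv, hMv, hLκ]

end KU

end Cfsg.Agent.Lib.helper79
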