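/-
S4504 R sub-piece R1 (`R_p_ge_five`), race copy by helper79 under the prefixed name
`h79_R_p_ge_five`: `2·χ(1) + 1 = p` prime, `χ` faithful, no normal subgroup of order `p` ⇒ `5 ≤ p`.
-/
import Mathlib
import Cfsg.Agent.Lib.helper2.BGDefs

set_option autoImplicit false

open Cfsg

namespace Cfsg.Agent.Lib.helper2.BG

universe u

/-- Endomorphisms of a one-dimensional coordinate space commute. -/
theorem helper79_bgr1_comm (A B : Module.End ℂ (Fin 1 → ℂ)) : A * B = B * A := by
  have key : ∀ (T : Module.End ℂ (Fin 1 → ℂ)) (v : Fin 1 → ℂ),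
      T v = (T (fun _ => 1) 0) • v := by
    intro T v
    have hv : v = v 0 • (fun _ : Fin 1 => (1 : ℂ)) := by
      ext i
      fin_cases i
      simp
    conv_lhs => rw [hv]
    rw [map_smul]
    ext i
    fin_cases i
    simp [mul_comm]
  apply LinearMap.ext
  intro v
  show A (B v) = B (A v)
  rw [key A (B v), key B v, key B (A v), key A v, smul_comm]

/-- R1 (race copy of `R_p_ge_five`). -/
theorem h79_R_p_ge_five {G : Type u} [Group G] [Finite G] (p : ℕ) [Fact p.Prime]
    (hdiv : p ∣ Nat.card G) (hsq : ¬ p ^ 2 ∣ Nat.card G)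
    (hnn : ∀ H : Subgroup G, H.Normal → Nat.card H ≠ p) (χ : G → ℂ)
    (hχ : Cfsg.IsCharacter G χ) (hfaith : ∀ g : G, χ g = χ 1 → g = 1)
    (hdeg : 2 * Cfsg.charDegree χ + 1 = p) : 5 ≤ p := by
  have hp : p.Prime := Fact.out
  by_contra hlt
  have hp2 : 2 ≤ p := hp.two_le
  have hp4 : p ≠ 4 := by
    intro h
    rw [h] at hp
    exact absurd hp (by decide)
  -- so `p = 3` and the degree is `1`
  have hp3 : p = 3 := by omega
  have hd1 : Cfsg.charDegree χ = 1 := by omega
  obtain ⟨n, ρ, hρ⟩ := hχ
  have hn : n = 1 := by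
    have h1 : χ 1 = (n : ℂ) := by
      rw [← hρ, Representation.char_one]
      simp
    have h2 : Cfsg.charDegree χ = n := by
      unfold Cfsg.charDegree
      rw [h1]
      simp
    omega
  subst hn
  -- `G` is commutative
  have hcomm : ∀ a b : G, a * b = b * a := by
    intro a b
    have h1 : ρ (a * b * (b * a)⁻¹) = 1 := by
      rw [map_mul, map_mul, helper79_bgr1_comm (ρ a) (ρ b), ← map_mul, ← map_mul,
        mul_inv_cancel, map_one]
    have h2 : χ (a * b * (b * a)⁻¹) = χ 1 := by
      rw [← hρ]
      unfold Representation.character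
      rw [h1, map_one ρ]
    have h3 := hfaith _ h2
    calc a * b = (a * b * (b * a)⁻¹) * (b * a) := by group
      _ = b * a := by rw [h3, one_mul]
  -- a Sylow `p`-subgroup is normal of order `p`
  obtain ⟨P⟩ : Nonempty (Sylow p G) := inferInstance
  have hPn : (P : Subgroup G).Normal := by
    constructor
    intro x hx g
    have : g * x * g⁻¹ = x := by
      rw [hcomm g x, mul_assoc, mul_inv_cancel, mul_one]
    rw [this]
    exact hx
  have hPc : Nat.card (P : Subgroup G) = p := by
    have h1 := Sylow.card_eq_multiplicity P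
    have hpos : Nat.card G ≠ 0 := Nat.card_pos.ne'
    have hk1 : 1 ≤ (Nat.card G).factorization p := hp.factorization_pos_of_dvd hpos hdiv
    have hk2 : (Nat.card G).factorization p < 2 := by
      by_contra hcon
      push Not at hcon
      exact hsq (dvd_trans (pow_dvd_pow p hcon) (Nat.ordProj_dvd _ _))
    have hk : (Nat.card G).factorization p = 1 := by omega
    rw [h1, hk, pow_one]
  exact hnn (P : Subgroup G) hPn hPc

end Cfsg.Agent.Lib.helper2.BG
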