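/-
S4504 R sub-piece R7 (`R_cent_le_center`, Schur), race copy by helper79 under the prefixed name
`h79_R_cent_le_center`: if `χ` is a faithful character of `G` whose restriction to the subgroup
`N` is irreducible, then `C_G(N) ≤ Z(G)`.
-/
import Mathlib
import Cfsg.Agent.Lib.helper2.BGDefs
import Cfsg.Agent.Lib.helper4.RepEquiv

set_option autoImplicit false

open Cfsg

namespace Cfsg.Agent.Lib.helper2.BG

universe u

/-- Schur: an endomorphism commuting with an irreducible complex representation is a scalar. -/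
theorem helper79_bgr7_scalar {G V : Type*} [Group G] [AddCommGroup V] [Module ℂ V]
    [FiniteDimensional ℂ V] (ρ : Representation ℂ G V) (hρ : ρ.IsIrreducible)
    (T : V →ₗ[ℂ] V) (hT : ∀ g : G, ρ g * T = T * ρ g) :
    ∃ t : ℂ, T = t • (LinearMap.id : V →ₗ[ℂ] V) := by
  let f : Representation.IntertwiningMap ρ ρ :=
    { toLinearMap := T
      isIntertwining' := fun g => (hT g).symm }
  obtain ⟨t, ht⟩ :=
    (Representation.IsIrreducible.algebraMap_intertwiningMap_bijective_of_isAlgClosed (ρ := ρ)).2 f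
  refine ⟨t, ?_⟩
  have h1 := congrArg Representation.IntertwiningMap.toLinearMap ht
  rw [Representation.IntertwiningMap.algebraMap_apply] at h1
  exact h1.symm

/-- R7 (race copy of `R_cent_le_center`). -/
theorem h79_R_cent_le_center {G : Type u} [Group G] [Finite G] (χ : G → ℂ)
    (hχ : Cfsg.IsCharacter G χ) (hfaith : ∀ g : G, χ g = χ 1 → g = 1) (N : Subgroup G)
    (hirr : Cfsg.IsIrrCharacter ↥N (fun g => χ (g : G))) :
    Subgroup.centralizer (N : Set G) ≤ Subgroup.center G := by
  obtain ⟨n, ρ, hρ⟩ := hχ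
  obtain ⟨m, σ, hσirr, hσ⟩ := hirr
  -- the restriction of `ρ` to `N`
  let ρN : Representation ℂ ↥N (Fin n → ℂ) := ρ.comp N.subtype
  have hchar : σ.character = ρN.character := by
    rw [hσ, ← hρ]
    rfl
  obtain ⟨φ⟩ := Cfsg.Agent.Lib.helper4.nonempty_equiv_of_character_eq σ ρN hchar
  have hρNirr : ρN.IsIrreducible := Cfsg.Agent.Lib.helper4.isIrreducible_of_equiv φ hσirr
  intro c hc
  have hcomm : ∀ g : ↥N, ρN g * ρ c = ρ c * ρN g := by
    intro g
    have h1 : (g : G) * c = c * (g : G) := Subgroup.mem_centralizer_iff.1 hc (g : G) g.2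
    show ρ (g : G) * ρ c = ρ c * ρ (g : G)
    rw [← map_mul, ← map_mul, h1]
  obtain ⟨t, ht⟩ := helper79_bgr7_scalar ρN hρNirr (ρ c) hcomm
  rw [Subgroup.mem_center_iff]
  intro g
  have h2 : ρ (g * c) = ρ (c * g) := by
    rw [map_mul, map_mul, ht]
    ext v
    simp
  have h3 : ρ (g * c * (c * g)⁻¹) = 1 := by
    rw [map_mul, h2, ← map_mul, mul_inv_cancel, map_one]
  have h4 : χ (g * c * (c * g)⁻¹) = χ 1 := by
    rw [← hρ]
    unfold Representation.character
    rw [h3, map_one ρ]
  have h5 := hfaith _ h4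
  calc g * c = (g * c * (c * g)⁻¹) * (c * g) := by group
    _ = c * g := by rw [h5, one_mul]

end Cfsg.Agent.Lib.helper2.BG
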