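import Mathlib

/-! S0997 piece AR3 (for helper19's split): the final bound in the case `ε = -1`. -/

set_option autoImplicit false

namespace Cfsg.Agent.Lib.helper79.BU

/-- AR3 : the final bound in the case `ε = -1`, `p = 2 e + 1`, `e = 2^a ≥ 4`
(`d` = a degree with `d ≥ 2^b`, `d² < |G| = e p N`). -/
theorem ar_fin_minus (p e a b N d : ℕ) (hpe : p - 1 = 2 * e) (hea : e = 2 ^ a) (he4 : 4 ≤ e)
    (hN : e * N = 2 ^ b * (e + 1)) (h1 : e * N ≤ d * (e + 1)) (h2 : d * d < e * p * N) :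
    2 * N < (p + 1) * (p + 2) := by
  have hp : p = 2 * e + 1 := by omega
  subst hp
  have he0 : 0 < e := by omega
  -- a ≥ 2
  have ha2 : 2 ≤ a := by
    by_contra h
    have : a ≤ 1 := by omega
    have : (2 : ℕ) ^ a ≤ 2 ^ 1 := Nat.pow_le_pow_right (by norm_num) this
    omega
  -- a ≤ b
  have hab : a ≤ b := by
    by_contra hlt
    obtain ⟨k, hk⟩ : ∃ k, a = b + (k + 1) := ⟨a - b - 1, by omega⟩
    have e1 : e = 2 ^ b * (2 * 2 ^ k) := by rw [hea, hk, pow_add, pow_succ]; ring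
    have e2 : 2 ^ b * (2 * 2 ^ k * N) = 2 ^ b * (e + 1) := by
      rw [← hN]; conv_rhs => rw [e1]
      ring
    have e3 : 2 * 2 ^ k * N = e + 1 := Nat.eq_of_mul_eq_mul_left (by positivity) e2
    have hev : Even e := by
      rw [hea]; exact (Nat.even_pow.mpr ⟨even_two, by omega⟩)
    have hev' : Even (e + 1) := by
      rw [← e3]; exact ⟨2 ^ k * N, by ring⟩
    rcases hev with ⟨u, hu⟩
    rcases hev' with ⟨v, hv⟩
    omega
  obtain ⟨k, hk⟩ : ∃ k, b = a + k := ⟨b - a, by omega⟩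
  have hb : (2 : ℕ) ^ b = e * 2 ^ k := by rw [hk, pow_add, hea]
  -- N = 2^k (e+1)
  have hN' : N = 2 ^ k * (e + 1) := by
    have : e * N = e * (2 ^ k * (e + 1)) := by rw [hN, hb]; ring
    exact Nat.eq_of_mul_eq_mul_left he0 this
  set c := 2 ^ k with hc
  have hc0 : 0 < c := by positivity
  -- e * c ≤ d
  have hd : e * c ≤ d := by
    have : e * c * (e + 1) ≤ d * (e + 1) := by
      calc e * c * (e + 1) = e * N := by rw [hN']; ring
        _ ≤ d * (e + 1) := h1
    exact Nat.le_of_mul_le_mul_right this (by omega)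
  -- e * c < (2e+1)(e+1)
  have hlt : e * c < (2 * e + 1) * (e + 1) := by
    have h3 : (e * c) * (e * c) ≤ d * d := Nat.mul_le_mul hd hd
    have h4 : (e * c) * (e * c) < (e * c) * ((2 * e + 1) * (e + 1)) := by
      calc (e * c) * (e * c) ≤ d * d := h3
        _ < e * (2 * e + 1) * N := h2
        _ = (e * c) * ((2 * e + 1) * (e + 1)) := by rw [hN']; ring
    exact Nat.lt_of_mul_lt_mul_left h4
  -- c ≤ 2 e
  have hc2 : c ≤ 2 * e := by
    by_contra hgt
    have hgt' : 2 ^ (a + 1) < 2 ^ k := by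
      have : (2 : ℕ) ^ (a + 1) = 2 * e := by rw [pow_succ, hea]; ring
      rw [this]; omega
    have hka : a + 1 < k := (Nat.pow_lt_pow_iff_right (by norm_num)).mp hgt'
    have h4e : 4 * e ≤ c := by
      have : (2 : ℕ) ^ (a + 2) ≤ 2 ^ k := Nat.pow_le_pow_right (by norm_num) (by omega)
      have h' : (2 : ℕ) ^ (a + 2) = 4 * e := by rw [pow_add, hea]; ring
      rw [h'] at this; exact this
    have : e * (4 * e) ≤ e * c := Nat.mul_le_mul_left e h4e
    nlinarith
  -- conclusion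
  rw [hN']
  nlinarith

end Cfsg.Agent.Lib.helper79.BU
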