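import Mathlib
import Cfsg.Agent.Lib.helper79.CycloNorm

/-!
# Burnside–Thompson averaging over Galois conjugates (helper79)

* `character_pow_eq_zero_iff`: `χ (g ^ k) = 0 ↔ χ g = 0` for `k` coprime to `|G|`.
* `card_le_sum_norm_sq_of_pow_closed`: if a finite set `T` of group elements is closed under
  `g ↦ g ^ k` for `k` coprime to `|G|` and `χ` does not vanish on `T`, then
  `#T ≤ ∑ g ∈ T, ‖χ g‖ ^ 2`.
-/

set_option autoImplicit false

namespace Cfsg.Agent.Lib.helper79

open Polynomial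

variable {G V : Type*} [Group G] [Fintype G] [AddCommGroup V] [Module ℂ V]
  [FiniteDimensional ℂ V]

/-- Vanishing of a character is invariant under powers coprime to the group order. -/
theorem character_pow_eq_zero_iff (ρ : Representation ℂ G V) (g : G) (k : ℕ)
    (hk : k.Coprime (Fintype.card G)) : ρ.character (g ^ k) = 0 ↔ ρ.character g = 0 := by
  set N := Fintype.card G with hNdef
  have hNpos : 0 < N := Fintype.card_pos
  have hζ : IsPrimitiveRoot (Complex.exp (2 * Real.pi * Complex.I / (N : ℕ))) N :=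
    Complex.isPrimitiveRoot_exp _ hNpos.ne'
  set ζ := Complex.exp (2 * Real.pi * Complex.I / (N : ℕ)) with hζdef
  obtain ⟨F, hF⟩ := character_pow_eq_aeval ρ g N hNpos (pow_card_eq_one) ζ hζ
  have hF1 : ρ.character g = aeval ζ F := by
    have := hF 1
    simpa using this
  rw [hF k, hF1]
  exact aeval_primitiveRoot_eq_zero_iff hNpos (hζ.pow_of_coprime k hk) hζ F

/-- Burnside–Thompson estimate: on a set closed under coprime powers on which the character does
not vanish, the sum of `|χ|²` is at least the cardinality. -/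
theorem card_le_sum_norm_sq_of_pow_closed (ρ : Representation ℂ G V) (T : Finset G)
    (hT : ∀ (g : G) (k : ℕ), k.Coprime (Fintype.card G) → (g ^ k ∈ T ↔ g ∈ T))
    (hne : ∀ g ∈ T, ρ.character g ≠ 0) :
    (T.card : ℝ) ≤ ∑ g ∈ T, ‖ρ.character g‖ ^ 2 := by
  classical
  set N := Fintype.card G with hNdef
  have hNpos : 0 < N := Fintype.card_pos
  have hζ : IsPrimitiveRoot (Complex.exp (2 * Real.pi * Complex.I / (N : ℕ))) N :=
    Complex.isPrimitiveRoot_exp _ hNpos.ne'
  set ζ := Complex.exp (2 * Real.pi * Complex.I / (N : ℕ)) with hζdef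
  have hFex : ∀ g : G, ∃ F : ℤ[X], ∀ k : ℕ, ρ.character (g ^ k) = aeval (ζ ^ k) F :=
    fun g => character_pow_eq_aeval ρ g N hNpos (pow_card_eq_one) ζ hζ
  choose F hF using hFex
  have hF1 : ∀ g : G, ρ.character g = aeval ζ (F g) := by
    intro g
    have := hF g 1
    simpa using this
  set U := (Finset.range N).filter (fun k => k.Coprime N) with hUdef
  have hUne : U.Nonempty := by
    rcases Nat.lt_or_ge 1 N with h1 | h1
    · exact ⟨1, Finset.mem_filter.mpr ⟨Finset.mem_range.mpr h1, Nat.coprime_one_left N⟩⟩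
    · have hN1 : N = 1 := le_antisymm h1 hNpos
      exact ⟨0, Finset.mem_filter.mpr ⟨Finset.mem_range.mpr hNpos, by
        rw [hN1]; exact Nat.coprime_one_right 0⟩⟩
  have hUpos : (0 : ℝ) < U.card := by exact_mod_cast Finset.card_pos.mpr hUne
  have hB : ∀ g : G, ρ.character g ≠ 0 → (U.card : ℝ) ≤ ∑ k ∈ U, ‖ρ.character (g ^ k)‖ ^ 2 := by
    intro g hg
    have h1 : aeval ζ (F g) ≠ 0 := by rw [← hF1 g]; exact hg
    have h2 := one_le_prod_norm_aeval_primitiveRoots hNpos hζ (F g) h1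
    have h3 := card_le_sum_sq_of_one_le_prod (primitiveRoots N ℂ) (fun ξ => ‖aeval ξ (F g)‖)
      (fun _ _ => norm_nonneg _) h2
    have h4 := sum_primitiveRoots_eq_sum_coprime hNpos hζ (fun ξ => ‖aeval ξ (F g)‖ ^ 2)
    have h5 := sum_primitiveRoots_eq_sum_coprime hNpos hζ (fun _ => (1 : ℝ))
    simp only [Finset.sum_const, nsmul_eq_mul, mul_one] at h5
    rw [← hUdef] at h4 h5
    have h6 : ∑ k ∈ U, ‖ρ.character (g ^ k)‖ ^ 2 =
        ∑ ξ ∈ primitiveRoots N ℂ, ‖aeval ξ (F g)‖ ^ 2 := by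
      rw [← h4]
      exact Finset.sum_congr rfl (fun k _ => by rw [hF g k])
    rw [h5, h6]
    exact h3
  have h1 : ∀ k ∈ U, ∑ g ∈ T, ‖ρ.character (g ^ k)‖ ^ 2 = ∑ g ∈ T, ‖ρ.character g‖ ^ 2 := by
    intro k hk
    have hkc : k.Coprime N := (Finset.mem_filter.mp hk).2
    have hcop : (Nat.card G).Coprime k := by
      rw [Nat.card_eq_fintype_card]; exact hkc.symm
    refine Finset.sum_equiv (powCoprime hcop) ?_ ?_
    · intro g
      rw [powCoprime_apply, hT g k hkc]
    · intro g _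
      rw [powCoprime_apply]
  have h2 : (U.card : ℝ) * ∑ g ∈ T, ‖ρ.character g‖ ^ 2 =
      ∑ g ∈ T, ∑ k ∈ U, ‖ρ.character (g ^ k)‖ ^ 2 := by
    rw [Finset.sum_comm, Finset.sum_congr rfl h1, Finset.sum_const, nsmul_eq_mul]
  have h3 : (U.card : ℝ) * T.card ≤ ∑ g ∈ T, ∑ k ∈ U, ‖ρ.character (g ^ k)‖ ^ 2 := by
    have : (U.card : ℝ) * T.card = ∑ g ∈ T, (U.card : ℝ) := by
      rw [Finset.sum_const, nsmul_eq_mul, mul_comm]
    rw [this]
    exact Finset.sum_le_sum (fun g hg => hB g (hne g hg))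
  rw [← h2] at h3
  exact le_of_mul_le_mul_left h3 hUpos

end Cfsg.Agent.Lib.helper79
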