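import Mathlib
import Cfsg.Agent.Lib.helper2.Schmidt

set_option autoImplicit false
universe u

namespace Cfsg.Agent.Lib.helper79

/-- the product of the distinct prime divisors -/
def radN (n : ℕ) : ℕ := ∏ p ∈ n.primeFactors, p

lemma radN_pos (n : ℕ) : 0 < radN n :=
  Finset.prod_pos (fun _ hp => (Nat.prime_of_mem_primeFactors hp).pos)

lemma radN_ne_zero (n : ℕ) : radN n ≠ 0 := (radN_pos n).ne'

lemma radN_squarefree (n : ℕ) : Squarefree (radN n) := by
  unfold radN
  refine Finset.squarefree_prod_of_pairwise_isCoprime ?_ ?_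
  · intro p hp q hq hpq
    have hp' := Nat.prime_of_mem_primeFactors (Finset.mem_coe.1 hp)
    have hq' := Nat.prime_of_mem_primeFactors (Finset.mem_coe.1 hq)
    show IsRelPrime p q
    rw [← Nat.coprime_iff_isRelPrime]
    exact (Nat.coprime_primes hp' hq').2 hpq
  · intro p hp
    exact (Nat.prime_of_mem_primeFactors hp).prime.squarefree

lemma primeFactors_radN (n : ℕ) : (radN n).primeFactors = n.primeFactors :=
  Nat.primeFactors_prod_primeFactors n

lemma prime_dvd_radN_iff {p n : ℕ} (hp : p.Prime) (hn : n ≠ 0) : p ∣ radN n ↔ p ∣ n := by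
  have h1 : p ∣ radN n ↔ p ∈ (radN n).primeFactors := by
    rw [Nat.mem_primeFactors]; exact ⟨fun h => ⟨hp, h, radN_ne_zero n⟩, fun h => h.2.1⟩
  have h2 : p ∣ n ↔ p ∈ n.primeFactors := by
    rw [Nat.mem_primeFactors]; exact ⟨fun h => ⟨hp, h, hn⟩, fun h => h.2.1⟩
  rw [h1, h2, primeFactors_radN]

lemma radN_dvd_radN {m n : ℕ} (h : m.primeFactors ⊆ n.primeFactors) : radN m ∣ radN n :=
  Finset.prod_dvd_prod_of_subset _ _ _ h

lemma radN_prime {p : ℕ} (hp : p.Prime) : radN p = p := by
  unfold radN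
  rw [hp.primeFactors, Finset.prod_singleton]

/-- `K` carries a bijective 1-cocycle onto an abelian group of squarefree exponent. -/
def HasBC (K : Type u) [Group K] : Prop :=
  ∃ (A : Type u) (_ : CommGroup A) (act : K →* MulAut A) (c : K → A),
    Function.Bijective c ∧ (∀ g h, c (g * h) = c g * act g (c h)) ∧
      ∀ a : A, a ^ radN (Nat.card K) = 1

lemma hasBC_of_subsingleton (K : Type u) [Group K] [Subsingleton K] : HasBC K := by
  refine ⟨PUnit.{u+1}, inferInstance, 1, fun _ => PUnit.unit, ⟨?_, ?_⟩, ?_, ?_⟩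
  · intro a b _; exact Subsingleton.elim a b
  · intro b; exact ⟨1, rfl⟩
  · intro g h; rfl
  · intro a; rfl

lemma hasBC_of_mulEquiv_comm {K : Type u} [Group K] {A : Type u} [CommGroup A] (e : K ≃* A)
    (hexp : ∀ a : A, a ^ radN (Nat.card K) = 1) : HasBC K :=
  ⟨A, inferInstance, 1, e, e.bijective, by intro g h; simp, hexp⟩

lemma hasBC_of_prime_card (K : Type u) [Group K] [Finite K] (hp : (Nat.card K).Prime) :
    HasBC K := by
  have : Fact (Nat.card K).Prime := ⟨hp⟩
  have : IsCyclic K := isCyclic_of_prime_card rfl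
  let e0 : Multiplicative (ZMod (Nat.card K)) ≃* K := zmodCyclicMulEquiv ‹IsCyclic K›
  let e : K ≃* ULift.{u} (Multiplicative (ZMod (Nat.card K))) := e0.symm.trans MulEquiv.ulift.symm
  refine hasBC_of_mulEquiv_comm e ?_
  intro a
  obtain ⟨k, rfl⟩ := e.surjective a
  rw [← map_pow, radN_prime hp, pow_card_eq_one', map_one]

section wreath

variable {D Q : Type u} [Group D] [Group Q] {A B : Type u} [CommGroup A] [CommGroup B]

/-- the action of the wreath product on `(Q → A) × B` -/
def wrAct (actD : D →* MulAut A) (actQ : Q →* MulAut B) (w : D ≀ᵣ Q) : MulAut ((Q → A) × B) where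
  toFun ab := (fun x => actD (w.left x) (ab.1 (w.right⁻¹ * x)), actQ w.right ab.2)
  invFun ab := (fun x => (actD (w.left (w.right * x)))⁻¹ (ab.1 (w.right * x)),
    (actQ w.right)⁻¹ ab.2)
  left_inv ab := by
    refine Prod.ext (funext fun x => ?_) ?_
    · simp
    · simp
  right_inv ab := by
    refine Prod.ext (funext fun x => ?_) ?_
    · simp
    · simp
  map_mul' a b := by
    refine Prod.ext (funext fun x => ?_) ?_
    · simp
    · simp

lemma wrAct_apply (actD : D →* MulAut A) (actQ : Q →* MulAut B) (w : D ≀ᵣ Q)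
    (ab : (Q → A) × B) :
    wrAct actD actQ w ab =
      (fun x => actD (w.left x) (ab.1 (w.right⁻¹ * x)), actQ w.right ab.2) := rfl

/-- the action as a homomorphism -/
def wrActHom (actD : D →* MulAut A) (actQ : Q →* MulAut B) :
    D ≀ᵣ Q →* MulAut ((Q → A) × B) where
  toFun := wrAct actD actQ
  map_one' := by
    ext ab
    · simp [wrAct_apply]
    · simp [wrAct_apply]
  map_mul' w₁ w₂ := by
    ext ab
    · simp [wrAct_apply, mul_assoc]
    · simp [wrAct_apply]

end wreath

lemma hasBC_wreath {D Q : Type u} [Group D] [Group Q] [Finite D] [Finite Q]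
    (hD : HasBC D) (hQ : HasBC Q) : HasBC (D ≀ᵣ Q) := by
  obtain ⟨A, _, actD, cD, hcD, hcocD, hexpD⟩ := hD
  obtain ⟨B, _, actQ, cQ, hcQ, hcocQ, hexpQ⟩ := hQ
  have hcard : Nat.card (D ≀ᵣ Q) = Nat.card D ^ Nat.card Q * Nat.card Q :=
    RegularWreathProduct.card
  have hne : Nat.card D ^ Nat.card Q * Nat.card Q ≠ 0 := by
    have h1 : Nat.card D ≠ 0 := Nat.card_pos.ne'
    have h2 : Nat.card Q ≠ 0 := Nat.card_pos.ne'
    exact mul_ne_zero (pow_ne_zero _ h1) h2
  have hdD : radN (Nat.card D) ∣ radN (Nat.card (D ≀ᵣ Q)) := by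
    apply radN_dvd_radN
    rw [hcard]
    apply Nat.primeFactors_mono _ hne
    exact Dvd.dvd.mul_right (dvd_pow_self _ Nat.card_pos.ne') _
  have hdQ : radN (Nat.card Q) ∣ radN (Nat.card (D ≀ᵣ Q)) := by
    apply radN_dvd_radN
    rw [hcard]
    apply Nat.primeFactors_mono _ hne
    exact Dvd.intro_left _ rfl
  refine ⟨(Q → A) × B, inferInstance, wrActHom actD actQ,
    fun w => (fun x => cD (w.left x), cQ w.right), ⟨?_, ?_⟩, ?_, ?_⟩
  · intro w₁ w₂ h
    have h1 := congrArg Prod.fst h
    have h2 := congrArg Prod.snd h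
    simp only at h1 h2
    refine RegularWreathProduct.ext (funext fun x => ?_) (hcQ.1 h2)
    exact hcD.1 (congrFun h1 x)
  · intro ab
    obtain ⟨q, hq⟩ := hcQ.2 ab.2
    choose f hf using fun x => hcD.2 (ab.1 x)
    refine ⟨⟨f, q⟩, ?_⟩
    refine Prod.ext (funext fun x => ?_) ?_
    · exact hf x
    · exact hq
  · intro w₁ w₂
    refine Prod.ext (funext fun x => ?_) ?_
    · show cD ((w₁ * w₂).left x) = _
      simp [wrActHom, wrAct_apply, hcocD]
    · show cQ ((w₁ * w₂).right) = _
      simp [wrActHom, wrAct_apply, hcocQ]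
  · intro ab
    refine Prod.ext (funext fun x => ?_) ?_
    · obtain ⟨k, hk⟩ := hdD
      show (ab.1 x) ^ radN (Nat.card (D ≀ᵣ Q)) = 1
      rw [hk, pow_mul, hexpD, one_pow]
    · obtain ⟨k, hk⟩ := hdQ
      show ab.2 ^ radN (Nat.card (D ≀ᵣ Q)) = 1
      rw [hk, pow_mul, hexpQ, one_pow]

section emb

variable {G : Type u} [Group G]

/-- the universal embedding `G → N ≀ G/N` -/
noncomputable def wreathEmb (N : Subgroup G) [N.Normal] : G →* (↥N) ≀ᵣ (G ⧸ N) where
  toFun g := ⟨fun q => ⟨(Quotient.out q)⁻¹ * g * Quotient.out ((g : G ⧸ N)⁻¹ * q), by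
      rw [← QuotientGroup.eq_one_iff]
      simp⟩, (g : G ⧸ N)⟩
  map_one' := by
    refine RegularWreathProduct.ext (funext fun q => ?_) ?_
    · apply Subtype.ext
      simp
    · rfl
  map_mul' g h := by
    refine RegularWreathProduct.ext (funext fun q => ?_) ?_
    · apply Subtype.ext
      simp [mul_assoc]
    · rfl

lemma wreathEmb_injective (N : Subgroup G) [N.Normal] : Function.Injective (wreathEmb N) := by
  rw [injective_iff_map_eq_one]
  intro g hg
  have h2 : ((wreathEmb N g).right : G ⧸ N) = 1 := by rw [hg]; rfl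
  have h1 : (wreathEmb N g).left 1 = 1 := by rw [hg]; rfl
  have h2' : (g : G ⧸ N) = 1 := h2
  have h1' : ((wreathEmb N g).left 1 : G) = 1 := by rw [h1]; rfl
  have h3 : (Quotient.out (1 : G ⧸ N))⁻¹ * g * Quotient.out ((g : G ⧸ N)⁻¹ * 1) = 1 := h1'
  rw [h2'] at h3
  simp only [inv_one, mul_one] at h3
  have h4 : g = Quotient.out (1 : G ⧸ N) *
      ((Quotient.out (1 : G ⧸ N))⁻¹ * g * Quotient.out (1 : G ⧸ N)) *
        (Quotient.out (1 : G ⧸ N))⁻¹ := by group
  rw [h3] at h4
  simpa using h4

/-- functoriality in the base group -/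
def wrMap {D₁ D₂ Q : Type u} [Group D₁] [Group D₂] [Group Q] (f : D₁ →* D₂) :
    D₁ ≀ᵣ Q →* D₂ ≀ᵣ Q where
  toFun w := ⟨fun x => f (w.left x), w.right⟩
  map_one' := by
    refine RegularWreathProduct.ext (funext fun q => ?_) rfl
    simp
  map_mul' a b := by
    refine RegularWreathProduct.ext (funext fun q => ?_) rfl
    simp

lemma wrMap_injective {D₁ D₂ Q : Type u} [Group D₁] [Group D₂] [Group Q] (f : D₁ →* D₂)
    (hf : Function.Injective f) : Function.Injective (wrMap (Q := Q) f) := by
  intro a b h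
  have h1 : (wrMap (Q := Q) f a).left = (wrMap (Q := Q) f b).left := by rw [h]
  have h2 : (wrMap (Q := Q) f a).right = (wrMap (Q := Q) f b).right := by rw [h]
  refine RegularWreathProduct.ext (funext fun x => ?_) h2
  exact hf (congrFun h1 x)

end emb

/-- every finite solvable group embeds in a group with a bijective cocycle, with the same
prime divisors -/
theorem exists_bc_embedding : ∀ (n : ℕ) (G : Type u) [Group G] [Finite G],
    Group.IsSolvable G → Nat.card G = n →
    ∃ (K : Type u) (_ : Group K) (_ : Finite K), HasBC K ∧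
      (Nat.card K).primeFactors = (Nat.card G).primeFactors ∧
      ∃ f : G →* K, Function.Injective f := by
  intro n
  induction n using Nat.strong_induction_on with
  | _ n ih =>
    intro G _ _ hsolv hn
    rcases subsingleton_or_nontrivial G with hs | hnt
    · exact ⟨G, inferInstance, inferInstance, hasBC_of_subsingleton G, rfl,
        MonoidHom.id G, Function.injective_id⟩
    · obtain ⟨N, hNn, hNp⟩ := Cfsg.Agent.Lib.helper2.exists_normal_prime_index G
      have hcardG : Nat.card N * N.index = Nat.card G := N.card_mul_index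
      have hlt : Nat.card N < n := by
        rw [← hn, ← hcardG]
        have : 0 < Nat.card N := Nat.card_pos
        have h2 : 2 ≤ N.index := hNp.two_le
        nlinarith
      obtain ⟨K₁, hK₁g, hK₁f, hBC, hprimes, f, hf⟩ :=
        ih (Nat.card N) hlt (↥N) (inferInstance : Group.IsSolvable N) rfl
      have hQcard : Nat.card (G ⧸ N) = N.index := rfl
      have hQ : HasBC (G ⧸ N) := hasBC_of_prime_card (G ⧸ N) (by rw [hQcard]; exact hNp)
      refine ⟨K₁ ≀ᵣ (G ⧸ N), inferInstance, inferInstance, hasBC_wreath hBC hQ, ?_,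
        (wrMap f).comp (wreathEmb N), (wrMap_injective f hf).comp (wreathEmb_injective N)⟩
      have hK₁0 : Nat.card K₁ ≠ 0 := Nat.card_pos.ne'
      have hN0 : Nat.card N ≠ 0 := Nat.card_pos.ne'
      rw [RegularWreathProduct.card, hQcard, ← hcardG,
        Nat.primeFactors_mul (pow_ne_zero _ hK₁0) hNp.ne_zero,
        Nat.primeFactors_pow _ hNp.ne_zero, Nat.primeFactors_mul hN0 hNp.ne_zero, hprimes]

end Cfsg.Agent.Lib.helper79
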