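import Mathlib
import Cfsg.Prelude.Def_Characters
import Cfsg.Prelude.Def_Blocks
import Cfsg.Agent.Lib.helper4.Induction
import Cfsg.Agent.Lib.helper4.CharDecomp
import Cfsg.Agent.Lib.helper19.LinChar

set_option autoImplicit false
universe u
open scoped ComplexConjugate

namespace Cfsg.Agent.Lib.helper79

section dual

variable {A : Type u} [CommGroup A] [Finite A]

lemma dual_nonempty_equiv : Nonempty ((A →* ℂˣ) ≃* A) := by
  have : NeZero (Monoid.exponent A) := ⟨Monoid.exponent_ne_zero_of_finite⟩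
  exact CommGroup.monoidHom_mulEquiv_of_hasEnoughRootsOfUnity A ℂ

instance dual_finite : Finite (A →* ℂˣ) :=
  Finite.of_equiv A (dual_nonempty_equiv (A := A)).some.symm.toEquiv

lemma dual_card : Nat.card (A →* ℂˣ) = Nat.card A :=
  Nat.card_congr (dual_nonempty_equiv (A := A)).some.toEquiv

lemma dual_sep {a : A} (ha : a ≠ 1) : ∃ lam : A →* ℂˣ, lam a ≠ 1 := by
  have : NeZero (Monoid.exponent A) := ⟨Monoid.exponent_ne_zero_of_finite⟩
  exact CommGroup.exists_apply_ne_one_of_hasEnoughRootsOfUnity A ℂ ha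

omit [Finite A] in
lemma dual_sum [Fintype A] (lam : A →* ℂˣ) :
    ∑ a : A, ((lam a : ℂˣ) : ℂ) = if lam = 1 then (Nat.card A : ℂ) else 0 := by
  split_ifs with h
  · subst h
    simp [Nat.card_eq_fintype_card]
  · have hb : ∃ b : A, lam b ≠ 1 := by
      by_contra hcon
      push Not at hcon
      exact h (MonoidHom.ext fun a => by simpa using hcon a)
    obtain ⟨b, hb⟩ := hb
    have h1 : ∑ a : A, ((lam a : ℂˣ) : ℂ) = ((lam b : ℂˣ) : ℂ) * ∑ a : A, ((lam a : ℂˣ) : ℂ) := by
      rw [Finset.mul_sum]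
      refine (Fintype.sum_equiv (Equiv.mulLeft b) _ _ ?_).symm
      intro a
      simp
    have h2 : (((lam b : ℂˣ) : ℂ) - 1) * ∑ a : A, ((lam a : ℂˣ) : ℂ) = 0 := by
      rw [sub_mul, one_mul, ← h1, sub_self]
    rcases mul_eq_zero.1 h2 with h3 | h3
    · exfalso
      apply hb
      have : ((lam b : ℂˣ) : ℂ) = 1 := by linear_combination h3
      exact Units.ext (by simpa using this)
    · exact h3

end dual

lemma comm_cancel_aux {M : Type*} [CommGroup M] (a b : M) : a⁻¹ * b * a = b := by
  rw [mul_comm a⁻¹ b, inv_mul_cancel_right]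

/-- data of a bijective cocycle -/
structure BCData (K : Type u) (A : Type u) [Group K] [CommGroup A] where
  act : K →* MulAut A
  c : K → A
  n : ℕ
  bij : Function.Bijective c
  coc : ∀ g h, c (g * h) = c g * act g (c h)
  npos : n ≠ 0
  exp : ∀ a : A, a ^ n = 1

namespace BCData

variable {K A : Type u} [Group K] [CommGroup A] (S : BCData K A)

lemma c_one : S.c 1 = 1 := by
  have h := S.coc 1 1
  simp only [mul_one, map_one, MulAut.one_apply] at h
  have h2 := congrArg (fun x => (S.c 1)⁻¹ * x) h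
  simpa using h2.symm

/-- the associated right cocycle -/
def d (g : K) : A := S.act g⁻¹ (S.c g)

lemma d_eq (g : K) : S.d g = (S.c g⁻¹)⁻¹ := by
  have h := S.coc g⁻¹ g
  rw [inv_mul_cancel, S.c_one] at h
  exact eq_inv_of_mul_eq_one_right h.symm

lemma d_one : S.d 1 = 1 := by simp [d, S.c_one]

lemma d_mul (g h : K) : S.d (g * h) = S.act h⁻¹ (S.d g) * S.d h := by
  simp only [d, S.coc, mul_inv_rev, map_mul, MulAut.mul_apply]
  simp

lemma d_bijective : Function.Bijective S.d := by
  have : S.d = fun g => (S.c g⁻¹)⁻¹ := funext S.d_eq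
  rw [this]
  exact (inv_involutive (G := A)).bijective.comp
    (S.bij.comp (inv_involutive (G := K)).bijective)

instance instNeZero : NeZero S.n := ⟨S.npos⟩

/-- evaluation, with values in the roots of unity -/
def ev (lam : A →* ℂˣ) (a : A) : rootsOfUnity S.n ℂ :=
  ⟨lam a, by rw [mem_rootsOfUnity, ← map_pow, S.exp, map_one]⟩

lemma ev_coe (lam : A →* ℂˣ) (a : A) : ((S.ev lam a : rootsOfUnity S.n ℂ) : ℂˣ) = lam a := rfl

lemma ev_mul_left (lam mu : A →* ℂˣ) (a : A) : S.ev (lam * mu) a = S.ev lam a * S.ev mu a :=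
  Subtype.ext (by simp [ev_coe])

lemma ev_mul_right (lam : A →* ℂˣ) (a b : A) : S.ev lam (a * b) = S.ev lam a * S.ev lam b :=
  Subtype.ext (by simp [ev_coe])

lemma ev_one_left (a : A) : S.ev 1 a = 1 := Subtype.ext (by simp [ev_coe])

lemma ev_one_right (lam : A →* ℂˣ) : S.ev lam 1 = 1 := Subtype.ext (by simp [ev_coe])

/-- the abelian normal subgroup -/
abbrev Mt : Type u := ↥(rootsOfUnity S.n ℂ) × (A →* ℂˣ)

/-- dual action -/
def dact (g : K) (lam : A →* ℂˣ) : A →* ℂˣ := lam.comp (S.act g⁻¹).toMonoidHom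

lemma dact_apply (g : K) (lam : A →* ℂˣ) (a : A) : S.dact g lam a = lam (S.act g⁻¹ a) := rfl

lemma dact_one (lam : A →* ℂˣ) : S.dact 1 lam = lam := by
  ext a; simp [dact_apply]

lemma dact_mul (g h : K) (lam : A →* ℂˣ) : S.dact (g * h) lam = S.dact g (S.dact h lam) := by
  ext a; simp [dact_apply, mul_inv_rev]

lemma dact_map_mul (g : K) (lam mu : A →* ℂˣ) :
    S.dact g (lam * mu) = S.dact g lam * S.dact g mu := by
  ext a; simp [dact_apply]

lemma dact_map_one (g : K) : S.dact g 1 = 1 := by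
  ext a; simp [dact_apply]

/-- the action on `Mt`, as a function -/
def rhoFun (g : K) : S.Mt →* S.Mt where
  toFun m := (m.1 * S.ev m.2 (S.d g), S.dact g m.2)
  map_one' := Prod.ext (by simp [ev_one_left]) (by simp [dact_map_one])
  map_mul' m m' := Prod.ext (by simp [ev_mul_left, mul_mul_mul_comm]) (by simp [dact_map_mul])

lemma rhoFun_apply (g : K) (m : S.Mt) :
    S.rhoFun g m = (m.1 * S.ev m.2 (S.d g), S.dact g m.2) := rfl

lemma rhoFun_one (m : S.Mt) : S.rhoFun 1 m = m := by
  simp [rhoFun_apply, d_one, ev_one_right, dact_one]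

lemma rhoFun_mul (g h : K) (m : S.Mt) : S.rhoFun (g * h) m = S.rhoFun g (S.rhoFun h m) := by
  refine Prod.ext ?_ ?_
  · simp only [rhoFun_apply, d_mul, ev_mul_right]
    have : S.ev (S.dact h m.2) (S.d g) = S.ev m.2 (S.act h⁻¹ (S.d g)) := rfl
    rw [this, mul_assoc, mul_comm (S.ev m.2 (S.act h⁻¹ (S.d g)))]
  · simp [rhoFun_apply, dact_mul]

/-- the action on `Mt` -/
def rho : K →* MulAut S.Mt where
  toFun g :=
    { toFun := S.rhoFun g
      invFun := S.rhoFun g⁻¹
      left_inv := fun m => by rw [← rhoFun_mul, inv_mul_cancel, rhoFun_one]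
      right_inv := fun m => by rw [← rhoFun_mul, mul_inv_cancel, rhoFun_one]
      map_mul' := (S.rhoFun g).map_mul }
  map_one' := MulEquiv.ext (fun m => S.rhoFun_one m)
  map_mul' g h := MulEquiv.ext (fun m => S.rhoFun_mul g h m)

lemma rho_apply (g : K) (m : S.Mt) :
    S.rho g m = (m.1 * S.ev m.2 (S.d g), S.dact g m.2) := rfl

/-- the group of central type -/
abbrev Ht : Type u := S.Mt ⋊[S.rho] K

lemma conj_left (y x : S.Ht) (hy : y.right = 1) :
    (x⁻¹ * y * x).left = S.rho x.right⁻¹ y.left := by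
  simp only [SemidirectProduct.mul_left, SemidirectProduct.inv_left,
    SemidirectProduct.mul_right, SemidirectProduct.inv_right, hy, mul_one]
  rw [← map_mul, ← map_mul]
  congr 1
  exact comm_cancel_aux (M := S.Mt) _ _

lemma conj_right (y x : S.Ht) : (x⁻¹ * y * x).right = x.right⁻¹ * y.right * x.right := by
  simp

/-- the kernel of the projection -/
def Mker : Subgroup S.Ht := (SemidirectProduct.rightHom : S.Ht →* K).ker

lemma mem_Mker (y : S.Ht) : y ∈ S.Mker ↔ y.right = 1 := MonoidHom.mem_ker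

/-- the linear character of `Mker` -/
def thetaHom : ↥(S.Mker) →* ℂˣ where
  toFun y := ((y : S.Ht).left.1 : ℂˣ)
  map_one' := rfl
  map_mul' y z := by
    have hy : (y : S.Ht).right = 1 := (S.mem_Mker _).1 y.2
    show ((((y : S.Ht) * (z : S.Ht)).left.1 : rootsOfUnity S.n ℂ) : ℂˣ) = _
    rw [SemidirectProduct.mul_left, hy, map_one]
    rfl

/-- the central subgroup -/
def zHom : ↥(rootsOfUnity S.n ℂ) →* S.Ht :=
  (SemidirectProduct.inl : S.Mt →* S.Ht).comp (MonoidHom.inl _ _)

lemma zHom_injective : Function.Injective S.zHom := by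
  intro a b h
  have h1 : (S.zHom a).left.1 = (S.zHom b).left.1 := by rw [h]
  exact h1

/-- the centre -/
def Zc : Subgroup S.Ht := S.zHom.range

lemma mem_Zc (y : S.Ht) : y ∈ S.Zc ↔ y.right = 1 ∧ y.left.2 = 1 := by
  constructor
  · rintro ⟨z, rfl⟩
    exact ⟨rfl, rfl⟩
  · rintro ⟨h1, h2⟩
    refine ⟨y.left.1, ?_⟩
    refine SemidirectProduct.ext (Prod.ext rfl h2.symm) h1.symm

lemma card_Zc : Nat.card S.Zc = S.n := by
  have h1 : Nat.card S.Zc = Nat.card (rootsOfUnity S.n ℂ) :=
    (Nat.card_congr (MonoidHom.ofInjective S.zHom_injective).toEquiv).symm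
  rw [h1, Complex.card_rootsOfUnity]

variable [Finite K]

include S in
lemma finiteA : Finite A := Finite.of_surjective S.c S.bij.2

omit [Finite K] in
include S in
lemma card_A : Nat.card A = Nat.card K := (Nat.card_congr (Equiv.ofBijective S.c S.bij)).symm

lemma center_eq : Subgroup.center S.Ht = S.Zc := by
  have := S.finiteA
  ext y
  rw [Subgroup.mem_center_iff, mem_Zc]
  constructor
  · intro hy
    have hr : y.right = 1 := by
      by_contra hne
      have hd : S.d y.right ≠ 1 := by
        intro h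
        apply hne
        exact S.d_bijective.1 (h.trans S.d_one.symm)
      obtain ⟨lam, hlam⟩ := dual_sep hd
      have h1 := hy (⟨(1, lam), 1⟩ : S.Ht)
      have h2 := congrArg (fun z : S.Ht => z.left.1) h1
      simp only [SemidirectProduct.mul_left, map_one, MulAut.one_apply] at h2
      have h3 : ((1 : rootsOfUnity S.n ℂ), lam).1 * y.left.1 =
          y.left.1 * (S.rho y.right ((1 : rootsOfUnity S.n ℂ), lam)).1 := h2
      rw [rho_apply] at h3
      simp only [one_mul] at h3
      have h4 : S.ev lam (S.d y.right) = 1 := by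
        have := congrArg (fun z => y.left.1⁻¹ * z) h3
        simpa using this.symm
      apply hlam
      have := congrArg (fun z : rootsOfUnity S.n ℂ => (z : ℂˣ)) h4
      simpa [ev_coe] using this
    refine ⟨hr, ?_⟩
    by_contra hne
    have hex : ∃ a : A, y.left.2 a ≠ 1 := by
      by_contra hcon
      push Not at hcon
      exact hne (MonoidHom.ext fun a => by simpa using hcon a)
    obtain ⟨a, ha⟩ := hex
    obtain ⟨h, rfl⟩ := S.d_bijective.2 a
    have h1 := hy (⟨1, h⟩ : S.Ht)
    have h2 := congrArg (fun z : S.Ht => z.left.1) h1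
    simp only [SemidirectProduct.mul_left, hr, map_one] at h2
    have h3 : (1 : S.Mt).1 * (S.rho h y.left).1 = y.left.1 * (1 : S.Mt).1 := h2
    rw [rho_apply] at h3
    simp only [Prod.fst_one, one_mul, mul_one] at h3
    have h4 : S.ev y.left.2 (S.d h) = 1 := by
      have := congrArg (fun z => y.left.1⁻¹ * z) h3
      simpa using this
    apply ha
    have := congrArg (fun z : rootsOfUnity S.n ℂ => (z : ℂˣ)) h4
    simpa [ev_coe] using this
  · rintro ⟨h1, h2⟩ x
    refine SemidirectProduct.ext ?_ ?_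
    · simp only [SemidirectProduct.mul_left, h1, map_one, MulAut.one_apply]
      rw [rho_apply]
      have e : (y.left.1 * S.ev y.left.2 (S.d x.right), S.dact x.right y.left.2) = y.left := by
        refine Prod.ext ?_ ?_
        · show y.left.1 * S.ev y.left.2 (S.d x.right) = y.left.1
          rw [h2, ev_one_left, mul_one]
        · show S.dact x.right y.left.2 = y.left.2
          rw [h2, dact_map_one]
      rw [e]
      exact mul_comm (G := S.Mt) _ _
    · simp [h1]

lemma card_Mt : Nat.card S.Mt = S.n * Nat.card K := by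
  have := S.finiteA
  rw [Nat.card_prod, Complex.card_rootsOfUnity, dual_card, S.card_A]

instance finite_Mt : Finite S.Mt := by
  have := S.finiteA
  infer_instance

instance finite_Ht : Finite S.Ht :=
  Finite.of_equiv _ (SemidirectProduct.equivProd : S.Mt ⋊[S.rho] K ≃ S.Mt × K).symm

lemma card_Ht : Nat.card S.Ht = S.n * Nat.card K ^ 2 := by
  rw [Nat.card_congr (SemidirectProduct.equivProd : S.Mt ⋊[S.rho] K ≃ S.Mt × K),
    Nat.card_prod, card_Mt]
  ring

omit [Finite K] in
lemma card_Mker : Nat.card S.Mker = Nat.card S.Mt := by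
  refine Nat.card_congr
    { toFun := fun y => (y : S.Ht).left
      invFun := fun m => ⟨⟨m, 1⟩, (S.mem_Mker _).2 rfl⟩
      left_inv := ?_
      right_inv := ?_ }
  · intro y
    apply Subtype.ext
    exact SemidirectProduct.ext rfl ((S.mem_Mker _).1 y.2).symm
  · intro m
    rfl

section chars

variable [Fintype S.Ht]

/-- the fully ramified character -/
noncomputable def chi : S.Ht → ℂ :=
  Cfsg.indFun S.Mker (fun y => ((S.thetaHom y : ℂˣ) : ℂ))

omit [Finite K] in
lemma chi_isCharacter : Cfsg.IsCharacter S.Ht S.chi :=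
  Cfsg.Agent.Lib.helper4.isCharacter_indFun S.Mker
    (Cfsg.Agent.Lib.helper19.isCharacter_of_hom S.thetaHom)

open Classical in
lemma chi_apply (y : S.Ht) :
    S.chi y = if y ∈ S.Zc then (Nat.card K : ℂ) * ((y.left.1 : ℂˣ) : ℂ) else 0 := by
  classical
  have := S.finiteA
  letI : Fintype K := Fintype.ofFinite K
  letI : Fintype A := Fintype.ofFinite A
  letI : Fintype S.Mt := Fintype.ofFinite _
  unfold chi Cfsg.indFun
  by_cases hr : y.right = 1
  · have hterm : ∀ x : S.Ht,
        Cfsg.extendByZero S.Mker (fun y => ((S.thetaHom y : ℂˣ) : ℂ)) (x⁻¹ * y * x)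
          = ((y.left.1 : ℂˣ) : ℂ) * ((y.left.2 (S.d x.right⁻¹) : ℂˣ) : ℂ) := by
      intro x
      have hmem : x⁻¹ * y * x ∈ S.Mker := by
        rw [mem_Mker, conj_right, hr]; simp
      rw [Cfsg.Agent.Lib.helper4.extendByZero_apply_mem _ _ hmem]
      show ((((x⁻¹ * y * x).left.1 : rootsOfUnity S.n ℂ) : ℂˣ) : ℂ) = _
      rw [conj_left _ _ _ hr, rho_apply]
      simp [ev_coe]
    simp_rw [hterm]
    rw [← Finset.mul_sum]
    have hsum : ∑ x : S.Ht, ((y.left.2 (S.d x.right⁻¹) : ℂˣ) : ℂ) =
        (Nat.card S.Mt : ℂ) * ∑ a : A, ((y.left.2 a : ℂˣ) : ℂ) := by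
      rw [← Fintype.sum_equiv (SemidirectProduct.equivProd : S.Mt ⋊[S.rho] K ≃ S.Mt × K).symm
        (fun p : S.Mt × K => ((y.left.2 (S.d p.2⁻¹) : ℂˣ) : ℂ)) _ (fun p => rfl)]
      rw [Fintype.sum_prod_type]
      simp only [Finset.sum_const, Finset.card_univ, nsmul_eq_mul]
      rw [Nat.card_eq_fintype_card]
      congr 1
      exact Fintype.sum_bijective (fun g : K => S.d g⁻¹)
        (S.d_bijective.comp (inv_involutive (G := K)).bijective) _ _ (fun g => rfl)
    rw [hsum, dual_sum, S.card_Mker]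
    have hM : (Nat.card S.Mt : ℂ) ≠ 0 := by
      rw [S.card_Mt]
      exact Nat.cast_ne_zero.2 (mul_ne_zero S.npos Nat.card_pos.ne')
    by_cases hl : y.left.2 = 1
    · rw [if_pos hl, if_pos ((S.mem_Zc y).2 ⟨hr, hl⟩), S.card_A]
      field_simp
    · rw [if_neg hl, if_neg (fun h => hl ((S.mem_Zc y).1 h).2)]
      simp
  · have hterm : ∀ x : S.Ht,
        Cfsg.extendByZero S.Mker (fun y => ((S.thetaHom y : ℂˣ) : ℂ)) (x⁻¹ * y * x) = 0 := by
      intro x
      apply Cfsg.Agent.Lib.helper4.extendByZero_apply_of_not_mem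
      rw [mem_Mker, conj_right]
      intro h
      apply hr
      have h2 : y.right = x.right * (x.right⁻¹ * y.right * x.right) * x.right⁻¹ := by group
      rw [h2, h]; simp
    simp_rw [hterm]
    rw [if_neg (fun h => hr ((S.mem_Zc y).1 h).1)]
    simp

lemma chi_one : S.chi 1 = (Nat.card K : ℂ) := by
  rw [chi_apply, if_pos (Subgroup.one_mem _)]
  simp

lemma chi_norm : Cfsg.classInner S.chi S.chi = 1 := by
  classical
  unfold Cfsg.classInner
  have h1 : ∀ y : S.Ht, S.chi y * conj (S.chi y) =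
      if y ∈ S.Zc then (Nat.card K : ℂ) ^ 2 else 0 := by
    intro y
    rw [chi_apply]
    split_ifs with h
    · have hz : ((y.left.1 : ℂˣ) : ℂ) * conj ((y.left.1 : ℂˣ) : ℂ) = 1 := by
        rw [Complex.mul_conj, Complex.normSq_eq_norm_sq,
          Complex.norm_eq_one_of_mem_rootsOfUnity y.left.1.2]
        simp
      rw [map_mul, Complex.conj_natCast]
      linear_combination (Nat.card K : ℂ) ^ 2 * hz
    · simp
  simp_rw [h1]
  have h2 : ∑ y : S.Ht, (if y ∈ S.Zc then ((Nat.card K : ℂ)) ^ 2 else 0) =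
      (Nat.card S.Zc : ℂ) * (Nat.card K : ℂ) ^ 2 := by
    rw [Finset.sum_ite, Finset.sum_const_zero, add_zero, Finset.sum_const, nsmul_eq_mul]
    congr 2
    rw [Nat.card_eq_fintype_card, Fintype.card_subtype]
  rw [h2, card_Zc, card_Ht]
  push_cast
  have hn : (S.n : ℂ) ≠ 0 := Nat.cast_ne_zero.2 S.npos
  have hK : (Nat.card K : ℂ) ≠ 0 := Nat.cast_ne_zero.2 Nat.card_pos.ne'
  field_simp

lemma chi_faithful (y : S.Ht) (h : S.chi y = S.chi 1) : y = 1 := by
  rw [chi_one, chi_apply] at h
  have hK : (Nat.card K : ℂ) ≠ 0 := Nat.cast_ne_zero.2 Nat.card_pos.ne'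
  split_ifs at h with hz
  · have h1 : ((y.left.1 : ℂˣ) : ℂ) = 1 := mul_left_cancel₀ hK (h.trans (mul_one _).symm)
    obtain ⟨hr, hl⟩ := (S.mem_Zc y).1 hz
    refine SemidirectProduct.ext (Prod.ext ?_ hl) hr
    apply Subtype.ext
    apply Units.ext
    exact h1
  · exact absurd h.symm hK

lemma chi_degree : Cfsg.charDegree S.chi = Nat.card K := by
  unfold Cfsg.charDegree
  rw [chi_one]
  simp

end chars

lemma index_center : (Subgroup.center S.Ht).index = Nat.card K ^ 2 := by
  have h := (Subgroup.center S.Ht).card_mul_index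
  rw [center_eq, card_Zc, card_Ht] at h
  rw [center_eq]
  exact Nat.eq_of_mul_eq_mul_left (Nat.pos_of_ne_zero S.npos) h

/-- the embedding of `K` in the central quotient -/
def embK : K →* S.Ht ⧸ Subgroup.center S.Ht :=
  (QuotientGroup.mk' _).comp SemidirectProduct.inr

lemma embK_injective : Function.Injective S.embK := by
  rw [injective_iff_map_eq_one]
  intro k hk
  have h1 : (SemidirectProduct.inr k : S.Ht) ∈ Subgroup.center S.Ht :=
    (QuotientGroup.eq_one_iff _).1 hk
  rw [center_eq, mem_Zc] at h1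
  exact h1.1

end BCData

/-- a group with a bijective cocycle embeds in a central quotient of a group of central type -/
theorem central_type_of_bcdata {K A : Type u} [Group K] [Finite K] [CommGroup A]
    (S : BCData K A) :
    ∃ (H : Type u) (_ : Group H) (_ : Finite H) (χ : Cfsg.IrrCharacter H),
      (∀ h : H, (χ : H → ℂ) h = (χ : H → ℂ) 1 → h = 1) ∧
      (Cfsg.charDegree (χ : H → ℂ)) ^ 2 = (Subgroup.center H).index ∧
      (∃ f : K →* H ⧸ Subgroup.center H, Function.Injective f) ∧
      Nat.card H = S.n * Nat.card K ^ 2 ∧ Nat.card (Subgroup.center H) = S.n := by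
  classical
  letI : Fintype S.Ht := Fintype.ofFinite _
  refine ⟨S.Ht, inferInstance, inferInstance,
    ⟨S.chi, Cfsg.Agent.Lib.helper4.isIrrCharacter_of_isCharacter_of_norm_one
      S.chi_isCharacter S.chi_norm⟩, S.chi_faithful, ?_, ⟨S.embK, S.embK_injective⟩,
    S.card_Ht, ?_⟩
  · show Cfsg.charDegree S.chi ^ 2 = _
    rw [S.chi_degree, S.index_center]
  · rw [S.center_eq, S.card_Zc]

end Cfsg.Agent.Lib.helper79
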