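import Mathlib
import Cfsg.Agent.Lib.helper79.CycloLocal

/-!
# Cyclotomic integers of `2`-power conductor and the local ring at `2`

Let `ζ` be a primitive `2 ^ n`-th root of unity and `S` the set of exponents prime to `2 ^ n`.

* `pow_sq_mul_card_le_sum_norm_sq_aeval` (any prime `p`): if all conjugates `F(ζ^j)` of a nonzero
  cyclotomic integer are divisible by `p ^ m` in the local ring, then the Galois sum of their
  square norms is at least `p ^ (2m)` times the number of conjugates;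
* `exists_poly_div_two_pow`: if all conjugates `F(ζ^j)` are divisible by `2 ^ h` in the local ring
  then `F(ζ^j) = 2 ^ h F'(ζ^j)` for an integer polynomial `F'`;
* `exists_int_galois_sum`: the Galois average of `F(ζ^j)` is a rational integer;
* `exists_two_le_galois_avg`: if the conjugates of `F(ζ)` are positive reals lying in `2 ^ h` times
  the local ideal, their Galois average is `2 ^ h Z'` with an integer `Z' ≥ 2`.
-/

set_option autoImplicit false
set_option linter.unusedSectionVars false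
set_option linter.unusedSimpArgs false

namespace Cfsg.Agent.Lib.helper79

open Cfsg Polynomial
open scoped ComplexConjugate

section General

variable {N : ℕ} {p : ℕ} [Fact p.Prime] {M : Ideal AlgInt}

/-- The Galois sum of the square norms of a nonzero cyclotomic integer all of whose conjugates are
divisible by `p ^ m` in the local ring is at least `p ^ (2m)` times the number of conjugates. -/
theorem pow_sq_mul_card_le_sum_norm_sq_aeval (hM : IsPModular p M) (hN : 0 < N) {ζ : ℂ}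
    (hζ : IsPrimitiveRoot ζ N) (F : ℤ[X]) (h : aeval ζ F ≠ 0) (m : ℕ)
    (hdiv : ∀ j ∈ (Finset.range N).filter (fun k => k.Coprime N),
      ∃ t : ℂ, MemLocalRing M t ∧ aeval (ζ ^ j) F = (p : ℂ) ^ m * t) :
    ((p : ℝ) ^ m) ^ 2 * (((Finset.range N).filter (fun k => k.Coprime N)).card : ℝ) ≤
      ∑ j ∈ (Finset.range N).filter (fun k => k.Coprime N), ‖aeval (ζ ^ j) F‖ ^ 2 := by
  have hp : p.Prime := Fact.out
  have hprime := isPModular_isPrime hM
  have hpr : (0 : ℝ) < (p : ℝ) ^ m := pow_pos (Nat.cast_pos.mpr hp.pos) _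
  set S := (Finset.range N).filter (fun k => k.Coprime N) with hS
  obtain ⟨z, hz⟩ := exists_int_prod_aeval_primitiveRoots hN F
  choose! t ht using hdiv
  have hprod : (z : ℂ) = (p : ℂ) ^ (m * S.card) * ∏ j ∈ S, t j := by
    rw [← hz, ← prod_primitiveRoots_eq_prod_coprime hN hζ (fun ξ => aeval ξ F),
      Finset.prod_congr rfl (fun j hj => (ht j hj).2), Finset.prod_mul_distrib, Finset.prod_const,
      ← pow_mul]
  have hdvd : (p : ℤ) ^ (m * S.card) ∣ z :=
    pow_dvd_of_eq_pow_mul hM (m * S.card) z _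
      (helper20.memLocalRing_prod hprime S t (fun j hj => (ht j hj).1)) hprod
  have hne : ∏ ξ ∈ primitiveRoots N ℂ, aeval ξ F ≠ 0 := by
    rw [Finset.prod_ne_zero_iff]
    intro ξ hξ
    rw [mem_primitiveRoots hN] at hξ
    intro h0
    exact h (aeval_primitiveRoot_eq_zero hN hξ hζ F h0)
  have hz0 : z ≠ 0 := by
    rintro rfl
    rw [hz] at hne
    simp at hne
  have hzabs : (p : ℤ) ^ (m * S.card) ≤ |z| :=
    Int.le_of_dvd (abs_pos.mpr hz0) ((dvd_abs _ _).mpr hdvd)
  have hzabsr : ((p : ℝ) ^ m) ^ S.card ≤ |(z : ℝ)| := by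
    rw [← pow_mul]
    exact_mod_cast hzabs
  have hcard := card_coprime_eq_card_primitiveRoots hN hζ
  have hcard' : S.card = (primitiveRoots N ℂ).card := by exact_mod_cast hcard
  have h1 : (1 : ℝ) ≤ ∏ ξ ∈ primitiveRoots N ℂ, ‖aeval ξ F‖ / (p : ℝ) ^ m := by
    rw [Finset.prod_div_distrib, Finset.prod_const, ← norm_prod, hz, ← hcard',
      le_div_iff₀ (pow_pos hpr _), one_mul]
    simpa using hzabsr
  have h2 := card_le_sum_sq_of_one_le_prod (primitiveRoots N ℂ)
    (fun ξ => ‖aeval ξ F‖ / (p : ℝ) ^ m) (fun _ _ => div_nonneg (norm_nonneg _) hpr.le) h1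
  rw [← hcard] at h2
  have h3 : ∑ ξ ∈ primitiveRoots N ℂ, (‖aeval ξ F‖ / (p : ℝ) ^ m) ^ 2 =
      (∑ j ∈ S, ‖aeval (ζ ^ j) F‖ ^ 2) / ((p : ℝ) ^ m) ^ 2 := by
    rw [sum_primitiveRoots_eq_sum_coprime hN hζ (fun ξ => ‖aeval ξ F‖ ^ 2), Finset.sum_div]
    apply Finset.sum_congr rfl
    intro ξ _
    rw [div_pow]
  rw [h3, le_div_iff₀ (pow_pos hpr _)] at h2
  linarith

end General

section Two

variable {M : Ideal AlgInt}

/-- `2`-power roots of unity are congruent to `1` modulo the local ideal. -/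
theorem memLocalIdeal_root_sub_one (hM : IsPModular 2 M) (n : ℕ) :
    ∀ x : ℂ, IsIntegral ℤ x → x ^ 2 ^ n = 1 → MemLocalIdeal M (x - 1) := by
  have hprime := isPModular_isPrime hM
  induction n with
  | zero =>
    intro x _ h
    rw [pow_zero, pow_one] at h
    rw [h, sub_self]
    exact helper20.memLocalIdeal_zero hprime
  | succ n ih =>
    intro x hx h
    have h2 : (x ^ 2) ^ 2 ^ n = 1 := by
      rw [← pow_mul, ← pow_succ']
      exact h
    have h3 := ih (x ^ 2) (hx.pow 2) h2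
    have hR : MemLocalRing M (x - 1) :=
      memLocalRing_of_isIntegral hprime (hx.sub isIntegral_one)
    have h4 : MemLocalIdeal M ((x - 1) * (x - 1)) := by
      have e : (x - 1) * (x - 1) = (x ^ 2 - 1) - ((2 : ℕ) : ℂ) * (x - 1) := by
        push_cast
        ring
      rw [e]
      exact helper20.memLocalIdeal_sub hprime h3
        (helper20.memLocalIdeal_mul_right hprime (memLocalIdeal_prime hM) hR)
    by_contra hn
    exact helper20.not_memLocalIdeal_mul hprime hR hR hn hn h4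

/-- `∏ (1 - ζ^j) = 2` over the exponents prime to `2 ^ (n + 1)`. -/
theorem prod_one_sub_pow_two (n : ℕ) {ζ : ℂ} (hζ : IsPrimitiveRoot ζ (2 ^ (n + 1))) :
    ∏ j ∈ (Finset.range (2 ^ (n + 1))).filter (fun j => j.Coprime (2 ^ (n + 1))), (1 - ζ ^ j) =
      2 := by
  have hN : 0 < 2 ^ (n + 1) := by positivity
  rw [prod_primitiveRoots_eq_prod_coprime hN hζ (fun ξ => 1 - ξ)]
  have h1 := cyclotomic_eq_prod_X_sub_primitiveRoots (K := ℂ) hζ
  have h2 := congrArg (eval 1) h1
  rw [eval_prod] at h2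
  simp only [eval_sub, eval_X, eval_C] at h2
  rw [← h2]
  haveI : Fact (Nat.Prime 2) := ⟨Nat.prime_two⟩
  have := eval_one_cyclotomic_prime_pow (R := ℂ) (p := 2) n
  simpa using this

/-- Expansion of a cyclotomic integer in powers of `ζ - 1`. -/
theorem exists_poly_shift (n : ℕ) {ζ : ℂ} (hζ : IsPrimitiveRoot ζ (2 ^ n)) (F : ℤ[X]) :
    ∃ R : ℤ[X],
      R.natDegree < ((Finset.range (2 ^ n)).filter (fun j => j.Coprime (2 ^ n))).card ∧
      ∀ j ∈ (Finset.range (2 ^ n)).filter (fun j => j.Coprime (2 ^ n)),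
        aeval (ζ ^ j) F = aeval (ζ ^ j - 1) R := by
  have hN : 0 < 2 ^ n := by positivity
  set P : ℤ[X] := (cyclotomic (2 ^ n) ℤ).comp (X + C 1) with hP
  have hXm : (X + C (1 : ℤ)).Monic := monic_X_add_C 1
  have hXd : (X + C (1 : ℤ)).natDegree = 1 := natDegree_X_add_C 1
  have hPm : P.Monic := (cyclotomic.monic (2 ^ n) ℤ).comp hXm (by rw [hXd]; exact one_ne_zero)
  have hPd : P.natDegree = (2 ^ n).totient := by
    rw [hP, natDegree_comp, hXd, mul_one, natDegree_cyclotomic]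
  have hP1 : P ≠ 1 := by
    intro h
    rw [h, natDegree_one] at hPd
    exact (Nat.totient_pos.mpr hN).ne hPd
  have hcard : ((Finset.range (2 ^ n)).filter (fun j => j.Coprime (2 ^ n))).card =
      (2 ^ n).totient := by
    have h1 := card_coprime_eq_card_primitiveRoots hN hζ
    rw [Complex.card_primitiveRoots] at h1
    exact_mod_cast h1
  have hshift : ∀ x : ℂ, aeval (x - 1) (X + C (1 : ℤ)) = x := by
    intro x
    simp
  refine ⟨(F.comp (X + C 1)) %ₘ P, ?_, ?_⟩
  · rw [hcard, ← hPd]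
    exact natDegree_modByMonic_lt _ hPm hP1
  · intro j hj
    rw [Finset.mem_filter] at hj
    have hprim : IsPrimitiveRoot (ζ ^ j) (2 ^ n) := hζ.pow_of_coprime j hj.2
    have hroot : aeval (ζ ^ j - 1) P = 0 := by
      rw [hP, aeval_comp, hshift]
      have h1 := hprim.isRoot_cyclotomic hN
      rw [← map_cyclotomic_int, IsRoot.def, eval_map] at h1
      exact h1
    have hdiv := modByMonic_add_div (F.comp (X + C 1)) P
    have h2 := congrArg (aeval (ζ ^ j - 1)) hdiv
    rw [map_add, map_mul, hroot, zero_mul, add_zero, aeval_comp, hshift] at h2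
    exact h2.symm

/-- Splitting off the first odd coefficient. -/
theorem aeval_eq_two_mul_add_pow_mul (hM : IsPModular 2 M) (k : ℕ) :
    ∀ R : ℤ[X], (∀ i < k, (2 : ℤ) ∣ R.coeff i) → ¬ (2 : ℤ) ∣ R.coeff k →
      ∀ π : ℂ, IsIntegral ℤ π → MemLocalIdeal M π →
        ∃ E w : ℂ, MemLocalRing M E ∧ MemLocalRing M w ∧ ¬ MemLocalIdeal M w ∧
          aeval π R = 2 * E + π ^ k * w := by
  have hprime := isPModular_isPrime hM
  induction k with
  | zero =>
    intro R _ hk π hπ hπJ
    refine ⟨0, aeval π R, helper20.memLocalRing_zero hprime,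
      memLocalRing_of_isIntegral hprime (isIntegral_aeval_int hπ R), ?_, by ring⟩
    intro hJ
    apply hk
    have h1 := congrArg (aeval π) (divX_mul_X_add R)
    rw [map_add, map_mul, aeval_X, aeval_C] at h1
    have h2 : MemLocalIdeal M ((R.coeff 0 : ℤ) : ℂ) := by
      have e : ((R.coeff 0 : ℤ) : ℂ) = aeval π R - aeval π (divX R) * π := by
        rw [← h1]
        simp
      rw [e]
      exact helper20.memLocalIdeal_sub hprime hJ
        (helper20.memLocalIdeal_mul_left hprime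
          (memLocalRing_of_isIntegral hprime (isIntegral_aeval_int hπ _)) hπJ)
    exact_mod_cast int_dvd_of_memLocalIdeal hM h2
  | succ k ih =>
    intro R hlt hk π hπ hπJ
    obtain ⟨c, hc⟩ := hlt 0 (Nat.succ_pos k)
    obtain ⟨E, w, hE, hw, hwJ, he⟩ := ih (divX R)
      (fun i hi => by rw [coeff_divX]; exact hlt (i + 1) (by omega))
      (by rw [coeff_divX]; exact hk) π hπ hπJ
    have h1 := congrArg (aeval π) (divX_mul_X_add R)
    rw [map_add, map_mul, aeval_X, aeval_C, he, hc] at h1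
    refine ⟨E * π + (c : ℂ), w, ?_, hw, hwJ, ?_⟩
    · exact helper20.memLocalRing_add hprime
        (helper20.memLocalRing_mul hprime hE (memLocalRing_of_isIntegral hprime hπ))
        (helper20.memLocalRing_intCast hprime c)
    · rw [← h1]
      simp only [eq_intCast, Int.cast_mul, Int.cast_ofNat]
      ring

/-- No power `(ζ^j - 1)^k` with `k < φ(2^n)` has all its conjugates divisible by `2`. -/
theorem not_forall_pow_sub_one_eq_two_mul (hM : IsPModular 2 M) (n : ℕ) {ζ : ℂ}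
    (hζ : IsPrimitiveRoot ζ (2 ^ n)) (k : ℕ)
    (hk : k < ((Finset.range (2 ^ n)).filter (fun j => j.Coprime (2 ^ n))).card)
    (hs : ∀ j ∈ (Finset.range (2 ^ n)).filter (fun j => j.Coprime (2 ^ n)),
      ∃ s : ℂ, MemLocalRing M s ∧ (ζ ^ j - 1) ^ k = 2 * s) : False := by
  have hprime := isPModular_isPrime hM
  cases n with
  | zero =>
    have h1 : (Finset.range (2 ^ 0)).filter (fun j => j.Coprime (2 ^ 0)) = {0} := by
      ext j
      simp
    rw [h1] at hk hs
    rw [Finset.card_singleton] at hk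
    obtain ⟨s, hsR, hs1⟩ := hs 0 (Finset.mem_singleton_self 0)
    have hk0 : k = 0 := by omega
    rw [hk0, pow_zero] at hs1
    apply helper20.not_memLocalIdeal_one (M := M)
    rw [hs1]
    have := helper20.memLocalIdeal_mul_right hprime (memLocalIdeal_prime hM) hsR
    simpa using this
  | succ n =>
    set S := (Finset.range (2 ^ (n + 1))).filter (fun j => j.Coprime (2 ^ (n + 1))) with hS
    choose! s hsR hs' using hs
    have hprod := prod_one_sub_pow_two n hζ
    rw [← hS] at hprod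
    have h0 : ∏ j ∈ S, (ζ ^ j - 1) = (-1) ^ S.card * 2 := by
      rw [← hprod, ← Finset.prod_const, ← Finset.prod_mul_distrib]
      apply Finset.prod_congr rfl
      intro j _
      ring
    have h1 : ∏ j ∈ S, (ζ ^ j - 1) ^ k = ((((-1 : ℤ) ^ S.card * 2) ^ k : ℤ) : ℂ) := by
      rw [Finset.prod_pow, h0]
      push_cast
      ring
    have h2 : ∏ j ∈ S, (ζ ^ j - 1) ^ k = ((2 : ℕ) : ℂ) ^ S.card * ∏ j ∈ S, s j := by
      rw [Finset.prod_congr rfl hs', Finset.prod_mul_distrib, Finset.prod_const]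
      push_cast
      rfl
    have h3 := pow_dvd_of_eq_pow_mul hM S.card (((-1 : ℤ) ^ S.card * 2) ^ k) _
      (helper20.memLocalRing_prod hprime S s hsR) (by rw [← h1, h2])
    have h4 := Int.natAbs_dvd_natAbs.mpr h3
    simp only [Int.natAbs_pow, Int.natAbs_mul, Int.natAbs_neg, Int.natAbs_one, one_pow, one_mul,
      Int.natAbs_natCast] at h4
    have h2abs : Int.natAbs (2 : ℤ) = 2 := rfl
    rw [h2abs] at h4
    have h5 := (Nat.pow_dvd_pow_iff_le_right (by norm_num : 1 < 2)).mp h4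
    omega

/-- If all conjugates of `F(ζ)` are divisible by `2` in the local ring, then `F(ζ) = 2 F'(ζ)` for
an integer polynomial `F'`. -/
theorem exists_poly_div_two (hM : IsPModular 2 M) (n : ℕ) {ζ : ℂ}
    (hζ : IsPrimitiveRoot ζ (2 ^ n)) (F : ℤ[X])
    (hdiv : ∀ j ∈ (Finset.range (2 ^ n)).filter (fun j => j.Coprime (2 ^ n)),
      ∃ t : ℂ, MemLocalRing M t ∧ aeval (ζ ^ j) F = 2 * t) :
    ∃ F' : ℤ[X], ∀ j ∈ (Finset.range (2 ^ n)).filter (fun j => j.Coprime (2 ^ n)),
      aeval (ζ ^ j) F = 2 * aeval (ζ ^ j) F' := by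
  have hprime := isPModular_isPrime hM
  have hN : 0 < 2 ^ n := by positivity
  obtain ⟨R, hRdeg, hR⟩ := exists_poly_shift n hζ F
  have hint : ∀ j, IsIntegral ℤ (ζ ^ j - 1) :=
    fun j => ((hζ.isIntegral hN).pow j).sub isIntegral_one
  have hπJ : ∀ j, MemLocalIdeal M (ζ ^ j - 1) := fun j =>
    memLocalIdeal_root_sub_one hM n (ζ ^ j) ((hζ.isIntegral hN).pow j)
      (by rw [← pow_mul, mul_comm, pow_mul, hζ.pow_eq_one, one_pow])
  have hall : ∀ i, (2 : ℤ) ∣ R.coeff i := by
    by_contra hnot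
    push Not at hnot
    classical
    have hk : ¬ (2 : ℤ) ∣ R.coeff (Nat.find hnot) := Nat.find_spec hnot
    have hlt : ∀ i < Nat.find hnot, (2 : ℤ) ∣ R.coeff i := by
      intro i hi
      by_contra h
      exact Nat.find_min hnot hi h
    have hkdeg : Nat.find hnot ≤ R.natDegree := by
      by_contra h
      push Not at h
      apply hk
      rw [coeff_eq_zero_of_natDegree_lt h]
      exact dvd_zero _
    generalize Nat.find hnot = k at hk hlt hkdeg
    apply not_forall_pow_sub_one_eq_two_mul hM n hζ k (lt_of_le_of_lt hkdeg hRdeg)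
    intro j hj
    obtain ⟨t, ht, hFt⟩ := hdiv j hj
    obtain ⟨E, w, hE, hw, hwJ, he⟩ :=
      aeval_eq_two_mul_add_pow_mul hM k R hlt hk (ζ ^ j - 1) (hint j) (hπJ j)
    obtain ⟨w', hw', hww⟩ := exists_inv_of_not_memLocalIdeal hw hwJ
    refine ⟨(t - E) * w', helper20.memLocalRing_mul hprime
      (helper20.memLocalRing_sub hprime ht hE) hw', ?_⟩
    have h1 : (ζ ^ j - 1) ^ k * w = 2 * (t - E) := by
      rw [← hR j hj, hFt] at he
      linear_combination -he
    calc (ζ ^ j - 1) ^ k = (ζ ^ j - 1) ^ k * (w' * w) := by rw [hww, mul_one]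
      _ = 2 * ((t - E) * w') := by linear_combination w' * h1
  obtain ⟨R', hR'⟩ := (C_dvd_iff_dvd_coeff (2 : ℤ) R).mpr hall
  refine ⟨R'.comp (X - C 1), fun j hj => ?_⟩
  rw [hR j hj, hR', map_mul, aeval_C, aeval_comp]
  simp

/-- If all conjugates of `F(ζ)` are divisible by `2 ^ h` in the local ring, then
`F(ζ) = 2 ^ h F'(ζ)` for an integer polynomial `F'`. -/
theorem exists_poly_div_two_pow (hM : IsPModular 2 M) (n : ℕ) {ζ : ℂ}
    (hζ : IsPrimitiveRoot ζ (2 ^ n)) (h : ℕ) :
    ∀ F : ℤ[X], (∀ j ∈ (Finset.range (2 ^ n)).filter (fun j => j.Coprime (2 ^ n)),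
      ∃ t : ℂ, MemLocalRing M t ∧ aeval (ζ ^ j) F = (2 : ℂ) ^ h * t) →
    ∃ F' : ℤ[X], ∀ j ∈ (Finset.range (2 ^ n)).filter (fun j => j.Coprime (2 ^ n)),
      aeval (ζ ^ j) F = (2 : ℂ) ^ h * aeval (ζ ^ j) F' := by
  have hprime := isPModular_isPrime hM
  induction h with
  | zero =>
    intro F _
    exact ⟨F, fun j _ => by rw [pow_zero, one_mul]⟩
  | succ h ih =>
    intro F hdiv
    have h2R : MemLocalRing M ((2 : ℂ) ^ h) := by
      have := helper20.memLocalRing_natCast (M := M) hprime (2 ^ h)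
      simpa using this
    obtain ⟨F₁, hF₁⟩ := exists_poly_div_two hM n hζ F (fun j hj => by
      obtain ⟨t, ht, e⟩ := hdiv j hj
      exact ⟨(2 : ℂ) ^ h * t, helper20.memLocalRing_mul hprime h2R ht, by rw [e, pow_succ']; ring⟩)
    obtain ⟨F', hF'⟩ := ih F₁ (fun j hj => by
      obtain ⟨t, ht, e⟩ := hdiv j hj
      refine ⟨t, ht, ?_⟩
      have h1 := hF₁ j hj
      rw [e, pow_succ'] at h1
      have h2 : (2 : ℂ) * ((2 : ℂ) ^ h * t) = 2 * aeval (ζ ^ j) F₁ := by rw [← h1]; ring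
      exact (mul_left_cancel₀ two_ne_zero h2).symm)
    exact ⟨F', fun j hj => by rw [hF₁ j hj, hF' j hj, pow_succ']; ring⟩

/-- The Galois average of a cyclotomic integer of `2`-power conductor is a rational integer. -/
theorem exists_int_galois_sum (n : ℕ) {ζ : ℂ} (hζ : IsPrimitiveRoot ζ (2 ^ n)) (F : ℤ[X]) :
    ∃ c : ℤ, ∑ j ∈ (Finset.range (2 ^ n)).filter (fun j => j.Coprime (2 ^ n)), aeval (ζ ^ j) F =
      (c : ℂ) * (((Finset.range (2 ^ n)).filter (fun j => j.Coprime (2 ^ n))).card : ℂ) := by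
  have hε : ∀ i : ℕ, ∃ ε : ℤ,
      ∑ j ∈ (Finset.range (2 ^ n)).filter (fun j => j.Coprime (2 ^ n)), ζ ^ (j * i) =
        (ε : ℂ) * (((Finset.range (2 ^ n)).filter (fun j => j.Coprime (2 ^ n))).card : ℂ) :=
    fun i => exists_int_sum_pow_two_pow n hζ i
  choose ε hε using hε
  refine ⟨∑ i ∈ Finset.range (F.natDegree + 1), F.coeff i * ε i, ?_⟩
  simp_rw [aeval_eq_sum_range]
  rw [Finset.sum_comm]
  push_cast
  rw [Finset.sum_mul]
  apply Finset.sum_congr rfl
  intro i _
  simp_rw [← pow_mul, zsmul_eq_mul]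
  rw [← Finset.mul_sum, hε i]
  ring

/-- Galois averages of totally positive cyclotomic integers all of whose conjugates lie in
`2 ^ h` times the local ideal: the average is `2 ^ h Z'` with an integer `Z' ≥ 2`. -/
theorem exists_two_le_galois_avg (hM : IsPModular 2 M) (n : ℕ) {ζ : ℂ}
    (hζ : IsPrimitiveRoot ζ (2 ^ n)) (h : ℕ) (F : ℤ[X])
    (hdiv : ∀ j ∈ (Finset.range (2 ^ n)).filter (fun j => j.Coprime (2 ^ n)),
      ∃ t : ℂ, MemLocalIdeal M t ∧ aeval (ζ ^ j) F = (2 : ℂ) ^ h * t)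
    (hpos : ∀ j ∈ (Finset.range (2 ^ n)).filter (fun j => j.Coprime (2 ^ n)),
      ∃ r : ℝ, 0 < r ∧ aeval (ζ ^ j) F = (r : ℂ)) :
    ∃ Z' : ℤ, 2 ≤ Z' ∧
      ∑ j ∈ (Finset.range (2 ^ n)).filter (fun j => j.Coprime (2 ^ n)), aeval (ζ ^ j) F =
        (2 : ℂ) ^ h * ((Z' : ℂ) *
          (((Finset.range (2 ^ n)).filter (fun j => j.Coprime (2 ^ n))).card : ℂ)) := by
  have hprime := isPModular_isPrime hM
  have hN : 0 < 2 ^ n := by positivity
  have hSpos : 0 < ((Finset.range (2 ^ n)).filter (fun j => j.Coprime (2 ^ n))).card :=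
    card_coprime_pos hN
  have h2h : (2 : ℂ) ^ h ≠ 0 := pow_ne_zero _ two_ne_zero
  obtain ⟨F', hF'⟩ := exists_poly_div_two_pow hM n hζ h F (fun j hj => by
    obtain ⟨t, ht, e⟩ := hdiv j hj
    exact ⟨t, helper20.memLocalRing_of_memLocalIdeal ht, e⟩)
  obtain ⟨Z', hZ'⟩ := exists_int_galois_sum n hζ F'
  obtain ⟨z, hz⟩ := exists_int_prod_aeval_primitiveRoots hN F'
  rw [← prod_primitiveRoots_eq_prod_coprime hN hζ (fun ξ => aeval ξ F')] at hz
  set S := (Finset.range (2 ^ n)).filter (fun j => j.Coprime (2 ^ n)) with hS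
  have hvJ : ∀ j ∈ S, MemLocalIdeal M (aeval (ζ ^ j) F') := by
    intro j hj
    obtain ⟨t, ht, e⟩ := hdiv j hj
    have h1 := hF' j hj
    rw [e] at h1
    rw [← mul_left_cancel₀ h2h h1]
    exact ht
  have hvpos : ∀ j ∈ S, ∃ r : ℝ, 0 < r ∧ aeval (ζ ^ j) F' = (r : ℂ) := by
    intro j hj
    obtain ⟨r, hr, e⟩ := hpos j hj
    refine ⟨r / 2 ^ h, by positivity, ?_⟩
    have h1 := hF' j hj
    rw [e] at h1
    push_cast
    rw [eq_div_iff h2h, mul_comm]
    exact h1.symm
  choose! r hr hre using hvpos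
  have hzJ : MemLocalIdeal M (z : ℂ) := by
    obtain ⟨j₀, hj₀⟩ := Finset.card_pos.mp hSpos
    rw [← hz, ← Finset.mul_prod_erase S _ hj₀]
    exact helper20.memLocalIdeal_mul_right hprime (hvJ j₀ hj₀)
      (helper20.memLocalRing_prod hprime _ _ (fun j hj =>
        helper20.memLocalRing_of_memLocalIdeal (hvJ j (Finset.mem_of_mem_erase hj))))
  have hz2 : (2 : ℤ) ∣ z := by exact_mod_cast int_dvd_of_memLocalIdeal hM hzJ
  have hzr : (z : ℝ) = ∏ j ∈ S, r j := by
    have : ((z : ℝ) : ℂ) = ((∏ j ∈ S, r j : ℝ) : ℂ) := by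
      push_cast
      rw [← hz]
      exact Finset.prod_congr rfl hre
    exact_mod_cast this
  have hzpos : (0 : ℝ) < (z : ℝ) := by
    rw [hzr]
    exact Finset.prod_pos hr
  have hz2' : (2 : ℝ) ≤ (z : ℝ) := by
    have h1 : 0 < z := by exact_mod_cast hzpos
    have h2 : 2 ≤ z := Int.le_of_dvd h1 hz2
    exact_mod_cast h2
  have hsum : (Z' : ℝ) * S.card = ∑ j ∈ S, r j := by
    have : (((Z' : ℝ) * S.card : ℝ) : ℂ) = ((∑ j ∈ S, r j : ℝ) : ℂ) := by
      push_cast
      rw [← hZ']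
      exact Finset.sum_congr rfl hre
    exact_mod_cast this
  have hSr : (0 : ℝ) < S.card := by exact_mod_cast hSpos
  have key := Real.geom_mean_le_arith_mean_weighted S (fun _ => (1 : ℝ) / S.card) r
    (fun i _ => by positivity) (by simp [hSr.ne']) (fun i hi => (hr i hi).le)
  have h1 : ∏ i ∈ S, (r i) ^ ((1 : ℝ) / S.card) = (∏ i ∈ S, r i) ^ ((1 : ℝ) / S.card) :=
    Real.finsetProd_rpow S r (fun i hi => (hr i hi).le) _
  rw [h1, ← hzr, ← Finset.mul_sum, ← hsum] at key
  have h3 : (1 : ℝ) < (z : ℝ) ^ ((1 : ℝ) / S.card) :=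
    Real.one_lt_rpow (by linarith) (by positivity)
  have h4 : (1 : ℝ) < (Z' : ℝ) := by
    have : (1 : ℝ) / S.card * ((Z' : ℝ) * S.card) = Z' := by field_simp
    rw [this] at key
    linarith
  have h5 : 1 < Z' := by exact_mod_cast h4
  refine ⟨Z', by omega, ?_⟩
  rw [Finset.sum_congr rfl hF', ← Finset.mul_sum, hZ']

end Two

end Cfsg.Agent.Lib.helper79
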