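import Mathlib
import Cfsg.Agent.Lib.helper42.FGDefs
import Cfsg.Agent.Lib.helper17.FGAUT

/-!
S1915 piece T2C4 (racer copy, prefixed names): the faithful case, second half.
-/

set_option autoImplicit false

namespace Cfsg.Agent.Lib.helper42.FG

variable {G : Type*} [Group G] [Finite G]

theorem h79_mul_mem_of_relIndex_two {B S : Subgroup G} (hidx : B.relIndex S = 2) {x y : G}
    (hx : x ∈ S) (hy : y ∈ S) (hxB : x ∉ B) (hyB : y ∉ B) : x * y ∈ B := by
  have h1 : (B.subgroupOf S).index = 2 := hidx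
  have h2 := Subgroup.mul_mem_iff_of_index_two h1 (a := (⟨x, hx⟩ : ↥S)) (b := ⟨y, hy⟩)
  simp only [Subgroup.mem_subgroupOf] at h2
  exact h2.mpr ⟨fun h => absurd h hxB, fun h => absurd h hyB⟩

theorem h79_le_of_gen {B S K : Subgroup G} (hidx : B.relIndex S = 2) (hBK : B ≤ K) {s : G}
    (hsS : s ∈ S) (hsB : s ∉ B) (hsK : s ∈ K) : S ≤ K := by
  intro y hy
  by_cases hyB : y ∈ B
  · exact hBK hyB
  · have h1 : y * s ∈ B := h79_mul_mem_of_relIndex_two hidx hy hsS hyB hsB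
    have h2 : y = (y * s) * s⁻¹ := by group
    rw [h2]; exact K.mul_mem (hBK h1) (K.inv_mem hsK)

theorem h79_comm_of_conj_eq {u x y : G} (h : u * y * u⁻¹ = x * y * x⁻¹) :
    (x⁻¹ * u) * y = y * (x⁻¹ * u) := by
  have h1 : u * y = x * y * x⁻¹ * u := by rw [← h]; group
  calc x⁻¹ * u * y = x⁻¹ * (u * y) := by group
    _ = x⁻¹ * (x * y * x⁻¹ * u) := by rw [h1]
    _ = y * (x⁻¹ * u) := by group

/-- involutions in a cyclic group `zpowers b` of order `2 * H` -/
theorem h79_invol_zpowers (b : G) (H : ℕ) (hH : orderOf b = 2 * H) (q : G)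
    (hq : q ∈ Subgroup.zpowers b) (hq2 : q * q = 1) : q = 1 ∨ q = b ^ H := by
  classical
  rw [mem_zpowers_iff_mem_range_orderOf] at hq
  obtain ⟨k, hk, hkq⟩ := Finset.mem_image.mp hq
  have hkq' : b ^ k = q := hkq
  subst hkq'
  rw [Finset.mem_range, hH] at hk
  have h1 : b ^ (2 * k) = 1 := by rw [two_mul, pow_add]; exact hq2
  have h2 : orderOf b ∣ 2 * k := orderOf_dvd_of_pow_eq_one h1
  rw [hH] at h2
  have hH0 : 0 < H := by omega
  have h3 : H ∣ k := (Nat.mul_dvd_mul_iff_left (by norm_num : 0 < 2)).mp h2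
  obtain ⟨c, rfl⟩ := h3
  have hc : c = 0 ∨ c = 1 := by
    have hc2 : c < 2 := by
      by_contra hcon
      push Not at hcon
      have h4 : H * 2 ≤ H * c := Nat.mul_le_mul_left H hcon
      omega
    omega
  rcases hc with rfl | rfl
  · left; simp
  · right; simp

theorem h79_exp (b z s : G) (M : ℕ) (i : ℤ) (hN : orderOf b = 8 * M) (hzM : z = b ^ (4 * M))
    (hzb : Commute z b) (hss : s * s = 1) (hsb : s * b * s⁻¹ = b⁻¹ * z) :
    b ^ (i * (2 * (M : ℤ) - 1)) * s * (b ^ (i * (2 * (M : ℤ) - 1)))⁻¹ = s * b ^ (2 * i) := by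
  obtain ⟨l, hl⟩ : ∃ l : ℤ, l = i * (2 * (M : ℤ) - 1) := ⟨_, rfl⟩
  rw [← hl]
  have hs_inv : s⁻¹ = s := inv_eq_of_mul_eq_one_left hss
  have h1 : s * b ^ l * s⁻¹ = (b⁻¹ * z) ^ l := by rw [← hsb, conj_zpow]
  have h2 : (b⁻¹ * z) ^ l = (b ^ l)⁻¹ * z ^ l := by
    rw [hzb.symm.inv_left.mul_zpow, inv_zpow]
  have h3 : z ^ l = b ^ (((4 * M : ℕ) : ℤ) * l) := by
    rw [hzM, zpow_mul, zpow_natCast]
  have h4 : b ^ l * s = s * (s * b ^ l * s⁻¹) := by
    calc b ^ l * s = (s * s) * b ^ l * s := by rw [hss, one_mul]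
      _ = s * (s * b ^ l * s) := by group
      _ = s * (s * b ^ l * s⁻¹) := by rw [hs_inv]
  rw [h4, h1, h2, h3]
  have h5 : (b ^ l)⁻¹ * b ^ (((4 * M : ℕ) : ℤ) * l) * (b ^ l)⁻¹ = b ^ (2 * i) := by
    rw [← zpow_neg, ← zpow_add, ← zpow_add, zpow_eq_zpow_iff_modEq, Int.modEq_iff_dvd, hN]
    refine ⟨-(i * ((M : ℤ) - 1)), ?_⟩
    rw [hl]; push_cast; ring
  calc s * ((b ^ l)⁻¹ * b ^ (((4 * M : ℕ) : ℤ) * l)) * (b ^ l)⁻¹
      = s * ((b ^ l)⁻¹ * b ^ (((4 * M : ℕ) : ℤ) * l) * (b ^ l)⁻¹) := by group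
    _ = s * b ^ (2 * i) := by rw [h5]

/-- T2C4 (racer copy) -/
theorem h79_case_faithful_k2 {A S U : Subgroup G} (h : Cfg A S U) {B : Subgroup G} (hB : BData S U B)
    {z : G} (hzB : z ∈ B) (hz : ZData S z) (b : G) (hb : Subgroup.zpowers b = B) (hbz : b * b ≠ z)
    (u₀ : G) (hu₀ : u₀ ∈ U) (hu₀b : u₀ * b * u₀⁻¹ = b * z)
    (hu₀s : ∀ s ∈ S, s ∉ B → s ^ 2 = 1 → u₀ * s * u₀⁻¹ = s * z)
    (u₁ : G) (hu₁ : u₁ ∈ U) (hu₁b : u₁ * b * u₁⁻¹ = b⁻¹ * z) : Inner S U := by
  classical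
  have hbB : b ∈ B := hb ▸ Subgroup.mem_zpowers b
  have hbS : b ∈ S := hB.hBS hbB
  have hzS : z ∈ S := hz.hzS
  have hz1 : z ≠ 1 := by
    intro h1
    have h2 := hz.hz2
    rw [h1, orderOf_one] at h2
    omega
  have hzz : z * z = 1 := by
    have h2 := pow_orderOf_eq_one z
    rwa [hz.hz2, pow_two] at h2
  have hzb : Commute z b := (hz.hzc b hbS).symm
  have hzmem : z ∈ Subgroup.zpowers b := hb ▸ hzB
  -- order of b
  obtain ⟨n, hn⟩ : ∃ n, orderOf b = 2 ^ n := by
    have h1 : orderOf (⟨b, hbS⟩ : ↥S) ∣ Nat.card S := orderOf_dvd_natCard _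
    rw [h.hSyl] at h1
    obtain ⟨k, _, hk⟩ := (Nat.dvd_prime_pow Nat.prime_two).mp h1
    exact ⟨k, by rw [← hk, Subgroup.orderOf_mk]⟩
  have hn1 : 1 ≤ n := by
    have h1 : orderOf z ∣ orderOf b := orderOf_dvd_of_mem_zpowers hzmem
    rw [hz.hz2, hn] at h1
    by_contra hcon
    have h0 : n = 0 := by omega
    rw [h0] at h1
    norm_num at h1
  have hN : orderOf b = 2 * 2 ^ (n - 1) := by
    rw [hn, ← pow_succ']
    congr 1
    omega
  have hzpow : z = b ^ (2 ^ (n - 1)) := by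
    rcases h79_invol_zpowers b _ hN z hzmem hzz with h1 | h1
    · exact absurd h1 hz1
    · exact h1
  have huniq : ∀ q ∈ B, q * q = 1 → q = 1 ∨ q = z := by
    intro q hq hq2
    rw [hzpow]
    exact h79_invol_zpowers b _ hN q (hb ▸ hq) hq2
  -- n ≥ 3
  have hn3 : 3 ≤ n := by
    by_contra hcon
    have hn12 : n = 1 ∨ n = 2 := by omega
    rcases hn12 with rfl | rfl
    · have hzb' : z = b := by simpa using hzpow
      rw [← hzb', hzz] at hu₀b
      have h3 : z = 1 := by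
        have h4 := congrArg (fun g => u₀⁻¹ * g * u₀) hu₀b
        simpa [mul_assoc] using h4
      exact hz1 h3
    · have hzb' : z = b * b := by rw [hzpow]; norm_num [pow_two]
      exact hbz hzb'.symm
  obtain ⟨M, hM⟩ : ∃ M : ℕ, 2 ^ (n - 1) = 4 * M := ⟨2 ^ (n - 3), by
    rw [show n - 1 = (n - 3) + 2 by omega, pow_add]; ring⟩
  have hN8 : orderOf b = 8 * M := by rw [hN, hM]; ring
  have hzM : z = b ^ (4 * M) := by rw [hzpow, hM]
  -- an involution outside B
  obtain ⟨s, hsS, hsB, hss⟩ : ∃ s ∈ S, s ∉ B ∧ s * s = 1 := by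
    obtain ⟨E, hES, hEl, hEc⟩ := h.hc
    by_contra hcon
    push Not at hcon
    have h1 : ∀ e ∈ E, e = 1 ∨ e = z := by
      intro e he
      have he2 : e * e = 1 := by rw [← pow_two]; exact hEl.2 e he
      have heB : e ∈ B := by
        by_contra heB
        exact hcon e (hES he) heB he2
      exact huniq e heB he2
    have h2 : ((E : Set G)) ⊆ {1, z} := by
      intro e he
      rcases h1 e he with h | h <;> simp [h]
    have h3 : Nat.card E ≤ 2 := by
      show Nat.card ((E : Set G)) ≤ 2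
      rw [Nat.card_coe_set_eq]
      calc (E : Set G).ncard ≤ ({1, z} : Set G).ncard := Set.ncard_le_ncard h2 (Set.toFinite _)
        _ = 2 := Set.ncard_pair (Ne.symm hz1)
    omega
  have hs_inv : s⁻¹ = s := inv_eq_of_mul_eq_one_left hss
  have hsz : Commute s z := hz.hzc s hsS
  have hBle : ∀ K : Subgroup G, b ∈ K → B ≤ K := by
    intro K hK; rw [← hb]; exact (Subgroup.zpowers_le).mpr hK
  have hsbB : s * b * s⁻¹ ∈ Subgroup.zpowers b := by
    rw [hb]
    exact (Subgroup.mem_normalizer_iff.mp (hB.hSB hsS) b).mp hbB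
  have haut := aut_cyclic_two b z s ⟨n, hn⟩ hzmem hz.hz2 hsbB (by rw [hss]; simp)
  have hsb : s * b * s⁻¹ = b⁻¹ * z := by
    rcases haut with h1 | h1 | h1 | h1
    · exfalso
      apply hsB
      apply hB.hself s hsS
      have hle : B ≤ Subgroup.centralizer {s} := by
        apply hBle
        rw [Subgroup.mem_centralizer_iff]
        intro g hg
        rw [Set.mem_singleton_iff] at hg
        rw [hg]
        calc s * b = (s * b * s⁻¹) * s := by group
          _ = b * s := by rw [h1]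
      intro x hx
      exact Subgroup.mem_centralizer_iff.mp (hle hx) s (Set.mem_singleton s)
    · exfalso
      have hbs2 : (b * s) ^ 2 = 1 := by
        rw [pow_two]
        calc b * s * (b * s) = b * (s * b * s⁻¹) * (s * s) := by group
          _ = 1 := by rw [h1, hss]; group
      have hbsB : b * s ∉ B := by
        intro hmem
        apply hsB
        have h3 : s = b⁻¹ * (b * s) := by group
        rw [h3]; exact B.mul_mem (B.inv_mem hbB) hmem
      have e1 := hu₀s (b * s) (S.mul_mem hbS hsS) hbsB hbs2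
      have e2 := hu₀s s hsS hsB (by rw [pow_two]; exact hss)
      have e3 : u₀ * (b * s) * u₀⁻¹ = (u₀ * b * u₀⁻¹) * (u₀ * s * u₀⁻¹) := by group
      rw [e3, hu₀b, e2] at e1
      have e4 : b * z * (s * z) = b * s := by
        calc b * z * (s * z) = b * (z * s) * z := by group
          _ = b * (s * z) * z := by rw [hsz.eq]
          _ = b * s * (z * z) := by group
          _ = b * s := by rw [hzz, mul_one]
      rw [e4] at e1
      exact hz1 (by simpa using e1.symm)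
    · exfalso
      have hcs : s * (b * b) * s⁻¹ = b * b := by
        calc s * (b * b) * s⁻¹ = (s * b * s⁻¹) * (s * b * s⁻¹) := by group
          _ = b * z * (b * z) := by rw [h1]
          _ = b * (z * b) * z := by group
          _ = b * (b * z) * z := by rw [hzb.eq]
          _ = b * b * (z * z) := by group
          _ = b * b := by rw [hzz, mul_one]
      have hle : S ≤ Subgroup.centralizer {b * b} := by
        apply h79_le_of_gen hB.hidx _ hsS hsB
        · rw [Subgroup.mem_centralizer_iff]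
          intro g hg
          rw [Set.mem_singleton_iff] at hg
          rw [hg]
          calc b * b * s = (s * (b * b) * s⁻¹) * s := by rw [hcs]
            _ = s * (b * b) := by group
        · apply hBle
          rw [Subgroup.mem_centralizer_iff]
          intro g hg
          rw [Set.mem_singleton_iff] at hg
          rw [hg]
          group
      have hcen : ∀ x ∈ S, (b * b) * x = x * (b * b) := by
        intro x hx
        exact Subgroup.mem_centralizer_iff.mp (hle hx) (b * b) (Set.mem_singleton _)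
      rcases hz.hzu (b * b) (S.mul_mem hbS hbS) hcen with h2 | h2
      · have h3 : orderOf b ∣ 2 := orderOf_dvd_of_pow_eq_one (by rw [pow_two]; exact h2)
        rw [hn] at h3
        have h4 : 2 ^ n ≤ 2 := Nat.le_of_dvd (by norm_num) h3
        have h5 : 2 ^ 3 ≤ 2 ^ n := Nat.pow_le_pow_right (by norm_num) hn3
        omega
      · exact hbz h2
    · exact h1
  -- the main case
  have hu₁1 : u₁ ≠ 1 := by
    intro h1
    rw [h1] at hu₁b
    apply hbz
    have h2 : b = b⁻¹ * z := by simpa using hu₁b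
    calc b * b = b * (b⁻¹ * z) := by rw [← h2]
      _ = z := by group
  have hu₁sq : u₁ * u₁ = 1 := by
    have := h.hU
    have h1 := IsKleinFour.mul_self (⟨u₁, hu₁⟩ : ↥U)
    exact congrArg Subtype.val h1
  obtain ⟨t, ht⟩ : ∃ t, t = u₁ * s * u₁⁻¹ := ⟨_, rfl⟩
  have htS : t ∈ S := by
    rw [ht]; exact (Subgroup.mem_normalizer_iff.mp (h.hUS hu₁) s).mp hsS
  have htB : t ∉ B := by
    intro hmem
    apply hsB
    rw [ht] at hmem
    exact (Subgroup.mem_normalizer_iff.mp (hB.hUB hu₁) s).mpr hmem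
  have hstB : s * t ∈ B := h79_mul_mem_of_relIndex_two hB.hidx hsS htS hsB htB
  rw [← hb] at hstB
  obtain ⟨j, hj⟩ := Subgroup.mem_zpowers_iff.mp hstB
  have htj : t = s * b ^ j := by
    rw [hj]
    calc t = (s * s) * t := by rw [hss, one_mul]
      _ = s * (s * t) := by group
  have hbz' : Commute b⁻¹ z := hzb.symm.inv_left
  have hzj : z ^ j = 1 := by
    have e1 : u₁ * t * u₁⁻¹ = s := by
      rw [ht]
      calc u₁ * (u₁ * s * u₁⁻¹) * u₁⁻¹ = (u₁ * u₁) * s * (u₁ * u₁)⁻¹ := by group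
        _ = s := by rw [hu₁sq]; group
    have e2 : u₁ * t * u₁⁻¹ = s * z ^ j := by
      calc u₁ * t * u₁⁻¹ = u₁ * (s * b ^ j) * u₁⁻¹ := by rw [← htj]
        _ = (u₁ * s * u₁⁻¹) * (u₁ * b * u₁⁻¹) ^ j := by rw [conj_zpow]; group
        _ = (s * b ^ j) * (b⁻¹ * z) ^ j := by rw [← ht, ← htj, hu₁b]
        _ = (s * b ^ j) * ((b ^ j)⁻¹ * z ^ j) := by rw [hbz'.mul_zpow, inv_zpow]
        _ = s * z ^ j := by group
    have e3 : s = s * z ^ j := e1.symm.trans e2
    simpa using e3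
  obtain ⟨i, hi⟩ : ∃ i : ℤ, j = 2 * i := by
    have h1 : ((2 : ℕ) : ℤ) ∣ j := hz.hz2 ▸ orderOf_dvd_iff_zpow_eq_one.mpr hzj
    obtain ⟨i, hi⟩ := h1
    exact ⟨i, by simpa using hi⟩
  have hkey := h79_exp b z s M i hN8 hzM hzb hss hsb
  obtain ⟨l, hl⟩ : ∃ l : ℤ, l = i * (2 * (M : ℤ) - 1) := ⟨_, rfl⟩
  rw [← hl] at hkey
  obtain ⟨x, hx⟩ : ∃ x, x = b ^ l * s := ⟨_, rfl⟩
  have hxS : x ∈ S := by rw [hx]; exact S.mul_mem (S.zpow_mem hbS l) hsS
  have hxb : u₁ * b * u₁⁻¹ = x * b * x⁻¹ := by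
    rw [hu₁b, hx]
    have hc : Commute (b ^ l) (b⁻¹ * z) :=
      Commute.zpow_left ((Commute.refl b).inv_right.mul_right hzb.symm) l
    calc b⁻¹ * z = (b ^ l * (b⁻¹ * z)) * (b ^ l)⁻¹ := by rw [hc.eq]; group
      _ = b ^ l * (s * b * s⁻¹) * (b ^ l)⁻¹ := by rw [hsb]
      _ = (b ^ l * s) * b * (b ^ l * s)⁻¹ := by group
  have hxs : u₁ * s * u₁⁻¹ = x * s * x⁻¹ := by
    rw [← ht, htj, hi, hx]
    calc s * b ^ (2 * i) = b ^ l * s * (b ^ l)⁻¹ := hkey.symm
      _ = (b ^ l * s) * s * (b ^ l * s)⁻¹ := by group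
  have hle : S ≤ Subgroup.centralizer {x⁻¹ * u₁} := by
    apply h79_le_of_gen hB.hidx _ hsS hsB
    · rw [Subgroup.mem_centralizer_iff]
      intro g hg
      rw [Set.mem_singleton_iff] at hg
      rw [hg]
      exact h79_comm_of_conj_eq hxs
    · apply hBle
      rw [Subgroup.mem_centralizer_iff]
      intro g hg
      rw [Set.mem_singleton_iff] at hg
      rw [hg]
      exact h79_comm_of_conj_eq hxb
  refine ⟨u₁, hu₁, hu₁1, x, hxS, ?_⟩
  intro y hy
  have hc : x⁻¹ * u₁ * y = y * (x⁻¹ * u₁) :=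
    Subgroup.mem_centralizer_iff.mp (hle hy) _ (Set.mem_singleton _)
  calc u₁ * y * u₁⁻¹ = x * (x⁻¹ * u₁ * y) * u₁⁻¹ := by group
    _ = x * (y * (x⁻¹ * u₁)) * u₁⁻¹ := by rw [hc]
    _ = x * y * x⁻¹ := by group

end Cfsg.Agent.Lib.helper42.FG
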