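import Mathlib

/-!
S5977B piece CYC (racer copy, prefixed name): a `y`-invariant subspace of dimension `ord_r(q)`
without fixed vectors is `y`-cyclic.
-/

set_option autoImplicit false

namespace Cfsg.Agent.Lib.helper96.FE

open Polynomial

/-- CYC (racer copy) -/
theorem h79_fe_cyclic {F : Type*} [Field F] [Fintype F] {V : Type*} [AddCommGroup V] [Module F V]
    [FiniteDimensional F V] (r : ℕ) [Fact r.Prime] (y : Module.End F V) (hyr : y ^ r = 1)
    (W : Submodule F V) (hWy : ∀ w ∈ W, y w ∈ W) (hW1 : ∀ w ∈ W, y w = w → w = 0)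
    (hdim : Module.finrank F W = orderOf ((Fintype.card F : ℕ) : ZMod r))
    (w : V) (hw : w ∈ W) (hw0 : w ≠ 0) (w' : V) (hw' : w' ∈ W) :
    ∃ g : F[X], w' = aeval y g w := by
  classical
  let φ : F[X] →ₗ[F] V :=
    (LinearMap.applyₗ w).comp (aeval y : F[X] →ₐ[F] Module.End F V).toLinearMap
  have hφ : ∀ g : F[X], φ g = aeval y g w := fun g => rfl
  obtain ⟨U, hU⟩ : ∃ U : Submodule F V, U = LinearMap.range φ := ⟨_, rfl⟩
  have hmemU : ∀ v : V, v ∈ U ↔ ∃ g : F[X], aeval y g w = v := by
    intro v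
    rw [hU, LinearMap.mem_range]
    rfl
  have hpowW : ∀ n : ℕ, ∀ v ∈ W, (y ^ n) v ∈ W := by
    intro n
    induction n with
    | zero => intro v hv; simpa using hv
    | succ n ih =>
      intro v hv
      rw [pow_succ', Module.End.mul_apply]
      exact hWy _ (ih v hv)
  have hUW : U ≤ W := by
    intro v hv
    obtain ⟨g, rfl⟩ := (hmemU v).mp hv
    rw [aeval_eq_sum_range, LinearMap.sum_apply]
    apply W.sum_mem
    intro i _
    rw [LinearMap.smul_apply]
    exact W.smul_mem _ (hpowW i w hw)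
  have hwU : w ∈ U := (hmemU w).mpr ⟨1, by simp⟩
  have hUy : ∀ u ∈ U, y u ∈ U := by
    intro u hu
    obtain ⟨g, rfl⟩ := (hmemU u).mp hu
    refine (hmemU _).mpr ⟨X * g, ?_⟩
    rw [map_mul, aeval_X, Module.End.mul_apply]
  have : Finite V := Module.finite_of_finite F
  letI : Fintype U := Fintype.ofFinite U
  let f : Function.End U := fun u => ⟨y u, hUy u u.2⟩
  have hfpow : ∀ n : ℕ, ∀ u : U, ((f ^ n) u : V) = (y ^ n) (u : V) := by
    intro n
    induction n with
    | zero => intro u; rfl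
    | succ n ih =>
      intro u
      rw [pow_succ', pow_succ', Module.End.mul_apply, ← ih u]
      rfl
  have hfr : f ^ r ^ 1 = 1 := by
    rw [pow_one]
    funext u
    apply Subtype.ext
    rw [hfpow, hyr]
    rfl
  have hmod := Equiv.Perm.card_fixedPoints_modEq (f := f) (p := r) (n := 1) hfr
  have hfix : Fintype.card (Function.fixedPoints f) = 1 := by
    rw [Fintype.card_eq_one_iff]
    refine ⟨⟨0, ?_⟩, ?_⟩
    · show f 0 = 0
      apply Subtype.ext
      show y ((0 : U) : V) = ((0 : U) : V)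
      simp
    · rintro ⟨u, hu⟩
      apply Subtype.ext
      have h1 : y (u : V) = u := congrArg Subtype.val hu
      exact Subtype.ext (hW1 u (hUW u.2) h1)
  have hcard : Fintype.card U = Fintype.card F ^ Module.finrank F U :=
    Module.card_eq_pow_finrank
  rw [hfix, hcard] at hmod
  have hq : ((Fintype.card F : ℕ) : ZMod r) ^ Module.finrank F U = 1 := by
    have h1 := (ZMod.natCast_eq_natCast_iff _ _ _).mpr hmod
    simpa using h1
  have hdvd : orderOf ((Fintype.card F : ℕ) : ZMod r) ∣ Module.finrank F U :=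
    orderOf_dvd_of_pow_eq_one hq
  have hdpos : 0 < Module.finrank F U := by
    rw [Module.finrank_pos_iff_exists_ne_zero]
    exact ⟨⟨w, hwU⟩, fun h => hw0 (congrArg Subtype.val h)⟩
  have hle : Module.finrank F W ≤ Module.finrank F U := by
    rw [hdim]; exact Nat.le_of_dvd hdpos hdvd
  have hUeq : U = W := Submodule.eq_of_le_of_finrank_le hUW hle
  have hw'U : w' ∈ U := hUeq ▸ hw'
  obtain ⟨g, hg⟩ := (hmemU w').mp hw'U
  exact ⟨g, hg.symm⟩

end Cfsg.Agent.Lib.helper96.FE
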