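import Mathlib

/-!
# S4395, EXB sub-split, piece HFB (racing copy of helper79): an element `lam` of prime order `q`
in a field with `p ^ ord_q(p)` elements generates it, so the `lam`-stable additive subgroups are trivial
-/

set_option autoImplicit false

namespace Cfsg.Agent.Lib.helper3.Gf

universe u

/-- HFB (racing copy). -/
theorem h79_hfb (p q : ℕ) [Fact p.Prime] [Fact q.Prime] (hpq : p ≠ q) (L : Type u) [Field L]
    [Finite L] [CharP L p]
    (hcard : Nat.card L = p ^ orderOf (p : ZMod q)) (lam : L) (hq : lam ^ q = 1) (hne : lam ≠ 1) :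
    ∀ W : AddSubgroup L, (∀ w ∈ W, lam * w ∈ W) → W = ⊥ ∨ W = ⊤ := by
  classical
  intro W hW
  have hp : p.Prime := Fact.out
  have hqp : q.Prime := Fact.out
  -- the multiplier ring of `W`, as an additive subgroup
  let R : AddSubgroup L :=
    { carrier := {c | ∀ w ∈ W, c * w ∈ W}
      add_mem' := fun {a b} ha hb w hw => by
        rw [add_mul]; exact W.add_mem (ha w hw) (hb w hw)
      zero_mem' := fun w _ => by rw [zero_mul]; exact W.zero_mem
      neg_mem' := fun {a} ha w hw => by rw [neg_mul]; exact W.neg_mem (ha w hw) }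
  have hRmem : ∀ c, c ∈ R ↔ ∀ w ∈ W, c * w ∈ W := fun c => Iff.rfl
  have hR1 : (1 : L) ∈ R := fun w hw => by rwa [one_mul]
  have hRmul : ∀ c d, c ∈ R → d ∈ R → c * d ∈ R := fun c d hc hd w hw => by
    rw [mul_assoc]; exact hc _ (hd w hw)
  have hRlam : lam ∈ R := hW
  have hRpow : ∀ c, c ∈ R → ∀ k : ℕ, c ^ k ∈ R := by
    intro c hc k
    induction k with
    | zero => rw [pow_zero]; exact hR1
    | succ k ih => rw [pow_succ]; exact hRmul _ _ ih hc
  -- the units of the multiplier ring
  let S : Subgroup Lˣ :=
    { carrier := {u | (u : L) ∈ R}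
      mul_mem' := fun {a b} ha hb => by
        show ((a * b : Lˣ) : L) ∈ R
        rw [Units.val_mul]; exact hRmul _ _ ha hb
      one_mem' := by
        show ((1 : Lˣ) : L) ∈ R
        rw [Units.val_one]; exact hR1
      inv_mem' := fun {a} ha => by
        have hinv : a⁻¹ = a ^ (orderOf a - 1) := by
          have hpos : 0 < orderOf a := orderOf_pos a
          exact inv_eq_of_mul_eq_one_right
            (by rw [← pow_succ', Nat.sub_add_cancel hpos, pow_orderOf_eq_one])
        show ((a⁻¹ : Lˣ) : L) ∈ R
        rw [hinv, Units.val_pow_eq_pow_val]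
        exact hRpow _ ha _ }
  have hSmem : ∀ u : Lˣ, u ∈ S ↔ (u : L) ∈ R := fun u => Iff.rfl
  -- `|R| = |S| + 1`
  have hSR : Nat.card R = Nat.card S + 1 := by
    have e : Option ↥S ≃ ↥R :=
      { toFun := fun o => match o with
          | none => 0
          | some u => ⟨((u : Lˣ) : L), u.2⟩
        invFun := fun c => if h : (c : L) = 0 then none else some ⟨Units.mk0 (c : L) h, c.2⟩
        left_inv := by
          intro o
          cases o with
          | none => simp
          | some u =>
            have hu : ((u : Lˣ) : L) ≠ 0 := Units.ne_zero _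
            simp [hu]
        right_inv := by
          intro c
          by_cases h : (c : L) = 0
          · simp only [h, dite_true]
            exact Subtype.ext h.symm
          · simp [h] }
    rw [← Nat.card_congr e, Finite.card_option]
  -- `lam` is a unit of order `q` in `S`
  have hlam0 : lam ≠ 0 := by
    intro h
    rw [h, zero_pow hqp.ne_zero] at hq
    exact zero_ne_one hq
  have hord : orderOf (⟨Units.mk0 lam hlam0, hRlam⟩ : ↥S) = q := by
    apply orderOf_eq_prime
    · apply Subtype.ext
      apply Units.ext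
      simpa using hq
    · intro h
      apply hne
      have h2 := congrArg (fun s : ↥S => ((s : Lˣ) : L)) h
      simpa using h2
  have hqS : q ∣ Nat.card S := by
    rw [← hord]
    exact orderOf_dvd_natCard _
  -- `|R| = p ^ b`
  obtain ⟨b, hba, hb⟩ : ∃ b, b ≤ orderOf (p : ZMod q) ∧ Nat.card R = p ^ b := by
    have hdvd : Nat.card R ∣ p ^ orderOf (p : ZMod q) := by
      rw [← hcard]; exact AddSubgroup.card_addSubgroup_dvd_card R
    exact (Nat.dvd_prime_pow hp).1 hdvd
  have hSpos : 0 < Nat.card S := Nat.card_pos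
  have hb1 : 1 ≤ b := by
    by_contra h
    have hb0 : b = 0 := by omega
    rw [hb0, pow_zero, hSR] at hb
    omega
  have hpow1 : ((p : ZMod q)) ^ b = 1 := by
    have h1 : Nat.card S = p ^ b - 1 := by omega
    rw [h1] at hqS
    have h2 : ((p ^ b - 1 : ℕ) : ZMod q) = 0 := (ZMod.natCast_eq_zero_iff _ _).2 hqS
    rw [Nat.cast_sub (Nat.one_le_pow _ _ hp.pos), Nat.cast_pow, Nat.cast_one, sub_eq_zero] at h2
    exact h2
  have hab : orderOf (p : ZMod q) ∣ b := orderOf_dvd_of_pow_eq_one hpow1
  have hbeq : b = orderOf (p : ZMod q) := le_antisymm hba (Nat.le_of_dvd (by omega) hab)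
  have hRtop : R = ⊤ := by
    rw [← AddSubgroup.card_eq_iff_eq_top, hb, hbeq, hcard]
  have hall : ∀ c : L, ∀ w ∈ W, c * w ∈ W := by
    intro c
    have hc : c ∈ R := by rw [hRtop]; exact AddSubgroup.mem_top c
    exact hc
  by_cases hbot : W = ⊥
  · exact Or.inl hbot
  · right
    obtain ⟨w, hw, hw0⟩ : ∃ w ∈ W, w ≠ 0 := by
      by_contra hcon
      push Not at hcon
      apply hbot
      rw [eq_bot_iff]
      intro x hx
      rw [AddSubgroup.mem_bot]
      exact hcon x hx
    rw [eq_top_iff]
    intro x _
    have h3 := hall (x * w⁻¹) w hw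
    rwa [inv_mul_cancel_right₀ hw0] at h3

end Cfsg.Agent.Lib.helper3.Gf
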