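import Mathlib

/-!
# S4395, EXB sub-split, piece HFC (racing copy of helper79): trace facts in a field with `m²`
elements, `σ x = x ^ m`
-/

set_option autoImplicit false

namespace Cfsg.Agent.Lib.helper3.Gf

universe u

/-- at most `m` solutions of `z ^ m = c * z` (`m ≥ 2`) -/
theorem h79_card_twist_le {L : Type*} [Field L] [Finite L] (m : ℕ) (hm2 : 2 ≤ m) (c : L) :
    Nat.card {z : L // z ^ m = c * z} ≤ m := by
  classical
  have := Fintype.ofFinite L
  have hdeg : (Polynomial.X ^ m - Polynomial.C c * Polynomial.X : Polynomial L).natDegree = m := by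
    rw [Polynomial.natDegree_sub_eq_left_of_natDegree_lt]
    · exact Polynomial.natDegree_X_pow m
    · rw [Polynomial.natDegree_X_pow]
      calc (Polynomial.C c * Polynomial.X : Polynomial L).natDegree ≤ 1 :=
            (Polynomial.natDegree_C_mul_le _ _).trans Polynomial.natDegree_X_le
        _ < m := by omega
  have hP0 : (Polynomial.X ^ m - Polynomial.C c * Polynomial.X : Polynomial L) ≠ 0 := by
    intro h
    rw [h, Polynomial.natDegree_zero] at hdeg
    omega
  have hsub : (Finset.univ.filter (fun z : L => z ^ m = c * z)) ⊆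
      (Polynomial.X ^ m - Polynomial.C c * Polynomial.X : Polynomial L).roots.toFinset := by
    intro z hz
    rw [Multiset.mem_toFinset, Polynomial.mem_roots hP0]
    simp [(Finset.mem_filter.1 hz).2]
  calc Nat.card {z : L // z ^ m = c * z}
      = (Finset.univ.filter (fun z : L => z ^ m = c * z)).card := by
        rw [Nat.card_eq_fintype_card, Fintype.card_subtype]
    _ ≤ (Polynomial.X ^ m - Polynomial.C c * Polynomial.X : Polynomial L).roots.toFinset.card :=
        Finset.card_le_card hsub
    _ ≤ Multiset.card (Polynomial.X ^ m - Polynomial.C c * Polynomial.X : Polynomial L).roots :=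
        Multiset.toFinset_card_le _
    _ ≤ (Polynomial.X ^ m - Polynomial.C c * Polynomial.X : Polynomial L).natDegree :=
        Polynomial.card_roots' _
    _ = m := hdeg

/-- HFC (racing copy). -/
theorem h79_hfc (L : Type u) [Field L] [Finite L] (m : ℕ) (hm : Nat.card L = m * m) (σ : L →+* L)
    (hσ : ∀ x, σ x = x ^ m) :
    (∀ x : L, ∃ z, z + σ z = x * σ x) ∧ (∀ z : L, z + σ z = 0 → ∃ x, x - σ x = z) ∧
    Nat.card {z : L // z + σ z = 0} = m := by
  classical
  have := Fintype.ofFinite L
  have hm2 : 2 ≤ m := by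
    have h1 : 1 < Nat.card L := Finite.one_lt_card
    rw [hm] at h1
    by_contra h
    have h01 : m = 0 ∨ m = 1 := by omega
    rcases h01 with rfl | rfl <;> simp at h1
  have hmpos : 0 < m := by omega
  have hσσ : ∀ x, σ (σ x) = x := by
    intro x
    rw [hσ, hσ, ← pow_mul, ← hm, Nat.card_eq_fintype_card, FiniteField.pow_card]
  -- the additive maps
  let T : L →+ L := (AddMonoidHom.id L) + σ.toAddMonoidHom
  let D : L →+ L := (AddMonoidHom.id L) - σ.toAddMonoidHom
  have hT : ∀ z, T z = z + σ z := fun z => rfl
  have hD : ∀ z, D z = z - σ z := fun z => rfl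
  have hFx : Nat.card {w : L // w ^ m = 1 * w} ≤ m := h79_card_twist_le m hm2 1
  have hKr : Nat.card {w : L // w ^ m = (-1) * w} ≤ m := h79_card_twist_le m hm2 (-1)
  -- `ker T` embeds into the roots of `X^m + X`
  have hkerT_mem : ∀ z : T.ker, (z : L) ^ m = (-1) * (z : L) := by
    intro z
    have h := z.2
    rw [AddMonoidHom.mem_ker, hT, hσ] at h
    linear_combination h
  have hkerT : Nat.card T.ker ≤ m := by
    refine le_trans (Nat.card_le_card_of_injective
      (fun z : T.ker => (⟨z.1, hkerT_mem z⟩ : {w : L // w ^ m = (-1) * w})) ?_) hKr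
    intro a b h
    exact Subtype.ext (by simpa using congrArg Subtype.val h)
  -- `range T` embeds into the fixed field
  have hrangeT_mem : ∀ z : T.range, (z : L) ^ m = 1 * (z : L) := by
    intro z
    obtain ⟨y, hy⟩ := z.2
    rw [← hy, hT, one_mul, ← hσ, map_add, hσσ, add_comm]
  let φ : T.range → {w : L // w ^ m = 1 * w} := fun z => ⟨z.1, hrangeT_mem z⟩
  have hφinj : Function.Injective φ := by
    intro a b h
    exact Subtype.ext (by simpa [φ] using congrArg Subtype.val h)
  have hrangeT : Nat.card T.range ≤ m := le_trans (Nat.card_le_card_of_injective φ hφinj) hFx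
  have hcardT : Nat.card L = Nat.card T.range * Nat.card T.ker := by
    rw [AddSubgroup.card_eq_card_quotient_mul_card_addSubgroup T.ker]
    congr 1
    exact Nat.card_congr (QuotientAddGroup.quotientKerEquivRange T).toEquiv
  have h1 : m * m = Nat.card T.range * Nat.card T.ker := by rw [← hm, hcardT]
  have hker_eq : Nat.card T.ker = m := by
    by_contra hne
    have hlt : Nat.card T.ker < m := lt_of_le_of_ne hkerT hne
    have h2 : Nat.card T.range * Nat.card T.ker < m * m :=
      calc Nat.card T.range * Nat.card T.ker ≤ m * Nat.card T.ker :=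
            Nat.mul_le_mul_right _ hrangeT
        _ < m * m := Nat.mul_lt_mul_of_pos_left hlt hmpos
    omega
  have hrange_eq : Nat.card T.range = m := by
    rw [hker_eq] at h1
    exact (Nat.eq_of_mul_eq_mul_right hmpos h1).symm
  -- `range T` is the whole fixed field
  have hφbij : Function.Bijective φ :=
    hφinj.bijective_of_nat_card_le (by rw [hrange_eq]; exact hFx)
  -- the map `D`
  have hkerD_mem : ∀ z : D.ker, (z : L) ^ m = 1 * (z : L) := by
    intro z
    have h := z.2
    rw [AddMonoidHom.mem_ker, hD, hσ] at h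
    linear_combination -h
  have hkerD : Nat.card D.ker ≤ m := by
    refine le_trans (Nat.card_le_card_of_injective
      (fun z : D.ker => (⟨z.1, hkerD_mem z⟩ : {w : L // w ^ m = 1 * w})) ?_) hFx
    intro a b h
    exact Subtype.ext (by simpa using congrArg Subtype.val h)
  have hcardD : Nat.card L = Nat.card D.range * Nat.card D.ker := by
    rw [AddSubgroup.card_eq_card_quotient_mul_card_addSubgroup D.ker]
    congr 1
    exact Nat.card_congr (QuotientAddGroup.quotientKerEquivRange D).toEquiv
  have hrangeD_mem : ∀ z : D.range, (z : L) ∈ T.ker := by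
    intro z
    obtain ⟨y, hy⟩ := z.2
    rw [AddMonoidHom.mem_ker, ← hy, hT, hD, map_sub, hσσ]
    ring
  let χ : D.range → T.ker := fun z => ⟨z.1, hrangeD_mem z⟩
  have hχinj : Function.Injective χ := by
    intro a b h
    exact Subtype.ext (by simpa [χ] using congrArg Subtype.val h)
  have hrangeD_ge : m ≤ Nat.card D.range := by
    by_contra hlt
    push Not at hlt
    have h2 : Nat.card D.range * Nat.card D.ker < m * m :=
      calc Nat.card D.range * Nat.card D.ker ≤ Nat.card D.range * m :=
            Nat.mul_le_mul_left _ hkerD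
        _ < m * m := Nat.mul_lt_mul_of_pos_right hlt hmpos
    rw [← hcardD, hm] at h2
    omega
  have hχbij : Function.Bijective χ :=
    hχinj.bijective_of_nat_card_le (by rw [hker_eq]; exact hrangeD_ge)
  refine ⟨?_, ?_, ?_⟩
  · intro x
    have hx : (x * σ x) ^ m = 1 * (x * σ x) := by
      rw [one_mul, ← hσ, map_mul, hσσ, mul_comm]
    obtain ⟨z, hz⟩ := hφbij.2 ⟨x * σ x, hx⟩
    obtain ⟨y, hy⟩ := z.2
    refine ⟨y, ?_⟩
    have h3 : (z : L) = x * σ x := congrArg Subtype.val hz
    rw [← h3, ← hy, hT]
  · intro z hz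
    have hzk : z ∈ T.ker := by rw [AddMonoidHom.mem_ker, hT]; exact hz
    obtain ⟨w, hw⟩ := hχbij.2 ⟨z, hzk⟩
    obtain ⟨y, hy⟩ := w.2
    refine ⟨y, ?_⟩
    have h3 : (w : L) = z := congrArg Subtype.val hw
    rw [← h3, ← hy, hD]
  · rw [← hker_eq]
    exact Nat.card_congr (Equiv.subtypeEquivRight (fun z => by rw [AddMonoidHom.mem_ker, hT]))

end Cfsg.Agent.Lib.helper3.Gf
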