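/-
Piece A of the S0406 split (owner helper9): a class of 48 vectors of norm 8, pairwise congruent
modulo 2 and pairwise equal, opposite or orthogonal, contains a frame.
-/
import Mathlib
import Cfsg.Agent.Lib.helper9.LcDefs

set_option autoImplicit false
open Matrix

namespace Cfsg.Agent.Lib.helper79
open Cfsg Cfsg.Agent.Lib.helper9

theorem lc_exists_frame (B : Matrix (Fin 24) (Fin 24) ℤ)
    (h87 : ∀ x y : Fin 24 → ℤ, x ⬝ᵥ (B *ᵥ x) = 8 → y ⬝ᵥ (B *ᵥ y) = 8 →
      (∀ i, (2 : ℤ) ∣ (x - y) i) → y = x ∨ y = -x ∨ x ⬝ᵥ (B *ᵥ y) = 0)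
    (x0 : Fin 24 → ℤ)
    (h48 : {y : Fin 24 → ℤ | y ⬝ᵥ (B *ᵥ y) = 8 ∧ ∀ i, (2 : ℤ) ∣ (x0 - y) i}.ncard = 48) :
    ∃ v : GolayPt → Fin 24 → ℤ, LcFrame B v := by
  classical
  set K : Set (Fin 24 → ℤ) := {y | y ⬝ᵥ (B *ᵥ y) = 8 ∧ ∀ i, (2 : ℤ) ∣ (x0 - y) i} with hK
  have hKfin : K.Finite := Set.finite_of_ncard_ne_zero (by rw [h48]; norm_num)
  have hneg : ∀ y ∈ K, -y ∈ K := by
    intro y hy
    refine ⟨?_, fun i => ?_⟩
    · have h := hy.1
      rw [Matrix.mulVec_neg, neg_dotProduct_neg]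
      exact h
    · have h := hy.2 i
      simp only [Pi.sub_apply, Pi.neg_apply] at h ⊢
      omega
  have hne : ∀ y ∈ K, y ≠ -y := by
    intro y hy h
    have h0 : y = 0 := by
      funext i
      have hi := congrFun h i
      simp only [Pi.neg_apply, Pi.zero_apply] at hi ⊢
      omega
    have h8 := hy.1
    rw [h0] at h8
    simp at h8
  set R : Set (Fin 24 → ℤ) := {y | y ∈ K ∧ toLex (-y) < toLex y} with hR
  have hRK : R ⊆ K := fun y hy => hy.1
  have himg : (fun y : Fin 24 → ℤ => -y) '' R = K \ R := by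
    ext z
    constructor
    · rintro ⟨y, ⟨hyK, hylt⟩, rfl⟩
      refine ⟨hneg y hyK, ?_⟩
      rintro ⟨-, h2⟩
      rw [neg_neg] at h2
      exact lt_asymm hylt h2
    · rintro ⟨hzK, hzR⟩
      refine ⟨-z, ⟨hneg z hzK, ?_⟩, neg_neg z⟩
      rw [neg_neg]
      have h1 : ¬ toLex (-z) < toLex z := fun h => hzR ⟨hzK, h⟩
      have h2 : toLex z ≠ toLex (-z) := fun h => hne z hzK (toLex.injective h)
      exact lt_of_le_of_ne (not_lt.mp h1) h2
  have hR24 : R.ncard = 24 := by
    have h1 : (K \ R).ncard = R.ncard := by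
      rw [← himg]
      exact Set.ncard_image_of_injective _ neg_injective
    have h2 := Set.ncard_sdiff_add_ncard_of_subset hRK hKfin
    omega
  have : Finite R := (hKfin.subset hRK).to_subtype
  have hcR : Nat.card R = 24 := by
    rw [Nat.card_coe_set_eq]
    exact hR24
  let f : R ≃ Fin 24 := Finite.equivFinOfCardEq hcR
  have hcG : Fintype.card GolayPt = 24 := by simp [GolayPt]
  let g : GolayPt ≃ Fin 24 := Fintype.equivFinOfCardEq hcG
  let v : GolayPt → Fin 24 → ℤ := fun p => ((f.symm (g p) : R) : Fin 24 → ℤ)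
  have hvR : ∀ p, v p ∈ R := fun p => (f.symm (g p)).2
  have hvinj : Function.Injective v := by
    intro p q h
    have h' : f.symm (g p) = f.symm (g q) := Subtype.ext h
    exact g.injective (f.symm.injective h')
  have hcong : ∀ p q k, (2 : ℤ) ∣ (v p - v q) k := by
    intro p q k
    have h1 := (hvR p).1.2 k
    have h2 := (hvR q).1.2 k
    simp only [Pi.sub_apply] at h1 h2 ⊢
    omega
  refine ⟨v, fun p q => ?_, hcong⟩
  by_cases hpq : p = q
  · subst hpq
    rw [if_pos rfl]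
    exact (hvR p).1.1
  · rw [if_neg hpq]
    rcases h87 (v p) (v q) (hvR p).1.1 (hvR q).1.1 (hcong p q) with h | h | h
    · exact absurd (hvinj h.symm) hpq
    · exfalso
      have h1 := (hvR p).2
      have h2 := (hvR q).2
      rw [h, neg_neg] at h2
      exact lt_asymm h1 h2
    · exact h

end Cfsg.Agent.Lib.helper79
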