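/-
Piece B of the S0406 split (owner helper9): for 24 pairwise orthogonal vectors of norm 8 with
respect to a symmetric integral form, the coordinate map multiplies the form by 8.
-/
import Mathlib
import Cfsg.Agent.Lib.helper9.LcDefs

set_option autoImplicit false
open Matrix

namespace Cfsg.Agent.Lib.helper79
open Cfsg Cfsg.Agent.Lib.helper9

/-- For square rational matrices, `A * C = 8` implies `C * A = 8`. -/
theorem lcB_comm_rat {n : Type*} [Fintype n] [DecidableEq n] (A C : Matrix n n ℚ)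
    (h : A * C = (8 : ℚ) • (1 : Matrix n n ℚ)) : C * A = (8 : ℚ) • (1 : Matrix n n ℚ) := by
  have h1 : A * ((1 / 8 : ℚ) • C) = 1 := by
    rw [Matrix.mul_smul, h, smul_smul]
    norm_num
  have h2 : ((1 / 8 : ℚ) • C) * A = 1 := mul_eq_one_comm.mp h1
  have h3 : C * A = (8 : ℚ) • (((1 / 8 : ℚ) • C) * A) := by
    rw [Matrix.smul_mul, smul_smul]
    norm_num
  rw [h3, h2]

/-- For square integer matrices, `A * C = 8` implies `C * A = 8`. -/
theorem lcB_comm_int {n : Type*} [Fintype n] [DecidableEq n] (A C : Matrix n n ℤ)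
    (h : A * C = (8 : ℤ) • (1 : Matrix n n ℤ)) : C * A = (8 : ℤ) • (1 : Matrix n n ℤ) := by
  have hinj : Function.Injective
      (fun M : Matrix n n ℤ => M.map (Int.castRingHom ℚ)) :=
    Matrix.map_injective (RingHom.injective_int (Int.castRingHom ℚ))
  have h8 : ((8 : ℤ) • (1 : Matrix n n ℤ)).map (Int.castRingHom ℚ) =
      (8 : ℚ) • (1 : Matrix n n ℚ) := by
    ext i j
    simp only [Matrix.map_apply, Matrix.smul_apply, Matrix.one_apply, smul_eq_mul]
    split_ifs <;> simp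
  apply hinj
  show (C * A).map (Int.castRingHom ℚ) = ((8 : ℤ) • (1 : Matrix n n ℤ)).map (Int.castRingHom ℚ)
  rw [Matrix.map_mul, h8]
  apply lcB_comm_rat
  rw [← Matrix.map_mul, h, h8]

theorem lc_frame_dot (B : Matrix (Fin 24) (Fin 24) ℤ) (hsymm : B.IsSymm)
    (v : GolayPt → Fin 24 → ℤ) (hv : ∀ p q, v p ⬝ᵥ (B *ᵥ v q) = if p = q then 8 else 0)
    (x y : Fin 24 → ℤ) :
    dotInt (lcMap B v x) (lcMap B v y) = 8 * (x ⬝ᵥ (B *ᵥ y)) := by
  classical
  have hcard : Fintype.card (Fin 24) = Fintype.card GolayPt := by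
    simp [GolayPt]
  let e : Fin 24 ≃ GolayPt := Fintype.equivOfCardEq hcard
  let W : Matrix (Fin 24) (Fin 24) ℤ := Matrix.of fun i k => v (e i) k
  set T : Matrix (Fin 24) (Fin 24) ℤ := B * Wᵀ with hT
  have hW : W * T = (8 : ℤ) • (1 : Matrix (Fin 24) (Fin 24) ℤ) := by
    ext i j
    have h := hv (e i) (e j)
    have h2 : (W * T) i j = v (e i) ⬝ᵥ (B *ᵥ v (e j)) := by
      simp [hT, W, Matrix.mul_apply, dotProduct, Matrix.mulVec]
    rw [h2, h]
    simp [Matrix.one_apply, Matrix.smul_apply]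
  have hW' : T * W = (8 : ℤ) • (1 : Matrix (Fin 24) (Fin 24) ℤ) := lcB_comm_int W T hW
  have hcoord : ∀ (z : Fin 24 → ℤ) (i : Fin 24), lcMap B v z (e i) = (z ᵥ* T) i := by
    intro z i
    simp [lcMap_apply, hT, W, Matrix.vecMul, Matrix.mul_apply, dotProduct, Matrix.mulVec]
  have hTT : T * Tᵀ = (8 : ℤ) • B := by
    have : Tᵀ = W * B := by
      rw [hT, Matrix.transpose_mul, Matrix.transpose_transpose, hsymm.eq]
    rw [this, ← Matrix.mul_assoc, hW', Matrix.smul_mul, Matrix.one_mul]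
  calc dotInt (lcMap B v x) (lcMap B v y)
      = ∑ p, lcMap B v x p * lcMap B v y p := rfl
    _ = ∑ i, lcMap B v x (e i) * lcMap B v y (e i) :=
        (Equiv.sum_comp e (fun p => lcMap B v x p * lcMap B v y p)).symm
    _ = (x ᵥ* T) ⬝ᵥ (y ᵥ* T) := by
        simp only [hcoord, dotProduct]
    _ = x ⬝ᵥ ((T * Tᵀ) *ᵥ y) := by
        rw [← Matrix.dotProduct_mulVec, ← Matrix.mulVec_transpose, Matrix.mulVec_mulVec]
    _ = 8 * (x ⬝ᵥ (B *ᵥ y)) := by
        rw [hTT, Matrix.smul_mulVec, dotProduct_smul, smul_eq_mul]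

end Cfsg.Agent.Lib.helper79
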