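/-
S5006 piece DEG (`deg_of_van`): an irreducible character of the group of the length-24 code
vanishing on all elements of even order has degree divisible by `2^10 = 1024`.
-/
import Mathlib
import Cfsg.Agent.Lib.helper33.M24BDefs
import Cfsg.Agent.Lib.helper81.WBO
import Cfsg.Agent.S0364

set_option autoImplicit false

namespace Cfsg.Agent.Lib.helper79.M24B

open Cfsg Cfsg.Agent.Lib.helper33.M24B
open scoped ComplexConjugate

theorem deg_factorization : (244823040 : ℕ).factorization 2 = 10 := by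
  have h : (244823040 : ℕ) = 2 ^ 10 * 239085 := by norm_num
  rw [h, Nat.factorization_mul (by norm_num) (by norm_num), Nat.Prime.factorization_pow
    Nat.prime_two]
  have h2 : (239085 : ℕ).factorization 2 = 0 :=
    Nat.factorization_eq_zero_of_not_dvd (by norm_num)
  simp [h2]

/-- DEG -/
theorem deg_of_van (χ : IrrCharacter ↥M24) (hv : Van (χ : ↥M24 → ℂ)) :
    ∃ m : ℕ, 0 < m ∧ (χ : ↥M24 → ℂ) 1 = ((1024 * m : ℕ) : ℂ) := by
  have : Fact (Nat.Prime 2) := ⟨Nat.prime_two⟩
  have h1 := Cfsg.Agent.Lib.helper81.pow_dvd_charDegree_of_vanish_singular 2 χ hv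
  rw [Cfsg.Agent.S0364.result, deg_factorization] at h1
  obtain ⟨m, hm⟩ := h1
  have hpos := Cfsg.Agent.Lib.helper81.irr_charDegree_pos χ
  refine ⟨m, ?_, ?_⟩
  · rcases Nat.eq_zero_or_pos m with h0 | h0
    · rw [h0, mul_zero] at hm
      omega
    · exact h0
  · rw [Cfsg.Agent.Lib.helper81.irr_one_eq_charDegree χ, hm]
    norm_num

end Cfsg.Agent.Lib.helper79.M24B
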