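/-
S5006 piece PSUMDVD (`psum_dvd`): integrality of the power sums of an irreducible character
vanishing on the elements of even order, at an odd-order element centralized by a 2-group.
-/
import Mathlib
import Cfsg.Agent.Lib.helper33.M24BDefs
import Cfsg.Agent.Lib.helper4.CharDecomp
import Cfsg.Agent.Lib.helper84.Frobenius

set_option autoImplicit false

namespace Cfsg.Agent.Lib.helper79.M24B

open Cfsg Cfsg.Agent.Lib.helper33.M24B
open scoped ComplexConjugate

/-- The product of a non-trivial 2-element with a commuting element of odd order has even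
order. -/
theorem psumdvd_even {G : Type*} [Group G] (x c : G) (hx1 : x ≠ 1) (a : ℕ)
    (hx : orderOf x = 2 ^ a) (hc : ¬ 2 ∣ orderOf c) (hcomm : Commute x c) :
    2 ∣ orderOf (x * c) := by
  have ha : a ≠ 0 := by
    rintro rfl
    rw [pow_zero, orderOf_eq_one_iff] at hx
    exact hx1 hx
  have hcop : (orderOf x).Coprime (orderOf c) := by
    rw [hx]
    exact Nat.Coprime.pow_left a ((Nat.Prime.coprime_iff_not_dvd Nat.prime_two).2 hc)
  rw [hcomm.orderOf_mul_eq_mul_orderOf_of_coprime hcop, hx]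
  exact Dvd.dvd.mul_right (dvd_pow_self 2 ha) _

/-- PSUMDVD -/
theorem psum_dvd {G : Type*} [Group G] [Finite G] (χ : IrrCharacter G) (hv : Van (χ : G → ℂ))
    (y : G) (hodd : ¬ 2 ∣ orderOf y) (P : Subgroup G) (hP : IsPGroup 2 P)
    (hc : ∀ x ∈ P, x * y = y * x) :
    ∃ j : ℕ, (χ : G → ℂ) 1 + psum (χ : G → ℂ) (orderOf y) y
      = ((orderOf y * Nat.card P * j : ℕ) : ℂ) := by
  classical
  have hcomm : ∀ (x : ↥P) (c : ↥(Subgroup.zpowers y)), Commute (P.subtype x)
      ((Subgroup.zpowers y).subtype c) := by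
    intro x c
    obtain ⟨k, hk⟩ := Subgroup.mem_zpowers_iff.1 c.2
    show Commute (x : G) (c : G)
    rw [← hk]
    exact (show Commute (x : G) y from hc x x.2).zpow_right k
  let f : ↥P × ↥(Subgroup.zpowers y) →* G :=
    MonoidHom.noncommCoprod P.subtype (Subgroup.zpowers y).subtype hcomm
  have hf : ∀ (x : ↥P) (c : ↥(Subgroup.zpowers y)), f (x, c) = (x : G) * (c : G) :=
    fun x c => rfl
  let _ : Fintype ↥P := Fintype.ofFinite _
  let _ : Fintype ↥(Subgroup.zpowers y) := Fintype.ofFinite _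
  have hχ : IsCharacter G (χ : G → ℂ) := Cfsg.Agent.Lib.helper4.isCharacter_of_isIrrCharacter χ.2
  have hχK := Cfsg.Agent.Lib.helper4.isCharacter_comp f hχ
  obtain ⟨j, hj⟩ := Cfsg.Agent.Lib.helper84.classInner_isCharacter_nat hχK
    (Cfsg.Agent.Lib.helper4.isCharacter_one (G := ↥P × ↥(Subgroup.zpowers y)))
  refine ⟨j, ?_⟩
  unfold classInner at hj
  have hypos : 0 < orderOf y := orderOf_pos y
  have hcard : Nat.card (↥P × ↥(Subgroup.zpowers y)) = Nat.card P * orderOf y := by
    rw [Nat.card_prod, Nat.card_zpowers]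
  have hcardne : (Nat.card (↥P × ↥(Subgroup.zpowers y)) : ℂ) ≠ 0 := by
    have : Nat.card (↥P × ↥(Subgroup.zpowers y)) ≠ 0 := Nat.card_pos.ne'
    exact_mod_cast this
  have hzero : ∀ (x : ↥P) (c : ↥(Subgroup.zpowers y)), x ≠ 1 →
      (χ : G → ℂ) ((x : G) * (c : G)) = 0 := by
    intro x c hx1
    apply hv
    obtain ⟨a, ha⟩ := (IsPGroup.iff_orderOf.1 hP) x
    have hx1' : (x : G) ≠ 1 := fun h => hx1 (Subtype.ext h)
    have hxa : orderOf (x : G) = 2 ^ a := by rw [Subgroup.orderOf_coe, ha]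
    have hcodd : ¬ 2 ∣ orderOf (c : G) := fun h =>
      hodd (h.trans (orderOf_dvd_of_mem_zpowers c.2))
    exact psumdvd_even (x : G) (c : G) hx1' a hxa hcodd (hcomm x c)
  have hsum : ∑ z : ↥P × ↥(Subgroup.zpowers y), (χ : G → ℂ) (f z) * conj ((fun _ => (1 : ℂ)) z)
      = (χ : G → ℂ) 1 + psum (χ : G → ℂ) (orderOf y) y := by
    have h1 : ∑ z : ↥P × ↥(Subgroup.zpowers y),
        (χ : G → ℂ) (f z) * conj ((fun _ => (1 : ℂ)) z)
        = ∑ x : ↥P, ∑ c : ↥(Subgroup.zpowers y), (χ : G → ℂ) ((x : G) * (c : G)) := by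
      rw [Fintype.sum_prod_type]
      refine Finset.sum_congr rfl fun x _ => Finset.sum_congr rfl fun c _ => ?_
      rw [hf]
      simp
    rw [h1, Finset.sum_eq_single (1 : ↥P)]
    · have h2 : ∑ c : ↥(Subgroup.zpowers y), (χ : G → ℂ) (((1 : ↥P) : G) * (c : G))
          = ∑ i : Fin (orderOf y), (χ : G → ℂ) (y ^ (i : ℕ)) := by
        rw [← (finEquivZPowers (isOfFinOrder_of_finite y)).sum_comp]
        refine Finset.sum_congr rfl fun i _ => ?_
        rw [finEquivZPowers_apply]
        simp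
      rw [h2, Fin.sum_univ_eq_sum_range (fun i => (χ : G → ℂ) (y ^ i)) (orderOf y),
        Finset.range_eq_Ico, Finset.sum_eq_sum_Ico_succ_bot hypos, pow_zero]
      rfl
    · intro x _ hx1
      exact Finset.sum_eq_zero fun c _ => hzero x c hx1
    · intro h
      exact absurd (Finset.mem_univ _) h
  rw [hsum, inv_mul_eq_iff_eq_mul₀ hcardne, hcard] at hj
  rw [hj]
  push_cast
  ring

end Cfsg.Agent.Lib.helper79.M24B
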