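import Mathlib
import Cfsg.Prelude.Def_GeometricClasses
import Cfsg.Prelude.Def_Classical
import Cfsg.Agent.Lib.helper45.CycFactors

set_option autoImplicit false

namespace Cfsg.Agent.Lib.helper79.OtA

open Polynomial

section general

variable {F : Type*} [Field F] {V : Type*} [AddCommGroup V] [Module F V]

theorem pow_mem {T : V →ₗ[F] V} {E : Submodule F V} (hE : ∀ x ∈ E, T x ∈ E) (n : ℕ) {u : V}
    (hu : u ∈ E) : (T ^ n) u ∈ E := by
  induction n with
  | zero => simpa using hu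
  | succ n ih => rw [pow_succ', Module.End.mul_apply]; exact hE _ ih

theorem aeval_mem {T : V →ₗ[F] V} {E : Submodule F V} (hE : ∀ x ∈ E, T x ∈ E) (g : F[X]) {u : V}
    (hu : u ∈ E) : aeval T g u ∈ E := by
  rw [aeval_eq_sum_range, LinearMap.sum_apply]
  exact Submodule.sum_mem _ fun k _ => by
    rw [LinearMap.smul_apply]; exact E.smul_mem _ (pow_mem hE k hu)

/-- the cyclic submodule generated by `v` -/
def cyc (T : V →ₗ[F] V) (v : V) : Submodule F V where
  carrier := {w | ∃ g : F[X], aeval T g v = w}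
  add_mem' := by
    rintro _ _ ⟨g, rfl⟩ ⟨h, rfl⟩
    exact ⟨g + h, by simp⟩
  zero_mem' := ⟨0, by simp⟩
  smul_mem' := by
    rintro c _ ⟨g, rfl⟩
    exact ⟨C c * g, by simp [Module.algebraMap_end_apply]⟩

theorem mem_cyc {T : V →ₗ[F] V} {v w : V} : w ∈ cyc T v ↔ ∃ g : F[X], aeval T g v = w := Iff.rfl

theorem self_mem_cyc (T : V →ₗ[F] V) (v : V) : v ∈ cyc T v := ⟨1, by simp⟩

theorem cyc_inv (T : V →ₗ[F] V) (v : V) : ∀ x ∈ cyc T v, T x ∈ cyc T v := by
  rintro _ ⟨g, rfl⟩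
  exact ⟨X * g, by simp⟩

theorem cyc_le {T : V →ₗ[F] V} {E : Submodule F V} (hE : ∀ x ∈ E, T x ∈ E) {v : V} (hv : v ∈ E) :
    cyc T v ≤ E := by
  rintro _ ⟨g, rfl⟩
  exact aeval_mem hE g hv

theorem aeval_mul_kill {T : V →ₗ[F] V} {v : V} {f : F[X]} (hfv : aeval T f v = 0) (q : F[X]) :
    aeval T (f * q) v = 0 := by
  rw [mul_comm, map_mul, Module.End.mul_apply, hfv, map_zero]

theorem cyc_finrank_le {T : V →ₗ[F] V} {v : V} {f : F[X]} (hf : f.Monic) (hf1 : f ≠ 1)
    (hfv : aeval T f v = 0) : Module.finrank F (cyc T v) ≤ f.natDegree := by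
  have hle : cyc T v ≤ Submodule.span F (Set.range fun k : Fin f.natDegree => (T ^ (k : ℕ)) v) := by
    rintro _ ⟨g, rfl⟩
    have h1 : aeval T g v = aeval T (g %ₘ f) v := by
      conv_lhs => rw [← modByMonic_add_div g f]
      rw [map_add, LinearMap.add_apply, aeval_mul_kill hfv, add_zero]
    rw [h1, aeval_eq_sum_range' (natDegree_modByMonic_lt g hf hf1), LinearMap.sum_apply]
    refine Submodule.sum_mem _ fun k hk => ?_
    rw [LinearMap.smul_apply]
    exact Submodule.smul_mem _ _ (Submodule.subset_span ⟨⟨k, Finset.mem_range.mp hk⟩, rfl⟩)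
  have : Module.Finite F
      (Submodule.span F (Set.range fun k : Fin f.natDegree => (T ^ (k : ℕ)) v)) :=
    FiniteDimensional.span_of_finite F (Set.finite_range _)
  calc Module.finrank F (cyc T v)
      ≤ Module.finrank F
          (Submodule.span F (Set.range fun k : Fin f.natDegree => (T ^ (k : ℕ)) v)) :=
        Submodule.finrank_mono hle
    _ ≤ Fintype.card (Fin f.natDegree) := finrank_range_le_card _
    _ = f.natDegree := Fintype.card_fin _

theorem cyc_irr {T : V →ₗ[F] V} {v : V} {f : F[X]} (hf : Irreducible f) (hfv : aeval T f v = 0)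
    {R : Submodule F V} (hR : ∀ x ∈ R, T x ∈ R) {w : V} (hw : w ∈ R) (hw0 : w ≠ 0)
    (hwc : w ∈ cyc T v) : v ∈ R := by
  obtain ⟨g, rfl⟩ := hwc
  have hndvd : ¬ f ∣ g := by
    rintro ⟨q, rfl⟩
    exact hw0 (aeval_mul_kill hfv q)
  obtain ⟨a, b, hab⟩ := (Irreducible.coprime_iff_not_dvd hf).mpr hndvd
  have h1 : v = aeval T b (aeval T g v) := by
    have h := congrArg (fun P => aeval T P v) hab
    simp only [map_add, map_mul, map_one, LinearMap.add_apply, Module.End.mul_apply,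
      Module.End.one_apply, hfv, map_zero, zero_add] at h
    exact h.symm
  rw [h1]
  exact aeval_mem hR b hw

variable (Q : QuadraticForm F V)

theorem polar_T {T : V →ₗ[F] V} (hT : ∀ v, Q (T v) = Q v) (u w : V) :
    QuadraticMap.polar Q (T u) (T w) = QuadraticMap.polar Q u w := by
  simp only [QuadraticMap.polar, ← map_add, hT]

theorem polar_T_left {T T' : V →ₗ[F] V} (hT : ∀ v, Q (T v) = Q v) (hTT' : T * T' = 1) (u w : V) :
    QuadraticMap.polar Q (T u) w = QuadraticMap.polar Q u (T' w) := by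
  have h : w = T (T' w) := by rw [← Module.End.mul_apply, hTT', Module.End.one_apply]
  conv_lhs => rw [h]
  rw [polar_T Q hT]

theorem adj_pow {T T' : V →ₗ[F] V} (hT : ∀ v, Q (T v) = Q v) (hTT' : T * T' = 1) (n : ℕ)
    (u w : V) : QuadraticMap.polar Q ((T ^ n) u) w = QuadraticMap.polar Q u ((T' ^ n) w) := by
  induction n generalizing u w with
  | zero => simp
  | succ n ih =>
    rw [pow_succ', Module.End.mul_apply, pow_succ, Module.End.mul_apply, ← ih,
      polar_T_left Q hT hTT']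

theorem adj {T T' : V →ₗ[F] V} (hT : ∀ v, Q (T v) = Q v) (hTT' : T * T' = 1) (g : F[X])
    (u w : V) :
    QuadraticMap.polar Q (aeval T g u) w = QuadraticMap.polar Q u (aeval T' g w) := by
  induction g using Polynomial.induction_on' with
  | add p q hp hq =>
    simp only [map_add, LinearMap.add_apply, QuadraticMap.polar_add_left,
      QuadraticMap.polar_add_right, hp, hq]
  | monomial n a =>
    simp only [aeval_monomial, Module.End.mul_apply, Module.algebraMap_end_apply,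
      QuadraticMap.polar_smul_left, QuadraticMap.polar_smul_right, adj_pow Q hT hTT']

theorem isom_inv {T T' : V →ₗ[F] V} (hT : ∀ v, Q (T v) = Q v) (hTT' : T * T' = 1) (v : V) :
    Q (T' v) = Q v := by
  rw [← hT (T' v), ← Module.End.mul_apply, hTT', Module.End.one_apply]

/-- nondegeneracy (one-sided form) -/
def ND (W : Submodule F V) : Prop :=
  ∀ w ∈ W, w ≠ 0 → ∃ x ∈ W, QuadraticMap.polar Q x w ≠ 0

/-- orthogonal complement -/
def orth (Z : Submodule F V) : Submodule F V where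
  carrier := {w | ∀ z ∈ Z, QuadraticMap.polar Q z w = 0}
  add_mem' := by
    intro a b ha hb z hz
    rw [QuadraticMap.polar_add_right, ha z hz, hb z hz, add_zero]
  zero_mem' := by
    intro z hz
    simp
  smul_mem' := by
    intro c a ha z hz
    rw [QuadraticMap.polar_smul_right, ha z hz, smul_zero]

theorem mem_orth {Z : Submodule F V} {w : V} :
    w ∈ orth Q Z ↔ ∀ z ∈ Z, QuadraticMap.polar Q z w = 0 := Iff.rfl

theorem orth_inv {T T' : V →ₗ[F] V} (hT : ∀ v, Q (T v) = Q v) (hTT' : T * T' = 1)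
    (hT'T : T' * T = 1)
    {Z : Submodule F V} (hZ' : ∀ x ∈ Z, T' x ∈ Z) : ∀ x ∈ orth Q Z, T x ∈ orth Q Z := by
  intro x hx z hz
  have h := polar_T_left Q (isom_inv Q hT hTT') hT'T z x
  rw [← h]
  exact hx _ (hZ' z hz)

theorem cyc_dich {T T' : V →ₗ[F] V} (hT : ∀ v, Q (T v) = Q v) (hTT' : T * T' = 1)
    (hT'T : T' * T = 1)
    (hT'inv : ∀ (R : Submodule F V), (∀ x ∈ R, T x ∈ R) → ∀ x ∈ R, T' x ∈ R)
    {v : V} {f : F[X]} (hf : Irreducible f) (hfv : aeval T f v = 0) :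
    ND Q (cyc T v) ∨ ∀ z ∈ cyc T v, ∀ z' ∈ cyc T v, QuadraticMap.polar Q z z' = 0 := by
  by_cases h : ∃ w ∈ cyc T v, w ≠ 0 ∧ ∀ z ∈ cyc T v, QuadraticMap.polar Q z w = 0
  · right
    obtain ⟨w, hw, hw0, hwz⟩ := h
    have hRinv : ∀ x ∈ cyc T v ⊓ orth Q (cyc T v), T x ∈ cyc T v ⊓ orth Q (cyc T v) := by
      intro x hx
      exact ⟨cyc_inv T v x hx.1,
        orth_inv Q hT hTT' hT'T (hT'inv _ (cyc_inv T v)) x hx.2⟩
    have hv : v ∈ cyc T v ⊓ orth Q (cyc T v) := cyc_irr hf hfv hRinv ⟨hw, hwz⟩ hw0 hw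
    intro z hz z' hz'
    obtain ⟨g, rfl⟩ := hz'
    rw [QuadraticMap.polar_comm, adj Q hT hTT', QuadraticMap.polar_comm]
    exact hv.2 _ (aeval_mem (hT'inv _ (cyc_inv T v)) g hz)
  · left
    intro w hw hw0
    by_contra hcon
    push Not at hcon
    exact h ⟨w, hw, hw0, hcon⟩

theorem iso_case [FiniteDimensional F V] {T T' : V →ₗ[F] V} (hT : ∀ v, Q (T v) = Q v)
    (hTT' : T * T' = 1) (hT'T : T' * T = 1)
    (hT'inv : ∀ (R : Submodule F V), (∀ x ∈ R, T x ∈ R) → ∀ x ∈ R, T' x ∈ R)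
    (hss : Module.End.IsSemisimple T)
    {E Z : Submodule F V} (hEinv : ∀ x ∈ E, T x ∈ E) (hEnd : ND Q E) (hZE : Z ≤ E)
    (hZinv : ∀ x ∈ Z, T x ∈ Z) (hZ0 : Z ≠ ⊥)
    (hZiso : ∀ z ∈ Z, ∀ z' ∈ Z, QuadraticMap.polar Q z z' = 0) :
    ∃ E₀ : Submodule F V, E₀ ≤ E ∧ E₀ ≠ ⊥ ∧ (∀ x ∈ E₀, T x ∈ E₀) ∧ ND Q E₀ ∧
      Module.finrank F E₀ ≤ 2 * Module.finrank F Z := by
  have hP : orth Q Z ⊓ E ∈ Module.End.invtSubmodule T := by
    rw [Module.End.mem_invtSubmodule_iff_forall_mem_of_mem]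
    intro x hx
    exact ⟨orth_inv Q hT hTT' hT'T (hT'inv Z hZinv) x hx.1, hEinv x hx.2⟩
  obtain ⟨q, hq, hPq⟩ := (Module.End.isSemisimple_iff.mp hss) _ hP
  rw [Module.End.mem_invtSubmodule_iff_forall_mem_of_mem] at hq
  have h1 : ∀ x ∈ q ⊓ E, x ∈ orth Q Z → x = 0 := by
    intro x hx hxo
    exact Submodule.disjoint_def.mp hPq.disjoint x ⟨hxo, hx.2⟩ hx.1
  have h2 : ∀ e ∈ E, ∃ a ∈ orth Q Z ⊓ E, ∃ b ∈ q ⊓ E, e = a + b := by
    intro e he
    have hmem : e ∈ (orth Q Z ⊓ E) ⊔ q := by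
      rw [hPq.codisjoint.eq_top]; exact Submodule.mem_top
    obtain ⟨a, ha, b, hb, hab⟩ := Submodule.mem_sup.mp hmem
    refine ⟨a, ha, b, ⟨hb, ?_⟩, hab.symm⟩
    have : b = e - a := by rw [← hab]; abel
    rw [this]
    exact E.sub_mem he ha.2
  have hdim : Module.finrank F (q ⊓ E : Submodule F V) ≤ Module.finrank F Z := by
    let φ : (q ⊓ E : Submodule F V) →ₗ[F] Module.Dual F Z :=
      (QuadraticMap.polarBilin Q).domRestrict₁₂ (q ⊓ E) Z
    have hφ : Function.Injective φ := by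
      rw [injective_iff_map_eq_zero]
      intro x hx
      have hx0 : (x : V) = 0 := by
        apply h1 x x.2
        intro z hz
        have := congrArg (fun ψ : Module.Dual F Z => ψ ⟨z, hz⟩) hx
        simp only [φ, LinearMap.domRestrict₁₂_apply, QuadraticMap.polarBilin_apply_apply,
          LinearMap.zero_apply] at this
        rw [QuadraticMap.polar_comm]
        exact this
      exact Subtype.ext hx0
    calc Module.finrank F (q ⊓ E : Submodule F V) ≤ Module.finrank F (Module.Dual F Z) :=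
          LinearMap.finrank_le_finrank_of_injective hφ
      _ = Module.finrank F Z := Subspace.dual_finrank_eq
  refine ⟨Z ⊔ (q ⊓ E), sup_le hZE inf_le_right, ne_bot_of_le_ne_bot hZ0 le_sup_left, ?_, ?_, ?_⟩
  · intro x hx
    obtain ⟨a, ha, b, hb, rfl⟩ := Submodule.mem_sup.mp hx
    rw [map_add]
    exact Submodule.add_mem _ (Submodule.mem_sup_left (hZinv a ha))
      (Submodule.mem_sup_right ⟨hq b hb.1, hEinv b hb.2⟩)
  · intro w hw hw0
    by_contra hcon
    push Not at hcon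
    obtain ⟨z, hz, z', hz', rfl⟩ := Submodule.mem_sup.mp hw
    have hz'0 : z' = 0 := by
      apply h1 z' hz'
      intro z₀ hz₀
      have := hcon z₀ (Submodule.mem_sup_left hz₀)
      rw [QuadraticMap.polar_add_right, hZiso z₀ hz₀ z hz, zero_add] at this
      exact this
    subst hz'0
    rw [add_zero] at hw0 hcon
    obtain ⟨x, hxE, hx⟩ := hEnd z (hZE hz) hw0
    obtain ⟨a, ha, b, hb, rfl⟩ := h2 x hxE
    apply hx
    rw [QuadraticMap.polar_add_left, hcon b (Submodule.mem_sup_right hb), add_zero,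
      QuadraticMap.polar_comm]
    exact ha.1 z hz
  · calc Module.finrank F (Z ⊔ (q ⊓ E) : Submodule F V)
        ≤ Module.finrank F Z + Module.finrank F (q ⊓ E : Submodule F V) :=
          Submodule.finrank_add_le_finrank_add_finrank _ _
      _ ≤ 2 * Module.finrank F Z := by omega

theorem sd_case {T T' : V →ₗ[F] V} (hT : ∀ v, Q (T v) = Q v) (hTT' : T * T' = 1)
    {E : Submodule F V} (hEinv : ∀ x ∈ E, T x ∈ E) (hEnd : ND Q E)
    {f h : F[X]} (hcop : IsCoprime f h) (hfh : aeval T (f * h) = 0)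
    (hsd : ∀ w, aeval T f w = 0 → aeval T' f w = 0)
    {u₁ : V} (hu₁ : u₁ ∈ E) (hu₁0 : u₁ ≠ 0) (hfu : aeval T f u₁ = 0) :
    ∃ v ∈ E, aeval T f v = 0 ∧ Q v ≠ 0 := by
  have key : ∀ w ∈ E, aeval T f w = 0 → w ≠ 0 →
      ∃ k ∈ E, aeval T f k = 0 ∧ QuadraticMap.polar Q k w ≠ 0 := by
    intro w hwE hfw hw0
    obtain ⟨x, hxE, hx⟩ := hEnd w hwE hw0
    obtain ⟨a, b, hab⟩ := hcop
    have hxdec : x = aeval T f (aeval T a x) + aeval T (b * h) x := by
      have h' := congrArg (fun P => aeval T P x) hab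
      simp only [map_add, map_one, LinearMap.add_apply, Module.End.one_apply] at h'
      rw [mul_comm a f, map_mul, Module.End.mul_apply] at h'
      exact h'.symm
    refine ⟨aeval T (b * h) x, aeval_mem hEinv _ hxE, ?_, ?_⟩
    · rw [← Module.End.mul_apply, ← map_mul]
      have : f * (b * h) = b * (f * h) := by ring
      rw [this, map_mul, hfh, mul_zero, LinearMap.zero_apply]
    · intro h0
      apply hx
      rw [hxdec, QuadraticMap.polar_add_left, h0, add_zero, adj Q hT hTT', hsd w hfw]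
      simp
  by_contra hall
  push Not at hall
  obtain ⟨k, hkE, hfk, hk⟩ := key u₁ hu₁ hfu hu₁0
  apply hk
  have h3 : aeval T f (k + u₁) = 0 := by rw [map_add, hfk, hfu, add_zero]
  rw [QuadraticMap.polar, hall _ (E.add_mem hkE hu₁) h3, hall k hkE hfk, hall u₁ hu₁ hfu]
  simp

theorem pow_card_pow_eq_expand [Fintype F] (g : F[X]) (k : ℕ) :
    g ^ (Fintype.card F ^ k) = expand F (Fintype.card F ^ k) g := by
  induction k with
  | zero => simp
  | succ k ih =>
    rw [pow_succ, pow_mul, ih, ← FiniteField.expand_card, Polynomial.expand_expand, mul_comm]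

theorem aeval_pow_card_pow [Fintype F] (T : V →ₗ[F] V) (g : F[X]) (k : ℕ) :
    aeval (T ^ (Fintype.card F ^ k)) g = (aeval T g) ^ (Fintype.card F ^ k) := by
  rw [← expand_aeval, ← pow_card_pow_eq_expand, map_pow]

/-- some irreducible factor of a product kills a nonzero vector of `E` -/
theorem exists_factor {T : V →ₗ[F] V} {E : Submodule F V} (hEinv : ∀ x ∈ E, T x ∈ E)
    (s : Multiset F[X]) :
    ∀ u ∈ E, u ≠ 0 → aeval T s.prod u = 0 → ∃ f ∈ s, ∃ u₁ ∈ E, u₁ ≠ 0 ∧ aeval T f u₁ = 0 := by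
  induction s using Multiset.induction with
  | empty =>
    intro u hu hu0 h
    simp at h
    exact absurd h hu0
  | cons a s ih =>
    intro u hu hu0 h
    rw [Multiset.prod_cons, map_mul, Module.End.mul_apply] at h
    by_cases h0 : aeval T s.prod u = 0
    · obtain ⟨f, hf, u₁, hu₁, hu₁0, hfu⟩ := ih u hu hu0 h0
      exact ⟨f, Multiset.mem_cons_of_mem hf, u₁, hu₁, hu₁0, hfu⟩
    · exact ⟨a, Multiset.mem_cons_self a s, _, aeval_mem hEinv _ hu, h0, h⟩

end general

section main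

open Cfsg.Agent.Lib.helper45

theorem nd_of_ND {F : Type*} [Field F] {ι : Type} [Fintype ι] [DecidableEq ι]
    (Q : QuadraticForm F (ι → F)) (W : Submodule F (ι → F)) (h : ND Q W) :
    Cfsg.Geo.IsNondegenerateOn (QuadraticMap.polar ⇑Q) W := by
  intro w hw hw0
  obtain ⟨x, hx, hxw⟩ := h w hw hw0
  exact ⟨⟨x, hx, hxw⟩, ⟨x, hx, by rwa [QuadraticMap.polar_comm]⟩⟩

theorem ot_min_aux {F : Type*} [Field F] [Fintype F] {p : ℕ} [Fact p.Prime] [CharP F p]
    {ι : Type} [Fintype ι] [DecidableEq ι]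
    (h2 : (2 : F) ≠ 0) (Q : QuadraticForm F (ι → F)) (T : (ι → F) →ₗ[F] (ι → F))
    (hT : ∀ v, Q (T v) = Q v) (r : ℕ) [Fact r.Prime] (hrp : r ≠ p) (hTr : T ^ r = 1)
    (i c : ℕ) (hi : i = orderOf ((Fintype.card F : ℕ) : ZMod r))
    (hc : c = if Even i then i else 2 * i)
    (E : Submodule F (ι → F)) (hE0 : E ≠ ⊥) (hEinv : E.map T ≤ E)
    (hEnd : Cfsg.Geo.IsNondegenerateOn (QuadraticMap.polar ⇑Q) E) :
    ∃ E₀ : Submodule F (ι → F), E₀ ≤ E ∧ E₀ ≠ ⊥ ∧ E₀.map T ≤ E₀ ∧
      Cfsg.Geo.IsNondegenerateOn (QuadraticMap.polar ⇑Q) E₀ ∧ Module.finrank F E₀ ≤ c := by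
  classical
  have hr : r.Prime := Fact.out
  have hEinv' : ∀ x ∈ E, T x ∈ E := fun x hx => hEinv (Submodule.mem_map_of_mem hx)
  have hEnd' : ND Q E := fun w hw hw0 => (hEnd w hw hw0).1
  obtain ⟨T', hT'def⟩ : ∃ T' : (ι → F) →ₗ[F] (ι → F), T' = T ^ (r - 1) := ⟨_, rfl⟩
  have hTT' : T * T' = 1 := by rw [hT'def, ← pow_succ', Nat.sub_add_cancel hr.one_le, hTr]
  have hT'T : T' * T = 1 := by rw [hT'def, ← pow_succ, Nat.sub_add_cancel hr.one_le, hTr]
  have hT'inv : ∀ (R : Submodule F (ι → F)), (∀ x ∈ R, T x ∈ R) → ∀ x ∈ R, T' x ∈ R := by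
    intro R hR x hx
    rw [hT'def]
    exact pow_mem hR (r - 1) hx
  have hrF : ((r : ℕ) : F) ≠ 0 := natCast_ne_zero_of_charP p hrp F
  have hsep : (X ^ r - C (1 : F)).Separable := separable_X_pow_sub_C 1 hrF one_ne_zero
  have hann : aeval T (X ^ r - C (1 : F)) = 0 := by simp [hTr]
  have hss : Module.End.IsSemisimple T :=
    Module.End.isSemisimple_of_squarefree_aeval_eq_zero hsep.squarefree hann
  have hne : (X ^ r - C (1 : F)) ≠ 0 := hsep.ne_zero
  obtain ⟨u, huE, hu0⟩ := (Submodule.ne_bot_iff E).mp hE0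
  obtain ⟨f, hfmem, u₁, hu₁E, hu₁0, hfu⟩ :
      ∃ f ∈ UniqueFactorizationMonoid.normalizedFactors (X ^ r - C (1 : F)),
        ∃ u₁ ∈ E, u₁ ≠ 0 ∧ aeval T f u₁ = 0 := by
    apply exists_factor hEinv' _ u huE hu0
    obtain ⟨d, hd⟩ := (UniqueFactorizationMonoid.prod_normalizedFactors hne).symm.dvd
    rw [hd, map_mul, hann, zero_mul, LinearMap.zero_apply]
  have hfirr : Irreducible f := UniqueFactorizationMonoid.irreducible_of_normalized_factor f hfmem
  have hfmon : f.Monic := by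
    rw [← UniqueFactorizationMonoid.normalize_normalized_factor f hfmem]
    exact monic_normalize hfirr.ne_zero
  have hfdvd : f ∣ X ^ r - C (1 : F) :=
    UniqueFactorizationMonoid.dvd_of_mem_normalizedFactors hfmem
  have hipos : 0 < i := by rw [hi]; exact (card_field_isOfFinOrder p hrp).orderOf_pos
  have hfcases : f = X - C 1 ∨ f ∈ cycFactors r F := by
    apply mem_cycFactors_or_of_dvd_pow hfirr hfmon (k := 1)
    rw [pow_one]
    simpa using hfdvd
  have hZle := cyc_le hEinv' hu₁E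
  have hZ0 : cyc T u₁ ≠ ⊥ := by
    intro h
    have := self_mem_cyc T u₁
    rw [h] at this
    exact hu₁0 (by simpa using this)
  have hZdim := cyc_finrank_le hfmon hfirr.ne_one hfu
  have fin : ∀ E₀ : Submodule F (ι → F), E₀ ≤ E → E₀ ≠ ⊥ → (∀ x ∈ E₀, T x ∈ E₀) → ND Q E₀ →
      Module.finrank F E₀ ≤ c →
      ∃ E₀ : Submodule F (ι → F), E₀ ≤ E ∧ E₀ ≠ ⊥ ∧ E₀.map T ≤ E₀ ∧
      Cfsg.Geo.IsNondegenerateOn (QuadraticMap.polar ⇑Q) E₀ ∧ Module.finrank F E₀ ≤ c := by
    intro E₀ h1 h2 h3 h4 h5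
    refine ⟨E₀, h1, h2, ?_, nd_of_ND Q E₀ h4, h5⟩
    rintro _ ⟨x, hx, rfl⟩
    exact h3 x hx
  by_cases hcase : Even i ∧ f ∈ cycFactors r F
  · obtain ⟨hev, hfc⟩ := hcase
    have hdeg : f.natDegree = i := by rw [hi]; exact cycFactors_natDegree p hrp hfc
    have hci : c = i := by rw [hc, if_pos hev]
    obtain ⟨m, hm⟩ := hev
    have hqm : ((Fintype.card F : ℕ) : ZMod r) ^ m = -1 := by
      have h1 : ((Fintype.card F : ℕ) : ZMod r) ^ m * ((Fintype.card F : ℕ) : ZMod r) ^ m = 1 := by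
        rw [← pow_add, ← hm, hi]
        exact pow_orderOf_eq_one _
      rcases mul_self_eq_one_iff.mp h1 with h | h
      · exfalso
        have hdvd := orderOf_dvd_of_pow_eq_one h
        rw [← hi] at hdvd
        have := Nat.le_of_dvd (by omega) hdvd
        omega
      · exact h
    have hTs : T ^ (Fintype.card F ^ m) = T' := by
      have h0 : (((Fintype.card F ^ m + 1 : ℕ)) : ZMod r) = 0 := by
        push_cast
        rw [hqm]
        ring
      obtain ⟨t, ht⟩ := (ZMod.natCast_eq_zero_iff _ _).mp h0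
      have h1 : T ^ (Fintype.card F ^ m) * T = 1 := by
        rw [← pow_succ, ht, pow_mul, hTr, one_pow]
      calc T ^ (Fintype.card F ^ m) = T ^ (Fintype.card F ^ m) * (T * T') := by
            rw [hTT', mul_one]
        _ = T' := by rw [← mul_assoc, h1, one_mul]
    have hsd : ∀ w, aeval T f w = 0 → aeval T' f w = 0 := by
      intro w hw
      rw [← hTs, aeval_pow_card_pow]
      have hpos : 0 < Fintype.card F ^ m := pow_pos Fintype.card_pos m
      obtain ⟨n, hn⟩ := Nat.exists_eq_succ_of_ne_zero hpos.ne'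
      rw [hn, pow_succ, Module.End.mul_apply, hw, map_zero]
    obtain ⟨h, hh⟩ := hfdvd
    have hcop : IsCoprime f h := (hh ▸ hsep).isCoprime
    obtain ⟨v, hvE, hfv, hQv⟩ :=
      sd_case Q hT hTT' hEinv' hEnd' hcop (hh ▸ hann) hsd hu₁E hu₁0 hfu
    rcases cyc_dich Q hT hTT' hT'T hT'inv hfirr hfv with hnd | hiso
    · refine fin (cyc T v) (cyc_le hEinv' hvE) ?_ (cyc_inv T v) hnd ?_
      · intro h'
        have := self_mem_cyc T v
        rw [h'] at this
        have hv0 : v = 0 := by simpa using this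
        rw [hv0, map_zero] at hQv
        exact hQv rfl
      · rw [hci, ← hdeg]
        exact cyc_finrank_le hfmon hfirr.ne_one hfv
    · exfalso
      have h3 := hiso v (self_mem_cyc T v) v (self_mem_cyc T v)
      rw [QuadraticMap.polar_self, two_smul] at h3
      have h4 : (2 : F) * Q v = 0 := by rw [two_mul]; exact h3
      rcases mul_eq_zero.mp h4 with h5 | h5
      · exact h2 h5
      · exact hQv h5
  · have hdeg2 : 2 * f.natDegree ≤ c := by
      rcases hfcases with rfl | hfc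
      · rw [natDegree_X_sub_C, hc]
        split_ifs with hev
        · obtain ⟨m, hm⟩ := hev
          omega
        · omega
      · have hdeg : f.natDegree = i := by rw [hi]; exact cycFactors_natDegree p hrp hfc
        have hodd : ¬ Even i := fun hev => hcase ⟨hev, hfc⟩
        rw [hc, if_neg hodd, hdeg]
    rcases cyc_dich Q hT hTT' hT'T hT'inv hfirr hfu with hnd | hiso
    · exact fin (cyc T u₁) hZle hZ0 (cyc_inv T u₁) hnd (by omega)
    · obtain ⟨E₀, h1, h2', h3, h4, h5⟩ :=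
        iso_case Q hT hTT' hT'T hT'inv hss hEinv' hEnd' hZle (cyc_inv T u₁) hZ0 hiso
      exact fin E₀ h1 h2' h3 h4 (by omega)

end main

end Cfsg.Agent.Lib.helper79.OtA

namespace Cfsg.Agent.Lib.helper79

/-- PIECE A. A nonzero nondegenerate `T`-invariant subspace contains a nonzero nondegenerate
`T`-invariant subspace of dimension `≤ c`. -/
theorem ot_min {F : Type*} [Field F] [Fintype F] {p : ℕ} [Fact p.Prime] [CharP F p]
    {ι : Type} [Fintype ι] [DecidableEq ι]
    (h2 : (2 : F) ≠ 0) (Q : QuadraticForm F (ι → F)) (T : (ι → F) →ₗ[F] (ι → F))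
    (hT : ∀ v, Q (T v) = Q v) (r : ℕ) [Fact r.Prime] (hrp : r ≠ p) (hTr : T ^ r = 1)
    (i c : ℕ) (hi : i = orderOf ((Fintype.card F : ℕ) : ZMod r))
    (hc : c = if Even i then i else 2 * i)
    (E : Submodule F (ι → F)) (hE0 : E ≠ ⊥) (hEinv : E.map T ≤ E)
    (hEnd : Cfsg.Geo.IsNondegenerateOn (QuadraticMap.polar ⇑Q) E) :
    ∃ E₀ : Submodule F (ι → F), E₀ ≤ E ∧ E₀ ≠ ⊥ ∧ E₀.map T ≤ E₀ ∧
      Cfsg.Geo.IsNondegenerateOn (QuadraticMap.polar ⇑Q) E₀ ∧ Module.finrank F E₀ ≤ c :=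
  OtA.ot_min_aux h2 Q T hT r hrp hTr i c hi hc E hE0 hEinv hEnd

end Cfsg.Agent.Lib.helper79
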