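import Mathlib
import Cfsg.Prelude.Def_GeometricClasses
import Cfsg.Prelude.Def_Classical
import Cfsg.Agent.Lib.helper79.OtA

set_option autoImplicit false

namespace Cfsg.Agent.Lib.helper79.OtA

section general

variable {F : Type*} [Field F] {V : Type*} [AddCommGroup V] [Module F V] (Q : QuadraticForm F V)

/-- orthogonal projection onto a nondegenerate subspace -/
theorem nd_decomp [FiniteDimensional F V] (W : Submodule F V) (hW : ND Q W) (c : V) :
    ∃ w ∈ W, c - w ∈ orth Q W := by
  let φ : W →ₗ[F] Module.Dual F W := (QuadraticMap.polarBilin Q).domRestrict₁₂ W W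
  have hφ : Function.Injective φ := by
    rw [injective_iff_map_eq_zero]
    intro x hx
    by_contra hx0
    have hx0' : (x : V) ≠ 0 := fun h => hx0 (Subtype.ext h)
    obtain ⟨z, hz, hzx⟩ := hW x x.2 hx0'
    apply hzx
    have := congrArg (fun ψ : Module.Dual F W => ψ ⟨z, hz⟩) hx
    simp only [φ, LinearMap.domRestrict₁₂_apply, QuadraticMap.polarBilin_apply_apply,
      LinearMap.zero_apply] at this
    rw [QuadraticMap.polar_comm]
    exact this
  have hsurj : Function.Surjective φ :=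
    (LinearMap.injective_iff_surjective_of_finrank_eq_finrank
      (Subspace.dual_finrank_eq (K := F) (V := W)).symm).mp hφ
  obtain ⟨w, hw⟩ := hsurj ((QuadraticMap.polarBilin Q c).domRestrict W)
  refine ⟨w, w.2, ?_⟩
  intro z hz
  have := congrArg (fun ψ : Module.Dual F W => ψ ⟨z, hz⟩) hw
  simp only [φ, LinearMap.domRestrict₁₂_apply, QuadraticMap.polarBilin_apply_apply,
    LinearMap.domRestrict_apply] at this
  rw [QuadraticMap.polar_sub_right, QuadraticMap.polar_comm Q z c,
    QuadraticMap.polar_comm Q z w, this, sub_self]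

/-- a nondegenerate proper subspace of a nondegenerate subspace has an anisotropic vector in its
orthogonal complement -/
theorem exists_aniso_orth [FiniteDimensional F V] (C W : Submodule F V) (hC : ND Q C)
    (hW : ND Q W) (hWC : W ≤ C) (hne : W ≠ C) : ∃ v ∈ C, v ∈ orth Q W ∧ Q v ≠ 0 := by
  obtain ⟨c, hcC, hcW⟩ := SetLike.exists_of_lt (lt_of_le_of_ne hWC hne)
  obtain ⟨w, hw, hd⟩ := nd_decomp Q W hW c
  have hdC : c - w ∈ C := C.sub_mem hcC (hWC hw)
  have hd0 : c - w ≠ 0 := by
    intro h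
    rw [sub_eq_zero] at h
    exact hcW (h ▸ hw)
  obtain ⟨x, hxC, hx⟩ := hC (c - w) hdC hd0
  obtain ⟨w', hw', hd'⟩ := nd_decomp Q W hW x
  have hd'C : x - w' ∈ C := C.sub_mem hxC (hWC hw')
  have hpol : QuadraticMap.polar Q (x - w') (c - w) ≠ 0 := by
    rw [QuadraticMap.polar_sub_left, hd w' hw', sub_zero]
    exact hx
  by_contra hall
  push Not at hall
  apply hpol
  rw [QuadraticMap.polar, hall _ (C.add_mem hd'C hdC) ((orth Q W).add_mem hd' hd),
    hall _ hd'C hd', hall _ hdC hd]
  simp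

theorem nd_sup_span [FiniteDimensional F V] (h2 : (2 : F) ≠ 0) (W : Submodule F V) (hW : ND Q W)
    (v : V) (hv : v ∈ orth Q W) (hQv : Q v ≠ 0) :
    ND Q (W ⊔ Submodule.span F {v}) ∧
      Module.finrank F (W ⊔ Submodule.span F {v} : Submodule F V) = Module.finrank F W + 1 := by
  have hvv : QuadraticMap.polar Q v v ≠ 0 := by
    rw [QuadraticMap.polar_self, two_smul, ← two_mul]
    exact mul_ne_zero h2 hQv
  have hv0 : v ≠ 0 := by
    rintro rfl
    exact hQv (map_zero Q)
  have hvW : v ∉ W := by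
    intro hvW
    obtain ⟨x, hx, hxv⟩ := hW v hvW hv0
    exact hxv (hv x hx)
  constructor
  · intro w hw hw0
    obtain ⟨w₁, hw₁, y, hy, rfl⟩ := Submodule.mem_sup.mp hw
    obtain ⟨c, rfl⟩ := Submodule.mem_span_singleton.mp hy
    by_cases hc : c = 0
    · subst hc
      rw [zero_smul, add_zero] at hw0 ⊢
      obtain ⟨x, hx, hxw⟩ := hW w₁ hw₁ hw0
      exact ⟨x, Submodule.mem_sup_left hx, hxw⟩
    · refine ⟨v, Submodule.mem_sup_right (Submodule.mem_span_singleton_self v), ?_⟩
      rw [QuadraticMap.polar_add_right, QuadraticMap.polar_smul_right,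
        QuadraticMap.polar_comm Q v w₁, hv w₁ hw₁, zero_add, smul_eq_mul]
      exact mul_ne_zero hc hvv
  · have h1 := Submodule.finrank_sup_add_finrank_inf_eq W (Submodule.span F {v})
    have h3 : W ⊓ Submodule.span F {v} = ⊥ :=
      disjoint_iff.mp ((Submodule.disjoint_span_singleton' hv0).mpr hvW)
    rw [h3, finrank_bot, add_zero, finrank_span_singleton hv0] at h1
    exact h1

theorem nd_sub_aux [FiniteDimensional F V] (h2 : (2 : F) ≠ 0) (C : Submodule F V) (hC : ND Q C)
    (a : ℕ) (ha : a ≤ Module.finrank F C) :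
    ∃ W : Submodule F V, W ≤ C ∧ Module.finrank F W = a ∧ ND Q W := by
  induction a with
  | zero =>
    refine ⟨⊥, bot_le, finrank_bot F V, ?_⟩
    intro w hw hw0
    exact absurd ((Submodule.mem_bot F).mp hw) hw0
  | succ a ih =>
    obtain ⟨W, hWC, hWa, hWnd⟩ := ih (by omega)
    have hne : W ≠ C := by
      rintro rfl
      omega
    obtain ⟨v, hvC, hvo, hQv⟩ := exists_aniso_orth Q C W hC hWnd hWC hne
    obtain ⟨h3, h4⟩ := nd_sup_span Q h2 W hWnd v hvo hQv
    refine ⟨W ⊔ Submodule.span F {v}, sup_le hWC ?_, by rw [h4, hWa], h3⟩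
    rw [Submodule.span_singleton_le_iff_mem]
    exact hvC

end general

end Cfsg.Agent.Lib.helper79.OtA

namespace Cfsg.Agent.Lib.helper79

/-- PIECE B'. Nondegenerate subspaces of every dimension inside a nondegenerate subspace. -/
theorem ot_nd_sub {F : Type*} [Field F] {ι : Type} [Fintype ι] [DecidableEq ι]
    (h2 : (2 : F) ≠ 0) (Q : QuadraticForm F (ι → F)) (C : Submodule F (ι → F))
    (hC : Cfsg.Geo.IsNondegenerateOn (QuadraticMap.polar ⇑Q) C) (a : ℕ)
    (ha : a ≤ Module.finrank F C) :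
    ∃ W : Submodule F (ι → F), W ≤ C ∧ Module.finrank F W = a ∧
      Cfsg.Geo.IsNondegenerateOn (QuadraticMap.polar ⇑Q) W := by
  obtain ⟨W, h1, h3, h4⟩ :=
    OtA.nd_sub_aux Q h2 C (fun w hw hw0 => (hC w hw hw0).1) a ha
  exact ⟨W, h1, h3, OtA.nd_of_ND Q W h4⟩

end Cfsg.Agent.Lib.helper79
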