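import Mathlib
import Cfsg.Prelude.Def_GeometricClasses
import Cfsg.Prelude.Def_Classical
import Cfsg.Agent.Lib.helper79.OtBp
import Cfsg.Agent.Lib.helper49.Eichler

set_option autoImplicit false

namespace Cfsg.Agent.Lib.helper79.OtA

section general

variable {F : Type*} [Field F] {V : Type*} [AddCommGroup V] [Module F V] (Q : QuadraticForm F V)

theorem hyp_pair (C : Submodule F V) (hC : ND Q C) (e : V) (heC : e ∈ C) (he0 : e ≠ 0)
    (hQe : Q e = 0) : ∃ f ∈ C, Q f = 0 ∧ QuadraticMap.polar Q e f = 1 := by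
  obtain ⟨x, hxC, hx⟩ := hC e heC he0
  have hee : QuadraticMap.polar Q e e = 0 := by
    rw [QuadraticMap.polar_self, hQe, smul_zero]
  have hx1 : QuadraticMap.polar Q e ((QuadraticMap.polar Q x e)⁻¹ • x) = 1 := by
    rw [QuadraticMap.polar_smul_right, QuadraticMap.polar_comm Q e x, smul_eq_mul,
      inv_mul_cancel₀ hx]
  obtain ⟨y, hy⟩ : ∃ y : V, y = (QuadraticMap.polar Q x e)⁻¹ • x := ⟨_, rfl⟩
  rw [← hy] at hx1
  have hyC : y ∈ C := by rw [hy]; exact C.smul_mem _ hxC
  refine ⟨y + (-(Q y)) • e, C.add_mem hyC (C.smul_mem _ heC), ?_, ?_⟩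
  · rw [QuadraticMap.map_add (⇑Q), QuadraticMap.map_smul, hQe, QuadraticMap.polar_smul_right,
      QuadraticMap.polar_comm Q y e, hx1]
    simp
  · rw [QuadraticMap.polar_add_right, QuadraticMap.polar_smul_right, hee, hx1]
    simp

theorem pair_finrank (x y : V) (h : ∀ s t : F, s • x + t • y = 0 → s = 0 ∧ t = 0) :
    Module.finrank F (Submodule.span F ({x, y} : Set V)) = 2 := by
  have hli : LinearIndependent F ![x, y] := LinearIndependent.pair_iff.mpr h
  have := finrank_span_eq_card hli
  rw [Matrix.range_cons_cons_empty] at this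
  rw [this]
  simp

theorem plane_plus [FiniteDimensional F V] (e f : V) (hQe : Q e = 0) (hQf : Q f = 0)
    (hef : QuadraticMap.polar Q e f = 1) :
    Module.finrank F (Submodule.span F ({e, f} : Set V)) = 2 ∧
      ND Q (Submodule.span F ({e, f} : Set V)) := by
  have hee : QuadraticMap.polar Q e e = 0 := by
    rw [QuadraticMap.polar_self, hQe, smul_zero]
  have hff : QuadraticMap.polar Q f f = 0 := by
    rw [QuadraticMap.polar_self, hQf, smul_zero]
  have hfe : QuadraticMap.polar Q f e = 1 := by rw [QuadraticMap.polar_comm]; exact hef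
  have h1 : ∀ a b : F, QuadraticMap.polar Q e (a • e + b • f) = b := by
    intro a b
    rw [QuadraticMap.polar_add_right, QuadraticMap.polar_smul_right,
      QuadraticMap.polar_smul_right, hee, hef]
    simp
  have h2 : ∀ a b : F, QuadraticMap.polar Q f (a • e + b • f) = a := by
    intro a b
    rw [QuadraticMap.polar_add_right, QuadraticMap.polar_smul_right,
      QuadraticMap.polar_smul_right, hff, hfe]
    simp
  constructor
  · apply pair_finrank
    intro s t hst
    have h3 := h1 s t
    have h4 := h2 s t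
    rw [hst] at h3 h4
    simp only [QuadraticMap.polar_zero_right] at h3 h4
    exact ⟨h4.symm, h3.symm⟩
  · intro w hw hw0
    obtain ⟨a, b, rfl⟩ := Submodule.mem_span_pair.mp hw
    by_cases hb : b = 0
    · have ha : a ≠ 0 := by
        rintro rfl
        apply hw0
        rw [hb]
        simp
      exact ⟨f, Submodule.subset_span (by simp), by rw [h2]; exact ha⟩
    · exact ⟨e, Submodule.subset_span (by simp), by rw [h1]; exact hb⟩

theorem plane_minus [FiniteDimensional F V] (h2 : (2 : F) ≠ 0) (w u : V) (η : F)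
    (hη : ¬ IsSquare η) (hQw : Q w ≠ 0)
    (hform : ∀ x y : F, Q (x • w + y • u) = Q w * (x * x - η * (y * y))) :
    Module.finrank F (Submodule.span F ({w, u} : Set V)) = 2 ∧
      ND Q (Submodule.span F ({w, u} : Set V)) ∧
      ∀ z ∈ Submodule.span F ({w, u} : Set V), Q z = 0 → z = 0 := by
  have key : ∀ x y : F, Q (x • w + y • u) = 0 → x = 0 ∧ y = 0 := by
    intro x y hxy
    rw [hform] at hxy
    have h1 : x * x - η * (y * y) = 0 := by
      rcases mul_eq_zero.mp hxy with h | h
      · exact absurd h hQw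
      · exact h
    have hy : y = 0 := by
      by_contra hy
      apply hη
      refine ⟨x / y, ?_⟩
      field_simp
      linear_combination -h1
    subst hy
    simp only [mul_zero, sub_zero, mul_self_eq_zero] at h1
    exact ⟨h1, rfl⟩
  have haniso : ∀ z ∈ Submodule.span F ({w, u} : Set V), Q z = 0 → z = 0 := by
    intro z hz hQz
    obtain ⟨a, b, rfl⟩ := Submodule.mem_span_pair.mp hz
    obtain ⟨ha, hb⟩ := key a b hQz
    rw [ha, hb]
    simp
  refine ⟨?_, ?_, haniso⟩
  · apply pair_finrank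
    intro s t hst
    exact key s t (by rw [hst, map_zero])
  · intro z hz hz0
    refine ⟨z, hz, ?_⟩
    rw [QuadraticMap.polar_self, two_smul, ← two_mul]
    exact mul_ne_zero h2 (fun h => hz0 (haniso z hz h))

end general

end Cfsg.Agent.Lib.helper79.OtA

namespace Cfsg.Agent.Lib.helper79

open OtA in
/-- PIECE B. A nondegenerate subspace of dimension `≥ 3` contains nondegenerate planes of both
types. -/
theorem ot_planes {F : Type*} [Field F] [Fintype F] {ι : Type} [Fintype ι] [DecidableEq ι]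
    (h2 : (2 : F) ≠ 0) (Q : QuadraticForm F (ι → F)) (C : Submodule F (ι → F))
    (hC : Cfsg.Geo.IsNondegenerateOn (QuadraticMap.polar ⇑Q) C) (h3 : 3 ≤ Module.finrank F C) :
    (∃ P : Submodule F (ι → F), P ≤ C ∧ Module.finrank F P = 2 ∧
      Cfsg.Geo.IsNondegenerateOn (QuadraticMap.polar ⇑Q) P ∧ Cfsg.Geo.IsPlusTypeOn ⇑Q P) ∧
    (∃ P : Submodule F (ι → F), P ≤ C ∧ Module.finrank F P = 2 ∧
      Cfsg.Geo.IsNondegenerateOn (QuadraticMap.polar ⇑Q) P ∧ ¬ Cfsg.Geo.IsPlusTypeOn ⇑Q P) := by
  have hC' : ND Q C := fun w hw hw0 => (hC w hw hw0).1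
  obtain ⟨v, hv0, hQv⟩ :=
    Cfsg.Agent.Lib.helper49.exists_singular_of_three_le_finrank (Q.comp C.subtype) h3
  have he0 : (v : ι → F) ≠ 0 := fun h => hv0 (Subtype.ext h)
  have hQe : Q (v : ι → F) = 0 := hQv
  obtain ⟨f, hfC, hQf, hef⟩ := hyp_pair Q C hC' v v.2 he0 hQe
  obtain ⟨hP1dim, hP1nd⟩ := plane_plus Q (v : ι → F) f hQe hQf hef
  have hP1C : Submodule.span F ({(v : ι → F), f} : Set (ι → F)) ≤ C := by
    rw [Submodule.span_le]
    intro x hx
    rcases hx with rfl | rfl
    · exact v.2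
    · exact hfC
  have hne : Submodule.span F ({(v : ι → F), f} : Set (ι → F)) ≠ C := by
    intro h
    rw [h] at hP1dim
    omega
  obtain ⟨w, hwC, hwo, hQw⟩ := exists_aniso_orth Q C _ hC' hP1nd hP1C hne
  have hwe : QuadraticMap.polar Q w (v : ι → F) = 0 := by
    rw [QuadraticMap.polar_comm]
    exact hwo _ (Submodule.subset_span (by simp))
  have hwf : QuadraticMap.polar Q w f = 0 := by
    rw [QuadraticMap.polar_comm]
    exact hwo _ (Submodule.subset_span (by simp))
  have hchar : ringChar F ≠ 2 := by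
    intro h
    apply h2
    have := ringChar.Nat.cast_ringChar (R := F)
    rw [h] at this
    exact_mod_cast this
  obtain ⟨η, hη⟩ := FiniteField.exists_nonsquare hchar
  obtain ⟨u, hu⟩ : ∃ u : ι → F, u = (v : ι → F) + (-(η * Q w)) • f := ⟨_, rfl⟩
  have huC : u ∈ C := by rw [hu]; exact C.add_mem v.2 (C.smul_mem _ hfC)
  have hQu : Q u = -(η * Q w) := by
    rw [hu, QuadraticMap.map_add (⇑Q), QuadraticMap.map_smul, hQe, hQf,
      QuadraticMap.polar_smul_right, hef]
    simp
  have hwu : QuadraticMap.polar Q w u = 0 := by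
    rw [hu, QuadraticMap.polar_add_right, QuadraticMap.polar_smul_right, hwe, hwf]
    simp
  have hform : ∀ x y : F, Q (x • w + y • u) = Q w * (x * x - η * (y * y)) := by
    intro x y
    rw [QuadraticMap.map_add (⇑Q), QuadraticMap.map_smul, QuadraticMap.map_smul,
      QuadraticMap.polar_smul_left, QuadraticMap.polar_smul_right, hwu, hQu]
    simp only [smul_eq_mul]
    ring
  obtain ⟨hP2dim, hP2nd, hP2an⟩ := plane_minus Q h2 w u η hη hQw hform
  have hP2C : Submodule.span F ({w, u} : Set (ι → F)) ≤ C := by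
    rw [Submodule.span_le]
    intro x hx
    rcases hx with rfl | rfl
    · exact hwC
    · exact huC
  refine ⟨⟨_, hP1C, hP1dim, nd_of_ND Q _ hP1nd, ?_⟩, ⟨_, hP2C, hP2dim, nd_of_ND Q _ hP2nd, ?_⟩⟩
  · refine ⟨Submodule.span F {(v : ι → F)}, ?_, ?_, ?_⟩
    · exact Submodule.span_mono (by simp)
    · intro z hz
      obtain ⟨c, rfl⟩ := Submodule.mem_span_singleton.mp hz
      show Q (c • (v : ι → F)) = 0
      rw [QuadraticMap.map_smul, hQe, smul_zero]
    · rw [finrank_span_singleton he0, hP1dim]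
  · rintro ⟨U, hU, hts, hdim⟩
    rw [hP2dim] at hdim
    have hU1 : 0 < Module.finrank F U := by omega
    obtain ⟨z, hz⟩ := Module.finrank_pos_iff_exists_ne_zero.mp hU1
    exact hz (Subtype.ext (hP2an z (hU z.2) (hts z z.2)))

end Cfsg.Agent.Lib.helper79
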