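import Mathlib
import Cfsg.Agent.Lib.helper54.Coprime

/-!
# Groups of order `p ^ 4` (helper79)

* `index_centralizer_le_card_commutator`: `[G : C_G(x)] ≤ |G'|`.
* `card_mul_le_of_lt`: strict inclusions of subgroups of a `p`-group multiply the order by `≥ p`.
* `commutator_le_of_generators`: a normal subgroup containing the commutators of a generating set
  contains the commutator subgroup.
* `commHom`: in a group of class `≤ 2`, `y ↦ ⁅a, y⁆` is a homomorphism with kernel `C(a)`.
* `card_commutator_of_index_center`, `index_center_of_card_commutator`: for `|P| = p ^ 4`,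
  `|P'| = p ↔ [P : Z(P)] = p ^ 2`.
* `card_commutator_of_le_center`: class two and order `p ^ 4` gives `|P'| = p`.
-/

set_option autoImplicit false

namespace Cfsg.Agent.Lib.helper79

open scoped commutatorElement

variable {P : Type*} [Group P]

/-- The index of a centralizer is at most the order of the commutator subgroup. -/
theorem index_centralizer_le_card_commutator [Finite P] (x : P) :
    (Subgroup.centralizer ({x} : Set P)).index ≤ Nat.card (commutator P) := by
  have hmem : ∀ g : P, ⁅g, x⁆ ∈ commutator P := fun g =>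
    Subgroup.commutator_mem_commutator (Subgroup.mem_top g) (Subgroup.mem_top x)
  have hinj : Function.Injective
      (fun q : P ⧸ Subgroup.centralizer ({x} : Set P) =>
        (⟨⁅q.out, x⁆, hmem q.out⟩ : commutator P)) := by
    intro q q' h
    have h1 : ⁅q.out, x⁆ = ⁅q'.out, x⁆ := congrArg Subtype.val h
    rw [← QuotientGroup.out_eq' q, ← QuotientGroup.out_eq' q']
    apply QuotientGroup.eq.mpr
    rw [Subgroup.mem_centralizer_singleton_iff]
    rw [commutatorElement_def, commutatorElement_def] at h1
    have h2 : q.out * x * q.out⁻¹ = q'.out * x * q'.out⁻¹ := mul_right_cancel h1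
    calc q.out⁻¹ * q'.out * x = q.out⁻¹ * (q'.out * x * q'.out⁻¹) * q'.out := by group
      _ = q.out⁻¹ * (q.out * x * q.out⁻¹) * q'.out := by rw [h2]
      _ = x * (q.out⁻¹ * q'.out) := by group
  exact Nat.card_le_card_of_injective _ hinj

/-- Strict inclusion of subgroups of a group of prime power order multiplies the order by at
least `p`. -/
theorem card_mul_le_of_lt [Finite P] {p n : ℕ} [Fact p.Prime] (hP : Nat.card P = p ^ n)
    {H K : Subgroup P} (hHK : H < K) : Nat.card H * p ≤ Nat.card K := by
  have hdvd : Nat.card H ∣ Nat.card K := Subgroup.card_dvd_of_le hHK.le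
  obtain ⟨i, -, hi⟩ := (Nat.dvd_prime_pow Fact.out).mp (hP ▸ Subgroup.card_subgroup_dvd_card H)
  obtain ⟨j, -, hj⟩ := (Nat.dvd_prime_pow Fact.out).mp (hP ▸ Subgroup.card_subgroup_dvd_card K)
  rw [hi, hj] at hdvd ⊢
  have hij : i ≤ j := (Nat.pow_dvd_pow_iff_le_right (Fact.out : p.Prime).one_lt).mp hdvd
  have hne : i ≠ j := by
    rintro rfl
    exact hHK.ne (Subgroup.eq_of_le_of_card_ge hHK.le (by rw [hi, hj]))
  rw [← pow_succ]
  exact Nat.pow_le_pow_right (Fact.out : p.Prime).pos (by omega)

/-- In a group of order `p ^ 4`, a subgroup `D` of order at least `p ^ 2` centralizing two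
non-commuting elements `a`, `b` has order exactly `p ^ 2`, and `D`, `a`, `b` generate. -/
theorem pfour_generation [Finite P] {p : ℕ} [Fact p.Prime] (hP : Nat.card P = p ^ 4)
    (D : Subgroup P) (hD : p ^ 2 ≤ Nat.card D) (a b : P) (hab : a * b ≠ b * a)
    (hDa : D ≤ Subgroup.centralizer ({a} : Set P))
    (hDb : D ≤ Subgroup.centralizer ({b} : Set P)) :
    Nat.card D = p ^ 2 ∧ Nat.card (D ⊔ Subgroup.zpowers a : Subgroup P) = p ^ 3 ∧
      D ⊔ Subgroup.zpowers a ⊔ Subgroup.zpowers b = ⊤ := by
  have hp : 0 < p := (Fact.out : p.Prime).pos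
  have haD : a ∉ D := fun h => hab (Subgroup.mem_centralizer_singleton_iff.mp (hDb h))
  have h1 : D < D ⊔ Subgroup.zpowers a := by
    refine lt_of_le_of_ne le_sup_left ?_
    intro h
    apply haD
    rw [h]
    exact Subgroup.mem_sup_right (Subgroup.mem_zpowers a)
  have hM : D ⊔ Subgroup.zpowers a ≤ Subgroup.centralizer ({a} : Set P) := by
    apply sup_le hDa
    rw [Subgroup.zpowers_le]
    exact Subgroup.mem_centralizer_singleton_iff.mpr rfl
  have hbM : b ∉ D ⊔ Subgroup.zpowers a :=
    fun h => hab (Subgroup.mem_centralizer_singleton_iff.mp (hM h)).symm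
  have h2 : D ⊔ Subgroup.zpowers a < D ⊔ Subgroup.zpowers a ⊔ Subgroup.zpowers b := by
    refine lt_of_le_of_ne le_sup_left ?_
    intro h
    apply hbM
    rw [h]
    exact Subgroup.mem_sup_right (Subgroup.mem_zpowers b)
  have c1 := card_mul_le_of_lt hP h1
  have c2 := card_mul_le_of_lt hP h2
  have c3 : Nat.card (D ⊔ Subgroup.zpowers a ⊔ Subgroup.zpowers b : Subgroup P) ≤ p ^ 4 := by
    rw [← hP]; exact Subgroup.card_le_card_group _
  have e1 : Nat.card D ≤ p ^ 2 := by
    have : Nat.card D * (p * p) ≤ p ^ 2 * (p * p) := by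
      calc Nat.card D * (p * p) = Nat.card D * p * p := by ring
        _ ≤ Nat.card (D ⊔ Subgroup.zpowers a : Subgroup P) * p := Nat.mul_le_mul_right p c1
        _ ≤ Nat.card (D ⊔ Subgroup.zpowers a ⊔ Subgroup.zpowers b : Subgroup P) := c2
        _ ≤ p ^ 4 := c3
        _ = p ^ 2 * (p * p) := by ring
    exact Nat.le_of_mul_le_mul_right this (Nat.mul_pos hp hp)
  have e1' : Nat.card D = p ^ 2 := le_antisymm e1 hD
  have e2 : Nat.card (D ⊔ Subgroup.zpowers a : Subgroup P) = p ^ 3 := by
    apply le_antisymm
    · have : Nat.card (D ⊔ Subgroup.zpowers a : Subgroup P) * p ≤ p ^ 3 * p := by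
        calc Nat.card (D ⊔ Subgroup.zpowers a : Subgroup P) * p
            ≤ Nat.card (D ⊔ Subgroup.zpowers a ⊔ Subgroup.zpowers b : Subgroup P) := c2
          _ ≤ p ^ 4 := c3
          _ = p ^ 3 * p := by ring
      exact Nat.le_of_mul_le_mul_right this hp
    · calc p ^ 3 = p ^ 2 * p := by ring
        _ = Nat.card D * p := by rw [e1']
        _ ≤ _ := c1
  refine ⟨e1', e2, ?_⟩
  apply (Subgroup.card_eq_iff_eq_top _).mp
  rw [hP]
  apply le_antisymm c3
  calc p ^ 4 = p ^ 3 * p := by ring
    _ = Nat.card (D ⊔ Subgroup.zpowers a : Subgroup P) * p := by rw [e2]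
    _ ≤ _ := c2

/-- A normal subgroup containing all commutators of pairs from a generating set contains the
commutator subgroup. -/
theorem commutator_le_of_generators (K : Subgroup P) [K.Normal] (S : Set P)
    (hS : Subgroup.closure S = ⊤) (h : ∀ s ∈ S, ∀ t ∈ S, ⁅s, t⁆ ∈ K) : commutator P ≤ K := by
  rw [← Subgroup.Normal.quotient_commutative_iff_commutator_le]
  have hS' : Subgroup.closure ((QuotientGroup.mk' K) '' S) = ⊤ := by
    rw [← MonoidHom.map_closure, hS, ← MonoidHom.range_eq_map, MonoidHom.range_eq_top]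
    exact QuotientGroup.mk'_surjective K
  have hcomm : ∀ u ∈ (QuotientGroup.mk' K) '' S, ∀ v ∈ (QuotientGroup.mk' K) '' S,
      u * v = v * u := by
    rintro _ ⟨s, hs, rfl⟩ _ ⟨t, ht, rfl⟩
    have h1 : (QuotientGroup.mk' K) ⁅s, t⁆ = 1 := (QuotientGroup.eq_one_iff _).mpr (h s hs t ht)
    rw [map_commutatorElement, commutatorElement_eq_one_iff_mul_comm] at h1
    exact h1
  have h1 : (⊤ : Subgroup (P ⧸ K)) ≤ Subgroup.centralizer ((QuotientGroup.mk' K) '' S) := by
    rw [← hS', Subgroup.closure_le]
    intro u hu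
    rw [SetLike.mem_coe, Subgroup.mem_centralizer_iff]
    intro v hv
    exact hcomm v hv u hu
  have h2 : (⊤ : Subgroup (P ⧸ K)) ≤ Subgroup.center (P ⧸ K) := by
    rw [← hS', Subgroup.closure_le]
    intro u hu
    rw [SetLike.mem_coe, Subgroup.mem_center_iff]
    intro g
    exact (Subgroup.mem_centralizer_iff.mp (h1 (Subgroup.mem_top g)) u hu).symm
  rw [← Subgroup.center_eq_top_iff]
  exact top_le_iff.mp h2

/-- In a group of class at most two, `y ↦ ⁅a, y⁆` is a homomorphism. -/
def commHom (hc : commutator P ≤ Subgroup.center P) (a : P) : P →* P where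
  toFun y := ⁅a, y⁆
  map_one' := commutatorElement_one_right a
  map_mul' y z := by
    have hz : ⁅a, z⁆ ∈ Subgroup.center P :=
      hc (Subgroup.commutator_mem_commutator (Subgroup.mem_top a) (Subgroup.mem_top z))
    have h1 := Subgroup.mem_center_iff.mp hz (y⁻¹)
    simp only [commutatorElement_def] at h1 ⊢
    calc a * (y * z) * a⁻¹ * (y * z)⁻¹ = a * y * a⁻¹ * ((a * z * a⁻¹ * z⁻¹) * y⁻¹) := by group
      _ = a * y * a⁻¹ * (y⁻¹ * (a * z * a⁻¹ * z⁻¹)) := by rw [h1]
      _ = a * y * a⁻¹ * y⁻¹ * (a * z * a⁻¹ * z⁻¹) := by group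

theorem commHom_apply (hc : commutator P ≤ Subgroup.center P) (a y : P) :
    commHom hc a y = ⁅a, y⁆ := rfl

theorem commHom_ker (hc : commutator P ≤ Subgroup.center P) (a : P) :
    (commHom hc a).ker = Subgroup.centralizer ({a} : Set P) := by
  ext y
  rw [MonoidHom.mem_ker, commHom_apply, commutatorElement_eq_one_iff_mul_comm,
    Subgroup.mem_centralizer_singleton_iff]
  exact eq_comm

theorem exists_not_comm_of_commutator_ne_bot (h : commutator P ≠ ⊥) :
    ∃ a b : P, a * b ≠ b * a := by
  by_contra hcon
  push Not at hcon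
  apply h
  rw [commutator_eq_bot_iff]
  exact ⟨⟨hcon⟩⟩

/-- The index of the centre of a finite `p`-group is never `p`; if the group is not commutative
it is not `1` either. -/
theorem index_center_ne_prime {p : ℕ} [Fact p.Prime] (a b : P) (hab : a * b ≠ b * a) :
    (Subgroup.center P).index ≠ p := by
  intro hk
  have hcard : Nat.card (P ⧸ Subgroup.center P) = p := hk
  have hcyc : IsCyclic (P ⧸ Subgroup.center P) := isCyclic_of_prime_card hcard
  have := isMulCommutative_of_isCyclic_quotient_center_self P
  exact hab (this.is_comm.comm a b)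

theorem index_center_ne_one (a b : P) (hab : a * b ≠ b * a) :
    (Subgroup.center P).index ≠ 1 := by
  intro hk
  rw [Subgroup.index_eq_one] at hk
  exact hab (Subgroup.mem_center_iff.mp (hk ▸ Subgroup.mem_top b) a)

/-- Order `p ^ 4` and centre of index `p ^ 2` give a commutator subgroup of order `p`. -/
theorem card_commutator_of_index_center [Finite P] {p : ℕ} [Fact p.Prime]
    (hP : Nat.card P = p ^ 4) (hZ : (Subgroup.center P).index = p ^ 2) :
    Nat.card (commutator P) = p := by
  have hp : 0 < p := (Fact.out : p.Prime).pos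
  have hp1 : 1 < p := (Fact.out : p.Prime).one_lt
  have hcardZ : Nat.card (Subgroup.center P) = p ^ 2 := by
    have := (Subgroup.center P).card_mul_index
    rw [hZ, hP] at this
    exact Nat.eq_of_mul_eq_mul_right (pow_pos hp 2) (by rw [this]; ring)
  have hQ : Nat.card (P ⧸ Subgroup.center P) = p ^ 2 := hZ
  have hcomm : IsMulCommutative (P ⧸ Subgroup.center P) :=
    IsPGroup.isMulCommutative_of_card_eq_prime_sq hQ
  have hc : commutator P ≤ Subgroup.center P :=
    Subgroup.Normal.quotient_commutative_iff_commutator_le.mp hcomm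
  have hZtop : Subgroup.center P ≠ ⊤ := by
    intro h
    rw [h, Subgroup.index_top] at hZ
    have : 1 < p ^ 2 := Nat.one_lt_pow (by norm_num) hp1
    omega
  obtain ⟨a, b, hab⟩ : ∃ a b : P, a * b ≠ b * a := by
    by_contra hcon
    push Not at hcon
    apply hZtop
    rw [eq_top_iff]
    intro g _
    rw [Subgroup.mem_center_iff]
    intro h
    exact hcon h g
  have hZa : Subgroup.center P ≤ Subgroup.centralizer ({a} : Set P) :=
    Subgroup.center_le_centralizer _
  have hZb : Subgroup.center P ≤ Subgroup.centralizer ({b} : Set P) :=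
    Subgroup.center_le_centralizer _
  obtain ⟨-, hM, hT⟩ := pfour_generation hP (Subgroup.center P) hcardZ.ge a b hab hZa hZb
  have hmem : ⁅a, b⁆ ∈ commutator P :=
    Subgroup.commutator_mem_commutator (Subgroup.mem_top a) (Subgroup.mem_top b)
  have hKc : Subgroup.zpowers ⁅a, b⁆ ≤ Subgroup.center P := by
    rw [Subgroup.zpowers_le]; exact hc hmem
  have hKn : (Subgroup.zpowers ⁅a, b⁆).Normal := by
    constructor
    intro n hn g
    have := Subgroup.mem_center_iff.mp (hKc hn) g
    rw [this, mul_inv_cancel_right]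
    exact hn
  have h1 : commutator P ≤ Subgroup.zpowers ⁅a, b⁆ := by
    apply commutator_le_of_generators _ ((Subgroup.center P : Set P) ∪ {a, b})
    · rw [eq_top_iff, ← hT]
      apply sup_le (sup_le _ _) _
      · intro z hz
        exact Subgroup.subset_closure (Or.inl hz)
      · rw [Subgroup.zpowers_le]
        exact Subgroup.subset_closure (Or.inr (Or.inl rfl))
      · rw [Subgroup.zpowers_le]
        exact Subgroup.subset_closure (Or.inr (Or.inr rfl))
    · intro s hs t ht
      have hcen : ∀ u v : P, u ∈ Subgroup.center P → ⁅u, v⁆ ∈ Subgroup.zpowers ⁅a, b⁆ ∧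
          ⁅v, u⁆ ∈ Subgroup.zpowers ⁅a, b⁆ := by
        intro u v hu
        have h1 : ⁅u, v⁆ = 1 := by
          rw [commutatorElement_eq_one_iff_mul_comm]
          exact (Subgroup.mem_center_iff.mp hu v).symm
        have h2 : ⁅v, u⁆ = 1 := by
          rw [commutatorElement_eq_one_iff_mul_comm]
          exact Subgroup.mem_center_iff.mp hu v
        rw [h1, h2]
        exact ⟨Subgroup.one_mem _, Subgroup.one_mem _⟩
      rcases hs with hs | hs | hs
      · exact (hcen s t hs).1
      · rcases ht with ht | ht | ht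
        · exact (hcen t s ht).2
        · have hs' : s = a := hs
          have ht' : t = a := ht
          rw [hs', ht', commutatorElement_self]; exact Subgroup.one_mem _
        · have hs' : s = a := hs
          have ht' : t = b := ht
          rw [hs', ht']; exact Subgroup.mem_zpowers _
      · rcases ht with ht | ht | ht
        · exact (hcen t s ht).2
        · have hs' : s = b := hs
          have ht' : t = a := ht
          rw [hs', ht', ← commutatorElement_inv a b]
          exact Subgroup.inv_mem _ (Subgroup.mem_zpowers _)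
        · have hs' : s = b := hs
          have ht' : t = b := ht
          rw [hs', ht', commutatorElement_self]; exact Subgroup.one_mem _
  have h2 : Subgroup.zpowers ⁅a, b⁆ ≤ (commHom hc a).range := by
    rw [Subgroup.zpowers_le]; exact ⟨b, rfl⟩
  have h3 : Nat.card (commHom hc a).range ≤ p := by
    rw [← Subgroup.index_ker, commHom_ker]
    have h4 : Subgroup.center P ⊔ Subgroup.zpowers a ≤ Subgroup.centralizer ({a} : Set P) := by
      apply sup_le hZa
      rw [Subgroup.zpowers_le]
      exact Subgroup.mem_centralizer_singleton_iff.mpr rfl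
    have h5 := Subgroup.index_dvd_of_le h4
    have h6 : (Subgroup.center P ⊔ Subgroup.zpowers a).index = p := by
      have := (Subgroup.center P ⊔ Subgroup.zpowers a).card_mul_index
      rw [hM, hP] at this
      exact Nat.eq_of_mul_eq_mul_left (pow_pos hp 3) (by rw [this]; ring)
    rw [h6] at h5
    exact Nat.le_of_dvd hp h5
  have h7 : Nat.card (commutator P) ≤ p :=
    (Subgroup.card_le_of_le (h1.trans h2)).trans h3
  have h8 : commutator P ≠ ⊥ := by
    intro h
    apply hab
    rw [h, Subgroup.mem_bot, commutatorElement_eq_one_iff_mul_comm] at hmem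
    exact hmem
  obtain ⟨i, -, hi⟩ := (Nat.dvd_prime_pow Fact.out).mp
    (hP ▸ Subgroup.card_subgroup_dvd_card (commutator P))
  have hi0 : i ≠ 0 := by
    rintro rfl
    rw [pow_zero, Subgroup.card_eq_one] at hi
    exact h8 hi
  have hi1 : i ≤ 1 := by
    rw [hi] at h7
    by_contra hcon
    push Not at hcon
    have h9 : p ^ 2 ≤ p ^ i := Nat.pow_le_pow_right hp hcon
    have h10 : p < p ^ 2 := by nlinarith
    omega
  have hi' : i = 1 := by omega
  rw [hi, hi', pow_one]

/-- Order `p ^ 4` and commutator subgroup of order `p` give a centre of index `p ^ 2`. -/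
theorem index_center_of_card_commutator [Finite P] {p : ℕ} [Fact p.Prime]
    (hP : Nat.card P = p ^ 4) (hc : Nat.card (commutator P) = p) :
    (Subgroup.center P).index = p ^ 2 := by
  have hp : 0 < p := (Fact.out : p.Prime).pos
  have hp1 : 1 < p := (Fact.out : p.Prime).one_lt
  have hne : commutator P ≠ ⊥ := by
    intro h
    rw [h, Subgroup.card_bot] at hc
    omega
  obtain ⟨a, b, hab⟩ := exists_not_comm_of_commutator_ne_bot hne
  set D := Subgroup.centralizer ({a} : Set P) ⊓ Subgroup.centralizer ({b} : Set P) with hD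
  have hDidx : D.index ≤ p * p :=
    (Subgroup.index_inf_le).trans (Nat.mul_le_mul (hc ▸ index_centralizer_le_card_commutator a)
      (hc ▸ index_centralizer_le_card_commutator b))
  have hDmul := D.card_mul_index
  rw [hP] at hDmul
  have hDcard : p ^ 2 ≤ Nat.card D := by
    by_contra hlt
    push Not at hlt
    have hidx0 : 0 < D.index := Nat.pos_of_ne_zero Subgroup.index_ne_zero_of_finite
    have h1 : Nat.card D * D.index < p ^ 2 * (p * p) :=
      Nat.mul_lt_mul_of_lt_of_le hlt hDidx (Nat.mul_pos hp hp)
    have h2 : p ^ 2 * (p * p) = p ^ 4 := by ring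
    omega
  obtain ⟨hD2, -, hT⟩ := pfour_generation hP D hDcard a b hab inf_le_left inf_le_right
  have hDcomm : IsMulCommutative D := IsPGroup.isMulCommutative_of_card_eq_prime_sq hD2
  have hDZ : D ≤ Subgroup.center P := by
    intro d hd
    have h1 : (⊤ : Subgroup P) ≤ Subgroup.centralizer ({d} : Set P) := by
      rw [← hT]
      apply sup_le (sup_le _ _) _
      · intro e he
        rw [Subgroup.mem_centralizer_singleton_iff]
        have := hDcomm.is_comm.comm (⟨e, he⟩ : D) ⟨d, hd⟩
        exact congrArg Subtype.val this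
      · rw [Subgroup.zpowers_le, Subgroup.mem_centralizer_singleton_iff]
        exact (Subgroup.mem_centralizer_singleton_iff.mp hd.1).symm
      · rw [Subgroup.zpowers_le, Subgroup.mem_centralizer_singleton_iff]
        exact (Subgroup.mem_centralizer_singleton_iff.mp hd.2).symm
    rw [Subgroup.mem_center_iff]
    intro g
    exact Subgroup.mem_centralizer_singleton_iff.mp (h1 (Subgroup.mem_top g))
  have hZle : (Subgroup.center P).index ≤ p ^ 2 := by
    have h1 := Subgroup.index_dvd_of_le hDZ
    have h2 : D.index = p ^ 2 := by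
      rw [hD2] at hDmul
      exact Nat.eq_of_mul_eq_mul_left (pow_pos hp 2) (by rw [hDmul]; ring)
    rw [h2] at h1
    exact Nat.le_of_dvd (pow_pos hp 2) h1
  obtain ⟨k, -, hk⟩ := (Nat.dvd_prime_pow Fact.out).mp
    (hP ▸ Subgroup.index_dvd_card (Subgroup.center P))
  have hk0 : k ≠ 0 := by
    rintro rfl
    rw [pow_zero] at hk
    exact index_center_ne_one a b hab hk
  have hk1 : k ≠ 1 := by
    rintro rfl
    rw [pow_one] at hk
    exact index_center_ne_prime a b hab hk
  have hk2 : k ≤ 2 := by
    rw [hk] at hZle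
    exact (Nat.pow_le_pow_iff_right hp1).mp hZle
  have hk' : k = 2 := by omega
  rw [hk, hk']

/-- Class two and order `p ^ 4` give a commutator subgroup of order `p`. -/
theorem card_commutator_of_le_center [Finite P] {p : ℕ} [Fact p.Prime]
    (hP : Nat.card P = p ^ 4) (hc : commutator P ≤ Subgroup.center P)
    (hne : commutator P ≠ ⊥) : Nat.card (commutator P) = p := by
  have hp : 0 < p := (Fact.out : p.Prime).pos
  have hp1 : 1 < p := (Fact.out : p.Prime).one_lt
  obtain ⟨a, b, hab⟩ := exists_not_comm_of_commutator_ne_bot hne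
  obtain ⟨k, hk4, hk⟩ := (Nat.dvd_prime_pow Fact.out).mp
    (hP ▸ Subgroup.index_dvd_card (Subgroup.center P))
  have hk0 : k ≠ 0 := by
    rintro rfl
    rw [pow_zero] at hk
    exact index_center_ne_one a b hab hk
  have hk1 : k ≠ 1 := by
    rintro rfl
    rw [pow_one] at hk
    exact index_center_ne_prime a b hab hk
  have hZmul := (Subgroup.center P).card_mul_index
  rw [hP, hk] at hZmul
  have hk4' : k ≠ 4 := by
    rintro rfl
    have h1 : Nat.card (Subgroup.center P) = 1 := by
      have : Nat.card (Subgroup.center P) * p ^ 4 = 1 * p ^ 4 := by rw [hZmul, one_mul]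
      exact Nat.eq_of_mul_eq_mul_right (pow_pos hp 4) this
    rw [Subgroup.card_eq_one] at h1
    rw [h1, le_bot_iff] at hc
    exact hne hc
  have hk23 : k = 2 ∨ k = 3 := by omega
  rcases hk23 with rfl | rfl
  · exact card_commutator_of_index_center hP hk
  · have h1 : Nat.card (Subgroup.center P) = p := by
      have : Nat.card (Subgroup.center P) * p ^ 3 = p * p ^ 3 := by rw [hZmul]; ring
      exact Nat.eq_of_mul_eq_mul_right (pow_pos hp 3) this
    have h2 : Nat.card (commutator P) ∣ p := h1 ▸ Subgroup.card_dvd_of_le hc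
    rcases (Nat.dvd_prime Fact.out).mp h2 with h3 | h3
    · rw [Subgroup.card_eq_one] at h3
      exact absurd h3 hne
    · exact h3

end Cfsg.Agent.Lib.helper79
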