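import Mathlib
import Cfsg.Agent.Lib.helper79.PearlX

set_option autoImplicit false

open Cfsg.Agent.Lib.helper68

namespace Cfsg.Agent.Lib.helper79

/-- `C_G(x)` of order `p ^ 2` meets a subgroup not containing `x` in a group of order `≤ p`. -/
theorem h79_cint_abs {G : Type*} [Group G] [Finite G] (p : ℕ) [Fact p.Prime] (x : G)
    (hC : Nat.card (Subgroup.centralizer ({x} : Set G)) = p ^ 2) (Q : Subgroup G) (hxQ : x ∉ Q) :
    Nat.card (Subgroup.centralizer ({x} : Set G) ⊓ Q : Subgroup G) ≤ p := by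
  have hp : p.Prime := Fact.out
  have hle : Subgroup.centralizer ({x} : Set G) ⊓ Q ≤ Subgroup.centralizer ({x} : Set G) :=
    inf_le_left
  have hdvd : Nat.card (Subgroup.centralizer ({x} : Set G) ⊓ Q : Subgroup G) ∣ p ^ 2 := by
    rw [← hC]
    exact Subgroup.card_dvd_of_le hle
  obtain ⟨j, hj, hj'⟩ := (Nat.dvd_prime_pow hp).mp hdvd
  have hj1 : j ≤ 1 := by
    by_contra hcon
    have hj2 : j = 2 := by omega
    subst hj2
    have heq : Subgroup.centralizer ({x} : Set G) ⊓ Q = Subgroup.centralizer ({x} : Set G) :=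
      Subgroup.eq_of_le_of_card_ge hle (by rw [hj', hC])
    have hxC : x ∈ Subgroup.centralizer ({x} : Set G) := by
      rw [Subgroup.mem_centralizer_iff]
      intro h hh
      rw [Set.mem_singleton_iff] at hh
      rw [hh]
    have hxw : x ∈ Subgroup.centralizer ({x} : Set G) ⊓ Q := by
      rw [heq]
      exact hxC
    exact hxQ (Subgroup.mem_inf.mp hxw).2
  rw [hj']
  calc p ^ j ≤ p ^ 1 := Nat.pow_le_pow_right hp.pos hj1
    _ = p := pow_one p

end Cfsg.Agent.Lib.helper79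

namespace Cfsg.Agent.Lib.helper18.PearlBase

open Cfsg.Agent.Lib.helper79 in
theorem h79_pearl_base {G : Type*} [Group G] [Finite G] (p : ℕ) [Fact p.Prime] (n : ℕ) (hG : Nat.card G = p ^ n) (x : G) (hC : Nat.card (Subgroup.centralizer ({x} : Set G)) = p ^ 2) : (∀ i, 2 ≤ i → i ≤ n → Nat.card (gam G i) = p ^ (n - i)) ∧ (3 ≤ n → x ∉ gam G 2) ∧ (∀ y ∈ gam G 2, ∃ g : G, com x g = y) ∧ (x ^ p = 1 → ∀ m ∈ gam G 2, (x * m) ^ p = 1) := by
  have hp : p.Prime := Fact.out
  rcases Nat.lt_or_ge n 3 with hn | hn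
  · have hn2 : n = 2 := by
      have h1 : p ^ 2 ∣ p ^ n := by
        rw [← hC, ← hG]
        exact Subgroup.card_subgroup_dvd_card _
      have := (Nat.pow_dvd_pow_iff_le_right hp.one_lt).mp h1
      omega
    subst hn2
    have hbot : gam G 2 = ⊥ :=
      Cfsg.Agent.Lib.helper15.MaxClass.lcs_eq_bot_of_card (G := G) hG le_rfl
    refine ⟨?_, fun h => absurd h (by omega), ?_, ?_⟩
    · intro i hi hin
      have hi2 : i = 2 := by omega
      subst hi2
      rw [hbot]
      simp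
    · intro y hy
      rw [hbot, Subgroup.mem_bot] at hy
      exact ⟨1, by rw [hy]; simp [com]⟩
    · intro hx m hm
      rw [hbot, Subgroup.mem_bot] at hm
      rw [hm, mul_one]
      exact hx
  · exact ⟨fun i hi hin => h79_px_card p n hG x hC hn i hi hin,
      fun _ => h79_px_not_mem p n hG x hC hn, h79_px_onto1 p n hG x hC hn,
      fun hx => h79_px_pow p n hG x hx hC hn⟩

end Cfsg.Agent.Lib.helper18.PearlBase

namespace Cfsg.Agent.Lib.helper40.PearlUni

theorem h79_pearl_onto {G : Type*} [Group G] [Finite G] (p : ℕ) [Fact p.Prime] (n : ℕ) (P : ℕ → Subgroup G) (hanti : ∀ i, P (i + 1) ≤ P i) (hcard : ∀ i, 2 ≤ i → i ≤ n → Nat.card (P i) = p ^ (n - i)) (hcomm : ∀ i, 2 ≤ i → ∀ g ∈ P i, ∀ h : G, com g h ∈ P (i + 1) ∧ com h g ∈ P (i + 1)) (x : G) (hx : x ∉ P 2) (hC : Nat.card (Subgroup.centralizer ({x} : Set G)) = p ^ 2) (w : ℕ) (hw : 2 ≤ w) (hwn : w + 1 ≤ n) : ∀ y ∈ P (w + 1), ∃ g ∈ P w, com x g = y := by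
  have hp : p.Prime := Fact.out
  have hantiM : ∀ i j, i ≤ j → P j ≤ P i := by
    intro i j hij
    induction hij with
    | refl => exact le_rfl
    | step _ ih => exact le_trans (hanti _) ih
  refine Cfsg.Agent.Lib.helper79.h79_com_onto x (P w) (P (w + 1))
    (fun g hg => (hcomm w hw g hg x).2) ?_
  rw [hcard (w + 1) (by omega) hwn, hcard w hw (by omega)]
  calc p ^ (n - (w + 1)) * Nat.card (Subgroup.centralizer ({x} : Set G) ⊓ P w : Subgroup G)
      ≤ p ^ (n - (w + 1)) * p :=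
        Nat.mul_le_mul_left _ (Cfsg.Agent.Lib.helper79.h79_cint_abs p x hC (P w)
          (fun h => hx (hantiM 2 w hw h)))
    _ = p ^ (n - w) := by
        rw [← pow_succ]
        congr 1
        omega

theorem h79_pearl_uniserial {G : Type*} [Group G] [Finite G] (p : ℕ) [Fact p.Prime] (n : ℕ) (P : ℕ → Subgroup G) (hanti : ∀ i, P (i + 1) ≤ P i) (hcard : ∀ i, 2 ≤ i → i ≤ n → Nat.card (P i) = p ^ (n - i)) (hcomm : ∀ i, 2 ≤ i → ∀ g ∈ P i, ∀ h : G, com g h ∈ P (i + 1) ∧ com h g ∈ P (i + 1)) (x : G) (hx : x ∉ P 2) (hC : Nat.card (Subgroup.centralizer ({x} : Set G)) = p ^ 2) (i : ℕ) (hi : 2 ≤ i) (hin : i + 2 ≤ n) (m : G) (hm : m ∈ P i) (hm' : m ∉ P (i + 1)) : com m x ∉ P (i + 2) := by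
  have hp : p.Prime := Fact.out
  intro hcon
  have hinv : ∀ a b : G, com a b = (com b a)⁻¹ := by
    intro a b
    unfold com
    group
  have hxm : com x m ∈ P (i + 2) := by
    rw [hinv]
    exact (P (i + 2)).inv_mem hcon
  have hconj : ∀ g ∈ P (i + 2), ∀ h : G, h * g * h⁻¹ ∈ P (i + 2) := by
    intro g hg h
    have h1 := (hcomm (i + 2) (by omega) g hg h⁻¹).1
    have h2 : h * g * h⁻¹ = g * com g h⁻¹ := by
      unfold com
      group
    rw [h2]
    exact mul_mem hg (hanti _ h1)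
  let K : Subgroup G :=
    { carrier := {g | g ∈ P i ∧ com x g ∈ P (i + 2)}
      one_mem' := ⟨one_mem _, by simp [com]⟩
      mul_mem' := by
        rintro a b ⟨ha, ha'⟩ ⟨hb, hb'⟩
        refine ⟨mul_mem ha hb, ?_⟩
        have e : com x (a * b) = com x b * (b⁻¹ * com x a * b⁻¹⁻¹) := by
          unfold com
          group
        rw [e]
        exact mul_mem hb' (hconj _ ha' b⁻¹)
      inv_mem' := by
        rintro a ⟨ha, ha'⟩
        refine ⟨inv_mem ha, ?_⟩
        have e : com x a⁻¹ = a * (com x a)⁻¹ * a⁻¹ := by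
          unfold com
          group
        rw [e]
        exact hconj _ (inv_mem ha') a }
  have hKle : K ≤ P i := fun g hg => hg.1
  have hleK : P (i + 1) ≤ K := fun g hg => ⟨hanti i hg, (hcomm (i + 1) (by omega) g hg x).2⟩
  have hmK : m ∈ K := ⟨hm, hxm⟩
  have hKeq : K = P i := by
    apply Subgroup.eq_of_le_of_card_ge hKle
    have hKdvd : Nat.card K ∣ p ^ (n - i) := by
      rw [← hcard i hi (by omega)]
      exact Subgroup.card_dvd_of_le hKle
    obtain ⟨j, hj, hj'⟩ := (Nat.dvd_prime_pow hp).mp hKdvd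
    have hlt : Nat.card (P (i + 1)) < Nat.card K := by
      have hne : P (i + 1) ≠ K := fun h => hm' (h ▸ hmK)
      rcases Nat.lt_or_ge (Nat.card (P (i + 1))) (Nat.card K) with h | h
      · exact h
      · exact absurd (Subgroup.eq_of_le_of_card_ge hleK h) hne
    rw [hcard (i + 1) (by omega) (by omega), hj'] at hlt
    have hlt2 : n - (i + 1) < j := (Nat.pow_lt_pow_iff_right hp.one_lt).mp hlt
    rw [hcard i hi (by omega), hj']
    exact Nat.pow_le_pow_right hp.pos (by omega)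
  have hsub : P (i + 1) ≤ P (i + 2) := by
    intro y hy
    obtain ⟨g, hg, rfl⟩ := h79_pearl_onto p n P hanti hcard hcomm x hx hC i hi (by omega) y hy
    have hgK : g ∈ K := by
      rw [hKeq]
      exact hg
    exact hgK.2
  have hc := Subgroup.card_le_of_le hsub
  rw [hcard (i + 1) (by omega) (by omega), hcard (i + 2) (by omega) hin] at hc
  have := (Nat.pow_le_pow_iff_right hp.one_lt).mp hc
  omega

end Cfsg.Agent.Lib.helper40.PearlUni
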