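import Mathlib

set_option autoImplicit false

namespace Cfsg.Agent.Lib.helper45.PearlC

theorem h79_final_count {G : Type*} [Group G] [Finite G] (p : ℕ) [Fact p.Prime] (n : ℕ)
    (hG : Nat.card G = p ^ n) (E : Subgroup G) (hE : Nat.card ↥E = p ^ 3)
    (hC : Subgroup.centralizer (E : Set G) ≤ E)
    (hCp : Nat.card ↥(Subgroup.centralizer (E : Set G)) = p)
    (hZ : Subgroup.center G = Subgroup.centralizer (E : Set G))
    (w x : G) (hwE : w ∈ E) (hxE : x ∈ E) (hxw : x * w ≠ w * x)
    (hidx : Nat.card G ≤ p * Nat.card ↥(Subgroup.centralizer ({w} : Set G)))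
    (hstrict : ∀ A B : Subgroup G, A < B → p * Nat.card ↥A ≤ Nat.card ↥B)
    (hstep : ∀ A B C : Subgroup G, C ≤ B →
      Nat.card ↥(A ⊓ B) * Nat.card ↥C ≤ Nat.card ↥(A ⊓ C) * Nat.card ↥B)
    (hcg : ∀ (D : Subgroup G), D ≤ E → Nat.card ↥E ≤ p * Nat.card ↥D → ∀ e ∈ E, e ∉ D →
      ∀ g : G, (∀ d ∈ D, d * g = g * d) → e * g = g * e →
        g ∈ Subgroup.centralizer (E : Set G)) :
    Nat.card ↥(Subgroup.centralizer ({x} : Set G)) = p ^ 2 := by
  have hp : p.Prime := Fact.out
  have hZp : Nat.card ↥(Subgroup.center G) = p := by rw [hZ]; exact hCp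
  have hZE : Subgroup.center G ≤ E := by rw [hZ]; exact hC
  have hwZ : w ∉ Subgroup.center G := fun h => hxw (Subgroup.mem_center_iff.mp h x)
  have hxZ : x ∉ Subgroup.center G := fun h => hxw ((Subgroup.mem_center_iff.mp h w).symm)
  obtain ⟨D, hD⟩ : ∃ D : Subgroup G, D = Subgroup.center G ⊔ Subgroup.zpowers w := ⟨_, rfl⟩
  have hZleD : Subgroup.center G ≤ D := by rw [hD]; exact le_sup_left
  have hwD : w ∈ D := by
    rw [hD]
    exact (le_sup_right : Subgroup.zpowers w ≤ _) (Subgroup.mem_zpowers w)
  have hDE : D ≤ E := by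
    rw [hD]
    exact sup_le hZE (by rw [Subgroup.zpowers_le]; exact hwE)
  have hZD : Subgroup.center G < D :=
    lt_of_le_of_ne hZleD (fun h => hwZ (by rw [h]; exact hwD))
  have hDcw : D ≤ Subgroup.centralizer ({w} : Set G) := by
    rw [hD]
    refine sup_le ?_ ?_
    · intro z hz
      rw [Subgroup.mem_centralizer_iff]
      intro h hh
      rw [Set.mem_singleton_iff] at hh
      subst hh
      exact Subgroup.mem_center_iff.mp hz h
    · rw [Subgroup.zpowers_le, Subgroup.mem_centralizer_iff]
      intro h hh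
      rw [Set.mem_singleton_iff] at hh
      rw [hh]
  have hxD : x ∉ D := by
    intro h
    have := Subgroup.mem_centralizer_iff.mp (hDcw h) w (Set.mem_singleton w)
    exact hxw this.symm
  have hDcard : p * p ≤ Nat.card D := by
    have := hstrict _ _ hZD
    rwa [hZp] at this
  have hED : Nat.card ↥E ≤ p * Nat.card ↥D := by
    rw [hE]
    calc p ^ 3 = p * (p * p) := by ring
      _ ≤ p * Nat.card D := Nat.mul_le_mul_left _ hDcard
  have hinf : Subgroup.centralizer ({x} : Set G) ⊓ Subgroup.centralizer ({w} : Set G) ≤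
      Subgroup.centralizer (E : Set G) := by
    intro g hg
    obtain ⟨hgx, hgw⟩ := Subgroup.mem_inf.mp hg
    have hgx' : x * g = g * x := Subgroup.mem_centralizer_iff.mp hgx x (Set.mem_singleton x)
    have hgw' : w * g = g * w := Subgroup.mem_centralizer_iff.mp hgw w (Set.mem_singleton w)
    refine hcg D hDE hED x hxE hxD g ?_ hgx'
    have hDg : D ≤ Subgroup.centralizer ({g} : Set G) := by
      rw [hD]
      refine sup_le ?_ ?_
      · intro z hz
        rw [Subgroup.mem_centralizer_iff]
        intro h hh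
        rw [Set.mem_singleton_iff] at hh
        subst hh
        exact Subgroup.mem_center_iff.mp hz h
      · rw [Subgroup.zpowers_le, Subgroup.mem_centralizer_iff]
        intro h hh
        rw [Set.mem_singleton_iff] at hh
        subst hh
        exact hgw'.symm
    intro d hd
    have := Subgroup.mem_centralizer_iff.mp (hDg hd) g (Set.mem_singleton g)
    exact this.symm
  have hinfcard : Nat.card ↥(Subgroup.centralizer ({x} : Set G) ⊓
      Subgroup.centralizer ({w} : Set G) : Subgroup G) ≤ p := by
    rw [← hCp]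
    exact Subgroup.card_le_of_le hinf
  have h1 := hstep (Subgroup.centralizer ({x} : Set G)) ⊤ (Subgroup.centralizer ({w} : Set G))
    le_top
  rw [inf_top_eq, Subgroup.card_top] at h1
  have hCwpos : 0 < Nat.card ↥(Subgroup.centralizer ({w} : Set G)) := Nat.card_pos
  have hle : Nat.card ↥(Subgroup.centralizer ({x} : Set G)) ≤ p ^ 2 := by
    have h2 : Nat.card ↥(Subgroup.centralizer ({x} : Set G)) *
        Nat.card ↥(Subgroup.centralizer ({w} : Set G)) ≤
        p ^ 2 * Nat.card ↥(Subgroup.centralizer ({w} : Set G)) := by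
      calc Nat.card ↥(Subgroup.centralizer ({x} : Set G)) *
            Nat.card ↥(Subgroup.centralizer ({w} : Set G))
          ≤ Nat.card ↥(Subgroup.centralizer ({x} : Set G) ⊓
              Subgroup.centralizer ({w} : Set G) : Subgroup G) * Nat.card G := h1
        _ ≤ p * (p * Nat.card ↥(Subgroup.centralizer ({w} : Set G))) :=
            Nat.mul_le_mul hinfcard hidx
        _ = p ^ 2 * Nat.card ↥(Subgroup.centralizer ({w} : Set G)) := by ring
    exact Nat.le_of_mul_le_mul_right h2 hCwpos
  have hZx : Subgroup.center G < Subgroup.centralizer ({x} : Set G) := by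
    refine lt_of_le_of_ne ?_ ?_
    · intro z hz
      rw [Subgroup.mem_centralizer_iff]
      intro h hh
      rw [Set.mem_singleton_iff] at hh
      subst hh
      exact Subgroup.mem_center_iff.mp hz h
    · intro h
      apply hxZ
      rw [h, Subgroup.mem_centralizer_iff]
      intro k hk
      rw [Set.mem_singleton_iff] at hk
      rw [hk]
  have hge := hstrict _ _ hZx
  rw [hZp] at hge
  exact le_antisymm hle (by rw [pow_two]; exact hge)

end Cfsg.Agent.Lib.helper45.PearlC
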