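import Mathlib
import Cfsg.Agent.Lib.helper44.PresDefs

/-! S2286 piece C2T: the torus / Weyl relations in characteristic 2 (for helper44's split). -/

set_option autoImplicit false

namespace Cfsg.Agent.Lib.helper44.Pres

-- C2T
theorem char_two_torus {G : Type*} [Group G] (u t h : G) (a : ℕ) (ha : 0 < a) (hu : u ^ 2 = 1)
    (h2 : u * t * u = t * u * t) (h3 : t * h ^ a * t⁻¹ = h ^ (a - 1)) :
    t * t = 1 ∧ h ^ (2 * a - 1) = 1 ∧ t * h * t⁻¹ = h⁻¹ := by
  obtain ⟨b, rfl⟩ : ∃ b, a = b + 1 := ⟨a - 1, by omega⟩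
  rw [Nat.add_sub_cancel] at h3
  -- t is conjugate to u
  have ht : t = (u * t) * u * (u * t)⁻¹ := by
    have : (u * t) * u * (u * t)⁻¹ = (u * t * u) * t⁻¹ * u⁻¹ := by group
    rw [this, h2]; group
  have htt : t * t = 1 := by
    have e : t ^ 2 = 1 := by
      rw [ht, conj_pow, hu]; group
    rw [← pow_two, e]
  have hti : t⁻¹ = t := by rw [inv_eq_iff_mul_eq_one, htt]
  have h3' : t * h ^ b * t⁻¹ = h ^ (b + 1) := by
    rw [← h3, hti]
    calc t * (t * h ^ (b + 1) * t) * t = (t * t) * h ^ (b + 1) * (t * t) := by group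
      _ = h ^ (b + 1) := by rw [htt]; group
  have e1 : t * h ^ ((b + 1) * b) * t⁻¹ = h ^ (b * b) := by
    rw [pow_mul, ← conj_pow, h3, ← pow_mul]
  have e2 : t * h ^ ((b + 1) * b) * t⁻¹ = h ^ ((b + 1) * (b + 1)) := by
    rw [mul_comm (b + 1) b, pow_mul, ← conj_pow, h3', ← pow_mul]
  have e3 : h ^ (2 * (b + 1) - 1) = 1 := by
    have e4 : h ^ (b * b) = h ^ (b * b) * h ^ (2 * (b + 1) - 1) := by
      rw [← pow_add, ← e1, e2]
      congr 1
      have : 2 * (b + 1) - 1 = 2 * b + 1 := by omega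
      rw [this]; ring
    exact (mul_eq_left.mp e4.symm)
  refine ⟨htt, e3, ?_⟩
  have e5 : h ^ (2 * b) * h = 1 := by
    rw [← pow_succ]
    have : 2 * (b + 1) - 1 = 2 * b + 1 := by omega
    rw [← this]; exact e3
  have e6 : h = (h ^ (b + 1)) ^ 2 := by
    rw [← pow_mul]
    have : (b + 1) * 2 = (2 * b + 1) + 1 := by ring
    rw [this, pow_succ, pow_succ, e5, one_mul]
  have e7 : t * h * t⁻¹ = h ^ (2 * b) := by
    conv_lhs => rw [e6]
    rw [← conj_pow, h3, ← pow_mul, mul_comm]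
  rw [e7]
  exact eq_inv_of_mul_eq_one_left e5

end Cfsg.Agent.Lib.helper44.Pres
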