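import Mathlib
import Cfsg.Agent.Lib.helper79.RealDegF
import Cfsg.Agent.Lib.helper82.GlaubReal
import Cfsg.Agent.Lib.helper84.Brauer

/-!
# Real characters and Sylow normalizers (helper79), part F0

Equivariance properties of a map between invariant irreducible characters which is characterised
by multiplicities modulo `p` (`GlaubProp`):

* `glaub_transfer` : a pair with the same pairing as `(θ, f θ)` is of the form `(θ', f θ')`.
* `glaub_equivariant` : `f` commutes with conjugation by elements normalizing everything.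
* `glaub_real_iff` : `θ` is real-valued iff `f θ` is.
-/

set_option autoImplicit false
set_option linter.style.haveILetI false
set_option linter.unusedSectionVars false

namespace Cfsg.Agent.Lib.helper79

open Cfsg
open Cfsg.Agent.Lib Cfsg.Agent.Lib.helper83 Cfsg.Agent.Lib.helper82
open scoped ComplexConjugate

universe u

section Glaub

variable {G : Type u} [Group G] [Finite G] (p : ℕ) [hp : Fact p.Prime]
  (P K C : Subgroup G) (hCK : C ≤ K)
  (f : {χ : IrrCharacter ↥K // PInv P K χ} → {ξ : IrrCharacter ↥C // PInv P C ξ})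

/-- A pair with the same pairing as `(θ, f θ)` is of the form `(θ', f θ')`. -/
theorem glaub_transfer (hf : GlaubProp p P K C hCK f)
    (θ θ' : {χ : IrrCharacter ↥K // PInv P K χ}) (ξ' : {ξ : IrrCharacter ↥C // PInv P C ξ})
    (h : (Nat.card ↥C : ℂ)⁻¹ * ∑ᶠ c : ↥C, (θ'.1 : ↥K → ℂ) (Subgroup.inclusion hCK c) *
          (starRingEnd ℂ) ((ξ'.1 : ↥C → ℂ) c) =
        (Nat.card ↥C : ℂ)⁻¹ * ∑ᶠ c : ↥C, (θ.1 : ↥K → ℂ) (Subgroup.inclusion hCK c) *
          (starRingEnd ℂ) (((f θ).1 : ↥C → ℂ) c)) :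
    ξ' = f θ' := by
  obtain ⟨m, hm, hm1, -⟩ := hf θ (f θ)
  obtain ⟨m', hm', -, hm'2⟩ := hf θ' ξ'
  by_contra hne
  have h1 : (m' : ℂ) = m := by rw [← hm', ← hm, h]
  have h2 : m' = m := Nat.cast_injective h1
  have h3 : (m : ZMod p) = 0 := by
    rw [← h2]
    exact (ZMod.natCast_eq_zero_iff _ _).mpr (hm'2 hne)
  rcases hm1 rfl with h4 | h4
  · rw [h3] at h4
    exact zero_ne_one h4
  · rw [h3] at h4
    exact (neg_ne_zero.mpr one_ne_zero) h4.symm

/-- The map `f` commutes with conjugation by an element normalizing `P`, `K` and `C`. -/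
theorem glaub_equivariant (hf : GlaubProp p P K C hCK f)
    (n : G) (hnP : ∀ x, x ∈ P ↔ n⁻¹ * x * n ∈ P) (hnK : ∀ k, k ∈ K ↔ n⁻¹ * k * n ∈ K)
    (hnC : ∀ c, c ∈ C ↔ n⁻¹ * c * n ∈ C)
    (θ θ' : {χ : IrrCharacter ↥K // PInv P K χ})
    (h : ∀ k k' : ↥K, (k' : G) = n⁻¹ * (k : G) * n → (θ'.1 : ↥K → ℂ) k = (θ.1 : ↥K → ℂ) k') :
    ∀ c c' : ↥C, (c' : G) = n⁻¹ * (c : G) * n →
      ((f θ').1 : ↥C → ℂ) c = ((f θ).1 : ↥C → ℂ) c' := by
  classical
  -- the automorphism `c ↦ n⁻¹ c n` of `C`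
  let α : ↥C ≃* ↥C :=
    { toFun := fun c => ⟨n⁻¹ * (c : G) * n, (hnC c).mp c.2⟩
      invFun := fun c => ⟨n * (c : G) * n⁻¹, (hnC _).mpr (by
        have h2 : n⁻¹ * (n * (c : G) * n⁻¹) * n = c := by group
        rw [h2]
        exact c.2)⟩
      left_inv := fun c => by
        apply Subtype.ext
        show n * (n⁻¹ * (c : G) * n) * n⁻¹ = c
        group
      right_inv := fun c => by
        apply Subtype.ext
        show n⁻¹ * (n * (c : G) * n⁻¹) * n = c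
        group
      map_mul' := fun a b => by
        apply Subtype.ext
        show n⁻¹ * ((a : G) * (b : G)) * n = (n⁻¹ * (a : G) * n) * (n⁻¹ * (b : G) * n)
        group }
  have hα : ∀ c : ↥C, ((α c : ↥C) : G) = n⁻¹ * (c : G) * n := fun c => rfl
  have hirr : IsIrrCharacter ↥C (fun c => ((f θ).1 : ↥C → ℂ) (α c)) :=
    helper84.irr_comp_mulEquiv α (f θ).1
  have hinv : PInv P C (fun c => ((f θ).1 : ↥C → ℂ) (α c)) := by
    intro x hx c c' hc'
    apply (f θ).2 (n⁻¹ * x * n) ((hnP x).mp hx) (α c) (α c')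
    rw [hα, hα, hc']
    group
  have hpair : (Nat.card ↥C : ℂ)⁻¹ * ∑ᶠ c : ↥C, (θ'.1 : ↥K → ℂ) (Subgroup.inclusion hCK c) *
        (starRingEnd ℂ) (((f θ).1 : ↥C → ℂ) (α c)) =
      (Nat.card ↥C : ℂ)⁻¹ * ∑ᶠ c : ↥C, (θ.1 : ↥K → ℂ) (Subgroup.inclusion hCK c) *
        (starRingEnd ℂ) (((f θ).1 : ↥C → ℂ) c) := by
    congr 1
    have h1 : ∀ c : ↥C, (θ'.1 : ↥K → ℂ) (Subgroup.inclusion hCK c) *
        (starRingEnd ℂ) (((f θ).1 : ↥C → ℂ) (α c)) =
        (fun c : ↥C => (θ.1 : ↥K → ℂ) (Subgroup.inclusion hCK c) *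
          (starRingEnd ℂ) (((f θ).1 : ↥C → ℂ) c)) (α c) := by
      intro c
      show _ = (θ.1 : ↥K → ℂ) (Subgroup.inclusion hCK (α c)) *
          (starRingEnd ℂ) (((f θ).1 : ↥C → ℂ) (α c))
      rw [h (Subgroup.inclusion hCK c) (Subgroup.inclusion hCK (α c)) rfl]
    rw [finsum_congr h1]
    exact finsum_comp_equiv α.toEquiv
      (f := fun c : ↥C => (θ.1 : ↥K → ℂ) (Subgroup.inclusion hCK c) *
          (starRingEnd ℂ) (((f θ).1 : ↥C → ℂ) c))
  have key := glaub_transfer p P K C hCK f hf θ θ'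
    ⟨⟨fun c => ((f θ).1 : ↥C → ℂ) (α c), hirr⟩, hinv⟩ hpair
  intro c c' hc'
  have h5 : ((f θ').1 : ↥C → ℂ) c = ((f θ).1 : ↥C → ℂ) (α c) := by
    rw [← key]
  rw [h5]
  refine congrArg _ ?_
  apply Subtype.ext
  rw [hα, hc']

/-- `θ` is real-valued if and only if `f θ` is. -/
theorem glaub_real_iff (hf : GlaubProp p P K C hCK f) (hinj : Function.Injective f)
    (θ : {χ : IrrCharacter ↥K // PInv P K χ}) :
    (∀ k, starRingEnd ℂ ((θ.1 : ↥K → ℂ) k) = (θ.1 : ↥K → ℂ) k) ↔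
      (∀ c, starRingEnd ℂ (((f θ).1 : ↥C → ℂ) c) = ((f θ).1 : ↥C → ℂ) c) := by
  classical
  letI : Fintype ↥K := Fintype.ofFinite _
  letI : Fintype ↥C := Fintype.ofFinite _
  have hinvK : PInv P K (starIrr θ.1 : ↥K → ℂ) := by
    intro x hx k k' hk'
    rw [starIrr_apply, starIrr_apply, θ.2 x hx k k' hk']
  have hinvC : PInv P C (starIrr (f θ).1 : ↥C → ℂ) := by
    intro x hx c c' hc'
    rw [starIrr_apply, starIrr_apply, (f θ).2 x hx c c' hc']
  obtain ⟨m, hm, -, -⟩ := hf θ (f θ)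
  have hpair : (Nat.card ↥C : ℂ)⁻¹ * ∑ᶠ c : ↥C,
        (starIrr θ.1 : ↥K → ℂ) (Subgroup.inclusion hCK c) *
          (starRingEnd ℂ) ((starIrr (f θ).1 : ↥C → ℂ) c) =
      (Nat.card ↥C : ℂ)⁻¹ * ∑ᶠ c : ↥C, (θ.1 : ↥K → ℂ) (Subgroup.inclusion hCK c) *
        (starRingEnd ℂ) (((f θ).1 : ↥C → ℂ) c) := by
    have h1 : (Nat.card ↥C : ℂ)⁻¹ * ∑ᶠ c : ↥C,
        (starIrr θ.1 : ↥K → ℂ) (Subgroup.inclusion hCK c) *
          (starRingEnd ℂ) ((starIrr (f θ).1 : ↥C → ℂ) c) =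
        starRingEnd ℂ ((Nat.card ↥C : ℂ)⁻¹ * ∑ᶠ c : ↥C,
          (θ.1 : ↥K → ℂ) (Subgroup.inclusion hCK c) *
            (starRingEnd ℂ) (((f θ).1 : ↥C → ℂ) c)) := by
      rw [finsum_eq_sum_of_fintype, finsum_eq_sum_of_fintype, map_mul, map_inv₀, map_natCast,
        map_sum]
      congr 1
      refine Finset.sum_congr rfl fun c _ => ?_
      rw [map_mul, starIrr_apply, starIrr_apply]
    rw [h1, hm, map_natCast]
  have key := glaub_transfer p P K C hCK f hf θ ⟨starIrr θ.1, hinvK⟩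
    ⟨starIrr (f θ).1, hinvC⟩ hpair
  constructor
  · intro h c
    have h2 : (⟨starIrr θ.1, hinvK⟩ : {χ : IrrCharacter ↥K // PInv P K χ}) = θ := by
      apply Subtype.ext
      apply Subtype.ext
      funext k
      exact h k
    rw [h2] at key
    have h3 := congrArg (fun t : {ξ : IrrCharacter ↥C // PInv P C ξ} => (t.1 : ↥C → ℂ) c) key
    exact h3
  · intro h k
    have h2 : (⟨starIrr (f θ).1, hinvC⟩ : {ξ : IrrCharacter ↥C // PInv P C ξ}) = f θ := by
      apply Subtype.ext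
      apply Subtype.ext
      funext c
      exact h c
    rw [h2] at key
    have h3 := hinj key
    have h4 := congrArg (fun t : {χ : IrrCharacter ↥K // PInv P K χ} => (t.1 : ↥K → ℂ) k) h3
    exact h4.symm

end Glaub

end Cfsg.Agent.Lib.helper79
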