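import Mathlib
import Cfsg.Prelude.Def_Characters
import Cfsg.Prelude.Def_Blocks
import Cfsg.Agent.Lib.helper79.RealDegF
import Cfsg.Agent.Lib.helper79.RealDegF0

/-!
# Real characters and Sylow normalizers (helper79), part G

The real McKay bijection for a group `G` in which a normal subgroup `K ⊇ O^{2'}(G)` has a normal
Sylow `p`-subgroup (normal in `G`) and all real-valued irreducible characters have degree prime
to `p`: `real_mckay_core`.
-/

set_option autoImplicit false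
set_option linter.style.haveILetI false
set_option linter.unusedSectionVars false

namespace Cfsg.Agent.Lib.helper79

open Cfsg
open Cfsg.Agent.Lib Cfsg.Agent.Lib.helper83 Cfsg.Agent.Lib.helper82
open Cfsg.Agent.Lib.helper83.RealNorm Cfsg.Agent.Lib.helper83.RealMcKay
open scoped ComplexConjugate

universe u

section Core

variable {G : Type u} [Group G] [Fintype G] (p : ℕ) [hp : Fact p.Prime]
  (K : Subgroup G) [hKn : K.Normal] [Fintype ↥K] (P : Sylow p G)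
  [Fintype ↥(nP P)] [Fintype ↥(mP K P)]

/-- Reality is preserved by a relative Glauberman map. -/
theorem glaub_im_iff
    (f : {χ : IrrCharacter ↥K // PInv (P : Subgroup G) K χ} →
      {ξ : IrrCharacter ↥(cP K P) // PInv (P : Subgroup G) (cP K P) ξ})
    (hfi : Function.Injective f)
    (hf : GlaubProp p (P : Subgroup G) K (cP K P) (cP_le K P) f)
    (θ : {χ : IrrCharacter ↥K // PInv (P : Subgroup G) K χ}) :
    (∀ k, ((θ.1 : ↥K → ℂ) k).im = 0) ↔ (∀ c, (((f θ).1 : ↥(cP K P) → ℂ) c).im = 0) := by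
  have h := glaub_real_iff p (P : Subgroup G) K (cP K P) (cP_le K P) f hf hfi θ
  constructor
  · intro h1 c
    exact Complex.conj_eq_iff_im.mp (h.mp (fun k => Complex.conj_eq_iff_im.mpr (h1 k)) c)
  · intro h1 k
    exact Complex.conj_eq_iff_im.mp (h.mpr (fun c => Complex.conj_eq_iff_im.mpr (h1 c)) k)

/-- Equivariance of the transported Glauberman map under the normalizer of `P`. -/
theorem cconj_tr_glaub
    (f : {χ : IrrCharacter ↥K // PInv (P : Subgroup G) K χ} →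
      {ξ : IrrCharacter ↥(cP K P) // PInv (P : Subgroup G) (cP K P) ξ})
    (hf : GlaubProp p (P : Subgroup G) K (cP K P) (cP_le K P) f)
    (n : G) (hn : n ∈ nP P) (θ θ' : {χ : IrrCharacter ↥K // PInv (P : Subgroup G) K χ})
    (h : (θ'.1 : ↥K → ℂ) = cconj K n (θ.1 : ↥K → ℂ)) :
    haveI := mP_normal K P
    cconj (mP K P) (⟨n, hn⟩ : ↥(nP P))
        (subRes (cP K P) (nP P) ((f θ).1 : ↥(cP K P) → ℂ)) =
      subRes (cP K P) (nP P) ((f θ').1 : ↥(cP K P) → ℂ) := by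
  haveI := mP_normal K P
  funext x
  rw [cconj_apply, subRes_apply, subRes_apply]
  symm
  have hnP : ∀ x, x ∈ (P : Subgroup G) ↔ n⁻¹ * x * n ∈ (P : Subgroup G) := by
    intro x
    have h2 := Subgroup.mem_normalizer_iff.mp ((nP P).inv_mem hn) x
    rw [inv_inv] at h2
    exact h2
  have hnK : ∀ k, k ∈ K ↔ n⁻¹ * k * n ∈ K := by
    intro k
    constructor
    · intro hk
      have := hKn.conj_mem k hk n⁻¹
      rwa [inv_inv] at this
    · intro hk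
      have := hKn.conj_mem _ hk n
      have h2 : n * (n⁻¹ * k * n) * n⁻¹ = k := by group
      rwa [h2] at this
  have hnC : ∀ c, c ∈ cP K P ↔ n⁻¹ * c * n ∈ cP K P := by
    intro c
    show c ∈ K ⊓ nP P ↔ n⁻¹ * c * n ∈ K ⊓ nP P
    rw [Subgroup.mem_inf, Subgroup.mem_inf, ← hnK c, ← mem_iff_inv_conj_mem (nP P) hn c]
  apply glaub_equivariant p (P : Subgroup G) K (cP K P) (cP_le K P) f hf n hnP hnK hnC θ θ'
  · intro k k' hk'
    rw [h, cconj_apply]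
    refine congrArg _ ?_
    apply Subtype.ext
    exact hk'.symm
  · rfl

/-- The inertia group in the normalizer of the transported Glauberman correspondent. -/
theorem mem_inertia_tr_glaub
    (f : {χ : IrrCharacter ↥K // PInv (P : Subgroup G) K χ} →
      {ξ : IrrCharacter ↥(cP K P) // PInv (P : Subgroup G) (cP K P) ξ})
    (hfi : Function.Injective f)
    (hf : GlaubProp p (P : Subgroup G) K (cP K P) (cP_le K P) f)
    (θ : {χ : IrrCharacter ↥K // PInv (P : Subgroup G) K χ}) (x : ↥(nP P)) :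
    haveI := mP_normal K P
    x ∈ inertia (mP K P) (subRes (cP K P) (nP P) ((f θ).1 : ↥(cP K P) → ℂ)) ↔
      (x : G) ∈ inertia K (θ.1 : ↥K → ℂ) := by
  haveI := mP_normal K P
  rw [mem_inertia, mem_inertia]
  have h3 := cconj_tr_glaub p K P f hf (x : G) x.2 θ
    ⟨⟨cconj K (x : G) (θ.1 : ↥K → ℂ), isIrrCharacter_cconj K _ θ.1.2⟩,
      pinv_cconj K P _ θ.2 (x : G) x.2⟩ rfl
  have h4 : cconj (mP K P) x (subRes (cP K P) (nP P) ((f θ).1 : ↥(cP K P) → ℂ)) =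
      subRes (cP K P) (nP P)
        ((f ⟨⟨cconj K (x : G) (θ.1 : ↥K → ℂ), isIrrCharacter_cconj K _ θ.1.2⟩,
          pinv_cconj K P _ θ.2 (x : G) x.2⟩).1 : ↥(cP K P) → ℂ) := h3
  rw [h4]
  constructor
  · intro h
    have h5 := subRes_injective (cP K P) (nP P) (cP_le_nP K P) _ _ h
    have h6 : f ⟨⟨cconj K (x : G) (θ.1 : ↥K → ℂ), isIrrCharacter_cconj K _ θ.1.2⟩,
          pinv_cconj K P _ θ.2 (x : G) x.2⟩ = f θ := Subtype.ext (Subtype.ext h5)
    have h7 := hfi h6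
    exact congrArg (fun t : {χ : IrrCharacter ↥K // PInv (P : Subgroup G) K χ} =>
      (t.1 : ↥K → ℂ)) h7
  · intro h
    have h7 : (⟨⟨cconj K (x : G) (θ.1 : ↥K → ℂ), isIrrCharacter_cconj K _ θ.1.2⟩,
          pinv_cconj K P _ θ.2 (x : G) x.2⟩ :
          {χ : IrrCharacter ↥K // PInv (P : Subgroup G) K χ}) = θ :=
      Subtype.ext (Subtype.ext h)
    rw [h7]

/-- Every real-valued irreducible character of `G` lies over a `P`-invariant real-valued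
irreducible character of `K`. -/
theorem mk_total (hK2 : pGen 2 G ≤ K)
    (hreal : ∀ χ : IrrCharacter G, (∀ g, ((χ : G → ℂ) g).im = 0) →
      ¬ p ∣ charDegree (χ : G → ℂ))
    (χ : IrrCharacter G) (hχ : ∀ g, ((χ : G → ℂ) g).im = 0) :
    ∃ θ : {θ : IrrCharacter ↥K // PInv (P : Subgroup G) K θ},
      (∀ k, ((θ.1 : ↥K → ℂ) k).im = 0) ∧
      classInner (fun k : ↥K => (χ : G → ℂ) k) (θ.1 : ↥K → ℂ) ≠ 0 := by
  have hodd := odd_index_of_pGen_two_le K hK2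
  obtain ⟨θ₀, hθ₀, hc₀⟩ := exists_real_under K hodd χ hχ
  have hdeg := real_over_degree K hK2 χ hχ θ₀ hθ₀ hc₀
  have hidx : ¬ p ∣ (inertia K (θ₀ : ↥K → ℂ)).index := by
    intro h
    apply hreal χ hχ
    rw [hdeg]
    exact Dvd.dvd.mul_right h _
  obtain ⟨g, hg⟩ := exists_conj_mem_of_not_dvd_index p (P : Subgroup G)
    (inertia K (θ₀ : ↥K → ℂ)) P.isPGroup' hidx
  have hinv : PInv (P : Subgroup G) K (cconj K g (θ₀ : ↥K → ℂ)) := by
    rw [pinv_iff_le_inertia]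
    intro x hx
    rw [mem_inertia, ← cconj_mul]
    have h1 : x * g = g * (g⁻¹ * x * g) := by group
    rw [h1, cconj_mul]
    congr 1
    exact hg x hx
  refine ⟨⟨⟨cconj K g (θ₀ : ↥K → ℂ), isIrrCharacter_cconj K g θ₀.2⟩, hinv⟩, ?_, ?_⟩
  · intro k
    show (cconj K g (θ₀ : ↥K → ℂ) k).im = 0
    rw [cconj_def]
    exact hθ₀ _
  · show classInner (fun k : ↥K => (χ : G → ℂ) k) (cconj K g (θ₀ : ↥K → ℂ)) ≠ 0
    rw [classInner_restrict_cconj K (isClassFunction_irr χ) g]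
    exact hc₀

/-- Over the transported Glauberman correspondent of a real-valued `θ` lies a real-valued
irreducible character of the normalizer. -/
theorem mk_lift (hK2 : pGen 2 G ≤ K)
    (f : {χ : IrrCharacter ↥K // PInv (P : Subgroup G) K χ} →
      {ξ : IrrCharacter ↥(cP K P) // PInv (P : Subgroup G) (cP K P) ξ})
    (hfi : Function.Injective f)
    (hf : GlaubProp p (P : Subgroup G) K (cP K P) (cP_le K P) f)
    (θ : {χ : IrrCharacter ↥K // PInv (P : Subgroup G) K χ})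
    (hθ : ∀ k, ((θ.1 : ↥K → ℂ) k).im = 0) :
    ∃ ξ : IrrCharacter ↥(nP P), (∀ n, ((ξ : ↥(nP P) → ℂ) n).im = 0) ∧
      classInner (fun m : ↥(mP K P) => (ξ : ↥(nP P) → ℂ) m)
        (subRes (cP K P) (nP P) ((f θ).1 : ↥(cP K P) → ℂ)) ≠ 0 := by
  haveI := mP_normal K P
  have hodd := odd_index_of_pGen_two_le (mP K P) (pGen_two_le_mP K P hK2)
  have hη := (glaub_im_iff p K P f hfi hf θ).mp hθ
  obtain ⟨ξ, hξ, e, he0, he, -⟩ := exists_real_over (mP K P) hodd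
    ⟨subRes (cP K P) (nP P) ((f θ).1 : ↥(cP K P) → ℂ),
      isIrrCharacter_subRes (cP K P) (nP P) (cP_le_nP K P) (f θ).1.2⟩ (fun m => hη _)
  refine ⟨ξ, hξ, ?_⟩
  have he' : classInner (fun m : ↥(mP K P) => (ξ : ↥(nP P) → ℂ) m)
        (subRes (cP K P) (nP P) ((f θ).1 : ↥(cP K P) → ℂ)) = e := he
  rw [he']
  exact_mod_cast he0

/-- The degrees of related real-valued characters are congruent modulo `p` up to sign. -/
theorem mk_deg (hK2 : pGen 2 G ≤ K)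
    (f : {χ : IrrCharacter ↥K // PInv (P : Subgroup G) K χ} →
      {ξ : IrrCharacter ↥(cP K P) // PInv (P : Subgroup G) (cP K P) ξ})
    (hfi : Function.Injective f)
    (hf : GlaubProp p (P : Subgroup G) K (cP K P) (cP_le K P) f)
    (hfdeg : ∀ θ, (charDegree ((f θ).1 : ↥(cP K P) → ℂ) : ZMod p) =
        (charDegree (θ.1 : ↥K → ℂ) : ZMod p) ∨
      (charDegree ((f θ).1 : ↥(cP K P) → ℂ) : ZMod p) =
        -(charDegree (θ.1 : ↥K → ℂ) : ZMod p))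
    (χ : IrrCharacter G) (hχ : ∀ g, ((χ : G → ℂ) g).im = 0)
    (ξ : IrrCharacter ↥(nP P)) (hξ : ∀ n, ((ξ : ↥(nP P) → ℂ) n).im = 0)
    (θ : {χ : IrrCharacter ↥K // PInv (P : Subgroup G) K χ})
    (hθ : ∀ k, ((θ.1 : ↥K → ℂ) k).im = 0)
    (hc1 : classInner (fun k : ↥K => (χ : G → ℂ) k) (θ.1 : ↥K → ℂ) ≠ 0)
    (hc2 : classInner (fun m : ↥(mP K P) => (ξ : ↥(nP P) → ℂ) m)
        (subRes (cP K P) (nP P) ((f θ).1 : ↥(cP K P) → ℂ)) ≠ 0) :
    (charDegree (ξ : ↥(nP P) → ℂ) : ZMod p) = (charDegree (χ : G → ℂ) : ZMod p) ∨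
      (charDegree (ξ : ↥(nP P) → ℂ) : ZMod p) = -(charDegree (χ : G → ℂ) : ZMod p) := by
  haveI := mP_normal K P
  have h1 := real_over_degree K hK2 χ hχ θ.1 hθ hc1
  have hη := (glaub_im_iff p K P f hfi hf θ).mp hθ
  have h2 := real_over_degree (mP K P) (pGen_two_le_mP K P hK2) ξ hξ
    ⟨subRes (cP K P) (nP P) ((f θ).1 : ↥(cP K P) → ℂ),
      isIrrCharacter_subRes (cP K P) (nP P) (cP_le_nP K P) (f θ).1.2⟩ (fun m => hη _) hc2
  have h3 : charDegree (subRes (cP K P) (nP P) ((f θ).1 : ↥(cP K P) → ℂ)) =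
      charDegree ((f θ).1 : ↥(cP K P) → ℂ) := rfl
  have h4 : (inertia (mP K P) (subRes (cP K P) (nP P) ((f θ).1 : ↥(cP K P) → ℂ))).index =
      (inertia K (θ.1 : ↥K → ℂ)).relIndex (nP P) := by
    have h5 : inertia (mP K P) (subRes (cP K P) (nP P) ((f θ).1 : ↥(cP K P) → ℂ)) =
        (inertia K (θ.1 : ↥K → ℂ)).subgroupOf (nP P) := by
      ext x
      rw [Subgroup.mem_subgroupOf]
      exact mem_inertia_tr_glaub p K P f hfi hf θ x
    rw [h5]
    rfl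
  have h5 := index_modEq_normalizer p P (inertia K (θ.1 : ↥K → ℂ))
    ((pinv_iff_le_inertia _ K _).mp θ.2)
  have h6 : ((inertia K (θ.1 : ↥K → ℂ)).index : ZMod p) =
      ((inertia K (θ.1 : ↥K → ℂ)).relIndex (nP P) : ZMod p) :=
    (ZMod.natCast_eq_natCast_iff _ _ _).mpr h5
  have h2' : charDegree (ξ : ↥(nP P) → ℂ) =
      (inertia K (θ.1 : ↥K → ℂ)).relIndex (nP P) *
        charDegree ((f θ).1 : ↥(cP K P) → ℂ) := by
    rw [← h4, ← h3]
    exact h2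
  rw [h1, h2']
  push_cast
  rw [h6]
  rcases hfdeg θ with h | h
  · left
    rw [h]
  · right
    rw [h]
    ring

/-- The relation is functional. -/
theorem mk_fun (hK2 : pGen 2 G ≤ K)
    (f : {χ : IrrCharacter ↥K // PInv (P : Subgroup G) K χ} →
      {ξ : IrrCharacter ↥(cP K P) // PInv (P : Subgroup G) (cP K P) ξ})
    (hfi : Function.Injective f)
    (hf : GlaubProp p (P : Subgroup G) K (cP K P) (cP_le K P) f)
    (χ : IrrCharacter G)
    (ξ₁ ξ₂ : IrrCharacter ↥(nP P)) (hξ₁ : ∀ n, ((ξ₁ : ↥(nP P) → ℂ) n).im = 0)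
    (hξ₂ : ∀ n, ((ξ₂ : ↥(nP P) → ℂ) n).im = 0)
    (θ₁ θ₂ : {χ : IrrCharacter ↥K // PInv (P : Subgroup G) K χ})
    (hθ₁ : ∀ k, ((θ₁.1 : ↥K → ℂ) k).im = 0)
    (h11 : classInner (fun k : ↥K => (χ : G → ℂ) k) (θ₁.1 : ↥K → ℂ) ≠ 0)
    (h12 : classInner (fun m : ↥(mP K P) => (ξ₁ : ↥(nP P) → ℂ) m)
        (subRes (cP K P) (nP P) ((f θ₁).1 : ↥(cP K P) → ℂ)) ≠ 0)
    (h21 : classInner (fun k : ↥K => (χ : G → ℂ) k) (θ₂.1 : ↥K → ℂ) ≠ 0)
    (h22 : classInner (fun m : ↥(mP K P) => (ξ₂ : ↥(nP P) → ℂ) m)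
        (subRes (cP K P) (nP P) ((f θ₂).1 : ↥(cP K P) → ℂ)) ≠ 0) : ξ₁ = ξ₂ := by
  haveI := mP_normal K P
  obtain ⟨g, hg⟩ := clifford_conj K χ.2 θ₁.1.2 θ₂.1.2 h11 h21
  have hP1 := (pinv_iff_le_inertia _ K _).mp θ₁.2
  have hP2 : (P : Subgroup G) ≤ inertia K (cconj K g (θ₁.1 : ↥K → ℂ)) := by
    rw [← hg]
    exact (pinv_iff_le_inertia _ K _).mp θ₂.2
  obtain ⟨n, hn, hng⟩ := exists_normalizer_cconj p K P (θ₁.1 : ↥K → ℂ) hP1 g hP2
  have h3 := cconj_tr_glaub p K P f hf n hn θ₁ θ₂ (by rw [hg, hng])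
  have h4 : classInner (fun m : ↥(mP K P) => (ξ₂ : ↥(nP P) → ℂ) m)
        (subRes (cP K P) (nP P) ((f θ₁).1 : ↥(cP K P) → ℂ)) ≠ 0 := by
    rw [← classInner_restrict_cconj (mP K P) (isClassFunction_irr ξ₂) ⟨n, hn⟩, h3]
    exact h22
  have hη := (glaub_im_iff p K P f hfi hf θ₁).mp hθ₁
  exact real_over_unique (mP K P) (pGen_two_le_mP K P hK2) ξ₁ ξ₂ hξ₁ hξ₂
    ⟨subRes (cP K P) (nP P) ((f θ₁).1 : ↥(cP K P) → ℂ),
      isIrrCharacter_subRes (cP K P) (nP P) (cP_le_nP K P) (f θ₁).1.2⟩ (fun m => hη _) h12 h4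

/-- The relation is injective. -/
theorem mk_inj (hK2 : pGen 2 G ≤ K)
    (f : {χ : IrrCharacter ↥K // PInv (P : Subgroup G) K χ} →
      {ξ : IrrCharacter ↥(cP K P) // PInv (P : Subgroup G) (cP K P) ξ})
    (hfi : Function.Injective f)
    (hf : GlaubProp p (P : Subgroup G) K (cP K P) (cP_le K P) f)
    (χ₁ χ₂ : IrrCharacter G) (hχ₁ : ∀ g, ((χ₁ : G → ℂ) g).im = 0)
    (hχ₂ : ∀ g, ((χ₂ : G → ℂ) g).im = 0)
    (ξ : IrrCharacter ↥(nP P))
    (θ₁ θ₂ : {χ : IrrCharacter ↥K // PInv (P : Subgroup G) K χ})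
    (hθ₁ : ∀ k, ((θ₁.1 : ↥K → ℂ) k).im = 0)
    (h11 : classInner (fun k : ↥K => (χ₁ : G → ℂ) k) (θ₁.1 : ↥K → ℂ) ≠ 0)
    (h12 : classInner (fun m : ↥(mP K P) => (ξ : ↥(nP P) → ℂ) m)
        (subRes (cP K P) (nP P) ((f θ₁).1 : ↥(cP K P) → ℂ)) ≠ 0)
    (h21 : classInner (fun k : ↥K => (χ₂ : G → ℂ) k) (θ₂.1 : ↥K → ℂ) ≠ 0)
    (h22 : classInner (fun m : ↥(mP K P) => (ξ : ↥(nP P) → ℂ) m)
        (subRes (cP K P) (nP P) ((f θ₂).1 : ↥(cP K P) → ℂ)) ≠ 0) : χ₁ = χ₂ := by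
  haveI := mP_normal K P
  obtain ⟨x, hx⟩ := clifford_conj (mP K P) ξ.2
    (isIrrCharacter_subRes (cP K P) (nP P) (cP_le_nP K P) (f θ₁).1.2)
    (isIrrCharacter_subRes (cP K P) (nP P) (cP_le_nP K P) (f θ₂).1.2) h12 h22
  have h3 := cconj_tr_glaub p K P f hf (x : G) x.2 θ₁
    ⟨⟨cconj K (x : G) (θ₁.1 : ↥K → ℂ), isIrrCharacter_cconj K _ θ₁.1.2⟩,
      pinv_cconj K P _ θ₁.2 (x : G) x.2⟩ rfl
  have h4 : subRes (cP K P) (nP P) ((f θ₂).1 : ↥(cP K P) → ℂ) =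
      subRes (cP K P) (nP P)
        ((f ⟨⟨cconj K (x : G) (θ₁.1 : ↥K → ℂ), isIrrCharacter_cconj K _ θ₁.1.2⟩,
          pinv_cconj K P _ θ₁.2 (x : G) x.2⟩).1 : ↥(cP K P) → ℂ) := by
    rw [hx]
    exact h3
  have h5 : θ₂ = ⟨⟨cconj K (x : G) (θ₁.1 : ↥K → ℂ), isIrrCharacter_cconj K _ θ₁.1.2⟩,
      pinv_cconj K P _ θ₁.2 (x : G) x.2⟩ :=
    hfi (Subtype.ext (Subtype.ext (subRes_injective (cP K P) (nP P) (cP_le_nP K P) _ _ h4)))
  have h6 : classInner (fun k : ↥K => (χ₂ : G → ℂ) k) (θ₁.1 : ↥K → ℂ) ≠ 0 := by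
    have h7 : (θ₂.1 : ↥K → ℂ) = cconj K (x : G) (θ₁.1 : ↥K → ℂ) :=
      congrArg (fun t : {χ : IrrCharacter ↥K // PInv (P : Subgroup G) K χ} =>
        (t.1 : ↥K → ℂ)) h5
    rw [h7, classInner_restrict_cconj K (isClassFunction_irr χ₂) (x : G)] at h21
    exact h21
  exact real_over_unique K hK2 χ₁ χ₂ hχ₁ hχ₂ θ₁.1 hθ₁ h11 h6

/-- The relation is surjective. -/
theorem mk_surj (hK2 : pGen 2 G ≤ K)
    (f : {χ : IrrCharacter ↥K // PInv (P : Subgroup G) K χ} →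
      {ξ : IrrCharacter ↥(cP K P) // PInv (P : Subgroup G) (cP K P) ξ})
    (hfb : Function.Bijective f)
    (hf : GlaubProp p (P : Subgroup G) K (cP K P) (cP_le K P) f)
    (ξ : IrrCharacter ↥(nP P)) (hξ : ∀ n, ((ξ : ↥(nP P) → ℂ) n).im = 0)
    (hξp : ¬ p ∣ charDegree (ξ : ↥(nP P) → ℂ)) :
    ∃ θ : {χ : IrrCharacter ↥K // PInv (P : Subgroup G) K χ},
      (∀ k, ((θ.1 : ↥K → ℂ) k).im = 0) ∧
      classInner (fun m : ↥(mP K P) => (ξ : ↥(nP P) → ℂ) m)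
        (subRes (cP K P) (nP P) ((f θ).1 : ↥(cP K P) → ℂ)) ≠ 0 ∧
      ∃ χ : IrrCharacter G, (∀ g, ((χ : G → ℂ) g).im = 0) ∧
        classInner (fun k : ↥K => (χ : G → ℂ) k) (θ.1 : ↥K → ℂ) ≠ 0 := by
  haveI := mP_normal K P
  have hKM := pGen_two_le_mP K P hK2
  have hodd := odd_index_of_pGen_two_le (mP K P) hKM
  obtain ⟨η', hη', hc⟩ := exists_real_under (mP K P) hodd ξ hξ
  have hdeg := real_over_degree (mP K P) hKM ξ hξ η' hη' hc
  have hidx : ¬ p ∣ (inertia (mP K P) (η' : ↥(mP K P) → ℂ)).index := by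
    intro h
    apply hξp
    rw [hdeg]
    exact Dvd.dvd.mul_right h _
  haveI hP'n : ((P : Subgroup G).subgroupOf (nP P)).Normal := Subgroup.normal_in_normalizer
  have hP'p : IsPGroup p ((P : Subgroup G).subgroupOf (nP P)) := P.isPGroup'.comap_subtype
  have hP'le := le_of_normal_of_not_dvd_index p ((P : Subgroup G).subgroupOf (nP P))
    (inertia (mP K P) (η' : ↥(mP K P) → ℂ)) hP'p hidx
  obtain ⟨η, hηdef⟩ : ∃ η : ↥(cP K P) → ℂ, η = fun c =>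
      (η' : ↥(mP K P) → ℂ) ((Subgroup.subgroupOfEquivOfLe (cP_le_nP K P)).symm c) := ⟨_, rfl⟩
  have hηtr : subRes (cP K P) (nP P) η = (η' : ↥(mP K P) → ℂ) := by
    funext x
    rw [subRes_apply, hηdef]
    rfl
  have hηirr : IsIrrCharacter ↥(cP K P) η := by
    rw [hηdef]
    exact isIrrCharacter_comp_surj (Subgroup.subgroupOfEquivOfLe (cP_le_nP K P)).symm.toMonoidHom
      (Subgroup.subgroupOfEquivOfLe (cP_le_nP K P)).symm.surjective η'.2
  have hηinv : PInv (P : Subgroup G) (cP K P) η := by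
    intro x hx c c' hc'
    have hxN : x ∈ nP P := Subgroup.le_normalizer hx
    have h1 := (mem_inertia_iff (mP K P) (η' : ↥(mP K P) → ℂ) ⟨x, hxN⟩).mp
      (hP'le (Subgroup.mem_subgroupOf.mpr hx))
      ((Subgroup.subgroupOfEquivOfLe (cP_le_nP K P)).symm c)
    rw [hηdef]
    show (η' : ↥(mP K P) → ℂ) ((Subgroup.subgroupOfEquivOfLe (cP_le_nP K P)).symm c') =
      (η' : ↥(mP K P) → ℂ) ((Subgroup.subgroupOfEquivOfLe (cP_le_nP K P)).symm c)
    rw [← h1]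
    refine congrArg _ ?_
    apply Subtype.ext
    apply Subtype.ext
    exact hc'
  obtain ⟨θ, hθ⟩ := hfb.2 ⟨⟨η, hηirr⟩, hηinv⟩
  have hfθ : ((f θ).1 : ↥(cP K P) → ℂ) = η := by rw [hθ]
  have hθreal : ∀ k, ((θ.1 : ↥K → ℂ) k).im = 0 := by
    apply (glaub_im_iff p K P f hfb.1 hf θ).mpr
    rw [hfθ, hηdef]
    intro c
    exact hη' _
  have hoddK := odd_index_of_pGen_two_le K hK2
  obtain ⟨χ, hχ, e, he0, he, -⟩ := exists_real_over K hoddK θ.1 hθreal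
  refine ⟨θ, hθreal, ?_, χ, hχ, ?_⟩
  · rw [hfθ, hηtr]
    exact hc
  · rw [he]
    exact_mod_cast he0

end Core

section Main

variable {G : Type u} [Group G] [Finite G]

/-- **Real McKay bijection**: if a normal subgroup `K` containing all `2`-elements has a Sylow
`p`-subgroup `Q` which is normal in `G`, and all real-valued irreducible characters of `G` have
degree prime to `p`, then the real-valued irreducible characters of `G` correspond bijectively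
to the real-valued irreducible characters of degree prime to `p` of the normalizer of a Sylow
`p`-subgroup, with degrees congruent modulo `p` up to sign. -/
theorem real_mckay_core (p : ℕ) [hp : Fact p.Prime] (K Q : Subgroup G) [hKn : K.Normal]
    [hQn : Q.Normal] (hK2 : pGen 2 G ≤ K) (hQK : Q ≤ K) (hQp : IsPGroup p Q)
    (hQidx : ¬ p ∣ Q.relIndex K)
    (hreal : ∀ χ : IrrCharacter G, (∀ g, ((χ : G → ℂ) g).im = 0) →
      ¬ p ∣ charDegree (χ : G → ℂ))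
    (P : Sylow p G) :
    ∃ f : {χ : IrrCharacter G // ∀ g : G, ((χ : G → ℂ) g).im = 0} →
        {ξ : IrrCharacter ↥(Subgroup.normalizer ((P : Subgroup G) : Set G)) //
          (∀ n, ((ξ : ↥(Subgroup.normalizer ((P : Subgroup G) : Set G)) → ℂ) n).im = 0) ∧
          ¬ p ∣ charDegree (ξ : ↥(Subgroup.normalizer ((P : Subgroup G) : Set G)) → ℂ)},
      Function.Bijective f ∧ ∀ χ,
        ((charDegree ((f χ).1 : ↥(Subgroup.normalizer ((P : Subgroup G) : Set G)) → ℂ) :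
            ZMod p) = (charDegree (χ.1 : G → ℂ) : ZMod p) ∨
          (charDegree ((f χ).1 : ↥(Subgroup.normalizer ((P : Subgroup G) : Set G)) → ℂ) :
            ZMod p) = -(charDegree (χ.1 : G → ℂ) : ZMod p)) := by
  classical
  letI : Fintype G := Fintype.ofFinite G
  letI : Fintype ↥K := Fintype.ofFinite _
  letI : Fintype ↥(nP P) := Fintype.ofFinite _
  letI : Fintype ↥(mP K P) := Fintype.ofFinite _
  obtain ⟨a, ha⟩ := IsPGroup.iff_card.mp hQp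
  have hPK : (P : Subgroup G) ≤ Subgroup.normalizer (K : Set G) := by
    rw [Subgroup.normalizer_eq_top]
    exact le_top
  obtain ⟨f, hfb, hfall⟩ := rel_glauberman_internal p (P : Subgroup G) K Q (cP K P)
    P.isPGroup' hPK hQK (fun k _ q hq => hQn.conj_mem q hq k) ⟨a, ha⟩ hQidx (cP_le K P)
    (fun k => mem_inf_normalizer_iff p K Q hQK hQp hQidx P k)
  have hf : GlaubProp p (P : Subgroup G) K (cP K P) (cP_le K P) f := fun χ => (hfall χ).1
  have hfdeg := fun χ => (hfall χ).2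
  have hex : ∀ χ : {χ : IrrCharacter G // ∀ g : G, ((χ : G → ℂ) g).im = 0},
      ∃ ξ : {ξ : IrrCharacter ↥(nP P) //
          (∀ n, ((ξ : ↥(nP P) → ℂ) n).im = 0) ∧ ¬ p ∣ charDegree (ξ : ↥(nP P) → ℂ)},
        ∃ θ : {χ : IrrCharacter ↥K // PInv (P : Subgroup G) K χ},
          (∀ k, ((θ.1 : ↥K → ℂ) k).im = 0) ∧
          classInner (fun k : ↥K => (χ.1 : G → ℂ) k) (θ.1 : ↥K → ℂ) ≠ 0 ∧
          classInner (fun m : ↥(mP K P) => (ξ.1 : ↥(nP P) → ℂ) m)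
            (subRes (cP K P) (nP P) ((f θ).1 : ↥(cP K P) → ℂ)) ≠ 0 := by
    intro χ
    obtain ⟨θ, hθ, hc1⟩ := mk_total p K P hK2 hreal χ.1 χ.2
    obtain ⟨ξ, hξ, hc2⟩ := mk_lift p K P hK2 f hfb.1 hf θ hθ
    have hd := mk_deg p K P hK2 f hfb.1 hf hfdeg χ.1 χ.2 ξ hξ θ hθ hc1 hc2
    have hξp : ¬ p ∣ charDegree (ξ : ↥(nP P) → ℂ) := by
      intro h
      apply hreal χ.1 χ.2
      rw [← ZMod.natCast_eq_zero_iff] at h ⊢
      rcases hd with hd | hd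
      · rw [← hd]
        exact h
      · rw [h] at hd
        exact neg_eq_zero.mp hd.symm
    exact ⟨⟨ξ, hξ, hξp⟩, θ, hθ, hc1, hc2⟩
  choose F hF using hex
  refine ⟨F, ⟨?_, ?_⟩, ?_⟩
  · intro χ₁ χ₂ h
    obtain ⟨θ₁, hθ₁, h11, h12⟩ := hF χ₁
    obtain ⟨θ₂, hθ₂, h21, h22⟩ := hF χ₂
    rw [h] at h12
    exact Subtype.ext (mk_inj p K P hK2 f hfb.1 hf χ₁.1 χ₂.1 χ₁.2 χ₂.2 (F χ₂).1 θ₁ θ₂ hθ₁
      h11 h12 h21 h22)
  · intro ξ
    obtain ⟨θ, hθ, hc2, χ, hχ, hc1⟩ := mk_surj p K P hK2 f hfb hf ξ.1 ξ.2.1 ξ.2.2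
    refine ⟨⟨χ, hχ⟩, ?_⟩
    obtain ⟨θ', hθ', h11, h12⟩ := hF ⟨χ, hχ⟩
    apply Subtype.ext
    exact mk_fun p K P hK2 f hfb.1 hf χ (F ⟨χ, hχ⟩).1 ξ.1 (F ⟨χ, hχ⟩).2.1 ξ.2.1 θ' θ hθ'
      h11 h12 hc1 hc2
  · intro χ
    obtain ⟨θ, hθ, h1, h2⟩ := hF χ
    exact mk_deg p K P hK2 f hfb.1 hf hfdeg χ.1 χ.2 (F χ).1 (F χ).2.1 θ hθ h1 h2

end Main

end Cfsg.Agent.Lib.helper79
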