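import Mathlib
import Cfsg.Prelude.Def_Characters
import Cfsg.Prelude.Def_Blocks
import Cfsg.Agent.Lib.helper79.RealDegG
import Cfsg.Agent.Lib.helper82.CoprimeExt1
import Cfsg.Agent.Lib.helper78.RealBlock
import Cfsg.Agent.Lib.helper32.FrobKer
import Cfsg.Agent.Lib.helper19.AbelianOver
import Cfsg.Agent.Lib.helper19.LinChar
import Cfsg.Agent.Lib.helper12.MinNormal
import Cfsg.Agent.Lib.helper82.CharQuot
import Cfsg.Agent.Lib.helper82.Ito
import Cfsg.Agent.Lib.helper21.TIChar

/-!
# Real characters of odd degree (helper79), part A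

Generic facts on real-valued irreducible characters of odd degree:

* `exists_real_odd_constituent` : a real-valued character of odd degree has a real-valued
  irreducible constituent of odd degree with odd multiplicity.
* `exists_odd_constituent` : a character of odd degree has an irreducible constituent of odd
  degree with odd multiplicity.
* `ker_of_real_odd` : a normal subgroup of odd order lies in the kernel of every real-valued
  irreducible character of odd degree.
* `card_real_odd_comp_surj` : the real-valued irreducible characters of odd degree of a quotient.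
-/

set_option autoImplicit false
set_option linter.style.haveILetI false
set_option linter.unusedSectionVars false

namespace Cfsg.Agent.Lib.helper79

open Cfsg
open Cfsg.Agent.Lib Cfsg.Agent.Lib.helper83 Cfsg.Agent.Lib.helper82
open scoped ComplexConjugate

universe u

section Gen

variable {X : Type u} [Group X] [Fintype X]

/-- The multiplicity of the complex conjugate character in a real-valued function. -/
theorem classInner_star_of_real (f : X → ℂ) (hf : ∀ m, (f m).im = 0) (φ : IrrCharacter X) :
    classInner f (starIrr φ : X → ℂ) = conj (classInner f (φ : X → ℂ)) := by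
  rw [classInner_def, classInner_def, map_mul, map_inv₀, Complex.conj_natCast, map_sum]
  congr 1
  refine Finset.sum_congr rfl fun m _ => ?_
  rw [map_mul, starIrr_apply, Complex.conj_conj, Complex.conj_eq_iff_im.mpr (hf m)]

theorem charDegree_starIrr (φ : IrrCharacter X) :
    charDegree (starIrr φ : X → ℂ) = charDegree (φ : X → ℂ) := by
  apply helper21.charDegree_of_one_eq
  rw [starIrr_apply, irr_one_eq_charDegree, Complex.conj_natCast]

/-- A real-valued character of odd degree has a real-valued irreducible constituent of odd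
degree, with odd multiplicity. -/
theorem exists_real_odd_constituent (ψ : X → ℂ) (hψ : IsCharacter X ψ)
    (hreal : ∀ x, (ψ x).im = 0) (d : ℕ) (hd : ψ 1 = d) (hodd : Odd d) :
    ∃ θ : IrrCharacter X, (∀ x, ((θ : X → ℂ) x).im = 0) ∧ Odd (charDegree (θ : X → ℂ)) ∧
      ∃ e : ℕ, Odd e ∧ classInner ψ (θ : X → ℂ) = e := by
  classical
  letI : Fintype (IrrCharacter X) := Fintype.ofFinite _
  obtain ⟨Nm, hN, hNg, hN1⟩ := exists_nat_decomp hψ
  have hsum : (∑ φ : IrrCharacter X, Nm φ * charDegree (φ : X → ℂ)) = d := by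
    have h := hN1
    rw [hd] at h
    exact (Nat.cast_injective h).symm
  have hNstar : ∀ φ : IrrCharacter X, Nm (starIrr φ) = Nm φ := by
    intro φ
    have h := classInner_star_of_real ψ hreal φ
    rw [hN, hN, Complex.conj_natCast] at h
    exact Nat.cast_injective h
  obtain ⟨θ, hfix, hoddθ⟩ := helper83.RealNorm.exists_fixed_odd
    (fun φ : IrrCharacter X => starIrr φ) (fun φ => starIrr_starIrr φ)
    (fun φ => Nm φ * charDegree (φ : X → ℂ))
    (fun φ => by rw [hNstar, charDegree_starIrr])
    (by rw [hsum]; exact hodd)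
  rw [Nat.odd_mul] at hoddθ
  exact ⟨θ, (starIrr_eq_iff θ).mp hfix, hoddθ.2, Nm θ, hoddθ.1, hN θ⟩

/-- A character of odd degree has an irreducible constituent of odd degree, with odd
multiplicity. -/
theorem exists_odd_constituent (ψ : X → ℂ) (hψ : IsCharacter X ψ)
    (d : ℕ) (hd : ψ 1 = d) (hodd : Odd d) :
    ∃ θ : IrrCharacter X, Odd (charDegree (θ : X → ℂ)) ∧
      ∃ e : ℕ, Odd e ∧ classInner ψ (θ : X → ℂ) = e := by
  classical
  letI : Fintype (IrrCharacter X) := Fintype.ofFinite _
  obtain ⟨Nm, hN, hNg, hN1⟩ := exists_nat_decomp hψ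
  have hsum : (∑ φ : IrrCharacter X, Nm φ * charDegree (φ : X → ℂ)) = d := by
    have h := hN1
    rw [hd] at h
    exact (Nat.cast_injective h).symm
  by_contra hcon
  have hev : ∀ φ ∈ (Finset.univ : Finset (IrrCharacter X)),
      Even (Nm φ * charDegree (φ : X → ℂ)) := by
    intro φ _
    rw [← Nat.not_odd_iff_even, Nat.odd_mul]
    rintro ⟨h1, h2⟩
    exact hcon ⟨φ, h2, Nm φ, h1, hN φ⟩
  have h2 := Finset.even_sum _ hev
  rw [hsum] at h2
  exact (Nat.not_even_iff_odd.mpr hodd) h2

end Gen

section Ker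

variable {H : Type u} [Group H] [Fintype H]

/-- A normal subgroup of odd order lies in the kernel of every real-valued irreducible character
of odd degree. -/
theorem ker_of_real_odd (A : Subgroup H) [hA : A.Normal] (hAodd : Odd (Nat.card A))
    (χ : IrrCharacter H) (hreal : ∀ g, ((χ : H → ℂ) g).im = 0)
    (hodd : Odd (charDegree (χ : H → ℂ))) : ∀ a ∈ A, (χ : H → ℂ) a = (χ : H → ℂ) 1 := by
  classical
  letI : Fintype ↥A := Fintype.ofFinite _
  letI : Fintype (IrrCharacter ↥A) := Fintype.ofFinite _
  have hres : IsCharacter ↥A (fun n : ↥A => (χ : H → ℂ) n) :=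
    helper84.isCharacter_restrict A (isCharacter_of_irr χ.2)
  obtain ⟨θ, hθ, -, e, he, hc⟩ := exists_real_odd_constituent (fun n : ↥A => (χ : H → ℂ) n) hres
    (fun x => hreal _) (charDegree (χ : H → ℂ)) (irr_one_eq_charDegree χ) hodd
  have htriv : θ = helper83.trivIrr ↥A :=
    helper78.irr_eq_one_of_real_of_odd (Nat.Coprime.symm (Nat.coprime_two_left.mpr hAodd)) θ
      (fun n => Complex.conj_eq_iff_im.mpr (hθ n))
  have hinv : ∀ g : H, cconj A g (θ : ↥A → ℂ) = (θ : ↥A → ℂ) := by
    intro g
    funext n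
    rw [cconj_apply, htriv, trivIrr_apply, trivIrr_apply]
  have he0 : e ≠ 0 := by
    rintro rfl
    exact absurd he (by decide)
  intro a ha
  have h1 := clifford_invariant A χ.2 θ.2 hinv e hc he0 ⟨a, ha⟩
  have h2 := clifford_invariant A χ.2 θ.2 hinv e hc he0 1
  rw [htriv, trivIrr_apply] at h1 h2
  have h3 : (χ : H → ℂ) a = (e : ℂ) * 1 := h1
  have h4 : (χ : H → ℂ) 1 = (e : ℂ) * 1 := h2
  rw [h3, h4]

end Ker

section Quot

/-- The real-valued irreducible characters of odd degree of a quotient correspond to those of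
the group that are trivial on the kernel. -/
theorem card_real_odd_comp_surj {X Y : Type u} [Group X] [Group Y] [Finite X] (f : X →* Y)
    (hf : Function.Surjective f) :
    Nat.card {ψ : IrrCharacter Y // (∀ y, ((ψ : Y → ℂ) y).im = 0) ∧
        Odd (charDegree (ψ : Y → ℂ))} =
      Nat.card {χ : IrrCharacter X // (∀ x, f x = 1 → (χ : X → ℂ) x = (χ : X → ℂ) 1) ∧
        (∀ x, ((χ : X → ℂ) x).im = 0) ∧ Odd (charDegree (χ : X → ℂ))} := by
  classical
  have hdeg : ∀ ψ : IrrCharacter Y,
      charDegree (fun x => (ψ : Y → ℂ) (f x)) = charDegree (ψ : Y → ℂ) := by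
    intro ψ
    apply helper21.charDegree_of_one_eq
    rw [map_one, irr_one_eq_charDegree]
  refine Nat.card_congr (Equiv.ofBijective
    (fun ψ => ⟨⟨fun x => (ψ.1 : Y → ℂ) (f x), isIrrCharacter_comp_surj f hf ψ.1.2⟩,
      fun x hx => by
        show (ψ.1 : Y → ℂ) (f x) = (ψ.1 : Y → ℂ) (f 1)
        rw [hx, map_one],
      fun x => ψ.2.1 _, by
        show Odd (charDegree (fun x => (ψ.1 : Y → ℂ) (f x)))
        rw [hdeg]
        exact ψ.2.2⟩) ⟨?_, ?_⟩)
  · intro ψ₁ ψ₂ h
    apply Subtype.ext
    apply Subtype.ext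
    funext y
    obtain ⟨x, rfl⟩ := hf y
    have h1 := congrArg (fun t : {χ : IrrCharacter X //
        (∀ x, f x = 1 → (χ : X → ℂ) x = (χ : X → ℂ) 1) ∧
        (∀ x, ((χ : X → ℂ) x).im = 0) ∧ Odd (charDegree (χ : X → ℂ))} => (t.1 : X → ℂ) x) h
    exact h1
  · rintro ⟨χ, hk, hr, ho⟩
    obtain ⟨ψ, hψ, hψχ⟩ := exists_irr_deflation f hf χ.2
      (fun x hx => hk x (MonoidHom.mem_ker.mp hx))
    have hfun : (fun x => ψ (f x)) = (χ : X → ℂ) := funext hψχ
    refine ⟨⟨⟨ψ, hψ⟩, ?_, ?_⟩, ?_⟩
    · intro y
      obtain ⟨x, rfl⟩ := hf y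
      show (ψ (f x)).im = 0
      rw [hψχ]
      exact hr x
    · have h1 := hdeg ⟨ψ, hψ⟩
      have h2 : charDegree (fun x => ψ (f x)) = charDegree ψ := h1
      rw [← h2, hfun]
      exact ho
    · apply Subtype.ext
      apply Subtype.ext
      exact hfun

end Quot

end Cfsg.Agent.Lib.helper79
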