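import Mathlib
import Cfsg.Prelude.Def_Characters
import Cfsg.Prelude.Def_Blocks
import Cfsg.Agent.Lib.helper79.RealOddA

/-!
# Real characters of odd degree (helper79), part B

* `exists_transfer_ext` : extension of an invariant sign character from a subgroup of odd index
  by the transfer.
* `exists_real_linear_under`, `exists_linear_under` : linear constituents on a `2`-subgroup.
* `card_real_odd_clifford` : the Clifford correspondence counts real characters of odd degree.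
* `card_real_odd_gallagher` : multiplication by a sign character.
* `card_eq_of_fiberwise` : a counting lemma.
-/

set_option autoImplicit false
set_option linter.style.haveILetI false
set_option linter.unusedSectionVars false

namespace Cfsg.Agent.Lib.helper79

open Cfsg
open Cfsg.Agent.Lib Cfsg.Agent.Lib.helper83 Cfsg.Agent.Lib.helper82
open scoped ComplexConjugate

universe u

section Units

/-- A complex root of unity with vanishing imaginary part squares to one. -/
theorem unit_sq_eq_one_of_im (z : ℂˣ) (n : ℕ) (hn : n ≠ 0) (hz : z ^ n = 1)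
    (him : (z : ℂ).im = 0) : z ^ 2 = 1 := by
  have h1 : ((z : ℂ)) ^ n = 1 := by
    have := congrArg (fun u : ℂˣ => (u : ℂ)) hz
    simpa using this
  have h2 : ‖(z : ℂ)‖ = 1 := Complex.norm_eq_one_of_pow_eq_one h1 hn
  have h4 : (z : ℂ).re * (z : ℂ).re = 1 := by
    have h5 := Complex.sq_norm (z : ℂ)
    rw [h2, Complex.normSq_apply, him] at h5
    linarith
  apply Units.ext
  rw [Units.val_pow_eq_pow_val, Units.val_one, sq]
  apply Complex.ext
  · rw [Complex.mul_re, him, h4]; simp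
  · rw [Complex.mul_im, him]; simp

/-- A complex unit squaring to one has vanishing imaginary part. -/
theorem unit_im_of_sq (z : ℂˣ) (h : z ^ 2 = 1) : (z : ℂ).im = 0 := by
  have h1 : (z : ℂ) * (z : ℂ) = 1 := by
    have := congrArg (fun u : ℂˣ => (u : ℂ)) h
    simpa [sq] using this
  rcases mul_self_eq_one_iff.mp h1 with h2 | h2
  · rw [h2]; simp
  · rw [h2]; simp

end Units

section Transfer

/-- Extension by the transfer: a linear character `ν` of a subgroup `P` of odd index, whose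
restriction to a normal subgroup `V ≤ P` is invariant and has values `±1`, yields a linear
character of the whole group agreeing with `ν` on `V`. -/
theorem exists_transfer_ext {T : Type u} [Group T] [Finite T] (P V : Subgroup T) (hVP : V ≤ P)
    [hV : V.Normal] (hodd : Odd P.index) (ν : ↥P →* ℂˣ)
    (hinv : ∀ (t v : T) (hv : v ∈ V),
      ν ⟨t * v * t⁻¹, hVP (hV.conj_mem v hv t)⟩ = ν ⟨v, hVP hv⟩)
    (hsq : ∀ (v : T) (hv : v ∈ V), ν ⟨v, hVP hv⟩ ^ 2 = 1) :
    ∃ μ : T →* ℂˣ, (∀ (v : T) (hv : v ∈ V), μ v = ν ⟨v, hVP hv⟩) ∧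
      ((∀ x, ν x ^ 2 = 1) → ∀ t, μ t ^ 2 = 1) := by
  classical
  refine ⟨MonoidHom.transfer ν, ?_, ?_⟩
  · intro v hv
    letI : Fintype (Quotient (MulAction.orbitRel (Subgroup.zpowers v) (T ⧸ P))) :=
      Fintype.ofFinite _
    rw [MonoidHom.transfer_eq_prod_quotient_orbitRel_zpowers_quot]
    have h1 : ∀ q : Quotient (MulAction.orbitRel (Subgroup.zpowers v) (T ⧸ P)),
        ν ⟨q.out.out⁻¹ * v ^ Function.minimalPeriod (v • ·) q.out * q.out.out,
            QuotientGroup.out_conj_pow_minimalPeriod_mem P v q.out⟩ =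
          ν ⟨v, hVP hv⟩ ^ Function.minimalPeriod (v • ·) q.out := by
      intro q
      have hvk : v ^ Function.minimalPeriod (v • ·) q.out ∈ V := V.pow_mem hv _
      have h2 := hinv (q.out.out⁻¹) _ hvk
      have h3 : (⟨q.out.out⁻¹ * v ^ Function.minimalPeriod (v • ·) q.out * q.out.out,
          QuotientGroup.out_conj_pow_minimalPeriod_mem P v q.out⟩ : ↥P) =
          ⟨q.out.out⁻¹ * v ^ Function.minimalPeriod (v • ·) q.out * (q.out.out⁻¹)⁻¹,
            hVP (hV.conj_mem _ hvk _)⟩ := Subtype.ext (by simp)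
      rw [h3, h2]
      have h4 : (⟨v ^ Function.minimalPeriod (v • ·) q.out, hVP hvk⟩ : ↥P) =
          ⟨v, hVP hv⟩ ^ Function.minimalPeriod (v • ·) q.out := rfl
      rw [h4, map_pow]
    rw [Finset.prod_congr rfl (fun q _ => h1 q), Finset.prod_pow_eq_pow_sum]
    have hsum : ∑ q : Quotient (MulAction.orbitRel (Subgroup.zpowers v) (T ⧸ P)),
        Function.minimalPeriod (v • ·) q.out = P.index := by
      rw [Subgroup.index_eq_card,
        Nat.card_congr (MulAction.selfEquivSigmaOrbits (Subgroup.zpowers v) (T ⧸ P)),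
        Nat.card_sigma]
      refine Finset.sum_congr rfl fun q _ => ?_
      have h := @MulAction.minimalPeriod_eq_card _ _ _ v _ q.out (Fintype.ofFinite _)
      rw [h]
      exact (@Nat.card_eq_fintype_card _ (Fintype.ofFinite _)).symm
    rw [hsum]
    obtain ⟨k, hk⟩ := hodd
    rw [hk, pow_succ, pow_mul, hsq v hv, one_pow, one_mul]
  · intro hν t
    letI : Fintype (Quotient (MulAction.orbitRel (Subgroup.zpowers t) (T ⧸ P))) :=
      Fintype.ofFinite _
    rw [MonoidHom.transfer_eq_prod_quotient_orbitRel_zpowers_quot, ← Finset.prod_pow]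
    exact Finset.prod_eq_one (fun q _ => hν _)

end Transfer

section Linear

variable {X : Type u} [Group X] [Fintype X]

/-- An odd-degree irreducible constituent of the restriction of `ψ` to a `2`-subgroup `Q` is
linear and agrees on the normal subgroup `W ≤ Q` with the invariant character `θ` under `ψ`. -/
theorem linear_under_aux (Q W : Subgroup X) (hWQ : W ≤ Q) [hW : W.Normal] [Fintype ↥Q]
    [Fintype ↥W] (hQ : IsPGroup 2 Q)
    (θ : ↥W → ℂ) (hθ : IsIrrCharacter ↥W θ) (hinv : ∀ g : X, cconj W g θ = θ)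
    (ψ : IrrCharacter X) (hc : classInner (fun w : W => (ψ : X → ℂ) w) θ ≠ 0)
    (η : IrrCharacter ↥Q) (hηodd : Odd (charDegree (η : ↥Q → ℂ)))
    (hη : classInner (fun y : Q => (ψ : X → ℂ) y) (η : ↥Q → ℂ) ≠ 0) :
    ∃ ν : ↥Q →* ℂˣ, (∀ y, (η : ↥Q → ℂ) y = ν y) ∧
      (∀ (w : X) (hw : w ∈ W), θ ⟨w, hw⟩ = ν ⟨w, hWQ hw⟩) := by
  classical
  letI : Fintype (IrrCharacter ↥Q) := Fintype.ofFinite _
  letI : Fintype (IrrCharacter ↥W) := Fintype.ofFinite _
  obtain ⟨k, hk⟩ := IsPGroup.iff_card.mp hQ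
  obtain ⟨d, hd0, hd1, hdvd⟩ := helper32.irr_degree_nat_dvd η.2
  have hdeg : charDegree (η : ↥Q → ℂ) = d := helper21.charDegree_of_one_eq hd1
  have hd : d = 1 := by
    rw [hdeg] at hηodd
    rw [hk] at hdvd
    exact Nat.Coprime.eq_one_of_dvd ((Nat.coprime_two_right.mpr hηodd).pow_right k) hdvd
  have h1 : (η : ↥Q → ℂ) 1 = 1 := by rw [hd1, hd]; simp
  obtain ⟨ν, hν⟩ := helper82.exists_hom_of_linear (isCharacter_of_irr η.2) h1
  refine ⟨ν, hν, ?_⟩
  -- the restriction of `η` to `W`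
  have hη'irr : IsIrrCharacter ↥W (fun w : W => (η : ↥Q → ℂ) ⟨w, hWQ w.2⟩) := by
    have h2 := isIrrCharacter_of_hom (ν.comp (Subgroup.inclusion hWQ))
    have h3 : (fun g : ↥W => (((ν.comp (Subgroup.inclusion hWQ)) g : ℂˣ) : ℂ)) =
        (fun w : W => (η : ↥Q → ℂ) ⟨w, hWQ w.2⟩) := by
      funext w
      rw [hν]
      rfl
    rw [h3] at h2
    exact h2
  have htr := classInner_restrict_trans W Q hWQ (isClassFunction_irr ψ)
    (fun w : W => (η : ↥Q → ℂ) ⟨w, hWQ w.2⟩)
  choose a ha using fun ψ' : IrrCharacter ↥Q =>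
    helper4.exists_nat_classInner_irr
      (helper84.isCharacter_restrict Q (isCharacter_of_irr ψ.2)) ψ'.2
  choose b hb using fun ψ' : IrrCharacter ↥Q =>
    helper4.exists_nat_classInner_irr
      (isCharacter_restrict_le W Q hWQ (isCharacter_of_irr ψ'.2)) hη'irr
  have hsum : classInner (fun w : W => (ψ : X → ℂ) w)
      (fun w : W => (η : ↥Q → ℂ) ⟨w, hWQ w.2⟩) =
      ((∑ ψ' : IrrCharacter ↥Q, a ψ' * b ψ' : ℕ) : ℂ) := by
    rw [htr]
    push_cast
    refine Finset.sum_congr rfl fun ψ' _ => ?_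
    rw [ha ψ', hb ψ']
  have haη : a η ≠ 0 := by
    intro h0
    apply hη
    rw [ha η, h0]
    simp
  have hbη : b η = 1 := by
    have h2 := hb η
    rw [helper4.classInner_irr_self hη'irr] at h2
    exact_mod_cast h2.symm
  have hpos : 0 < ∑ ψ' : IrrCharacter ↥Q, a ψ' * b ψ' := by
    have h2 : a η * b η ≤ ∑ ψ' : IrrCharacter ↥Q, a ψ' * b ψ' :=
      Finset.single_le_sum (f := fun ψ' : IrrCharacter ↥Q => a ψ' * b ψ')
        (fun _ _ => Nat.zero_le _) (Finset.mem_univ η)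
    rw [hbη, mul_one] at h2
    exact lt_of_lt_of_le (Nat.pos_of_ne_zero haη) h2
  have hne : classInner (fun w : W => (ψ : X → ℂ) w)
      (fun w : W => (η : ↥Q → ℂ) ⟨w, hWQ w.2⟩) ≠ 0 := by
    rw [hsum]
    exact_mod_cast hpos.ne'
  obtain ⟨e, he⟩ := helper4.exists_nat_classInner_irr
    (helper84.isCharacter_restrict W (isCharacter_of_irr ψ.2)) hθ
  have he0 : e ≠ 0 := by
    intro h0
    apply hc
    rw [he, h0]
    simp
  have hres : (fun w : W => (ψ : X → ℂ) w) = fun w : W => (e : ℂ) * θ w := by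
    funext w
    exact clifford_invariant W ψ.2 hθ hinv e he he0 w
  rw [hres, helper84.classInner_const_mul_left] at hne
  have hne2 : classInner θ (fun w : W => (η : ↥Q → ℂ) ⟨w, hWQ w.2⟩) ≠ 0 := by
    intro h0
    apply hne
    rw [h0, mul_zero]
  have heq : (⟨θ, hθ⟩ : IrrCharacter ↥W) = ⟨_, hη'irr⟩ := by
    by_contra hcon
    exact hne2 (helper81.irr_classInner_ne hcon)
  intro w hw
  have h5 := congrArg (fun t : IrrCharacter ↥W => (t : ↥W → ℂ) ⟨w, hw⟩) heq
  have h6 : θ ⟨w, hw⟩ = (η : ↥Q → ℂ) ⟨w, hWQ hw⟩ := h5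
  rw [h6, hν]

/-- Under a real-valued irreducible character of odd degree lying over the invariant character
`θ` of the normal `2`-subgroup `W`, there is a sign character of the `2`-subgroup `Q ≥ W`
extending `θ`. -/
theorem exists_real_linear_under (Q W : Subgroup X) (hWQ : W ≤ Q) [hW : W.Normal] [Fintype ↥W]
    (hQ : IsPGroup 2 Q)
    (θ : ↥W → ℂ) (hθ : IsIrrCharacter ↥W θ) (hinv : ∀ g : X, cconj W g θ = θ)
    (ψ : IrrCharacter X) (hreal : ∀ x, ((ψ : X → ℂ) x).im = 0)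
    (hodd : Odd (charDegree (ψ : X → ℂ)))
    (hc : classInner (fun w : W => (ψ : X → ℂ) w) θ ≠ 0) :
    ∃ ν : ↥Q →* ℂˣ, (∀ (w : X) (hw : w ∈ W), θ ⟨w, hw⟩ = ν ⟨w, hWQ hw⟩) ∧
      ∀ y, ν y ^ 2 = 1 := by
  classical
  letI : Fintype ↥Q := Fintype.ofFinite _
  obtain ⟨η, hηreal, hηodd, e, he, hηc⟩ := exists_real_odd_constituent
    (fun y : Q => (ψ : X → ℂ) y) (helper84.isCharacter_restrict Q (isCharacter_of_irr ψ.2))
    (fun y => hreal _) (charDegree (ψ : X → ℂ)) (irr_one_eq_charDegree ψ) hodd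
  have hη0 : classInner (fun y : Q => (ψ : X → ℂ) y) (η : ↥Q → ℂ) ≠ 0 := by
    rw [hηc]
    intro h0
    have h1 : e = 0 := by exact_mod_cast h0
    rw [h1] at he
    exact absurd he (by decide)
  obtain ⟨ν, hν, hνθ⟩ := linear_under_aux Q W hWQ hQ θ hθ hinv ψ hc η hηodd hη0
  refine ⟨ν, hνθ, fun y => ?_⟩
  apply unit_sq_eq_one_of_im (ν y) (orderOf y) (orderOf_pos y).ne'
  · rw [← map_pow, pow_orderOf_eq_one, map_one]
  · rw [← hν]
    exact hηreal y

/-- Under an irreducible character of odd degree lying over the invariant character `θ` of the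
normal `2`-subgroup `W`, there is a linear character of the `2`-subgroup `Q ≥ W` extending
`θ`. -/
theorem exists_linear_under (Q W : Subgroup X) (hWQ : W ≤ Q) [hW : W.Normal] [Fintype ↥W]
    (hQ : IsPGroup 2 Q)
    (θ : ↥W → ℂ) (hθ : IsIrrCharacter ↥W θ) (hinv : ∀ g : X, cconj W g θ = θ)
    (ψ : IrrCharacter X) (hodd : Odd (charDegree (ψ : X → ℂ)))
    (hc : classInner (fun w : W => (ψ : X → ℂ) w) θ ≠ 0) :
    ∃ ν : ↥Q →* ℂˣ, ∀ (w : X) (hw : w ∈ W), θ ⟨w, hw⟩ = ν ⟨w, hWQ hw⟩ := by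
  classical
  letI : Fintype ↥Q := Fintype.ofFinite _
  obtain ⟨η, hηodd, e, he, hηc⟩ := exists_odd_constituent
    (fun y : Q => (ψ : X → ℂ) y) (helper84.isCharacter_restrict Q (isCharacter_of_irr ψ.2))
    (charDegree (ψ : X → ℂ)) (irr_one_eq_charDegree ψ) hodd
  have hη0 : classInner (fun y : Q => (ψ : X → ℂ) y) (η : ↥Q → ℂ) ≠ 0 := by
    rw [hηc]
    intro h0
    have h1 : e = 0 := by exact_mod_cast h0
    rw [h1] at he
    exact absurd he (by decide)
  obtain ⟨ν, hν, hνθ⟩ := linear_under_aux Q W hWQ hQ θ hθ hinv ψ hc η hηodd hη0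
  exact ⟨ν, hνθ⟩

end Linear

section Ind

variable {H : Type u} [Group H] [Fintype H]

/-- Induction commutes with complex conjugation. -/
theorem indFun_conj (T : Subgroup H) (ψ : ↥T → ℂ) (g : H) :
    indFun T (fun t => conj (ψ t)) g = conj (indFun T ψ g) := by
  classical
  rw [helper4.indFun_apply, helper4.indFun_apply, map_mul, map_inv₀, Complex.conj_natCast,
    map_sum]
  congr 1
  refine Finset.sum_congr rfl fun x _ => ?_
  by_cases hx : x⁻¹ * g * x ∈ T
  · rw [helper4.extendByZero_apply_mem T _ hx, helper4.extendByZero_apply_mem T _ hx]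
  · rw [helper19.extendByZero_of_not_mem T _ _ hx, helper19.extendByZero_of_not_mem T _ _ hx,
      map_zero]

/-- The induced function of a real-valued function is real-valued. -/
theorem indFun_im (T : Subgroup H) (ψ : ↥T → ℂ) (hψ : ∀ t, (ψ t).im = 0) (g : H) :
    (indFun T ψ g).im = 0 := by
  rw [← Complex.conj_eq_iff_im, ← indFun_conj]
  congr 1
  funext t
  exact Complex.conj_eq_iff_im.mpr (hψ t)

/-- The inner product with a real-valued function commutes with complex conjugation. -/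
theorem classInner_conj_left_of_real {M : Type u} [Group M] [Fintype M] (f θ : M → ℂ)
    (hθ : ∀ m, (θ m).im = 0) :
    classInner (fun m => conj (f m)) θ = conj (classInner f θ) := by
  rw [classInner_def, classInner_def, map_mul, map_inv₀, Complex.conj_natCast, map_sum]
  congr 1
  refine Finset.sum_congr rfl fun m _ => ?_
  rw [map_mul, Complex.conj_conj, Complex.conj_eq_iff_im.mpr (hθ m)]

/-- The degree of an induced function. -/
theorem charDegree_indFun (T : Subgroup H) (ψ : ↥T → ℂ) (d : ℕ) (hd : ψ 1 = d) :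
    charDegree (indFun T ψ) = T.index * d := by
  apply helper21.charDegree_of_one_eq
  rw [helper4.indFun_one, hd]
  push_cast
  rfl

/-- The Clifford correspondence over a real-valued character `θ` whose inertia group has odd
index restricts to a bijection between real-valued irreducible characters of odd degree. -/
theorem card_real_odd_clifford (M : Subgroup H) [hM : M.Normal] [Fintype M]
    (θ : IrrCharacter M) (hθreal : ∀ m, ((θ : M → ℂ) m).im = 0)
    (T : Subgroup H) (hMT : M ≤ T) (hT : T = inertia M (θ : M → ℂ)) (hodd : Odd T.index) :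
    Nat.card {χ : IrrCharacter H // (∀ g, ((χ : H → ℂ) g).im = 0) ∧
        Odd (charDegree (χ : H → ℂ)) ∧
        classInner (fun m : M => (χ : H → ℂ) m) (θ : M → ℂ) ≠ 0} =
      Nat.card {ψ : IrrCharacter ↥T // (∀ t, ((ψ : ↥T → ℂ) t).im = 0) ∧
        Odd (charDegree (ψ : ↥T → ℂ)) ∧
        classInner (fun m : M => (ψ : ↥T → ℂ) ⟨m, hMT m.2⟩) (θ : M → ℂ) ≠ 0} := by
  classical
  letI : Fintype ↥T := Fintype.ofFinite _
  symm
  refine Nat.card_congr (Equiv.ofBijective
    (fun ψ => ⟨⟨indFun T (ψ.1 : ↥T → ℂ),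
        (clifford_corr_irr M T hMT θ.2 hT ψ.1.2 ψ.2.2.2).1⟩,
      fun g => indFun_im T _ ψ.2.1 g, by
        show Odd (charDegree (indFun T (ψ.1 : ↥T → ℂ)))
        rw [charDegree_indFun T _ _ (irr_one_eq_charDegree ψ.1)]
        exact hodd.mul ψ.2.2.1, by
        show classInner (fun m : M => indFun T (ψ.1 : ↥T → ℂ) m) (θ : M → ℂ) ≠ 0
        rw [(clifford_corr_irr M T hMT θ.2 hT ψ.1.2 ψ.2.2.2).2]
        exact ψ.2.2.2⟩) ⟨?_, ?_⟩)
  · intro ψ₁ ψ₂ h
    have h1 : indFun T (ψ₁.1 : ↥T → ℂ) = indFun T (ψ₂.1 : ↥T → ℂ) :=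
      congrArg (fun t : {χ : IrrCharacter H // (∀ g, ((χ : H → ℂ) g).im = 0) ∧
        Odd (charDegree (χ : H → ℂ)) ∧
        classInner (fun m : M => (χ : H → ℂ) m) (θ : M → ℂ) ≠ 0} => (t.1 : H → ℂ)) h
    exact Subtype.ext (Subtype.ext
      (clifford_corr_inj M T hMT θ.2 hT ψ₁.1.2 ψ₂.1.2 ψ₁.2.2.2 ψ₂.2.2.2 h1))
  · rintro ⟨χ, hr, ho, hc⟩
    obtain ⟨ψ, hψ, hind, hcψ⟩ := clifford_corr_surj M T hMT θ.2 hT χ.2 hc
    have hcψ0 : classInner (fun m : M => ψ ⟨m, hMT m.2⟩) (θ : M → ℂ) ≠ 0 := by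
      rw [hcψ]; exact hc
    have hstar : IsIrrCharacter ↥T (fun t => conj (ψ t)) := isIrrCharacter_star hψ
    have hcstar : classInner (fun m : M => conj (ψ ⟨m, hMT m.2⟩)) (θ : M → ℂ) ≠ 0 := by
      rw [classInner_conj_left_of_real (fun m : M => ψ ⟨m, hMT m.2⟩) _ hθreal]
      exact (map_ne_zero _).mpr hcψ0
    have hindstar : indFun T (fun t => conj (ψ t)) = indFun T ψ := by
      funext g
      rw [indFun_conj, hind]
      exact Complex.conj_eq_iff_im.mpr (hr g)
    have hψeq : (fun t => conj (ψ t)) = ψ :=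
      clifford_corr_inj M T hMT θ.2 hT hstar hψ hcstar hcψ0 hindstar
    have hψreal : ∀ t, (ψ t).im = 0 := fun t =>
      Complex.conj_eq_iff_im.mp (congrFun hψeq t)
    have hdeg : charDegree (χ : H → ℂ) = T.index * charDegree ψ := by
      rw [← hind]
      exact charDegree_indFun T ψ _ (irr_one_eq_charDegree ⟨ψ, hψ⟩)
    have hψodd : Odd (charDegree ψ) := by
      rw [hdeg, Nat.odd_mul] at ho
      exact ho.2
    refine ⟨⟨⟨ψ, hψ⟩, hψreal, hψodd, hcψ0⟩, ?_⟩
    apply Subtype.ext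
    apply Subtype.ext
    exact hind

end Ind

section Gallagher

variable {H : Type u} [Group H] [Fintype H]

/-- Multiplication by a sign character `μ` of `T` extending the character `θ` of `M`: the
real-valued irreducible characters of odd degree of `T` over `θ` correspond to those with `M` in
the kernel. -/
theorem card_real_odd_gallagher (M T : Subgroup H) [hM : M.Normal] [Fintype M] (hMT : M ≤ T)
    (θ : ↥M → ℂ) (hθ : IsIrrCharacter ↥M θ) (μ : ↥T →* ℂˣ)
    (hμθ : ∀ m : M, θ m = μ ⟨m, hMT m.2⟩) (hμ2 : ∀ t, μ t ^ 2 = 1) :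
    Nat.card {ψ : IrrCharacter ↥T // (∀ t, ((ψ : ↥T → ℂ) t).im = 0) ∧
        Odd (charDegree (ψ : ↥T → ℂ)) ∧
        classInner (fun m : M => (ψ : ↥T → ℂ) ⟨m, hMT m.2⟩) θ ≠ 0} =
      Nat.card {ψ : IrrCharacter ↥T //
        (∀ m : M, (ψ : ↥T → ℂ) ⟨m, hMT m.2⟩ = (ψ : ↥T → ℂ) 1) ∧
        (∀ t, ((ψ : ↥T → ℂ) t).im = 0) ∧ Odd (charDegree (ψ : ↥T → ℂ))} := by
  classical
  letI : Fintype ↥T := Fintype.ofFinite _
  have hμim : ∀ t, ((μ t : ℂˣ) : ℂ).im = 0 := fun t => unit_im_of_sq (μ t) (hμ2 t)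
  have hμsq : ∀ t, ((μ t : ℂˣ) : ℂ) * ((μ t : ℂˣ) : ℂ) = 1 := by
    intro t
    have := congrArg (fun u : ℂˣ => (u : ℂ)) (hμ2 t)
    simpa [sq] using this
  have hθ1 : θ 1 = 1 := by
    have h := hμθ 1
    have h2 : (⟨((1 : M) : H), hMT (1 : M).2⟩ : ↥T) = 1 := rfl
    rw [h, h2, map_one]
    rfl
  -- `T` fixes `θ`
  have hTin : T ≤ inertia M θ := by
    intro t ht
    rw [mem_inertia]
    funext m
    rw [cconj_apply, hμθ, hμθ]
    have h1 : (⟨((⟨t⁻¹ * (m : H) * t, by simpa using hM.conj_mem m m.2 t⁻¹⟩ : M) : H),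
        hMT (by simpa using hM.conj_mem m m.2 t⁻¹)⟩ : ↥T) =
        (⟨t, ht⟩ : ↥T)⁻¹ * ⟨m, hMT m.2⟩ * ⟨t, ht⟩ := rfl
    rw [h1, map_mul, map_mul, map_inv]
    congr 1
    rw [mul_comm, mul_inv_cancel_left]
  -- the twist
  let σ : IrrCharacter ↥T → IrrCharacter ↥T := fun ψ =>
    ⟨(ψ : ↥T → ℂ) * (fun t => ((μ t : ℂˣ) : ℂ)),
      helper19.isIrr_mul_linear (ψ : ↥T → ℂ) (fun t => ((μ t : ℂˣ) : ℂ)) ψ.2
        (isIrrCharacter_of_hom μ) (by simp)⟩
  have hσapply : ∀ (ψ : IrrCharacter ↥T) (t : ↥T),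
      (σ ψ : ↥T → ℂ) t = (ψ : ↥T → ℂ) t * ((μ t : ℂˣ) : ℂ) := fun ψ t => rfl
  have hσσ : Function.Involutive σ := by
    intro ψ
    apply Subtype.ext
    funext t
    rw [hσapply, hσapply, mul_assoc, hμsq, mul_one]
  have hσ1 : ∀ ψ : IrrCharacter ↥T, (σ ψ : ↥T → ℂ) 1 = (ψ : ↥T → ℂ) 1 := by
    intro ψ
    rw [hσapply, map_one]
    simp
  have hσdeg : ∀ ψ : IrrCharacter ↥T,
      charDegree (σ ψ : ↥T → ℂ) = charDegree (ψ : ↥T → ℂ) := by
    intro ψ
    apply helper21.charDegree_of_one_eq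
    rw [hσ1, irr_one_eq_charDegree]
  have hσreal : ∀ ψ : IrrCharacter ↥T, (∀ t, ((ψ : ↥T → ℂ) t).im = 0) →
      ∀ t, ((σ ψ : ↥T → ℂ) t).im = 0 := by
    intro ψ h t
    rw [hσapply, Complex.mul_im, h t, hμim t]
    simp
  have hfwd : ∀ ψ : IrrCharacter ↥T,
      ((∀ t, ((ψ : ↥T → ℂ) t).im = 0) ∧ Odd (charDegree (ψ : ↥T → ℂ)) ∧
        classInner (fun m : M => (ψ : ↥T → ℂ) ⟨m, hMT m.2⟩) θ ≠ 0) →
      ((∀ m : M, (σ ψ : ↥T → ℂ) ⟨m, hMT m.2⟩ = (σ ψ : ↥T → ℂ) 1) ∧
        (∀ t, ((σ ψ : ↥T → ℂ) t).im = 0) ∧ Odd (charDegree (σ ψ : ↥T → ℂ))) := by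
    rintro ψ ⟨hr, ho, hc⟩
    refine ⟨?_, hσreal ψ hr, by rw [hσdeg]; exact ho⟩
    obtain ⟨f, hf⟩ := helper4.exists_nat_classInner_irr
      (isCharacter_restrict_le M T hMT (isCharacter_of_irr ψ.2)) hθ
    have hf0 : f ≠ 0 := by
      intro h0
      apply hc
      rw [hf, h0]
      simp
    have hinv := clifford_invariant_rel M T hMT hθ hTin ψ.2 f hf hf0
    intro m
    rw [hσ1, hσapply, hinv m, ← hμθ m, mul_assoc]
    have h1 := hinv 1
    have h2 : (⟨((1 : M) : H), hMT (1 : M).2⟩ : ↥T) = 1 := rfl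
    rw [h2, hθ1, mul_one] at h1
    rw [h1]
    have h3 : θ m * θ m = 1 := by
      rw [hμθ m]
      exact hμsq _
    rw [h3, mul_one]
  have hbwd : ∀ ψ : IrrCharacter ↥T,
      ((∀ m : M, (ψ : ↥T → ℂ) ⟨m, hMT m.2⟩ = (ψ : ↥T → ℂ) 1) ∧
        (∀ t, ((ψ : ↥T → ℂ) t).im = 0) ∧ Odd (charDegree (ψ : ↥T → ℂ))) →
      ((∀ t, ((σ ψ : ↥T → ℂ) t).im = 0) ∧ Odd (charDegree (σ ψ : ↥T → ℂ)) ∧
        classInner (fun m : M => (σ ψ : ↥T → ℂ) ⟨m, hMT m.2⟩) θ ≠ 0) := by
    rintro ψ ⟨hk, hr, ho⟩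
    refine ⟨hσreal ψ hr, by rw [hσdeg]; exact ho, ?_⟩
    have h1 : (fun m : M => (σ ψ : ↥T → ℂ) ⟨m, hMT m.2⟩) =
        fun m : M => (ψ : ↥T → ℂ) 1 * θ m := by
      funext m
      rw [hσapply, hk m, hμθ m]
    rw [h1, helper84.classInner_const_mul_left, helper4.classInner_irr_self hθ, mul_one]
    exact irr_one_ne_zero ψ
  refine Nat.card_congr (Equiv.subtypeEquiv (Function.Involutive.toPerm σ hσσ) ?_)
  intro ψ
  constructor
  · intro h
    exact hfwd ψ h
  · intro h
    have h2 := hbwd (σ ψ) h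
    rw [hσσ ψ] at h2
    exact h2

end Gallagher

section Comb

/-- The fibres of a relation which is a function up to equivalence. -/
theorem card_eq_sum_fibers {X L : Type*} [Finite X] [Finite L] (s : Setoid L)
    [Fintype (Quotient s)] (R : X → L → Prop)
    (hex : ∀ x, ∃ l, R x l) (huniq : ∀ x l l', R x l → R x l' → s.r l l')
    (hstab : ∀ x l l', R x l → s.r l l' → R x l') :
    Nat.card X = ∑ q : Quotient s, Nat.card {x // R x q.out} := by
  classical
  choose c hc using hex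
  have hfib : ∀ q : Quotient s, ∀ x, (Quotient.mk s (c x) = q) ↔ R x q.out := by
    intro q x
    constructor
    · intro h
      have h1 : s.r (c x) q.out := by
        have h2 : Quotient.mk s (c x) = Quotient.mk s q.out := by rw [h, Quotient.out_eq]
        exact Quotient.exact h2
      exact hstab x _ _ (hc x) h1
    · intro h
      have h1 : s.r (c x) q.out := huniq x _ _ (hc x) h
      have h2 : Quotient.mk s (c x) = Quotient.mk s q.out := Quotient.sound h1
      rw [h2, Quotient.out_eq]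
  rw [← Nat.card_congr (Equiv.sigmaFiberEquiv (fun x : X => Quotient.mk s (c x))), Nat.card_sigma]
  refine Finset.sum_congr rfl fun q _ => ?_
  exact Nat.card_congr (Equiv.subtypeEquivRight (hfib q))

/-- Two finite sets fibred over the same set of classes with fibres of equal cardinality have
the same cardinality. -/
theorem card_eq_of_fiberwise {X X' L : Type*} [Finite X] [Finite X'] [Finite L] (s : Setoid L)
    (R : X → L → Prop) (R' : X' → L → Prop)
    (hex : ∀ x, ∃ l, R x l) (huniq : ∀ x l l', R x l → R x l' → s.r l l')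
    (hstab : ∀ x l l', R x l → s.r l l' → R x l')
    (hex' : ∀ x, ∃ l, R' x l) (huniq' : ∀ x l l', R' x l → R' x l' → s.r l l')
    (hstab' : ∀ x l l', R' x l → s.r l l' → R' x l')
    (hcard : ∀ l, Nat.card {x // R x l} = Nat.card {x' // R' x' l}) :
    Nat.card X = Nat.card X' := by
  classical
  letI : Fintype (Quotient s) := Fintype.ofFinite _
  rw [card_eq_sum_fibers s R hex huniq hstab, card_eq_sum_fibers s R' hex' huniq' hstab']
  exact Finset.sum_congr rfl fun q _ => hcard q.out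

end Comb

end Cfsg.Agent.Lib.helper79
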