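import Mathlib
import Cfsg.Prelude.Def_Characters
import Cfsg.Prelude.Def_Blocks
import Cfsg.Agent.Lib.helper79.RealOddB

/-!
# Real characters of odd degree (helper79), part C

Group-theoretic preparations for the count of the real-valued irreducible characters of odd
degree of a solvable group:

* `exists_normalizer_quot_hom` : the normalizer of a Sylow subgroup maps onto the normalizer of
  its image in a quotient.
* `card_over_eq_of_surj` : the characters over a character extending to a sign character.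
* `exists_real_linear_of_over`, `exists_linear_of_over` : linear constituents on a `2`-subgroup.
-/

set_option autoImplicit false
set_option linter.style.haveILetI false
set_option linter.unusedSectionVars false

namespace Cfsg.Agent.Lib.helper79

open Cfsg
open Cfsg.Agent.Lib Cfsg.Agent.Lib.helper83 Cfsg.Agent.Lib.helper82
open scoped ComplexConjugate

universe u

/-- The real-valued irreducible characters of odd degree. -/
abbrev RealOdd (X : Type u) [Group X] : Type u :=
  {χ : IrrCharacter X // (∀ g, ((χ : X → ℂ) g).im = 0) ∧ Odd (charDegree (χ : X → ℂ))}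

theorem card_realOdd_of_bijective {X Y : Type u} [Group X] [Group Y] [Finite X] (f : X →* Y)
    (hf : Function.Bijective f) : Nat.card (RealOdd Y) = Nat.card (RealOdd X) := by
  show Nat.card {ψ : IrrCharacter Y // (∀ y, ((ψ : Y → ℂ) y).im = 0) ∧
        Odd (charDegree (ψ : Y → ℂ))} = _
  rw [card_real_odd_comp_surj f hf.2]
  refine Nat.card_congr (Equiv.subtypeEquivRight fun χ => ?_)
  constructor
  · rintro ⟨-, h⟩
    exact h
  · intro h
    refine ⟨fun x hx => ?_, h⟩
    have h1 : x = 1 := hf.1 (by rw [hx, map_one])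
    rw [h1]

section Grp

variable {G : Type u} [Group G] [Finite G]

/-- An element whose image normalizes the image of a Sylow subgroup in a quotient is congruent
to an element of the normalizer. -/
theorem exists_normalizer_map_eq (p : ℕ) [hp : Fact p.Prime] (P : Sylow p G) (A : Subgroup G)
    [hA : A.Normal] (g : G)
    (hg : (QuotientGroup.mk' A) g ∈ Subgroup.normalizer
      (((P : Subgroup G).map (QuotientGroup.mk' A) : Subgroup (G ⧸ A)) : Set (G ⧸ A))) :
    ∃ n ∈ nP P, (QuotientGroup.mk' A) n = (QuotientGroup.mk' A) g := by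
  obtain ⟨I, hI⟩ : ∃ I : Subgroup G, I = (P : Subgroup G) ⊔ A := ⟨_, rfl⟩
  have hPI : (P : Subgroup G) ≤ I := by rw [hI]; exact le_sup_left
  have hgI : g ∈ Subgroup.normalizer (I : Set G) := by
    have h1 : g ∈ (Subgroup.normalizer (((P : Subgroup G).map (QuotientGroup.mk' A) :
        Subgroup (G ⧸ A)) : Set (G ⧸ A))).comap (QuotientGroup.mk' A) := hg
    rw [Subgroup.comap_normalizer_eq_of_surjective _ (QuotientGroup.mk'_surjective A),
      Subgroup.comap_map_eq, QuotientGroup.ker_mk', ← hI] at h1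
    exact h1
  have hP2 : ((g⁻¹ • P : Sylow p G) : Subgroup G) ≤ I := by
    intro y hy
    rw [Sylow.coe_subgroup_smul, Subgroup.mem_pointwise_smul_iff_inv_smul_mem] at hy
    have hy' : g * y * g⁻¹ ∈ (P : Subgroup G) := by
      simpa [MulAut.smul_def] using hy
    have h2 := (Subgroup.mem_normalizer_iff.mp (Subgroup.inv_mem _ hgI) (g * y * g⁻¹)).mp
      (hPI hy')
    have h3 : g⁻¹ * (g * y * g⁻¹) * g⁻¹⁻¹ = y := by group
    rwa [h3] at h2
  obtain ⟨i, hi⟩ := MulAction.exists_smul_eq ↥I (P.subtype hPI) ((g⁻¹ • P).subtype hP2)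
  rw [Sylow.smul_subtype hPI i] at hi
  have hi2 : (i • P : Sylow p G) = g⁻¹ • P := Sylow.subtype_injective hi
  have hi3 : ((g * (i : G)) • P : Sylow p G) = P := by
    rw [mul_smul]
    have : ((i : G) • P : Sylow p G) = g⁻¹ • P := hi2
    rw [this, smul_inv_smul]
  have hn : g * (i : G) ∈ nP P := Sylow.smul_eq_iff_mem_normalizer.mp hi3
  have hmi : ∀ y ∈ I, (QuotientGroup.mk' A) y ∈ (P : Subgroup G).map (QuotientGroup.mk' A) := by
    intro y hy
    have h1 : (QuotientGroup.mk' A) y ∈ I.map (QuotientGroup.mk' A) :=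
      Subgroup.mem_map_of_mem _ hy
    rw [hI, Subgroup.map_sup] at h1
    have h2 : A.map (QuotientGroup.mk' A) = ⊥ :=
      (Subgroup.map_eq_bot_iff A).mpr (by rw [QuotientGroup.ker_mk'])
    rwa [h2, sup_bot_eq] at h1
  obtain ⟨u, hu, hui⟩ := Subgroup.mem_map.mp (hmi _ i.2)
  refine ⟨g * (i : G) * u⁻¹,
    (nP P).mul_mem hn ((nP P).inv_mem (Subgroup.le_normalizer hu)), ?_⟩
  rw [map_mul, map_mul, map_inv, hui, mul_inv_cancel_right]

/-- The normalizer of a Sylow subgroup maps onto the normalizer of its image in a quotient. -/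
theorem exists_normalizer_quot_hom (p : ℕ) [hp : Fact p.Prime] (P : Sylow p G)
    (A : Subgroup G) [hA : A.Normal] :
    ∃ φ : ↥(nP P) →* ↥(nP (P.mapSurjective (QuotientGroup.mk'_surjective A))),
      Function.Surjective φ ∧ ∀ x : ↥(nP P), φ x = 1 ↔ (x : G) ∈ A := by
  have hmem : ∀ x : ↥(nP P), ((QuotientGroup.mk' A).comp (nP P).subtype) x ∈
      nP (P.mapSurjective (QuotientGroup.mk'_surjective A)) := by
    intro x
    exact Subgroup.le_normalizer_map (QuotientGroup.mk' A) (Subgroup.mem_map_of_mem _ x.2)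
  refine ⟨MonoidHom.codRestrict ((QuotientGroup.mk' A).comp (nP P).subtype) _ hmem, ?_, ?_⟩
  · rintro ⟨y, hy⟩
    obtain ⟨g, rfl⟩ := QuotientGroup.mk'_surjective A y
    obtain ⟨n, hn, hng⟩ := exists_normalizer_map_eq p P A g hy
    exact ⟨⟨n, hn⟩, Subtype.ext hng⟩
  · intro x
    rw [Subtype.ext_iff]
    show (QuotientGroup.mk' A) (x : G) = 1 ↔ _
    rw [QuotientGroup.mk'_apply, QuotientGroup.eq_one_iff]

end Grp

section Over

variable {H : Type u} [Group H] [Fintype H]

/-- The real-valued irreducible characters of odd degree of `T` over a character `θ` of `M`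
which extends to a sign character of `T` correspond to those of a quotient of `T` by `M`. -/
theorem card_over_eq_of_surj (M T : Subgroup H) [hM : M.Normal] [Fintype M] (hMT : M ≤ T)
    (θ : ↥M → ℂ) (hθ : IsIrrCharacter ↥M θ) (μ : ↥T →* ℂˣ)
    (hμθ : ∀ m : M, θ m = μ ⟨m, hMT m.2⟩) (hμ2 : ∀ t, μ t ^ 2 = 1)
    {Y : Type u} [Group Y] (f : ↥T →* Y) (hf : Function.Surjective f)
    (hker : ∀ x : ↥T, f x = 1 ↔ (x : H) ∈ M) :
    Nat.card {ψ : IrrCharacter ↥T // (∀ t, ((ψ : ↥T → ℂ) t).im = 0) ∧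
        Odd (charDegree (ψ : ↥T → ℂ)) ∧
        classInner (fun m : M => (ψ : ↥T → ℂ) ⟨m, hMT m.2⟩) θ ≠ 0} = Nat.card (RealOdd Y) := by
  show _ = Nat.card {ψ : IrrCharacter Y // (∀ y, ((ψ : Y → ℂ) y).im = 0) ∧
        Odd (charDegree (ψ : Y → ℂ))}
  rw [card_real_odd_gallagher M T hMT θ hθ μ hμθ hμ2, card_real_odd_comp_surj f hf]
  refine Nat.card_congr (Equiv.subtypeEquivRight fun ψ => ?_)
  constructor
  · rintro ⟨h1, h2⟩
    exact ⟨fun x hx => h1 ⟨x, (hker x).mp hx⟩, h2⟩
  · rintro ⟨h1, h2⟩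
    exact ⟨fun m => h1 ⟨m, hMT m.2⟩ ((hker _).mpr m.2), h2⟩

end Over

section LinOver

variable {X : Type u} [Group X] [Fintype X]

/-- Under a real-valued irreducible character of odd degree of `S` lying over the `S`-invariant
character `θ` of the normal `2`-subgroup `W`, there is a sign character of the `2`-subgroup
`Q` with `W ≤ Q ≤ S` extending `θ`. -/
theorem exists_real_linear_of_over (Q W S : Subgroup X) [hW : W.Normal] [Fintype ↥W]
    (hWQ : W ≤ Q) (hWS : W ≤ S) (hQS : Q ≤ S) (hQ : IsPGroup 2 Q)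
    (θ : ↥W → ℂ) (hθ : IsIrrCharacter ↥W θ) (hS : S ≤ inertia W θ)
    (ψ : IrrCharacter ↥S) (hreal : ∀ x, ((ψ : ↥S → ℂ) x).im = 0)
    (hodd : Odd (charDegree (ψ : ↥S → ℂ)))
    (hc : classInner (fun m : W => (ψ : ↥S → ℂ) ⟨m, hWS m.2⟩) θ ≠ 0) :
    ∃ ν : ↥Q →* ℂˣ, (∀ (w : X) (hw : w ∈ W), θ ⟨w, hw⟩ = ν ⟨w, hWQ hw⟩) ∧
      ∀ y, ν y ^ 2 = 1 := by
  classical
  letI : Fintype ↥S := Fintype.ofFinite _
  letI : Fintype ↥(W.subgroupOf S) := Fintype.ofFinite _
  have hWQ' : W.subgroupOf S ≤ Q.subgroupOf S := fun x hx =>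
    Subgroup.mem_subgroupOf.mpr (hWQ (Subgroup.mem_subgroupOf.mp hx))
  have hQ' : IsPGroup 2 ↥(Q.subgroupOf S) := hQ.comap_subtype
  have hθ' := isIrrCharacter_subRes W S hWS hθ
  have hinv : ∀ g : ↥S, cconj (W.subgroupOf S) g (subRes W S θ) = subRes W S θ := by
    intro g
    rw [cconj_subRes, (mem_inertia W θ (g : X)).mp (hS g.2)]
  have hc' : classInner (fun w : ↥(W.subgroupOf S) => (ψ : ↥S → ℂ) w) (subRes W S θ) ≠ 0 := by
    rw [← subRes_restrict W S hWS (ψ : ↥S → ℂ), classInner_subRes W S hWS]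
    exact hc
  obtain ⟨ν', hν', hν'2⟩ := exists_real_linear_under (Q.subgroupOf S) (W.subgroupOf S) hWQ' hQ'
    (subRes W S θ) hθ' hinv ψ hreal hodd hc'
  refine ⟨ν'.comp (Subgroup.subgroupOfEquivOfLe hQS).symm.toMonoidHom, ?_, fun y => hν'2 _⟩
  intro w hw
  have h1 := hν' ⟨w, hWS hw⟩ (Subgroup.mem_subgroupOf.mpr hw)
  rw [subRes_apply] at h1
  exact h1

/-- Under an irreducible character of odd degree of `S` lying over the `S`-invariant
character `θ` of the normal `2`-subgroup `W`, there is a linear character of the `2`-subgroup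
`Q` with `W ≤ Q ≤ S` extending `θ`. -/
theorem exists_linear_of_over (Q W S : Subgroup X) [hW : W.Normal] [Fintype ↥W]
    (hWQ : W ≤ Q) (hWS : W ≤ S) (hQS : Q ≤ S) (hQ : IsPGroup 2 Q)
    (θ : ↥W → ℂ) (hθ : IsIrrCharacter ↥W θ) (hS : S ≤ inertia W θ)
    (ψ : IrrCharacter ↥S) (hodd : Odd (charDegree (ψ : ↥S → ℂ)))
    (hc : classInner (fun m : W => (ψ : ↥S → ℂ) ⟨m, hWS m.2⟩) θ ≠ 0) :
    ∃ ν : ↥Q →* ℂˣ, ∀ (w : X) (hw : w ∈ W), θ ⟨w, hw⟩ = ν ⟨w, hWQ hw⟩ := by
  classical
  letI : Fintype ↥S := Fintype.ofFinite _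
  letI : Fintype ↥(W.subgroupOf S) := Fintype.ofFinite _
  have hWQ' : W.subgroupOf S ≤ Q.subgroupOf S := fun x hx =>
    Subgroup.mem_subgroupOf.mpr (hWQ (Subgroup.mem_subgroupOf.mp hx))
  have hQ' : IsPGroup 2 ↥(Q.subgroupOf S) := hQ.comap_subtype
  have hθ' := isIrrCharacter_subRes W S hWS hθ
  have hinv : ∀ g : ↥S, cconj (W.subgroupOf S) g (subRes W S θ) = subRes W S θ := by
    intro g
    rw [cconj_subRes, (mem_inertia W θ (g : X)).mp (hS g.2)]
  have hc' : classInner (fun w : ↥(W.subgroupOf S) => (ψ : ↥S → ℂ) w) (subRes W S θ) ≠ 0 := by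
    rw [← subRes_restrict W S hWS (ψ : ↥S → ℂ), classInner_subRes W S hWS]
    exact hc
  obtain ⟨ν', hν'⟩ := exists_linear_under (Q.subgroupOf S) (W.subgroupOf S) hWQ' hQ'
    (subRes W S θ) hθ' hinv ψ hodd hc'
  refine ⟨ν'.comp (Subgroup.subgroupOfEquivOfLe hQS).symm.toMonoidHom, ?_⟩
  intro w hw
  have h1 := hν' ⟨w, hWS hw⟩ (Subgroup.mem_subgroupOf.mpr hw)
  rw [subRes_apply] at h1
  exact h1

end LinOver

end Cfsg.Agent.Lib.helper79
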