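import Mathlib
import Cfsg.Prelude.Def_Characters
import Cfsg.Prelude.Def_Blocks
import Cfsg.Agent.Lib.helper79.RealOddC

/-!
# Real characters of odd degree (helper79), part D

`card_realOdd_eq_normalizer` : a finite solvable group and the normalizer of a Sylow
`2`-subgroup have the same number of real-valued irreducible characters of odd degree.
-/

set_option autoImplicit false
set_option linter.style.haveILetI false
set_option linter.unusedSectionVars false

namespace Cfsg.Agent.Lib.helper79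

open Cfsg
open Cfsg.Agent.Lib Cfsg.Agent.Lib.helper83 Cfsg.Agent.Lib.helper82
open Cfsg.Agent.Lib.helper83.RealMcKay
open scoped ComplexConjugate

universe u

theorem card_subtype_and {α : Type*} (p q r : α → Prop) :
    Nat.card {x : {a : α // p a ∧ q a} // r x.1} = Nat.card {a : α // p a ∧ q a ∧ r a} :=
  Nat.card_congr ((Equiv.subtypeSubtypeEquivSubtypeInter (fun a => p a ∧ q a) r).trans
    (Equiv.subtypeEquivRight (fun _ => and_assoc)))

section Rel

variable {G : Type u} [Group G] [Fintype G]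

/-- The inertia group of a transported character. -/
theorem mem_inertia_subRes (V N : Subgroup G) [hVn : V.Normal] (hVN : V ≤ N) (θ : ↥V → ℂ)
    (x : ↥N) :
    x ∈ inertia (V.subgroupOf N) (subRes V N θ) ↔ (x : G) ∈ inertia V θ := by
  rw [mem_inertia, mem_inertia, cconj_subRes]
  constructor
  · intro h
    exact subRes_injective V N hVN _ _ h
  · intro h
    rw [h]

/-- The inertia group of a constituent of an irreducible character of odd degree has odd
index. -/
theorem odd_index_inertia_of_odd (V : Subgroup G) [hVn : V.Normal] [Fintype ↥V]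
    (χ : IrrCharacter G) (hodd : Odd (charDegree (χ : G → ℂ))) (θ : ↥V → ℂ)
    (hθ : IsIrrCharacter ↥V θ) (e : ℕ) (he : classInner (fun v : V => (χ : G → ℂ) v) θ = e)
    (he0 : e ≠ 0) : Odd (inertia V θ).index := by
  classical
  letI : Fintype (IrrCharacter ↥V) := Fintype.ofFinite _
  have h1 := clifford_degree V χ.2 hθ e he he0
  have h3 : θ 1 = (charDegree θ : ℂ) := irr_one_eq_charDegree ⟨θ, hθ⟩
  rw [irr_one_eq_charDegree χ, h3] at h1
  have h2 : charDegree (χ : G → ℂ) = e * (inertia V θ).index * charDegree θ := by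
    exact_mod_cast h1
  rw [h2, Nat.odd_mul, Nat.odd_mul] at hodd
  exact hodd.1.2

variable (P : Sylow 2 G) (V : Subgroup G) [hVn : V.Normal] [Fintype ↥V]

/-- The `P`-invariant irreducible characters of `V`. -/
abbrev PInvIrr : Type u :=
  {lam : IrrCharacter ↥V // (P : Subgroup G) ≤ inertia V (lam : ↥V → ℂ)}

/-- Conjugacy under the normalizer of `P`. -/
def pinvSetoid : Setoid (PInvIrr P V) where
  r l l' := ∃ n ∈ nP P, (l'.1 : ↥V → ℂ) = cconj V n (l.1 : ↥V → ℂ)
  iseqv := ⟨fun l => ⟨1, (nP P).one_mem, (cconj_one V _).symm⟩,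
    fun {l l'} ⟨n, hn, h⟩ => ⟨n⁻¹, (nP P).inv_mem hn, by
      rw [h, ← cconj_mul, inv_mul_cancel, cconj_one]⟩,
    fun {l l' l''} ⟨n, hn, h⟩ ⟨m, hm, h'⟩ => ⟨m * n, (nP P).mul_mem hm hn, by
      rw [h', h, cconj_mul]⟩⟩

theorem pinvSetoid_r (l l' : PInvIrr P V) :
    (pinvSetoid P V).r l l' ↔ ∃ n ∈ nP P, (l'.1 : ↥V → ℂ) = cconj V n (l.1 : ↥V → ℂ) :=
  Iff.rfl

/-- An irreducible character of odd degree lies over a `P`-invariant character of `V`. -/
theorem exists_pinv_over (χ : IrrCharacter G) (hodd : Odd (charDegree (χ : G → ℂ))) :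
    ∃ l : PInvIrr P V, classInner (fun v : V => (χ : G → ℂ) v) (l.1 : ↥V → ℂ) ≠ 0 := by
  classical
  obtain ⟨θ, hθ, e, he, he0⟩ := exists_constituent_restrict V χ.2
  have hidx := odd_index_inertia_of_odd V χ hodd θ hθ e he he0
  have hidx' : ¬ 2 ∣ (inertia V θ).index := by
    rw [← even_iff_two_dvd, Nat.not_even_iff_odd]
    exact hidx
  obtain ⟨g, hg⟩ := exists_conj_mem_of_not_dvd_index 2 (P : Subgroup G) (inertia V θ)
    P.isPGroup' hidx'
  have hinv : (P : Subgroup G) ≤ inertia V (cconj V g θ) := by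
    intro x hx
    rw [mem_inertia, ← cconj_mul]
    have h1 : x * g = g * (g⁻¹ * x * g) := by group
    rw [h1, cconj_mul]
    congr 1
    exact (mem_inertia V θ _).mp (hg x hx)
  refine ⟨⟨⟨cconj V g θ, isIrrCharacter_cconj V g hθ⟩, hinv⟩, ?_⟩
  show classInner (fun v : V => (χ : G → ℂ) v) (cconj V g θ) ≠ 0
  rw [classInner_restrict_cconj V (isClassFunction_irr χ) g, he]
  exact_mod_cast he0

/-- Two `P`-invariant characters of `V` under the same irreducible character are conjugate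
under the normalizer of `P`. -/
theorem pinv_conj_of_over (χ : IrrCharacter G) (l l' : PInvIrr P V)
    (h : classInner (fun v : V => (χ : G → ℂ) v) (l.1 : ↥V → ℂ) ≠ 0)
    (h' : classInner (fun v : V => (χ : G → ℂ) v) (l'.1 : ↥V → ℂ) ≠ 0) :
    (pinvSetoid P V).r l l' := by
  obtain ⟨g, hg⟩ := clifford_conj V χ.2 l.1.2 l'.1.2 h h'
  have hP2 : (P : Subgroup G) ≤ inertia V (cconj V g (l.1 : ↥V → ℂ)) := by
    rw [← hg]
    exact l'.2
  obtain ⟨n, hn, hng⟩ := exists_normalizer_cconj 2 V P (l.1 : ↥V → ℂ) l.2 g hP2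
  exact ⟨n, hn, by rw [hg, hng]⟩

theorem over_of_conj (χ : IrrCharacter G) (l l' : PInvIrr P V)
    (h : classInner (fun v : V => (χ : G → ℂ) v) (l.1 : ↥V → ℂ) ≠ 0)
    (hr : (pinvSetoid P V).r l l') :
    classInner (fun v : V => (χ : G → ℂ) v) (l'.1 : ↥V → ℂ) ≠ 0 := by
  obtain ⟨n, hn, h'⟩ := hr
  rw [h', classInner_restrict_cconj V (isClassFunction_irr χ) n]
  exact h

variable [Fintype ↥(nP P)] [Fintype ↥(V.subgroupOf (nP P))]

/-- An irreducible character of odd degree of the normalizer lies over a `P`-invariant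
character of `V`. -/
theorem exists_pinv_over_N (hVP : V ≤ (P : Subgroup G)) (ξ : IrrCharacter ↥(nP P))
    (hodd : Odd (charDegree (ξ : ↥(nP P) → ℂ))) :
    ∃ l : PInvIrr P V, classInner (fun m : V.subgroupOf (nP P) => (ξ : ↥(nP P) → ℂ) m)
      (subRes V (nP P) (l.1 : ↥V → ℂ)) ≠ 0 := by
  classical
  have hPN : (P : Subgroup G) ≤ nP P := Subgroup.le_normalizer
  have hVN : V ≤ nP P := hVP.trans hPN
  obtain ⟨θ', hθ', e, he, he0⟩ := exists_constituent_restrict (V.subgroupOf (nP P)) ξ.2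
  have hidx := odd_index_inertia_of_odd (V.subgroupOf (nP P)) ξ hodd θ' hθ' e he he0
  have hidx' : ¬ 2 ∣ (inertia (V.subgroupOf (nP P)) θ').index := by
    rw [← even_iff_two_dvd, Nat.not_even_iff_odd]
    exact hidx
  haveI hP'n : ((P : Subgroup G).subgroupOf (nP P)).Normal := Subgroup.normal_in_normalizer
  have hP'p : IsPGroup 2 ((P : Subgroup G).subgroupOf (nP P)) := P.isPGroup'.comap_subtype
  have hP'le := le_of_normal_of_not_dvd_index 2 ((P : Subgroup G).subgroupOf (nP P))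
    (inertia (V.subgroupOf (nP P)) θ') hP'p hidx'
  obtain ⟨η, hηdef⟩ : ∃ η : ↥V → ℂ, η = fun c =>
      θ' ((Subgroup.subgroupOfEquivOfLe hVN).symm c) := ⟨_, rfl⟩
  have hηtr : subRes V (nP P) η = θ' := by
    funext x
    rw [subRes_apply, hηdef]
    rfl
  have hηirr : IsIrrCharacter ↥V η := by
    rw [hηdef]
    exact isIrrCharacter_comp_surj (Subgroup.subgroupOfEquivOfLe hVN).symm.toMonoidHom
      (Subgroup.subgroupOfEquivOfLe hVN).symm.surjective hθ'
  have hηinv : (P : Subgroup G) ≤ inertia V η := by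
    intro x hx
    have h1 : (⟨x, hPN hx⟩ : ↥(nP P)) ∈ inertia (V.subgroupOf (nP P)) (subRes V (nP P) η) := by
      rw [hηtr]
      exact hP'le (Subgroup.mem_subgroupOf.mpr hx)
    exact (mem_inertia_subRes V (nP P) hVN η _).mp h1
  refine ⟨⟨⟨η, hηirr⟩, hηinv⟩, ?_⟩
  show classInner (fun m : V.subgroupOf (nP P) => (ξ : ↥(nP P) → ℂ) m) (subRes V (nP P) η) ≠ 0
  rw [hηtr, he]
  exact_mod_cast he0

theorem pinv_conj_of_over_N (hVP : V ≤ (P : Subgroup G)) (ξ : IrrCharacter ↥(nP P))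
    (l l' : PInvIrr P V)
    (h : classInner (fun m : V.subgroupOf (nP P) => (ξ : ↥(nP P) → ℂ) m)
      (subRes V (nP P) (l.1 : ↥V → ℂ)) ≠ 0)
    (h' : classInner (fun m : V.subgroupOf (nP P) => (ξ : ↥(nP P) → ℂ) m)
      (subRes V (nP P) (l'.1 : ↥V → ℂ)) ≠ 0) :
    (pinvSetoid P V).r l l' := by
  have hPN : (P : Subgroup G) ≤ nP P := Subgroup.le_normalizer
  have hVN : V ≤ nP P := hVP.trans hPN
  obtain ⟨x, hx⟩ := clifford_conj (V.subgroupOf (nP P)) ξ.2
    (isIrrCharacter_subRes V (nP P) hVN l.1.2) (isIrrCharacter_subRes V (nP P) hVN l'.1.2) h h'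
  rw [cconj_subRes] at hx
  exact ⟨(x : G), x.2, subRes_injective V (nP P) hVN _ _ hx⟩

theorem over_of_conj_N (ξ : IrrCharacter ↥(nP P))
    (l l' : PInvIrr P V)
    (h : classInner (fun m : V.subgroupOf (nP P) => (ξ : ↥(nP P) → ℂ) m)
      (subRes V (nP P) (l.1 : ↥V → ℂ)) ≠ 0)
    (hr : (pinvSetoid P V).r l l') :
    classInner (fun m : V.subgroupOf (nP P) => (ξ : ↥(nP P) → ℂ) m)
      (subRes V (nP P) (l'.1 : ↥V → ℂ)) ≠ 0 := by
  obtain ⟨n, hn, h'⟩ := hr
  have h2 : subRes V (nP P) (cconj V n (l.1 : ↥V → ℂ)) =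
      cconj (V.subgroupOf (nP P)) (⟨n, hn⟩ : ↥(nP P)) (subRes V (nP P) (l.1 : ↥V → ℂ)) :=
    (cconj_subRes V (nP P) ⟨n, hn⟩ (l.1 : ↥V → ℂ)).symm
  rw [h', h2, classInner_restrict_cconj (V.subgroupOf (nP P)) (isClassFunction_irr ξ) ⟨n, hn⟩]
  exact h

end Rel

end Cfsg.Agent.Lib.helper79
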