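import Mathlib
import Cfsg.Prelude.Def_Characters
import Cfsg.Prelude.Def_Blocks
import Cfsg.Agent.Lib.helper79.RealOddD

/-!
# Real characters of odd degree (helper79), part E

`card_realOdd_eq_normalizer` : a finite solvable group and the normalizer of a Sylow
`2`-subgroup have the same number of real-valued irreducible characters of odd degree.
-/

set_option autoImplicit false
set_option linter.style.haveILetI false
set_option linter.unusedSectionVars false

namespace Cfsg.Agent.Lib.helper79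

open Cfsg
open Cfsg.Agent.Lib Cfsg.Agent.Lib.helper83 Cfsg.Agent.Lib.helper82
open Cfsg.Agent.Lib.helper83.RealMcKay
open scoped ComplexConjugate

universe u

section Fiber

variable {G : Type u} [Group G] [Fintype G] [Group.IsSolvable G]

/-- The fibres over a `P`-invariant character of a minimal normal `2`-subgroup have the same
cardinality in `G` and in the normalizer of `P`. -/
theorem card_fiber_eq
    (IH : ∀ (G' : Type u) [Group G'] [Finite G'] [Group.IsSolvable G'],
      Nat.card G' < Nat.card G →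
      ∀ P' : Sylow 2 G', Nat.card (RealOdd G') = Nat.card (RealOdd ↥(nP P')))
    (P : Sylow 2 G) (V : Subgroup G) [hVn : V.Normal] [Fintype ↥V] [Fintype ↥(nP P)]
    [Fintype ↥(V.subgroupOf (nP P))]
    (hV1 : V ≠ ⊥) (hVP : V ≤ (P : Subgroup G)) (hV2 : ∀ v ∈ V, v * v = 1)
    (lam : IrrCharacter ↥V) (hlam : (P : Subgroup G) ≤ inertia V (lam : ↥V → ℂ)) :
    Nat.card {χ : IrrCharacter G // (∀ g, ((χ : G → ℂ) g).im = 0) ∧
        Odd (charDegree (χ : G → ℂ)) ∧
        classInner (fun v : V => (χ : G → ℂ) v) (lam : ↥V → ℂ) ≠ 0} =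
      Nat.card {ξ : IrrCharacter ↥(nP P) // (∀ g, ((ξ : ↥(nP P) → ℂ) g).im = 0) ∧
        Odd (charDegree (ξ : ↥(nP P) → ℂ)) ∧
        classInner (fun m : V.subgroupOf (nP P) => (ξ : ↥(nP P) → ℂ) m)
          (subRes V (nP P) (lam : ↥V → ℂ)) ≠ 0} := by
  classical
  obtain ⟨T, hT⟩ : ∃ T : Subgroup G, T = inertia V (lam : ↥V → ℂ) := ⟨_, rfl⟩
  have hVT : V ≤ T := by rw [hT]; exact le_inertia V (isClassFunction_irr lam)
  have hPT : (P : Subgroup G) ≤ T := by rw [hT]; exact hlam
  have hPN : (P : Subgroup G) ≤ nP P := Subgroup.le_normalizer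
  have hVN : V ≤ nP P := hVP.trans hPN
  have hlamreal : ∀ v, ((lam : ↥V → ℂ) v).im = 0 := by
    intro v
    have h1 := irr_inv lam v
    have h2 : v⁻¹ = v := by
      apply inv_eq_of_mul_eq_one_right
      exact Subtype.ext (hV2 v v.2)
    rw [h2] at h1
    exact Complex.conj_eq_iff_im.mp h1.symm
  have hPodd : Odd (P : Subgroup G).index := by
    rw [← Nat.not_even_iff_odd, even_iff_two_dvd]
    exact P.not_dvd_index
  have hTodd : Odd T.index := Odd.of_dvd_nat hPodd (Subgroup.index_dvd_of_le hPT)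
  have hTN' : T.subgroupOf (nP P) =
      inertia (V.subgroupOf (nP P)) (subRes V (nP P) (lam : ↥V → ℂ)) := by
    ext x
    rw [Subgroup.mem_subgroupOf, mem_inertia_subRes V (nP P) hVN, hT]
  have hVTN : V.subgroupOf (nP P) ≤ T.subgroupOf (nP P) := by
    intro x hx
    exact Subgroup.mem_subgroupOf.mpr (hVT (Subgroup.mem_subgroupOf.mp hx))
  have hPTN : (P : Subgroup G).subgroupOf (nP P) ≤ T.subgroupOf (nP P) := by
    intro x hx
    exact Subgroup.mem_subgroupOf.mpr (hPT (Subgroup.mem_subgroupOf.mp hx))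
  have hVPN : V.subgroupOf (nP P) ≤ (P : Subgroup G).subgroupOf (nP P) := by
    intro x hx
    exact Subgroup.mem_subgroupOf.mpr (hVP (Subgroup.mem_subgroupOf.mp hx))
  have hTNodd : Odd (T.subgroupOf (nP P)).index := by
    have h2 : ((P : Subgroup G).subgroupOf (nP P)).index ∣ (P : Subgroup G).index :=
      Subgroup.relIndex_dvd_index_of_le hPN
    exact Odd.of_dvd_nat hPodd ((Subgroup.index_dvd_of_le hPTN).trans h2)
  have hsubirr : IsIrrCharacter ↥(V.subgroupOf (nP P)) (subRes V (nP P) (lam : ↥V → ℂ)) :=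
    isIrrCharacter_subRes V (nP P) hVN lam.2
  have hGside := card_real_odd_clifford V lam hlamreal T hVT hT hTodd
  have hNside : Nat.card {ξ : IrrCharacter ↥(nP P) // (∀ g, ((ξ : ↥(nP P) → ℂ) g).im = 0) ∧
        Odd (charDegree (ξ : ↥(nP P) → ℂ)) ∧
        classInner (fun m : V.subgroupOf (nP P) => (ξ : ↥(nP P) → ℂ) m)
          (subRes V (nP P) (lam : ↥V → ℂ)) ≠ 0} =
      Nat.card {ψ : IrrCharacter ↥(T.subgroupOf (nP P)) //
        (∀ t, ((ψ : ↥(T.subgroupOf (nP P)) → ℂ) t).im = 0) ∧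
        Odd (charDegree (ψ : ↥(T.subgroupOf (nP P)) → ℂ)) ∧
        classInner (fun m : V.subgroupOf (nP P) =>
          (ψ : ↥(T.subgroupOf (nP P)) → ℂ) ⟨m, hVTN m.2⟩)
          (subRes V (nP P) (lam : ↥V → ℂ)) ≠ 0} :=
    card_real_odd_clifford (V.subgroupOf (nP P))
      ⟨subRes V (nP P) (lam : ↥V → ℂ), hsubirr⟩ (fun m => hlamreal _)
      (T.subgroupOf (nP P)) hVTN hTN' hTNodd
  rw [hGside, hNside]
  by_cases hex : ∃ ν : ↥(P : Subgroup G) →* ℂˣ,
      (∀ (v : G) (hv : v ∈ V), (lam : ↥V → ℂ) ⟨v, hv⟩ = ν ⟨v, hVP hv⟩) ∧ ∀ y, ν y ^ 2 = 1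
  · obtain ⟨ν, hν, hν2⟩ := hex
    letI : Fintype ↥T := Fintype.ofFinite _
    have hVP' : V.subgroupOf T ≤ (P : Subgroup G).subgroupOf T := fun x hx =>
      Subgroup.mem_subgroupOf.mpr (hVP (Subgroup.mem_subgroupOf.mp hx))
    have hodd' : Odd ((P : Subgroup G).subgroupOf T).index :=
      Odd.of_dvd_nat hPodd (Subgroup.relIndex_dvd_index_of_le hPT)
    obtain ⟨ν', hν'⟩ : ∃ ν' : ↥((P : Subgroup G).subgroupOf T) →* ℂˣ,
        ν' = ν.comp (Subgroup.subgroupOfEquivOfLe hPT).toMonoidHom := ⟨_, rfl⟩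
    have hν'app : ∀ (x : ↥T) (hx : x ∈ (P : Subgroup G).subgroupOf T),
        ν' ⟨x, hx⟩ = ν ⟨(x : G), Subgroup.mem_subgroupOf.mp hx⟩ := by
      intro x hx
      rw [hν']
      rfl
    obtain ⟨μ, hμV, hμ2⟩ := exists_transfer_ext ((P : Subgroup G).subgroupOf T)
      (V.subgroupOf T) hVP' hodd' ν'
      (by
        intro t v hv
        rw [hν'app, hν'app]
        have hvV : (v : G) ∈ V := Subgroup.mem_subgroupOf.mp hv
        have h1 := (mem_inertia_iff V (lam : ↥V → ℂ) (t : G)).mp (hT ▸ t.2) ⟨(v : G), hvV⟩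
        have h2 := hν ((t : G) * (v : G) * (t : G)⁻¹) (hVn.conj_mem _ hvV _)
        have h3 := hν (v : G) hvV
        rw [h2, h3] at h1
        exact Units.ext h1)
      (by
        intro v hv
        rw [hν'app]
        exact hν2 _)
    have hμ2' : ∀ t, μ t ^ 2 = 1 := hμ2 (fun x => by rw [hν']; exact hν2 _)
    have hμθ : ∀ m : V, (lam : ↥V → ℂ) m = μ ⟨m, hVT m.2⟩ := by
      intro m
      rw [hμV ⟨m, hVT m.2⟩ (Subgroup.mem_subgroupOf.mpr m.2), hν'app]
      exact hν m m.2
    have hG := card_over_eq_of_surj V T hVT (lam : ↥V → ℂ) lam.2 μ hμθ hμ2'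
      (QuotientGroup.mk' (V.subgroupOf T)) (QuotientGroup.mk'_surjective _)
      (fun x => by rw [QuotientGroup.mk'_apply, QuotientGroup.eq_one_iff,
        Subgroup.mem_subgroupOf])
    -- the induction hypothesis for `T / V`
    have hVT1 : V.subgroupOf T ≠ ⊥ := by
      intro h0
      rw [Subgroup.subgroupOf_eq_bot] at h0
      exact hV1 (h0.eq_bot_of_le hVT)
    have hlt : Nat.card (↥T ⧸ V.subgroupOf T) < Nat.card G :=
      lt_of_lt_of_le (helper12.card_quotient_lt (V.subgroupOf T) hVT1)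
        (Subgroup.card_le_card_group T)
    have hIH := IH (↥T ⧸ V.subgroupOf T) hlt
      ((P.subtype hPT).mapSurjective (QuotientGroup.mk'_surjective (V.subgroupOf T)))
    -- the normalizer side
    obtain ⟨φ', hφ's, hφ'k⟩ := exists_normalizer_quot_hom 2 (P.subtype hPT) (V.subgroupOf T)
    have hjmem : ∀ x : ↥(T.subgroupOf (nP P)),
        (⟨((x : ↥(nP P)) : G), Subgroup.mem_subgroupOf.mp x.2⟩ : ↥T) ∈ nP (P.subtype hPT) := by
      intro x
      show _ ∈ Subgroup.normalizer (((P : Subgroup G).subgroupOf T : Subgroup ↥T) : Set ↥T)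
      rw [← Subgroup.subgroupOf_normalizer_eq hPT, Subgroup.mem_subgroupOf]
      exact (x : ↥(nP P)).2
    let j' : ↥(T.subgroupOf (nP P)) →* ↥(nP (P.subtype hPT)) :=
      { toFun := fun x => ⟨⟨((x : ↥(nP P)) : G), Subgroup.mem_subgroupOf.mp x.2⟩, hjmem x⟩
        map_one' := rfl
        map_mul' := fun x y => rfl }
    have hj's : Function.Surjective j' := by
      intro y
      have hy : ((y : ↥T) : G) ∈ nP P := by
        have h1 : (y : ↥T) ∈ Subgroup.normalizer
            (((P : Subgroup G).subgroupOf T : Subgroup ↥T) : Set ↥T) := y.2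
        rw [← Subgroup.subgroupOf_normalizer_eq hPT, Subgroup.mem_subgroupOf] at h1
        exact h1
      exact ⟨⟨⟨((y : ↥T) : G), hy⟩, Subgroup.mem_subgroupOf.mpr (y : ↥T).2⟩, rfl⟩
    have hφk : ∀ x : ↥(T.subgroupOf (nP P)),
        (φ'.comp j') x = 1 ↔ (x : ↥(nP P)) ∈ V.subgroupOf (nP P) := by
      intro x
      rw [MonoidHom.comp_apply, hφ'k, Subgroup.mem_subgroupOf, Subgroup.mem_subgroupOf]
      rfl
    have hμN : ∀ m : ↥(V.subgroupOf (nP P)), subRes V (nP P) (lam : ↥V → ℂ) m =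
        (μ.comp ((nP (P.subtype hPT)).subtype.comp j')) ⟨m, hVTN m.2⟩ := by
      intro m
      exact hμθ ⟨((m : ↥(nP P)) : G), Subgroup.mem_subgroupOf.mp m.2⟩
    have hN := card_over_eq_of_surj (V.subgroupOf (nP P)) (T.subgroupOf (nP P)) hVTN
      (subRes V (nP P) (lam : ↥V → ℂ)) hsubirr
      (μ.comp ((nP (P.subtype hPT)).subtype.comp j')) hμN (fun t => hμ2' _)
      (φ'.comp j') (hφ's.comp hj's) hφk
    rw [hG, hIH, hN]
  · trans 0
    · refine Nat.card_eq_zero.mpr (Or.inl ⟨?_⟩)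
      rintro ⟨ψ, hr, ho, hc⟩
      exact hex (exists_real_linear_of_over (P : Subgroup G) V T hVP hVT hPT P.isPGroup'
        (lam : ↥V → ℂ) lam.2 (le_of_eq hT) ψ hr ho hc)
    · symm
      refine Nat.card_eq_zero.mpr (Or.inl ⟨?_⟩)
      rintro ⟨ψ, hr, ho, hc⟩
      obtain ⟨ν', hν', hν'2⟩ := exists_real_linear_of_over
        ((P : Subgroup G).subgroupOf (nP P)) (V.subgroupOf (nP P)) (T.subgroupOf (nP P))
        hVPN hVTN hPTN P.isPGroup'.comap_subtype (subRes V (nP P) (lam : ↥V → ℂ)) hsubirr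
        (le_of_eq hTN') ψ hr ho hc
      apply hex
      refine ⟨ν'.comp (Subgroup.subgroupOfEquivOfLe hPN).symm.toMonoidHom, ?_,
        fun y => hν'2 _⟩
      intro v hv
      have h1 := hν' ⟨v, hVN hv⟩ (Subgroup.mem_subgroupOf.mpr hv)
      rw [subRes_apply] at h1
      exact h1

end Fiber

section Main

/-- **Real odd-degree characters and Sylow `2`-normalizers**: a finite solvable group and the
normalizer of a Sylow `2`-subgroup have the same number of real-valued irreducible characters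
of odd degree. -/
theorem card_realOdd_eq_normalizer : ∀ (n : ℕ) (G : Type u) [Group G] [Finite G]
    [Group.IsSolvable G], Nat.card G = n → ∀ P : Sylow 2 G,
    Nat.card (RealOdd G) = Nat.card (RealOdd ↥(nP P)) := by
  intro n
  induction n using Nat.strong_induction_on with
  | _ n ih =>
  intro G _ _ _ hn P
  classical
  letI : Fintype G := Fintype.ofFinite G
  have IH : ∀ (G' : Type u) [Group G'] [Finite G'] [Group.IsSolvable G'],
      Nat.card G' < Nat.card G →
      ∀ P' : Sylow 2 G', Nat.card (RealOdd G') = Nat.card (RealOdd ↥(nP P')) := by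
    intro G' _ _ _ hlt P'
    exact ih (Nat.card G') (hn ▸ hlt) G' rfl P'
  by_cases htriv : Nontrivial G
  swap
  · rw [not_nontrivial_iff_subsingleton] at htriv
    have hb : Function.Bijective (nP P).subtype :=
      ⟨Subtype.coe_injective, fun g => ⟨⟨g, by
        rw [Subsingleton.elim g 1]; exact (nP P).one_mem⟩, rfl⟩⟩
    exact card_realOdd_of_bijective (nP P).subtype hb
  obtain ⟨A, hA1, hAn, hAmin⟩ := helper12.exists_minimal_normal (G := G)
  haveI := hAn
  obtain ⟨p, hp, hAp⟩ := helper12.minimal_normal_isPGroup A hA1 hAmin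
  haveI : Fact p.Prime := ⟨hp⟩
  by_cases hp2 : p = 2
  · subst hp2
    have hVP : A ≤ (P : Subgroup G) := by
      have h1 : IsPGroup 2 ((P : Subgroup G) ⊔ A : Subgroup G) :=
        P.isPGroup'.to_sup_of_normal_right hAp
      have h2 := P.is_maximal' h1 le_sup_left
      exact le_sup_right.trans h2.le
    have hV2 : ∀ v ∈ A, v * v = 1 := by
      obtain ⟨q, hq, hexp⟩ := helper12.minimal_normal_exponent A hA1 hAmin
      obtain ⟨x, hx1⟩ := (Subgroup.ne_bot_iff_exists_ne_one).mp hA1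
      have hx1' : (x : G) ≠ 1 := fun h => hx1 (Subtype.ext h)
      haveI : Fact q.Prime := ⟨hq⟩
      have hord : orderOf (x : G) = q := orderOf_eq_prime (hexp x x.2) hx1'
      obtain ⟨k, hk⟩ := hAp x
      have hk' : (x : G) ^ 2 ^ k = 1 := by
        have := congrArg (fun t : ↥A => (t : G)) hk
        simpa using this
      have hdvd : q ∣ 2 ^ k := by
        rw [← hord]
        exact orderOf_dvd_of_pow_eq_one hk'
      have hq2 : q = 2 := (Nat.prime_dvd_prime_iff_eq hq Nat.prime_two).mp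
        (hq.dvd_of_dvd_pow hdvd)
      intro v hv
      have := hexp v hv
      rw [hq2, sq] at this
      exact this
    letI : Fintype ↥A := Fintype.ofFinite _
    letI : Fintype ↥(nP P) := Fintype.ofFinite _
    letI : Fintype ↥(A.subgroupOf (nP P)) := Fintype.ofFinite _
    refine card_eq_of_fiberwise (pinvSetoid P A)
      (fun (χ : RealOdd G) (l : PInvIrr P A) =>
        classInner (fun v : A => (χ.1 : G → ℂ) v) (l.1 : ↥A → ℂ) ≠ 0)
      (fun (ξ : RealOdd ↥(nP P)) (l : PInvIrr P A) =>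
        classInner (fun m : A.subgroupOf (nP P) => (ξ.1 : ↥(nP P) → ℂ) m)
          (subRes A (nP P) (l.1 : ↥A → ℂ)) ≠ 0)
      (fun χ => exists_pinv_over P A χ.1 χ.2.2)
      (fun χ l l' h h' => pinv_conj_of_over P A χ.1 l l' h h')
      (fun χ l l' h hr => over_of_conj P A χ.1 l l' h hr)
      (fun ξ => exists_pinv_over_N P A hVP ξ.1 ξ.2.2)
      (fun ξ l l' h h' => pinv_conj_of_over_N P A hVP ξ.1 l l' h h')
      (fun ξ l l' h hr => over_of_conj_N P A ξ.1 l l' h hr) ?_
    intro l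
    exact (card_subtype_and (fun χ : IrrCharacter G => ∀ g, ((χ : G → ℂ) g).im = 0)
      (fun χ : IrrCharacter G => Odd (charDegree (χ : G → ℂ)))
      (fun χ : IrrCharacter G =>
        classInner (fun v : A => (χ : G → ℂ) v) (l.1 : ↥A → ℂ) ≠ 0)).trans
      ((card_fiber_eq IH P A hA1 hVP hV2 l.1 l.2).trans
      (card_subtype_and (fun ξ : IrrCharacter ↥(nP P) => ∀ g, ((ξ : ↥(nP P) → ℂ) g).im = 0)
      (fun ξ : IrrCharacter ↥(nP P) => Odd (charDegree (ξ : ↥(nP P) → ℂ)))
      (fun ξ : IrrCharacter ↥(nP P) =>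
        classInner (fun m : A.subgroupOf (nP P) => (ξ : ↥(nP P) → ℂ) m)
          (subRes A (nP P) (l.1 : ↥A → ℂ)) ≠ 0)).symm)
  · have hAodd : Odd (Nat.card A) := by
      obtain ⟨k, hk⟩ := IsPGroup.iff_card.mp hAp
      rw [hk]
      exact Odd.pow (hp.odd_of_ne_two hp2)
    have h1 : Nat.card (RealOdd G) = Nat.card {χ : IrrCharacter G //
        (∀ x, (QuotientGroup.mk' A) x = 1 → (χ : G → ℂ) x = (χ : G → ℂ) 1) ∧
        (∀ x, ((χ : G → ℂ) x).im = 0) ∧ Odd (charDegree (χ : G → ℂ))} := by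
      refine Nat.card_congr (Equiv.subtypeEquivRight fun χ => ?_)
      constructor
      · rintro ⟨hr, ho⟩
        refine ⟨fun x hx => ker_of_real_odd A hAodd χ hr ho x ?_, hr, ho⟩
        rwa [QuotientGroup.mk'_apply, QuotientGroup.eq_one_iff] at hx
      · rintro ⟨-, h⟩
        exact h
    have h2 := card_real_odd_comp_surj (QuotientGroup.mk' A) (QuotientGroup.mk'_surjective A)
    have hlt : Nat.card (G ⧸ A) < Nat.card G := helper12.card_quotient_lt A hA1
    have h3 := IH (G ⧸ A) hlt (P.mapSurjective (QuotientGroup.mk'_surjective A))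
    obtain ⟨φ, hφs, hφk⟩ := exists_normalizer_quot_hom 2 P A
    have h4 := card_real_odd_comp_surj φ hφs
    have h5 : Nat.card (RealOdd ↥(nP P)) = Nat.card {ξ : IrrCharacter ↥(nP P) //
        (∀ x, φ x = 1 → (ξ : ↥(nP P) → ℂ) x = (ξ : ↥(nP P) → ℂ) 1) ∧
        (∀ x, ((ξ : ↥(nP P) → ℂ) x).im = 0) ∧ Odd (charDegree (ξ : ↥(nP P) → ℂ))} := by
      refine Nat.card_congr (Equiv.subtypeEquivRight fun ξ => ?_)
      constructor
      · rintro ⟨hr, ho⟩
        letI : Fintype ↥(nP P) := Fintype.ofFinite _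
        have hAN : Odd (Nat.card ↥(A.subgroupOf (nP P))) := by
          have hp' : IsPGroup p ↥(A.subgroupOf (nP P)) := hAp.comap_subtype
          obtain ⟨k, hk⟩ := IsPGroup.iff_card.mp hp'
          rw [hk]
          exact Odd.pow (hp.odd_of_ne_two hp2)
        refine ⟨fun x hx => ker_of_real_odd (A.subgroupOf (nP P)) hAN ξ hr ho x ?_, hr, ho⟩
        exact Subgroup.mem_subgroupOf.mpr ((hφk x).mp hx)
      · rintro ⟨-, h⟩
        exact h
    exact h1.trans (h2.symm.trans (h3.trans (h4.trans h5.symm)))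

end Main

end Cfsg.Agent.Lib.helper79
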