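import Mathlib
import Cfsg.Prelude.Def_Characters
import Cfsg.Prelude.Def_Blocks
import Cfsg.Agent.Lib.helper79.RealOddE
import Cfsg.Agent.Lib.helper3.PGroupFrattini
import Cfsg.Agent.Lib.helper3.PGroupNormal
import Cfsg.Agent.Lib.helper58.PPrimeOver

/-!
# Real characters of odd degree (helper79), part F

Preparations for the characterization of the solvable groups all of whose irreducible characters
of odd degree are real-valued.
-/

set_option autoImplicit false
set_option linter.style.haveILetI false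
set_option linter.unusedSectionVars false

namespace Cfsg.Agent.Lib.helper79

open Cfsg
open Cfsg.Agent.Lib Cfsg.Agent.Lib.helper83 Cfsg.Agent.Lib.helper82
open Cfsg.Agent.Lib.helper83.RealMcKay
open scoped ComplexConjugate

universe u

/-- All irreducible characters of odd degree are real-valued. -/
def AllOddReal (X : Type u) [Group X] : Prop :=
  ∀ χ : IrrCharacter X, Odd (charDegree (χ : X → ℂ)) → ∀ g, ((χ : X → ℂ) g).im = 0

/-- All linear characters are real-valued. -/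
def AllLinReal (Q : Type*) [Group Q] : Prop :=
  ∀ (ν : Q →* ℂˣ) (x : Q), ν x ^ 2 = 1

theorem charDegree_comp {X Y : Type*} [Group X] [Group Y] (f : X →* Y) (χ : Y → ℂ) :
    charDegree (fun x => χ (f x)) = charDegree χ := by
  unfold charDegree
  show ⌊(χ (f 1)).re⌋₊ = _
  rw [map_one]

theorem allOddReal_of_surj {X Y : Type u} [Group X] [Group Y] (f : X →* Y)
    (hf : Function.Surjective f) (h : AllOddReal X) : AllOddReal Y := by
  intro χ hodd y
  obtain ⟨x, rfl⟩ := hf y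
  exact h ⟨fun x => (χ : Y → ℂ) (f x), isIrrCharacter_comp_surj f hf χ.2⟩
    (by
      show Odd (charDegree (fun x => (χ : Y → ℂ) (f x)))
      rw [charDegree_comp]
      exact hodd) x

theorem allLinReal_of_surj {Q Q' : Type*} [Group Q] [Group Q'] (f : Q →* Q')
    (hf : Function.Surjective f) (h : AllLinReal Q) : AllLinReal Q' := by
  intro ν y
  obtain ⟨x, rfl⟩ := hf y
  exact h (ν.comp f) x

theorem sq_eq_one_of_surj_ker {Q Q' : Type*} [Group Q] [Group Q'] (f : Q →* Q')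
    (hf : Function.Surjective f) (h : AllLinReal Q') (ν : Q →* ℂˣ) (hker : f.ker ≤ ν.ker)
    (x : Q) : ν x ^ 2 = 1 := by
  have h1 := h (f.liftOfSurjective hf ⟨ν, hker⟩) (f x)
  rw [MonoidHom.liftOfRightInverse_comp_apply] at h1
  exact h1

/-- For a finite `2`-group: all linear characters are real-valued if and only if the derived
subgroup equals the Frattini subgroup. -/
theorem allLinReal_iff_commutator_eq_frattini {Q : Type*} [Group Q] [Finite Q]
    (hQ : IsPGroup 2 Q) : AllLinReal Q ↔ commutator Q = frattini Q := by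
  constructor
  · intro h
    apply le_antisymm (helper3.commutator_le_frattini hQ)
    apply helper3.frattini_le_of_pow_mem_of_commutator_le (p := 2) (commutator Q) ?_ le_rfl
    intro x
    by_contra hx
    have h1 : (Abelianization.of (x ^ 2) : Abelianization Q) ≠ 1 := by
      intro h0
      apply hx
      exact (QuotientGroup.eq_one_iff _).mp h0
    obtain ⟨φ, hφ⟩ := helper82.exists_hom_apply_ne_one (G := Abelianization Q)
      (fun a b => mul_comm a b) h1
    apply hφ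
    have h2 := h (φ.comp Abelianization.of) x
    rw [← map_pow] at h2
    exact h2
  · intro h ν x
    have h1 : x ^ 2 ∈ commutator Q := by
      rw [h]
      exact helper3.pow_prime_mem_frattini hQ x
    have h2 := Abelianization.commutator_subset_ker ν h1
    rw [← map_pow]
    exact MonoidHom.mem_ker.mp h2

section Grp

variable {G : Type u} [Group G] [Finite G]

/-- A Sylow subgroup maps onto its image in a quotient. -/
theorem exists_sylow_quot_hom (p : ℕ) [hp : Fact p.Prime] (P : Sylow p G)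
    (A : Subgroup G) [hA : A.Normal] :
    ∃ π : ↥(P : Subgroup G) →*
        ↥((P.mapSurjective (QuotientGroup.mk'_surjective A) : Sylow p (G ⧸ A)) :
          Subgroup (G ⧸ A)),
      Function.Surjective π ∧ ∀ x : ↥(P : Subgroup G), π x = 1 ↔ (x : G) ∈ A := by
  have hmem : ∀ x : ↥(P : Subgroup G),
      ((QuotientGroup.mk' A).comp (P : Subgroup G).subtype) x ∈
        ((P.mapSurjective (QuotientGroup.mk'_surjective A) : Sylow p (G ⧸ A)) :
          Subgroup (G ⧸ A)) := by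
    intro x
    exact Subgroup.mem_map_of_mem _ x.2
  refine ⟨MonoidHom.codRestrict ((QuotientGroup.mk' A).comp (P : Subgroup G).subtype) _ hmem,
    ?_, ?_⟩
  · rintro ⟨y, hy⟩
    obtain ⟨x, hx, rfl⟩ := Subgroup.mem_map.mp hy
    exact ⟨⟨x, hx⟩, rfl⟩
  · intro x
    rw [Subtype.ext_iff]
    show (QuotientGroup.mk' A) (x : G) = 1 ↔ _
    rw [QuotientGroup.mk'_apply, QuotientGroup.eq_one_iff]

/-- Extension by the transfer to a subgroup `T ≥ P` fixing the restriction to `V`. -/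
theorem exists_transfer_to_inertia (P : Sylow 2 G) (V T : Subgroup G) [hVn : V.Normal]
    (hVP : V ≤ (P : Subgroup G)) (hVT : V ≤ T) (hPT : (P : Subgroup G) ≤ T)
    (ν : ↥(P : Subgroup G) →* ℂˣ)
    (hinvT : ∀ t ∈ T, ∀ (v : G) (hv : v ∈ V),
      ν ⟨t * v * t⁻¹, hVP (hVn.conj_mem v hv t)⟩ = ν ⟨v, hVP hv⟩)
    (hsq : ∀ (v : G) (hv : v ∈ V), ν ⟨v, hVP hv⟩ ^ 2 = 1) :
    ∃ μ : ↥T →* ℂˣ, (∀ (v : G) (hv : v ∈ V), μ ⟨v, hVT hv⟩ = ν ⟨v, hVP hv⟩) ∧
      ((∀ x, ν x ^ 2 = 1) → ∀ t, μ t ^ 2 = 1) := by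
  have hPodd : Odd (P : Subgroup G).index := by
    rw [← Nat.not_even_iff_odd, even_iff_two_dvd]
    exact P.not_dvd_index
  have hVP' : V.subgroupOf T ≤ (P : Subgroup G).subgroupOf T := fun x hx =>
    Subgroup.mem_subgroupOf.mpr (hVP (Subgroup.mem_subgroupOf.mp hx))
  have hodd' : Odd ((P : Subgroup G).subgroupOf T).index :=
    Odd.of_dvd_nat hPodd (Subgroup.relIndex_dvd_index_of_le hPT)
  obtain ⟨ν', hν'⟩ : ∃ ν' : ↥((P : Subgroup G).subgroupOf T) →* ℂˣ,
      ν' = ν.comp (Subgroup.subgroupOfEquivOfLe hPT).toMonoidHom := ⟨_, rfl⟩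
  have hν'app : ∀ (x : ↥T) (hx : x ∈ (P : Subgroup G).subgroupOf T),
      ν' ⟨x, hx⟩ = ν ⟨(x : G), Subgroup.mem_subgroupOf.mp hx⟩ := by
    intro x hx
    rw [hν']
    rfl
  obtain ⟨μ, hμV, hμ2⟩ := exists_transfer_ext ((P : Subgroup G).subgroupOf T)
    (V.subgroupOf T) hVP' hodd' ν'
    (by
      intro t v hv
      rw [hν'app, hν'app]
      exact hinvT (t : G) t.2 (v : G) (Subgroup.mem_subgroupOf.mp hv))
    (by
      intro v hv
      rw [hν'app]
      exact hsq (v : G) (Subgroup.mem_subgroupOf.mp hv))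
  refine ⟨μ, ?_, fun h => hμ2 (fun x => by rw [hν']; exact h _)⟩
  intro v hv
  rw [hμV ⟨v, hVT hv⟩ (Subgroup.mem_subgroupOf.mpr hv), hν'app]

end Grp

section Twist

variable {H : Type u} [Group H] [Fintype H]

/-- Twisting a character over `θ` by a sign character extending `θ` gives a character with `M`
in its kernel. -/
theorem exists_twist_ker (M T : Subgroup H) [hM : M.Normal] [Fintype M] (hMT : M ≤ T)
    (θ : ↥M → ℂ) (hθ : IsIrrCharacter ↥M θ) (μ : ↥T →* ℂˣ)
    (hμθ : ∀ m : M, θ m = μ ⟨m, hMT m.2⟩) (hμ2 : ∀ t, μ t ^ 2 = 1)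
    (ψ : IrrCharacter ↥T)
    (hc : classInner (fun m : M => (ψ : ↥T → ℂ) ⟨m, hMT m.2⟩) θ ≠ 0) :
    IsIrrCharacter ↥T (fun t => (ψ : ↥T → ℂ) t * ((μ t : ℂˣ) : ℂ)) ∧
      ∀ m : M, (ψ : ↥T → ℂ) ⟨m, hMT m.2⟩ * ((μ ⟨m, hMT m.2⟩ : ℂˣ) : ℂ) = (ψ : ↥T → ℂ) 1 := by
  classical
  letI : Fintype ↥T := Fintype.ofFinite _
  have hμsq : ∀ t, ((μ t : ℂˣ) : ℂ) * ((μ t : ℂˣ) : ℂ) = 1 := by
    intro t
    have := congrArg (fun u : ℂˣ => (u : ℂ)) (hμ2 t)
    simpa [sq] using this
  have hθ1 : θ 1 = 1 := by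
    have h := hμθ 1
    have h2 : (⟨((1 : M) : H), hMT (1 : M).2⟩ : ↥T) = 1 := rfl
    rw [h, h2, map_one]
    rfl
  have hTin : T ≤ inertia M θ := by
    intro t ht
    rw [mem_inertia]
    funext m
    rw [cconj_apply, hμθ, hμθ]
    have h1 : (⟨((⟨t⁻¹ * (m : H) * t, by simpa using hM.conj_mem m m.2 t⁻¹⟩ : M) : H),
        hMT (by simpa using hM.conj_mem m m.2 t⁻¹)⟩ : ↥T) =
        (⟨t, ht⟩ : ↥T)⁻¹ * ⟨m, hMT m.2⟩ * ⟨t, ht⟩ := rfl
    rw [h1, map_mul, map_mul, map_inv]
    congr 1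
    rw [mul_comm, mul_inv_cancel_left]
  refine ⟨helper19.isIrr_mul_linear (ψ : ↥T → ℂ) (fun t => ((μ t : ℂˣ) : ℂ)) ψ.2
    (isIrrCharacter_of_hom μ) (by simp), ?_⟩
  obtain ⟨f, hf⟩ := helper4.exists_nat_classInner_irr
    (isCharacter_restrict_le M T hMT (isCharacter_of_irr ψ.2)) hθ
  have hf0 : f ≠ 0 := by
    intro h0
    apply hc
    rw [hf, h0]
    simp
  have hinv := clifford_invariant_rel M T hMT hθ hTin ψ.2 f hf hf0
  intro m
  rw [hinv m, ← hμθ m, mul_assoc]
  have h1 := hinv 1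
  have h2 : (⟨((1 : M) : H), hMT (1 : M).2⟩ : ↥T) = 1 := rfl
  rw [h2, hθ1, mul_one] at h1
  rw [h1]
  have h3 : θ m * θ m = 1 := by
    rw [hμθ m]
    exact hμsq _
  rw [h3, mul_one]

end Twist

end Cfsg.Agent.Lib.helper79
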