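import Mathlib
import Cfsg.Prelude.Def_Characters
import Cfsg.Prelude.Def_Blocks
import Cfsg.Agent.Lib.helper79.RealOddF

/-!
# Real characters of odd degree (helper79), part G

`normalizer_le_of_allOddReal` : if all irreducible characters of odd degree of the finite
solvable group `G` are real-valued, then a Sylow `2`-subgroup of `G` is self-normalizing.
-/

set_option autoImplicit false
set_option linter.style.haveILetI false
set_option linter.unusedSectionVars false

namespace Cfsg.Agent.Lib.helper79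

open Cfsg
open Cfsg.Agent.Lib Cfsg.Agent.Lib.helper83 Cfsg.Agent.Lib.helper82
open Cfsg.Agent.Lib.helper83.RealMcKay
open scoped ComplexConjugate

universe u

section Cent

variable {G : Type u} [Group G] [Finite G]

/-- If all irreducible characters of odd degree are real-valued, then no non-trivial element of
an abelian normal subgroup of odd order centralizes a Sylow `2`-subgroup. -/
theorem false_of_allOddReal_of_cent (hR : AllOddReal G) (P : Sylow 2 G) (A : Subgroup G)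
    [hAn : A.Normal] (hAodd : Odd (Nat.card A))
    (hAcomm : ∀ x ∈ A, ∀ y ∈ A, x * y = y * x) (a : G) (haA : a ∈ A) (ha1 : a ≠ 1)
    (hcent : ∀ x ∈ (P : Subgroup G), x * a = a * x) : False := by
  classical
  letI : Fintype G := Fintype.ofFinite G
  obtain ⟨H, hH⟩ : ∃ H : Subgroup G, H = (P : Subgroup G) ⊔ A := ⟨_, rfl⟩
  have hPH : (P : Subgroup G) ≤ H := hH ▸ le_sup_left
  have hAH : A ≤ H := hH ▸ le_sup_right
  letI : Fintype ↥H := Fintype.ofFinite _
  have hcentH : ∀ h ∈ H, h * a = a * h := by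
    have h1 : H ≤ Subgroup.centralizer ({a} : Set G) := by
      rw [hH]
      refine sup_le ?_ ?_
      · intro x hx
        rw [Subgroup.mem_centralizer_iff]
        intro y hy
        rw [Set.mem_singleton_iff] at hy
        rw [hy]
        exact (hcent x hx).symm
      · intro x hx
        rw [Subgroup.mem_centralizer_iff]
        intro y hy
        rw [Set.mem_singleton_iff] at hy
        rw [hy]
        exact hAcomm a haA x hx
    intro h hh
    have h2 := Subgroup.mem_centralizer_iff.mp (h1 hh) a (Set.mem_singleton a)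
    exact h2.symm
  obtain ⟨i, hi⟩ : ∃ i : ℕ, (A.subgroupOf H).index = 2 ^ i := by
    have h1 : (A.subgroupOf H).index = A.relIndex (P : Subgroup G) := by
      show A.relIndex H = _
      rw [hH, Subgroup.relIndex_sup_right]
    obtain ⟨j, hj⟩ := IsPGroup.iff_card.mp P.isPGroup'
    have h2 : A.relIndex (P : Subgroup G) ∣ 2 ^ j := by
      rw [← hj]
      exact Subgroup.relIndex_dvd_card A (P : Subgroup G)
    obtain ⟨i, -, hi⟩ := (Nat.dvd_prime_pow Nat.prime_two).mp h2
    exact ⟨i, h1.trans hi⟩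
  have hapow : a ^ 2 ^ i ≠ 1 := by
    intro h0
    have h1 : orderOf a ∣ 2 ^ i := orderOf_dvd_of_pow_eq_one h0
    have h2 : orderOf a ∣ Nat.card A := by
      have h3 := orderOf_dvd_natCard (⟨a, haA⟩ : ↥A)
      rwa [Subgroup.orderOf_mk] at h3
    have h3 : orderOf a = 1 := Nat.Coprime.eq_one_of_dvd
      ((Nat.coprime_two_right.mpr (Odd.of_dvd_nat hAodd h2)).pow_right i) h1
    exact ha1 (orderOf_eq_one_iff.mp h3)
  have hcomm' : ∀ x y : ↥(A.subgroupOf H), x * y = y * x := by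
    intro x y
    apply Subtype.ext
    apply Subtype.ext
    exact hAcomm _ (Subgroup.mem_subgroupOf.mp x.2) _ (Subgroup.mem_subgroupOf.mp y.2)
  have hkey : ∀ (k : ℕ) (g₀ : ↥H),
      g₀⁻¹ * (⟨a, hAH haA⟩ : ↥H) ^ k * g₀ ∈ A.subgroupOf H →
      g₀⁻¹ * (⟨a, hAH haA⟩ : ↥H) ^ k * g₀ = (⟨a, hAH haA⟩ : ↥H) ^ k := by
    intro k g₀ _
    apply Subtype.ext
    show (g₀ : G)⁻¹ * a ^ k * (g₀ : G) = a ^ k
    have hc : Commute (g₀ : G) a := hcentH _ g₀.2
    have hc2 : (g₀ : G) * a ^ k = a ^ k * (g₀ : G) := (hc.pow_right k).eq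
    rw [mul_assoc, ← hc2, inv_mul_cancel_left]
  have hb1 : (⟨(⟨a, hAH haA⟩ : ↥H) ^ (A.subgroupOf H).index,
      MonoidHom.transfer_eq_pow_aux _ hkey⟩ : ↥(A.subgroupOf H)) ≠ 1 := by
    intro h0
    apply hapow
    have h1 := congrArg (fun t : ↥(A.subgroupOf H) => ((t : ↥H) : G)) h0
    rw [← hi]
    exact h1
  obtain ⟨φ, hφ⟩ := helper82.exists_hom_apply_ne_one hcomm' hb1
  obtain ⟨lh, hlh⟩ : ∃ lh : ↥H →* ℂˣ, lh = MonoidHom.transfer φ := ⟨_, rfl⟩
  have hne : lh (⟨a, hAH haA⟩ : ↥H) ≠ 1 := by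
    rw [hlh, MonoidHom.transfer_eq_pow φ _ hkey]
    exact hφ
  have hidxH : ¬ 2 ∣ H.index := fun h =>
    P.not_dvd_index (h.trans (Subgroup.index_dvd_of_le hPH))
  have hηdeg : ¬ 2 ∣ charDegree (fun h : ↥H => ((lh h : ℂˣ) : ℂ)) := by
    rw [helper21.charDegree_of_one_eq (n := 1) (by simp)]
    decide
  obtain ⟨χ, hχodd, hχη⟩ := helper58.exists_pPrime_over H hidxH
    ⟨fun h => ((lh h : ℂˣ) : ℂ), isIrrCharacter_of_hom lh⟩ hηdeg
  have hχodd' : Odd (charDegree (χ : G → ℂ)) := by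
    rw [← Nat.not_even_iff_odd, even_iff_two_dvd]
    exact hχodd
  have hχreal := hR χ hχodd'
  have hker := ker_of_real_odd A hAodd χ hχreal hχodd'
  obtain ⟨ψ, hψ, hψχ⟩ := exists_irr_deflation (QuotientGroup.mk' A)
    (QuotientGroup.mk'_surjective A) χ.2
    (fun x hx => hker x (by rwa [QuotientGroup.ker_mk'] at hx))
  have hmul : ∀ g : G, (χ : G → ℂ) (g * a) = (χ : G → ℂ) g := by
    intro g
    rw [← hψχ, ← hψχ, map_mul]
    have h1 : (QuotientGroup.mk' A) a = 1 := by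
      rw [QuotientGroup.mk'_apply, QuotientGroup.eq_one_iff]
      exact haA
    rw [h1, mul_one]
  apply hχη
  have hsum : ∑ h : ↥H, (χ : G → ℂ) h * conj ((lh h : ℂˣ) : ℂ) = 0 := by
    have h1 : ∑ h : ↥H, (χ : G → ℂ) h * conj ((lh h : ℂˣ) : ℂ) =
        ∑ h : ↥H, (χ : G → ℂ) ((h * ⟨a, hAH haA⟩ : ↥H) : G) *
          conj ((lh (h * ⟨a, hAH haA⟩) : ℂˣ) : ℂ) :=
      (Fintype.sum_equiv (Equiv.mulRight (⟨a, hAH haA⟩ : ↥H)) _ _ (fun h => rfl)).symm
    have h2 : ∀ h : ↥H, (χ : G → ℂ) ((h * ⟨a, hAH haA⟩ : ↥H) : G) *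
        conj ((lh (h * ⟨a, hAH haA⟩) : ℂˣ) : ℂ) =
        ((χ : G → ℂ) h * conj ((lh h : ℂˣ) : ℂ)) *
          conj ((lh ⟨a, hAH haA⟩ : ℂˣ) : ℂ) := by
      intro h
      rw [map_mul, Units.val_mul, map_mul]
      have h3 : ((h * ⟨a, hAH haA⟩ : ↥H) : G) = (h : G) * a := rfl
      rw [h3, hmul]
      ring
    rw [Finset.sum_congr rfl (fun h _ => h2 h), ← Finset.sum_mul] at h1
    have hc : conj ((lh ⟨a, hAH haA⟩ : ℂˣ) : ℂ) ≠ 1 := by
      intro h0
      apply hne
      apply Units.ext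
      have h4 := congrArg (starRingEnd ℂ) h0
      simpa using h4
    have h3 : (∑ h : ↥H, (χ : G → ℂ) h * conj ((lh h : ℂˣ) : ℂ)) *
        (1 - conj ((lh ⟨a, hAH haA⟩ : ℂˣ) : ℂ)) = 0 := by
      rw [mul_sub, mul_one, ← h1, sub_self]
    rcases mul_eq_zero.mp h3 with h4 | h4
    · exact h4
    · exact absurd (sub_eq_zero.mp h4).symm hc
  show classInner (fun h : ↥H => (χ : G → ℂ) h) (fun h : ↥H => ((lh h : ℂˣ) : ℂ)) = 0
  rw [classInner_def, hsum, mul_zero]

end Cent

section Main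

/-- If all irreducible characters of odd degree of a finite solvable group are real-valued,
then a Sylow `2`-subgroup is self-normalizing. -/
theorem normalizer_le_of_allOddReal : ∀ (n : ℕ) (G : Type u) [Group G] [Finite G]
    [Group.IsSolvable G], Nat.card G = n → AllOddReal G → ∀ P : Sylow 2 G,
    nP P ≤ (P : Subgroup G) := by
  intro n
  induction n using Nat.strong_induction_on with
  | _ n ih =>
  intro G _ _ _ hn hR P
  classical
  by_cases htriv : Nontrivial G
  swap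
  · rw [not_nontrivial_iff_subsingleton] at htriv
    intro x _
    rw [Subsingleton.elim x 1]
    exact Subgroup.one_mem _
  obtain ⟨A, hA1, hAn, hAmin⟩ := helper12.exists_minimal_normal (G := G)
  haveI := hAn
  obtain ⟨p, hp, hAp⟩ := helper12.minimal_normal_isPGroup A hA1 hAmin
  haveI : Fact p.Prime := ⟨hp⟩
  have hlt : Nat.card (G ⧸ A) < Nat.card G := helper12.card_quotient_lt A hA1
  have hquot : AllOddReal (G ⧸ A) :=
    allOddReal_of_surj (QuotientGroup.mk' A) (QuotientGroup.mk'_surjective A) hR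
  have hIH := ih (Nat.card (G ⧸ A)) (hn ▸ hlt) (G ⧸ A) rfl hquot
    (P.mapSurjective (QuotientGroup.mk'_surjective A))
  intro x hx
  have h1 : (QuotientGroup.mk' A) x ∈ nP (P.mapSurjective (QuotientGroup.mk'_surjective A)) :=
    Subgroup.le_normalizer_map (QuotientGroup.mk' A) (Subgroup.mem_map_of_mem _ hx)
  have h2 : (QuotientGroup.mk' A) x ∈ (P : Subgroup G).map (QuotientGroup.mk' A) := hIH h1
  obtain ⟨u, hu, hux⟩ := Subgroup.mem_map.mp h2
  have ha : u⁻¹ * x ∈ A := by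
    rw [← QuotientGroup.eq]
    exact hux
  have hxu : x = u * (u⁻¹ * x) := by group
  by_cases hp2 : p = 2
  · subst hp2
    have hVP : A ≤ (P : Subgroup G) := by
      have h1 : IsPGroup 2 ((P : Subgroup G) ⊔ A : Subgroup G) :=
        P.isPGroup'.to_sup_of_normal_right hAp
      have h2 := P.is_maximal' h1 le_sup_left
      exact le_sup_right.trans h2.le
    rw [hxu]
    exact (P : Subgroup G).mul_mem hu (hVP ha)
  · by_contra hxP
    have haN : u⁻¹ * x ∈ nP P :=
      (nP P).mul_mem ((nP P).inv_mem (Subgroup.le_normalizer hu)) hx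
    have ha1 : u⁻¹ * x ≠ 1 := by
      intro h0
      apply hxP
      rw [hxu, h0, mul_one]
      exact hu
    have hAodd : Odd (Nat.card A) := by
      obtain ⟨k, hk⟩ := IsPGroup.iff_card.mp hAp
      rw [hk]
      exact Odd.pow (hp.odd_of_ne_two hp2)
    have hdisj : Disjoint A (P : Subgroup G) :=
      IsPGroup.disjoint_of_ne p 2 hp2 A (P : Subgroup G) hAp P.isPGroup'
    have hcent : ∀ y ∈ (P : Subgroup G), y * (u⁻¹ * x) = (u⁻¹ * x) * y := by
      intro y hy
      have h3 : y * (u⁻¹ * x) * y⁻¹ * (u⁻¹ * x)⁻¹ ∈ A :=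
        A.mul_mem (hAn.conj_mem _ ha y) (A.inv_mem ha)
      have h4 : y * (u⁻¹ * x) * y⁻¹ * (u⁻¹ * x)⁻¹ ∈ (P : Subgroup G) := by
        have h5 : (u⁻¹ * x) * y⁻¹ * (u⁻¹ * x)⁻¹ ∈ (P : Subgroup G) :=
          (Subgroup.mem_normalizer_iff.mp haN y⁻¹).mp ((P : Subgroup G).inv_mem hy)
        have h6 : y * (u⁻¹ * x) * y⁻¹ * (u⁻¹ * x)⁻¹ =
            y * ((u⁻¹ * x) * y⁻¹ * (u⁻¹ * x)⁻¹) := by group
        rw [h6]
        exact (P : Subgroup G).mul_mem hy h5
      have h7 := Subgroup.disjoint_def.mp hdisj h3 h4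
      have h8 : y * (u⁻¹ * x) = y * (u⁻¹ * x) * y⁻¹ * (u⁻¹ * x)⁻¹ * ((u⁻¹ * x) * y) := by
        group
      rw [h8, h7, one_mul]
    exact false_of_allOddReal_of_cent hR P A hAodd
      (helper12.minimal_normal_comm A hA1 hAmin) (u⁻¹ * x) ha ha1 hcent

end Main

end Cfsg.Agent.Lib.helper79
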