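import Mathlib
import Cfsg.Prelude.Def_Characters
import Cfsg.Prelude.Def_Blocks
import Cfsg.Agent.Lib.helper79.RealOddG

/-!
# Real characters of odd degree (helper79), part H

* `allLinReal_of_allOddReal` : if all irreducible characters of odd degree of the finite
  solvable group `G` are real-valued, then so are the linear characters of a Sylow
  `2`-subgroup.
* `allOddReal_of_allLinReal` : the converse, for a self-normalizing Sylow `2`-subgroup.
-/

set_option autoImplicit false
set_option linter.style.haveILetI false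
set_option linter.unusedSectionVars false

namespace Cfsg.Agent.Lib.helper79

open Cfsg
open Cfsg.Agent.Lib Cfsg.Agent.Lib.helper83 Cfsg.Agent.Lib.helper82
open Cfsg.Agent.Lib.helper83.RealMcKay
open scoped ComplexConjugate

universe u

section Triv

variable {G : Type u} [Group G] [Fintype G]

/-- A `P`-invariant irreducible character of an abelian normal subgroup `A` of odd order is
trivial if no non-trivial element of `A` centralizes the `2`-group `P`. -/
theorem pinv_trivial_of_cent (P : Sylow 2 G) (A : Subgroup G) [hAn : A.Normal] [Fintype ↥A]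
    (hAcomm : ∀ x ∈ A, ∀ y ∈ A, x * y = y * x) (hAodd : Odd (Nat.card A))
    (hC : ∀ c ∈ A, (∀ x ∈ (P : Subgroup G), x * c = c * x) → c = 1)
    (lam : IrrCharacter ↥A) (hlam : (P : Subgroup G) ≤ inertia A (lam : ↥A → ℂ)) :
    ∀ b : ↥A, (lam : ↥A → ℂ) b = 1 := by
  classical
  letI : Fintype ↥(P : Subgroup G) := Fintype.ofFinite _
  have hlin : (lam : ↥A → ℂ) 1 = 1 := by
    apply helper19.linear_of_abelian_quot (⊥ : Subgroup ↥A) ?_ (lam : ↥A → ℂ) lam.2 ?_
    · intro x y
      rw [Subgroup.mem_bot]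
      have h1 : x * y = y * x := Subtype.ext (hAcomm x x.2 y y.2)
      rw [h1, mul_inv_cancel_right, mul_inv_cancel]
    · intro x hx
      rw [Subgroup.mem_bot] at hx
      rw [hx]
  obtain ⟨lt, hlt⟩ := helper82.exists_hom_of_linear (isCharacter_of_irr lam.2) hlin
  letI : CommGroup ↥A :=
    { (inferInstance : Group ↥A) with
      mul_comm := fun x y => Subtype.ext (hAcomm x x.2 y y.2) }
  intro b
  obtain ⟨τ, hτ⟩ : ∃ τ : ↥A, τ = ∏ x : ↥(P : Subgroup G),
      (MulAut.conjNormal (x : G) : MulAut ↥A) b := ⟨_, rfl⟩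
  have hfix : ∀ y ∈ (P : Subgroup G), (MulAut.conjNormal y : MulAut ↥A) τ = τ := by
    intro y hy
    rw [hτ, map_prod]
    have h1 : ∀ x : ↥(P : Subgroup G),
        (MulAut.conjNormal y : MulAut ↥A) ((MulAut.conjNormal (x : G) : MulAut ↥A) b) =
        (MulAut.conjNormal (((⟨y, hy⟩ : ↥(P : Subgroup G)) * x : ↥(P : Subgroup G)) : G) :
          MulAut ↥A) b := by
      intro x
      have h2 : (((⟨y, hy⟩ : ↥(P : Subgroup G)) * x : ↥(P : Subgroup G)) : G) = y * (x : G) :=
        rfl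
      rw [h2, map_mul]
      rfl
    rw [Finset.prod_congr rfl (fun x _ => h1 x)]
    exact Fintype.prod_equiv (Equiv.mulLeft (⟨y, hy⟩ : ↥(P : Subgroup G))) _ _ (fun x => rfl)
  have hτ1 : τ = 1 := by
    apply Subtype.ext
    apply hC (τ : G) τ.2
    intro y hy
    have h1 := congrArg (fun t : ↥A => (t : G)) (hfix y hy)
    have h2 : y * (τ : G) * y⁻¹ = (τ : G) := h1
    calc y * (τ : G) = y * (τ : G) * y⁻¹ * y := by group
      _ = (τ : G) * y := by rw [h2]
  have hinvx : ∀ x : ↥(P : Subgroup G),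
      lt ((MulAut.conjNormal (x : G) : MulAut ↥A) b) = lt b := by
    intro x
    have h4 := (mem_inertia_iff A (lam : ↥A → ℂ) (x : G)).mp (hlam x.2) b
    have h5 : ((MulAut.conjNormal (x : G) : MulAut ↥A) b) =
        ⟨(x : G) * b * (x : G)⁻¹, hAn.conj_mem b b.2 x⟩ := Subtype.ext rfl
    apply Units.ext
    rw [← hlt, ← hlt, h5]
    exact h4
  have h3 : lt τ = lt b ^ Fintype.card ↥(P : Subgroup G) := by
    rw [hτ, map_prod, Finset.prod_congr rfl (fun x _ => hinvx x), Finset.prod_const,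
      Finset.card_univ]
  rw [hτ1, map_one] at h3
  have h6 : lt b ^ Nat.card ↥A = 1 := by
    rw [← map_pow, pow_card_eq_one', map_one]
  obtain ⟨j, hj⟩ := IsPGroup.iff_card.mp P.isPGroup'
  have h7 : orderOf (lt b) ∣ 2 ^ j := by
    rw [← hj, Nat.card_eq_fintype_card]
    exact orderOf_dvd_of_pow_eq_one h3.symm
  have h8 : orderOf (lt b) ∣ Nat.card ↥A := orderOf_dvd_of_pow_eq_one h6
  have h9 : orderOf (lt b) = 1 := Nat.Coprime.eq_one_of_dvd
    ((Nat.coprime_two_right.mpr (Odd.of_dvd_nat hAodd h8)).pow_right j) h7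
  rw [hlt, orderOf_eq_one_iff.mp h9]
  rfl

end Triv

section MinNormal

variable {G : Type u} [Group G] [Finite G] [Group.IsSolvable G]

/-- A minimal normal `2`-subgroup of a solvable group lies in every Sylow `2`-subgroup. -/
theorem minimal_normal_two_le (P : Sylow 2 G) (A : Subgroup G) [hAn : A.Normal]
    (hAp : IsPGroup 2 A) : A ≤ (P : Subgroup G) := by
  have h1 : IsPGroup 2 ((P : Subgroup G) ⊔ A : Subgroup G) :=
    P.isPGroup'.to_sup_of_normal_right hAp
  have h2 := P.is_maximal' h1 le_sup_left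
  exact le_sup_right.trans h2.le

/-- A minimal normal `2`-subgroup of a solvable group has exponent two. -/
theorem minimal_normal_two_sq (A : Subgroup G) [hAn : A.Normal] (hA1 : A ≠ ⊥)
    (hAmin : ∀ L : Subgroup G, L.Normal → L ≤ A → L = ⊥ ∨ L = A) (hAp : IsPGroup 2 A) :
    ∀ v ∈ A, v * v = 1 := by
  obtain ⟨q, hq, hexp⟩ := helper12.minimal_normal_exponent A hA1 hAmin
  obtain ⟨x, hx1⟩ := (Subgroup.ne_bot_iff_exists_ne_one).mp hA1
  have hx1' : (x : G) ≠ 1 := fun h => hx1 (Subtype.ext h)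
  haveI : Fact q.Prime := ⟨hq⟩
  have hord : orderOf (x : G) = q := orderOf_eq_prime (hexp x x.2) hx1'
  obtain ⟨k, hk⟩ := hAp x
  have hk' : (x : G) ^ 2 ^ k = 1 := by
    have := congrArg (fun t : ↥A => (t : G)) hk
    simpa using this
  have hdvd : q ∣ 2 ^ k := by
    rw [← hord]
    exact orderOf_dvd_of_pow_eq_one hk'
  have hq2 : q = 2 := (Nat.prime_dvd_prime_iff_eq hq Nat.prime_two).mp
    (hq.dvd_of_dvd_pow hdvd)
  intro v hv
  have := hexp v hv
  rw [hq2, sq] at this
  exact this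

end MinNormal

section Main

/-- If all irreducible characters of odd degree of a finite solvable group are real-valued,
then all linear characters of a Sylow `2`-subgroup are real-valued. -/
theorem allLinReal_of_allOddReal : ∀ (n : ℕ) (G : Type u) [Group G] [Finite G]
    [Group.IsSolvable G], Nat.card G = n → AllOddReal G → ∀ P : Sylow 2 G,
    AllLinReal ↥(P : Subgroup G) := by
  intro n
  induction n using Nat.strong_induction_on with
  | _ n ih =>
  intro G _ _ _ hn hR P
  classical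
  letI : Fintype G := Fintype.ofFinite G
  by_cases htriv : Nontrivial G
  swap
  · rw [not_nontrivial_iff_subsingleton] at htriv
    intro ν x
    have hx1 : x = 1 := Subtype.ext (Subsingleton.elim _ _)
    rw [hx1, map_one, one_pow]
  obtain ⟨A, hA1, hAn, hAmin⟩ := helper12.exists_minimal_normal (G := G)
  haveI := hAn
  obtain ⟨p, hp, hAp⟩ := helper12.minimal_normal_isPGroup A hA1 hAmin
  haveI : Fact p.Prime := ⟨hp⟩
  have hlt : Nat.card (G ⧸ A) < Nat.card G := helper12.card_quotient_lt A hA1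
  have hquot : AllOddReal (G ⧸ A) :=
    allOddReal_of_surj (QuotientGroup.mk' A) (QuotientGroup.mk'_surjective A) hR
  have hIH := ih (Nat.card (G ⧸ A)) (hn ▸ hlt) (G ⧸ A) rfl hquot
    (P.mapSurjective (QuotientGroup.mk'_surjective A))
  obtain ⟨π, hπs, hπk⟩ := exists_sylow_quot_hom 2 P A
  by_cases hp2 : p = 2
  · subst hp2
    have hVP : A ≤ (P : Subgroup G) := minimal_normal_two_le P A hAp
    have hV2 := minimal_normal_two_sq A hA1 hAmin hAp
    letI : Fintype ↥A := Fintype.ofFinite _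
    intro ν x
    have hsqV : ∀ (v : G) (hv : v ∈ A), ν ⟨v, hVP hv⟩ ^ 2 = 1 := by
      intro v hv
      rw [← map_pow]
      have h1 : (⟨v, hVP hv⟩ : ↥(P : Subgroup G)) ^ 2 = 1 := by
        apply Subtype.ext
        show v ^ 2 = 1
        rw [sq]
        exact hV2 v hv
      rw [h1, map_one]
    obtain ⟨lam, hlamdef⟩ : ∃ lam : ↥A → ℂ,
        lam = fun v : ↥A => ((ν ⟨(v : G), hVP v.2⟩ : ℂˣ) : ℂ) := ⟨_, rfl⟩
    have hlamirr : IsIrrCharacter ↥A lam := by
      rw [hlamdef]
      exact isIrrCharacter_of_hom (ν.comp (Subgroup.inclusion hVP))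
    have hlamreal : ∀ v, (lam v).im = 0 := by
      intro v
      rw [hlamdef]
      exact unit_im_of_sq _ (hsqV v v.2)
    obtain ⟨T, hT⟩ : ∃ T : Subgroup G, T = inertia A lam := ⟨_, rfl⟩
    have hVT : A ≤ T := by
      rw [hT]
      exact le_inertia A (isClassFunction_irr ⟨lam, hlamirr⟩)
    have hPT : (P : Subgroup G) ≤ T := by
      rw [hT]
      intro y hy
      rw [mem_inertia_iff]
      intro m
      rw [hlamdef]
      show ((ν ⟨y * (m : G) * y⁻¹, hVP (hAn.conj_mem m m.2 y)⟩ : ℂˣ) : ℂ) =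
        ((ν ⟨(m : G), hVP m.2⟩ : ℂˣ) : ℂ)
      have h1 : (⟨y * (m : G) * y⁻¹, hVP (hAn.conj_mem m m.2 y)⟩ : ↥(P : Subgroup G)) =
          ⟨y, hy⟩ * ⟨m, hVP m.2⟩ * ⟨y, hy⟩⁻¹ := rfl
      rw [h1, map_mul, map_mul, map_inv, mul_comm, inv_mul_cancel_left]
    have hinvT : ∀ t ∈ T, ∀ (v : G) (hv : v ∈ A),
        ν ⟨t * v * t⁻¹, hVP (hAn.conj_mem v hv t)⟩ = ν ⟨v, hVP hv⟩ := by
      intro t ht v hv
      rw [hT] at ht
      have h1 := (mem_inertia_iff A lam t).mp ht ⟨v, hv⟩
      rw [hlamdef] at h1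
      exact Units.ext h1
    obtain ⟨μ, hμV, hμ2⟩ := exists_transfer_to_inertia P A T hVP hVT hPT ν hinvT hsqV
    letI : Fintype ↥T := Fintype.ofFinite _
    have hη : IsIrrCharacter ↥T (fun t => ((μ t : ℂˣ) : ℂ)) := isIrrCharacter_of_hom μ
    have hηlam : (fun m : A => ((μ ⟨m, hVT m.2⟩ : ℂˣ) : ℂ)) = lam := by
      funext m
      rw [hμV (m : G) m.2, hlamdef]
    have hc : classInner (fun m : A => ((μ ⟨m, hVT m.2⟩ : ℂˣ) : ℂ)) lam ≠ 0 := by
      rw [hηlam, helper4.classInner_irr_self hlamirr]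
      exact one_ne_zero
    obtain ⟨hirr, -⟩ := clifford_corr_irr A T hVT hlamirr hT hη hc
    have hPodd : Odd (P : Subgroup G).index := by
      rw [← Nat.not_even_iff_odd, even_iff_two_dvd]
      exact P.not_dvd_index
    have hTodd : Odd T.index := Odd.of_dvd_nat hPodd (Subgroup.index_dvd_of_le hPT)
    have hdeg : Odd (charDegree (indFun T (fun t => ((μ t : ℂˣ) : ℂ)))) := by
      rw [charDegree_indFun T _ 1 (by simp), mul_one]
      exact hTodd
    have hreal := hR ⟨_, hirr⟩ hdeg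
    have hstar : IsIrrCharacter ↥T (fun t => conj ((μ t : ℂˣ) : ℂ)) := isIrrCharacter_star hη
    have hcstar : classInner (fun m : A => conj ((μ ⟨m, hVT m.2⟩ : ℂˣ) : ℂ)) lam ≠ 0 := by
      rw [classInner_conj_left_of_real (fun m : A => ((μ ⟨m, hVT m.2⟩ : ℂˣ) : ℂ)) lam hlamreal]
      exact (map_ne_zero _).mpr hc
    have hindstar : indFun T (fun t => conj ((μ t : ℂˣ) : ℂ)) =
        indFun T (fun t => ((μ t : ℂˣ) : ℂ)) := by
      funext g
      rw [indFun_conj]
      exact Complex.conj_eq_iff_im.mpr (hreal g)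
    have hμeq := clifford_corr_inj A T hVT hlamirr hT hstar hη hcstar hc hindstar
    have hμ2' : ∀ t, μ t ^ 2 = 1 := by
      intro t
      apply unit_sq_eq_one_of_im (μ t) (orderOf t) (orderOf_pos t).ne'
      · rw [← map_pow, pow_orderOf_eq_one, map_one]
      · exact Complex.conj_eq_iff_im.mp (congrFun hμeq t)
    obtain ⟨ν', hν'⟩ : ∃ ν' : ↥(P : Subgroup G) →* ℂˣ,
        ν' = ν * (μ.comp (Subgroup.inclusion hPT))⁻¹ := ⟨_, rfl⟩
    have hν'app : ∀ y : ↥(P : Subgroup G), ν' y = ν y * (μ ⟨(y : G), hPT y.2⟩)⁻¹ := by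
      intro y
      rw [hν']
      rfl
    have hker : π.ker ≤ ν'.ker := by
      intro y hy
      rw [MonoidHom.mem_ker] at hy ⊢
      have hyA : (y : G) ∈ A := (hπk y).mp hy
      rw [hν'app, hμV (y : G) hyA]
      exact mul_inv_cancel _
    have h5 := sq_eq_one_of_surj_ker π hπs hIH ν' hker x
    have h6 : ν x = ν' x * μ ⟨(x : G), hPT x.2⟩ := by
      rw [hν'app, inv_mul_cancel_right]
    rw [h6, mul_pow, h5, hμ2', one_mul]
  · have hdisj : Disjoint A (P : Subgroup G) :=
      IsPGroup.disjoint_of_ne p 2 hp2 A (P : Subgroup G) hAp P.isPGroup'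
    intro ν x
    apply sq_eq_one_of_surj_ker π hπs hIH ν
    intro y hy
    rw [MonoidHom.mem_ker] at hy ⊢
    have hyA : (y : G) ∈ A := (hπk y).mp hy
    have hy1 : y = 1 := Subtype.ext (Subgroup.disjoint_def.mp hdisj hyA y.2)
    rw [hy1, map_one]

/-- If all linear characters of a self-normalizing Sylow `2`-subgroup of a finite solvable
group are real-valued, then all irreducible characters of odd degree are real-valued. -/
theorem allOddReal_of_allLinReal : ∀ (n : ℕ) (G : Type u) [Group G] [Finite G]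
    [Group.IsSolvable G], Nat.card G = n → ∀ P : Sylow 2 G,
    AllLinReal ↥(P : Subgroup G) → nP P ≤ (P : Subgroup G) → AllOddReal G := by
  intro n
  induction n using Nat.strong_induction_on with
  | _ n ih =>
  intro G _ _ _ hn P hL hS
  classical
  letI : Fintype G := Fintype.ofFinite G
  intro χ hodd
  by_cases htriv : Nontrivial G
  swap
  · rw [not_nontrivial_iff_subsingleton] at htriv
    intro g
    rw [Subsingleton.elim g 1, irr_one_eq_charDegree]
    simp
  obtain ⟨A, hA1, hAn, hAmin⟩ := helper12.exists_minimal_normal (G := G)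
  haveI := hAn
  obtain ⟨p, hp, hAp⟩ := helper12.minimal_normal_isPGroup A hA1 hAmin
  haveI : Fact p.Prime := ⟨hp⟩
  letI : Fintype ↥A := Fintype.ofFinite _
  obtain ⟨l, hl⟩ := exists_pinv_over P A χ hodd
  by_cases hp2 : p = 2
  · subst hp2
    have hVP : A ≤ (P : Subgroup G) := minimal_normal_two_le P A hAp
    obtain ⟨T, hT⟩ : ∃ T : Subgroup G, T = inertia A (l.1 : ↥A → ℂ) := ⟨_, rfl⟩
    have hVT : A ≤ T := by
      rw [hT]
      exact le_inertia A (isClassFunction_irr l.1)
    have hPT : (P : Subgroup G) ≤ T := by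
      rw [hT]
      exact l.2
    letI : Fintype ↥T := Fintype.ofFinite _
    obtain ⟨ψ, hψ, hind, hcψ⟩ := clifford_corr_surj A T hVT l.1.2 hT χ.2 hl
    have hcψ0 : classInner (fun m : A => ψ ⟨m, hVT m.2⟩) (l.1 : ↥A → ℂ) ≠ 0 := by
      rw [hcψ]
      exact hl
    have hdeg : charDegree (χ : G → ℂ) = T.index * charDegree ψ := by
      rw [← hind]
      exact charDegree_indFun T ψ _ (irr_one_eq_charDegree ⟨ψ, hψ⟩)
    have hψodd : Odd (charDegree ψ) := by
      rw [hdeg, Nat.odd_mul] at hodd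
      exact hodd.2
    obtain ⟨ν, hν⟩ := exists_linear_of_over (P : Subgroup G) A T hVP hVT hPT P.isPGroup'
      (l.1 : ↥A → ℂ) l.1.2 (le_of_eq hT) ⟨ψ, hψ⟩ hψodd hcψ0
    have hν2 := hL ν
    have hinvT : ∀ t ∈ T, ∀ (v : G) (hv : v ∈ A),
        ν ⟨t * v * t⁻¹, hVP (hAn.conj_mem v hv t)⟩ = ν ⟨v, hVP hv⟩ := by
      intro t ht v hv
      rw [hT] at ht
      have h1 := (mem_inertia_iff A (l.1 : ↥A → ℂ) t).mp ht ⟨v, hv⟩
      have h2 := hν (t * v * t⁻¹) (hAn.conj_mem v hv t)
      have h3 := hν v hv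
      rw [h2, h3] at h1
      exact Units.ext h1
    obtain ⟨μ, hμV, hμ2⟩ := exists_transfer_to_inertia P A T hVP hVT hPT ν hinvT
      (fun v hv => hν2 _)
    have hμ2' := hμ2 hν2
    have hμθ : ∀ m : A, (l.1 : ↥A → ℂ) m = ((μ ⟨m, hVT m.2⟩ : ℂˣ) : ℂ) := by
      intro m
      rw [hμV (m : G) m.2]
      exact hν m m.2
    obtain ⟨hirr', hker'⟩ := exists_twist_ker A T hVT (l.1 : ↥A → ℂ) l.1.2 μ hμθ hμ2'
      ⟨ψ, hψ⟩ hcψ0
    obtain ⟨ψ', hψ', hψ'eq⟩ := exists_irr_deflation (QuotientGroup.mk' (A.subgroupOf T))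
      (QuotientGroup.mk'_surjective _) hirr'
      (by
        intro x hx
        rw [QuotientGroup.ker_mk', Subgroup.mem_subgroupOf] at hx
        show ψ x * ((μ x : ℂˣ) : ℂ) = ψ 1 * ((μ 1 : ℂˣ) : ℂ)
        rw [map_one, Units.val_one, mul_one]
        exact hker' ⟨(x : G), hx⟩)
    have hVT1 : A.subgroupOf T ≠ ⊥ := by
      intro h0
      rw [Subgroup.subgroupOf_eq_bot] at h0
      exact hA1 (h0.eq_bot_of_le hVT)
    have hlt : Nat.card (↥T ⧸ A.subgroupOf T) < Nat.card G :=
      lt_of_lt_of_le (helper12.card_quotient_lt (A.subgroupOf T) hVT1)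
        (Subgroup.card_le_card_group T)
    obtain ⟨π, hπs, hπk⟩ := exists_sylow_quot_hom 2 (P.subtype hPT) (A.subgroupOf T)
    have hL' : AllLinReal ↥(((P.subtype hPT).mapSurjective
        (QuotientGroup.mk'_surjective (A.subgroupOf T)) : Sylow 2 (↥T ⧸ A.subgroupOf T)) :
        Subgroup (↥T ⧸ A.subgroupOf T)) :=
      allLinReal_of_surj (π.comp (Subgroup.subgroupOfEquivOfLe hPT).symm.toMonoidHom)
        (hπs.comp (Subgroup.subgroupOfEquivOfLe hPT).symm.surjective) hL
    have hS' : nP ((P.subtype hPT).mapSurjective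
        (QuotientGroup.mk'_surjective (A.subgroupOf T))) ≤
        (((P.subtype hPT).mapSurjective
        (QuotientGroup.mk'_surjective (A.subgroupOf T)) : Sylow 2 (↥T ⧸ A.subgroupOf T)) :
        Subgroup (↥T ⧸ A.subgroupOf T)) := by
      intro y hy
      obtain ⟨t, rfl⟩ := QuotientGroup.mk'_surjective (A.subgroupOf T) y
      obtain ⟨m, hm, hmt⟩ := exists_normalizer_map_eq 2 (P.subtype hPT) (A.subgroupOf T) t hy
      rw [← hmt]
      apply Subgroup.mem_map_of_mem
      have h1 : m ∈ Subgroup.normalizer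
          (((P : Subgroup G).subgroupOf T : Subgroup ↥T) : Set ↥T) := hm
      rw [← Subgroup.subgroupOf_normalizer_eq hPT, Subgroup.mem_subgroupOf] at h1
      exact Subgroup.mem_subgroupOf.mpr (hS h1)
    have hIH := ih (Nat.card (↥T ⧸ A.subgroupOf T)) (hn ▸ hlt) (↥T ⧸ A.subgroupOf T) rfl _
      hL' hS'
    have hψ'odd : Odd (charDegree ψ') := by
      have h1 : charDegree (fun x => ψ' ((QuotientGroup.mk' (A.subgroupOf T)) x)) =
          charDegree ψ' := charDegree_comp _ ψ'
      rw [← h1, funext hψ'eq,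
        helper21.charDegree_of_one_eq (n := charDegree ψ) (by
          rw [map_one, Units.val_one, mul_one]
          exact irr_one_eq_charDegree ⟨ψ, hψ⟩)]
      exact hψodd
    have hreal' := hIH ⟨ψ', hψ'⟩ hψ'odd
    have hψreal : ∀ t, (ψ t).im = 0 := by
      intro t
      have h1 : (ψ' ((QuotientGroup.mk' (A.subgroupOf T)) t)).im = 0 := hreal' _
      rw [hψ'eq t] at h1
      have hμsq : ((μ t : ℂˣ) : ℂ) * ((μ t : ℂˣ) : ℂ) = 1 := by
        have := congrArg (fun u : ℂˣ => (u : ℂ)) (hμ2' t)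
        simpa [sq] using this
      have h2 : ψ t = (ψ t * ((μ t : ℂˣ) : ℂ)) * ((μ t : ℂˣ) : ℂ) := by
        rw [mul_assoc, hμsq, mul_one]
      rw [h2, Complex.mul_im, h1, unit_im_of_sq (μ t) (hμ2' t)]
      simp
    intro g
    rw [← hind]
    exact indFun_im T ψ hψreal g
  · have hAodd : Odd (Nat.card A) := by
      obtain ⟨k, hk⟩ := IsPGroup.iff_card.mp hAp
      rw [hk]
      exact Odd.pow (hp.odd_of_ne_two hp2)
    have hdisj : Disjoint A (P : Subgroup G) :=
      IsPGroup.disjoint_of_ne p 2 hp2 A (P : Subgroup G) hAp P.isPGroup'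
    have hC : ∀ c ∈ A, (∀ x ∈ (P : Subgroup G), x * c = c * x) → c = 1 := by
      intro c hcA hcc
      have hcN : c ∈ nP P := by
        apply Subgroup.mem_normalizer_fintype
        intro y hy
        have h1 : c * y * c⁻¹ = y := by
          rw [← hcc y hy, mul_inv_cancel_right]
        rw [h1]
        exact hy
      exact Subgroup.disjoint_def.mp hdisj hcA (hS hcN)
    have htrivl := pinv_trivial_of_cent P A (helper12.minimal_normal_comm A hA1 hAmin) hAodd hC
      l.1 l.2
    letI : Fintype (IrrCharacter ↥A) := Fintype.ofFinite _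
    obtain ⟨e, he⟩ := helper4.exists_nat_classInner_irr
      (helper84.isCharacter_restrict A (isCharacter_of_irr χ.2)) l.1.2
    have he0 : e ≠ 0 := by
      intro h0
      apply hl
      rw [he, h0]
      simp
    have hinv : ∀ g : G, cconj A g (l.1 : ↥A → ℂ) = (l.1 : ↥A → ℂ) := by
      intro g
      funext m
      rw [cconj_apply, htrivl, htrivl]
    have hker : ∀ a ∈ A, (χ : G → ℂ) a = (χ : G → ℂ) 1 := by
      intro a ha
      have h1 := clifford_invariant A χ.2 l.1.2 hinv e he he0 ⟨a, ha⟩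
      have h2 := clifford_invariant A χ.2 l.1.2 hinv e he he0 1
      rw [htrivl] at h1 h2
      have h3 : (χ : G → ℂ) a = (e : ℂ) * 1 := h1
      have h4 : (χ : G → ℂ) 1 = (e : ℂ) * 1 := h2
      rw [h3, h4]
    obtain ⟨ψ, hψ, hψχ⟩ := exists_irr_deflation (QuotientGroup.mk' A)
      (QuotientGroup.mk'_surjective A) χ.2
      (fun x hx => hker x (by rwa [QuotientGroup.ker_mk'] at hx))
    have hlt : Nat.card (G ⧸ A) < Nat.card G := helper12.card_quotient_lt A hA1
    obtain ⟨π, hπs, hπk⟩ := exists_sylow_quot_hom 2 P A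
    have hL' : AllLinReal ↥((P.mapSurjective (QuotientGroup.mk'_surjective A) :
        Sylow 2 (G ⧸ A)) : Subgroup (G ⧸ A)) := allLinReal_of_surj π hπs hL
    have hS' : nP (P.mapSurjective (QuotientGroup.mk'_surjective A)) ≤
        ((P.mapSurjective (QuotientGroup.mk'_surjective A) : Sylow 2 (G ⧸ A)) :
          Subgroup (G ⧸ A)) := by
      intro y hy
      obtain ⟨g, rfl⟩ := QuotientGroup.mk'_surjective A y
      obtain ⟨m, hm, hmg⟩ := exists_normalizer_map_eq 2 P A g hy
      rw [← hmg]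
      exact Subgroup.mem_map_of_mem _ (hS hm)
    have hIH := ih (Nat.card (G ⧸ A)) (hn ▸ hlt) (G ⧸ A) rfl
      (P.mapSurjective (QuotientGroup.mk'_surjective A)) hL' hS'
    have hψodd : Odd (charDegree ψ) := by
      have h1 : charDegree (fun x => ψ ((QuotientGroup.mk' A) x)) = charDegree ψ :=
        charDegree_comp _ ψ
      rw [← h1, funext hψχ]
      exact hodd
    intro g
    rw [← hψχ g]
    exact hIH ⟨ψ, hψ⟩ hψodd _

end Main

end Cfsg.Agent.Lib.helper79
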