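import Mathlib

/-!
# Integral lattices of rank at most two in a space of functions

For a finite type `X`, `ip f g = |X|⁻¹ ∑_s f(s) conj(g(s))` is the normalized inner product on
`X → ℂ`.  Let `L` be an additive subgroup of `X → ℂ` on which `q * ip` takes integer values.

* `exists_generator`: if the complex span of `L` is a line, then `L` is generated by one vector;
* `exists_reduced_pair`: if the complex span of `L` is a plane, then `L` has a basis `φ₁, φ₂`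
  which is reduced in the sense of Gauss: `0 ≤ -2B ≤ A ≤ C` for the Gram matrix
  `(A, B; B, C)` of `q * ip`.
-/

set_option autoImplicit false
set_option linter.unusedSectionVars false

namespace Cfsg.Agent.Lib.helper79

open scoped ComplexConjugate

section Ip

variable {X : Type*} [Fintype X]

/-- The normalized inner product on functions on a finite type. -/
noncomputable def ip (f g : X → ℂ) : ℂ :=
  (Nat.card X : ℂ)⁻¹ * ∑ s : X, f s * conj (g s)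

theorem ip_add_left (f g h : X → ℂ) : ip (f + g) h = ip f h + ip g h := by
  unfold ip
  rw [← mul_add, ← Finset.sum_add_distrib]
  congr 1
  apply Finset.sum_congr rfl
  intro s _
  rw [Pi.add_apply]
  ring

theorem ip_add_right (f g h : X → ℂ) : ip f (g + h) = ip f g + ip f h := by
  unfold ip
  rw [← mul_add, ← Finset.sum_add_distrib]
  congr 1
  apply Finset.sum_congr rfl
  intro s _
  rw [Pi.add_apply, map_add]
  ring

theorem ip_smul_left (c : ℂ) (f h : X → ℂ) : ip (c • f) h = c * ip f h := by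
  unfold ip
  have : ∑ s : X, (c • f) s * conj (h s) = c * ∑ s : X, f s * conj (h s) := by
    rw [Finset.mul_sum]
    apply Finset.sum_congr rfl
    intro s _
    rw [Pi.smul_apply, smul_eq_mul]
    ring
  rw [this]
  ring

theorem ip_smul_right (c : ℂ) (f h : X → ℂ) : ip f (c • h) = conj c * ip f h := by
  unfold ip
  have : ∑ s : X, f s * conj ((c • h) s) = conj c * ∑ s : X, f s * conj (h s) := by
    rw [Finset.mul_sum]
    apply Finset.sum_congr rfl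
    intro s _
    rw [Pi.smul_apply, smul_eq_mul, map_mul]
    ring
  rw [this]
  ring

theorem ip_conj (f g : X → ℂ) : conj (ip f g) = ip g f := by
  unfold ip
  rw [map_mul, map_inv₀, Complex.conj_natCast, map_sum]
  congr 1
  apply Finset.sum_congr rfl
  intro s _
  rw [map_mul, Complex.conj_conj, mul_comm]

theorem ip_zero_left (h : X → ℂ) : ip 0 h = 0 := by
  unfold ip
  simp

theorem ip_zero_right (h : X → ℂ) : ip h 0 = 0 := by
  unfold ip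
  simp

theorem ip_neg_left (f h : X → ℂ) : ip (-f) h = - ip f h := by
  have := ip_smul_left (-1) f h
  simpa using this

theorem ip_neg_right (f h : X → ℂ) : ip f (-h) = - ip f h := by
  have := ip_smul_right (-1) f h
  simpa using this

theorem ip_sub_left (f g h : X → ℂ) : ip (f - g) h = ip f h - ip g h := by
  rw [sub_eq_add_neg, ip_add_left, ip_neg_left, sub_eq_add_neg]

theorem ip_sub_right (f g h : X → ℂ) : ip f (g - h) = ip f g - ip f h := by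
  rw [sub_eq_add_neg, ip_add_right, ip_neg_right, sub_eq_add_neg]

theorem ip_sum_left {ι : Type*} (s : Finset ι) (f : ι → X → ℂ) (h : X → ℂ) :
    ip (∑ i ∈ s, f i) h = ∑ i ∈ s, ip (f i) h := by
  classical
  induction s using Finset.induction_on with
  | empty => simp [ip_zero_left]
  | insert a s ha ih => rw [Finset.sum_insert ha, Finset.sum_insert ha, ip_add_left, ih]

theorem ip_sum_right {ι : Type*} (s : Finset ι) (f : ι → X → ℂ) (h : X → ℂ) :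
    ip h (∑ i ∈ s, f i) = ∑ i ∈ s, ip h (f i) := by
  classical
  induction s using Finset.induction_on with
  | empty => simp [ip_zero_right]
  | insert a s ha ih => rw [Finset.sum_insert ha, Finset.sum_insert ha, ip_add_right, ih]

/-- `ip f f` is the (real) normalized square norm. -/
theorem ip_self (f : X → ℂ) :
    ip f f = (((Nat.card X : ℝ)⁻¹ * ∑ s : X, ‖f s‖ ^ 2 : ℝ) : ℂ) := by
  unfold ip
  push_cast
  congr 1
  apply Finset.sum_congr rfl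
  intro s _
  rw [Complex.mul_conj, Complex.normSq_eq_norm_sq]
  push_cast
  rfl

theorem ip_self_nonneg (f : X → ℂ) : 0 ≤ (Nat.card X : ℝ)⁻¹ * ∑ s : X, ‖f s‖ ^ 2 :=
  mul_nonneg (inv_nonneg.mpr (Nat.cast_nonneg _)) (Finset.sum_nonneg (fun _ _ => by positivity))

theorem ip_self_eq_zero [Nonempty X] {f : X → ℂ} (h : ip f f = 0) : f = 0 := by
  rw [ip_self] at h
  have h1 : (Nat.card X : ℝ)⁻¹ * ∑ s : X, ‖f s‖ ^ 2 = 0 := by exact_mod_cast h
  have hX : (0 : ℝ) < (Nat.card X : ℝ) := Nat.cast_pos.mpr Nat.card_pos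
  have h2 : ∑ s : X, ‖f s‖ ^ 2 = 0 := by
    rcases mul_eq_zero.mp h1 with h3 | h3
    · exact absurd (inv_eq_zero.mp h3) hX.ne'
    · exact h3
  funext s
  have h4 := (Finset.sum_eq_zero_iff_of_nonneg (fun _ _ => by positivity)).mp h2 s
    (Finset.mem_univ s)
  have h5 : ‖f s‖ = 0 := by
    have : ‖f s‖ ^ 2 = 0 := h4
    exact pow_eq_zero_iff (two_ne_zero) |>.mp this
  simpa using h5

end Ip

section Lattice

variable {X : Type*} [Fintype X] [Nonempty X]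

/-- The norm `q * ip v v` of a lattice vector is a natural number. -/
theorem exists_nat_norm (L : AddSubgroup (X → ℂ)) (q : ℕ)
    (hint : ∀ v ∈ L, ∀ w ∈ L, ∃ m : ℤ, (q : ℂ) * ip v w = m) {v : X → ℂ} (hv : v ∈ L) :
    ∃ m : ℕ, (q : ℂ) * ip v v = m := by
  obtain ⟨m, hm⟩ := hint v hv v hv
  have hm' := hm
  rw [ip_self] at hm'
  have h1 : (q : ℝ) * ((Nat.card X : ℝ)⁻¹ * ∑ s : X, ‖v s‖ ^ 2) = (m : ℝ) := by exact_mod_cast hm'
  have h2 : (0 : ℝ) ≤ (m : ℝ) := by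
    rw [← h1]
    exact mul_nonneg (Nat.cast_nonneg _) (ip_self_nonneg v)
  have h3 : 0 ≤ m := by exact_mod_cast h2
  refine ⟨m.toNat, ?_⟩
  rw [hm]
  exact_mod_cast (Int.toNat_of_nonneg h3).symm

theorem exists_ne_zero_of_finrank_pos (L : AddSubgroup (X → ℂ))
    (h : 0 < Module.finrank ℂ (Submodule.span ℂ (L : Set (X → ℂ)))) : ∃ v ∈ L, v ≠ 0 := by
  by_contra hno
  push Not at hno
  have : Submodule.span ℂ (L : Set (X → ℂ)) = ⊥ := by
    rw [Submodule.span_eq_bot]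
    intro v hv
    exact hno v hv
  rw [this, finrank_bot] at h
  omega

/-- A lattice with integral form spanning a line is generated by one vector. -/
theorem exists_generator (L : AddSubgroup (X → ℂ)) (q : ℕ) (hq : 0 < q)
    (hint : ∀ v ∈ L, ∀ w ∈ L, ∃ m : ℤ, (q : ℂ) * ip v w = m)
    (h1 : Module.finrank ℂ (Submodule.span ℂ (L : Set (X → ℂ))) = 1) :
    ∃ φ₁ ∈ L, ∃ A : ℤ, (q : ℂ) * ip φ₁ φ₁ = A ∧ 0 < A ∧ φ₁ ≠ 0 ∧
      ∀ v ∈ L, ∃ a : ℤ, v = (a : ℂ) • φ₁ := by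
  classical
  have hqc : (q : ℂ) ≠ 0 := Nat.cast_ne_zero.mpr hq.ne'
  have hex : ∃ v ∈ L, v ≠ 0 := exists_ne_zero_of_finrank_pos L (by omega)
  let S₁ : Set ℕ := {m | ∃ v ∈ L, v ≠ 0 ∧ (q : ℂ) * ip v v = m}
  have hS₁ : S₁.Nonempty := by
    obtain ⟨v, hv, hv0⟩ := hex
    obtain ⟨m, hm⟩ := exists_nat_norm L q hint hv
    exact ⟨m, v, hv, hv0, hm⟩
  obtain ⟨φ₁, hφ₁L, hφ₁0, hφ₁m⟩ := Nat.sInf_mem hS₁
  have hmin : ∀ v ∈ L, v ≠ 0 → ∀ m : ℕ, (q : ℂ) * ip v v = m → sInf S₁ ≤ m :=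
    fun v hv hv0 m hm => Nat.sInf_le ⟨v, hv, hv0, hm⟩
  generalize sInf S₁ = m₁ at hφ₁m hmin
  have hm₁pos : 0 < m₁ := by
    rcases Nat.eq_zero_or_pos m₁ with h | h
    · exfalso
      rw [h, Nat.cast_zero] at hφ₁m
      rcases mul_eq_zero.mp hφ₁m with h' | h'
      · exact hqc h'
      · exact hφ₁0 (ip_self_eq_zero h')
    · exact h
  refine ⟨φ₁, hφ₁L, (m₁ : ℤ), by rw [hφ₁m]; simp, by exact_mod_cast hm₁pos, hφ₁0, ?_⟩
  intro v hv
  have hspan : Submodule.span ℂ (L : Set (X → ℂ)) = Submodule.span ℂ {φ₁} := by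
    symm
    apply Submodule.eq_of_le_of_finrank_eq
    · rw [Submodule.span_singleton_le_iff_mem]
      exact Submodule.subset_span hφ₁L
    · rw [h1, finrank_span_singleton hφ₁0]
  have hvspan : v ∈ Submodule.span ℂ {φ₁} := by
    rw [← hspan]
    exact Submodule.subset_span hv
  obtain ⟨α, hα⟩ := Submodule.mem_span_singleton.mp hvspan
  obtain ⟨u, hu⟩ := hint v hv φ₁ hφ₁L
  rw [← hα, ip_smul_left, mul_left_comm, hφ₁m] at hu
  have hm₁c : (m₁ : ℂ) ≠ 0 := Nat.cast_ne_zero.mpr hm₁pos.ne'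
  set αr : ℝ := (u : ℝ) / (m₁ : ℝ) with hαr
  have hαeq : α = (αr : ℂ) := by
    rw [hαr]
    push_cast
    rw [eq_div_iff hm₁c]
    exact hu
  have habs : |αr - round αr| ≤ 1 / 2 := abs_sub_round αr
  generalize round αr = a at habs
  have hv'L : v - (a : ℂ) • φ₁ ∈ L := by
    rw [Int.cast_smul_eq_zsmul]
    exact L.sub_mem hv (L.zsmul_mem hφ₁L a)
  have hv'eq : v - (a : ℂ) • φ₁ = (((αr - a : ℝ)) : ℂ) • φ₁ := by
    rw [← hα, hαeq, ← sub_smul]
    push_cast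
    rfl
  obtain ⟨m', hm'⟩ := exists_nat_norm L q hint hv'L
  have hm'r : (αr - a) * ((αr - a) * (m₁ : ℝ)) = (m' : ℝ) := by
    have h1 : (((αr - a : ℝ)) : ℂ) * ((((αr - a : ℝ)) : ℂ) * ((q : ℂ) * ip φ₁ φ₁)) = (m' : ℂ) := by
      rw [← hm', hv'eq, ip_smul_left, ip_smul_right, Complex.conj_ofReal]
      ring
    rw [hφ₁m] at h1
    exact_mod_cast h1
  refine ⟨a, ?_⟩
  by_contra hne
  have hv'0 : v - (a : ℂ) • φ₁ ≠ 0 := fun h => hne (sub_eq_zero.mp h)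
  have hle : (m₁ : ℝ) ≤ (m' : ℝ) := by exact_mod_cast hmin _ hv'L hv'0 m' hm'
  have hm₁r : (0 : ℝ) < (m₁ : ℝ) := by exact_mod_cast hm₁pos
  obtain ⟨hl, hr⟩ := abs_le.mp habs
  have hsq : (αr - a) * (αr - a) ≤ 1 / 4 := by nlinarith
  nlinarith

/-- A lattice with integral form spanning a plane has a reduced basis. -/
theorem exists_reduced_pair (L : AddSubgroup (X → ℂ)) (q : ℕ) (hq : 0 < q)
    (hint : ∀ v ∈ L, ∀ w ∈ L, ∃ m : ℤ, (q : ℂ) * ip v w = m)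
    (h2 : Module.finrank ℂ (Submodule.span ℂ (L : Set (X → ℂ))) = 2) :
    ∃ φ₁ ∈ L, ∃ φ₂ ∈ L, ∃ A B C : ℤ, (q : ℂ) * ip φ₁ φ₁ = A ∧ (q : ℂ) * ip φ₁ φ₂ = B ∧
      (q : ℂ) * ip φ₂ φ₂ = C ∧ 0 < A ∧ A ≤ C ∧ B ≤ 0 ∧ -(2 * B) ≤ A ∧
      (∀ s t : ℂ, s • φ₁ + t • φ₂ = 0 → s = 0 ∧ t = 0) ∧
      (∀ v ∈ L, ∃ a c : ℤ, v = (a : ℂ) • φ₁ + (c : ℂ) • φ₂) := by
  classical
  have hqc : (q : ℂ) ≠ 0 := Nat.cast_ne_zero.mpr hq.ne'
  have hex : ∃ v ∈ L, v ≠ 0 := exists_ne_zero_of_finrank_pos L (by omega)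
  -- the first minimum
  let S₁ : Set ℕ := {m | ∃ v ∈ L, v ≠ 0 ∧ (q : ℂ) * ip v v = m}
  have hS₁ : S₁.Nonempty := by
    obtain ⟨v, hv, hv0⟩ := hex
    obtain ⟨m, hm⟩ := exists_nat_norm L q hint hv
    exact ⟨m, v, hv, hv0, hm⟩
  obtain ⟨φ₁, hφ₁L, hφ₁0, hφ₁m⟩ := Nat.sInf_mem hS₁
  have hmin₁ : ∀ v ∈ L, v ≠ 0 → ∀ m : ℕ, (q : ℂ) * ip v v = m → sInf S₁ ≤ m :=
    fun v hv hv0 m hm => Nat.sInf_le ⟨v, hv, hv0, hm⟩
  generalize sInf S₁ = m₁ at hφ₁m hmin₁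
  have hm₁pos : 0 < m₁ := by
    rcases Nat.eq_zero_or_pos m₁ with h | h
    · exfalso
      rw [h, Nat.cast_zero] at hφ₁m
      rcases mul_eq_zero.mp hφ₁m with h' | h'
      · exact hqc h'
      · exact hφ₁0 (ip_self_eq_zero h')
    · exact h
  -- the second minimum
  let S₂ : Set ℕ := {m | ∃ v ∈ L, (∀ t : ℂ, v ≠ t • φ₁) ∧ (q : ℂ) * ip v v = m}
  have hS₂ : S₂.Nonempty := by
    by_contra hemp
    have hall : ∀ v ∈ L, ∃ t : ℂ, v = t • φ₁ := by
      intro v hv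
      by_contra hno
      push Not at hno
      obtain ⟨m, hm⟩ := exists_nat_norm L q hint hv
      exact hemp ⟨m, v, hv, hno, hm⟩
    have hle : Submodule.span ℂ (L : Set (X → ℂ)) ≤ Submodule.span ℂ {φ₁} := by
      rw [Submodule.span_le]
      intro v hv
      obtain ⟨t, ht⟩ := hall v hv
      rw [ht]
      exact Submodule.smul_mem _ _ (Submodule.mem_span_singleton_self φ₁)
    have := Submodule.finrank_mono hle
    rw [h2, finrank_span_singleton hφ₁0] at this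
    omega
  obtain ⟨φ₂', hφ₂'L, hφ₂'n, hφ₂'m⟩ := Nat.sInf_mem hS₂
  have hmin₂ : ∀ v ∈ L, (∀ t : ℂ, v ≠ t • φ₁) → ∀ m : ℕ, (q : ℂ) * ip v v = m → sInf S₂ ≤ m :=
    fun v hv hvn m hm => Nat.sInf_le ⟨v, hv, hvn, hm⟩
  generalize sInf S₂ = m₂ at hφ₂'m hmin₂
  -- sign normalization
  obtain ⟨φ₂, hφ₂L, hφ₂n, hφ₂m, B, hB, hB0⟩ : ∃ φ₂ ∈ L, (∀ t : ℂ, φ₂ ≠ t • φ₁) ∧
      (q : ℂ) * ip φ₂ φ₂ = m₂ ∧ ∃ B : ℤ, (q : ℂ) * ip φ₁ φ₂ = B ∧ B ≤ 0 := by
    obtain ⟨B₀, hB₀⟩ := hint φ₁ hφ₁L φ₂' hφ₂'L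
    by_cases hs : B₀ ≤ 0
    · exact ⟨φ₂', hφ₂'L, hφ₂'n, hφ₂'m, B₀, hB₀, hs⟩
    · refine ⟨-φ₂', L.neg_mem hφ₂'L, ?_, ?_, -B₀, ?_, by omega⟩
      · intro t ht
        apply hφ₂'n (-t)
        rw [neg_smul, ← ht, neg_neg]
      · rw [ip_neg_left, ip_neg_right, neg_neg]
        exact hφ₂'m
      · rw [ip_neg_right, mul_neg, hB₀]
        simp
  have hφ₂0 : φ₂ ≠ 0 := by
    intro h
    apply hφ₂n 0
    rw [h, zero_smul]
  have hind : ∀ s t : ℂ, s • φ₁ + t • φ₂ = 0 → s = 0 ∧ t = 0 := by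
    intro s t h
    have ht : t = 0 := by
      by_contra ht
      apply hφ₂n (-(s / t))
      have h1 : t • φ₂ = -(s • φ₁) := eq_neg_of_add_eq_zero_right h
      calc φ₂ = t⁻¹ • (t • φ₂) := by rw [smul_smul, inv_mul_cancel₀ ht, one_smul]
        _ = (-(s / t)) • φ₁ := by
          rw [h1, smul_neg, smul_smul, neg_smul]
          congr 2
          field_simp
    rw [ht, zero_smul, add_zero] at h
    exact ⟨(smul_eq_zero.mp h).resolve_right hφ₁0, ht⟩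
  have hAC : m₁ ≤ m₂ := hmin₁ φ₂ hφ₂L hφ₂0 m₂ hφ₂m
  have hB' : (q : ℂ) * ip φ₂ φ₁ = B := by
    rw [← ip_conj φ₁ φ₂]
    have := congrArg (starRingEnd ℂ) hB
    rwa [map_mul, Complex.conj_natCast, map_intCast] at this
  have hBA : -(2 * B) ≤ (m₁ : ℤ) := by
    have hL : φ₂ + φ₁ ∈ L := L.add_mem hφ₂L hφ₁L
    have hn : ∀ t : ℂ, φ₂ + φ₁ ≠ t • φ₁ := by
      intro t ht
      apply hφ₂n (t - 1)
      rw [sub_smul, one_smul, ← ht, add_sub_cancel_right]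
    obtain ⟨m, hm⟩ := exists_nat_norm L q hint hL
    have hle := hmin₂ _ hL hn m hm
    have hexp : (q : ℂ) * ip (φ₂ + φ₁) (φ₂ + φ₁) = (((m₂ : ℤ) + 2 * B + (m₁ : ℤ) : ℤ) : ℂ) := by
      rw [ip_add_left, ip_add_right, ip_add_right]
      push_cast
      linear_combination hφ₂m + hB' + hB + hφ₁m
    rw [hm] at hexp
    have : (m : ℤ) = (m₂ : ℤ) + 2 * B + (m₁ : ℤ) := by exact_mod_cast hexp
    omega
  refine ⟨φ₁, hφ₁L, φ₂, hφ₂L, (m₁ : ℤ), B, (m₂ : ℤ), by rw [hφ₁m]; simp, hB,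
    by rw [hφ₂m]; simp, by exact_mod_cast hm₁pos, by exact_mod_cast hAC, hB0, hBA, hind, ?_⟩
  intro v hv
  -- complex coordinates
  have hspan : Submodule.span ℂ (L : Set (X → ℂ)) = Submodule.span ℂ {φ₁, φ₂} := by
    symm
    apply Submodule.eq_of_le_of_finrank_eq
    · rw [Submodule.span_le]
      intro w hw
      simp only [Set.mem_insert_iff, Set.mem_singleton_iff] at hw
      rcases hw with rfl | rfl
      · exact Submodule.subset_span hφ₁L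
      · exact Submodule.subset_span hφ₂L
    · rw [h2]
      have hli : LinearIndependent ℂ ![φ₁, φ₂] := LinearIndependent.pair_iff.mpr hind
      have h3 := finrank_span_eq_card hli
      rw [Fintype.card_fin] at h3
      have hr : Set.range ![φ₁, φ₂] = {φ₁, φ₂} := by
        simp [Set.pair_comm]
      rw [hr] at h3
      exact h3
  have hvspan : v ∈ Submodule.span ℂ {φ₁, φ₂} := by
    rw [← hspan]
    exact Submodule.subset_span hv
  obtain ⟨α, β, hαβ⟩ := Submodule.mem_span_pair.mp hvspan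
  obtain ⟨u, hu⟩ := hint v hv φ₁ hφ₁L
  obtain ⟨w, hw⟩ := hint v hv φ₂ hφ₂L
  rw [← hαβ, ip_add_left, ip_smul_left, ip_smul_left] at hu hw
  have hu' : α * (m₁ : ℂ) + β * (B : ℂ) = u := by linear_combination hu - α * hφ₁m - β * hB'
  have hw' : α * (B : ℂ) + β * (m₂ : ℂ) = w := by linear_combination hw - α * hB - β * hφ₂m
  have hm₁z : (0 : ℤ) < (m₁ : ℤ) := by exact_mod_cast hm₁pos
  have hACz : (m₁ : ℤ) ≤ (m₂ : ℤ) := by exact_mod_cast hAC
  have hΔ : 0 < (m₁ : ℤ) * m₂ - B * B := by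
    have h1 : (-(2 * B)) * (-(2 * B)) ≤ (m₁ : ℤ) * m₁ :=
      mul_le_mul hBA hBA (by omega) (by omega)
    have h2 : (m₁ : ℤ) * m₁ ≤ (m₁ : ℤ) * m₂ := mul_le_mul_of_nonneg_left hACz hm₁z.le
    nlinarith
  have hΔr : (0 : ℝ) < (m₁ : ℝ) * m₂ - B * B := by exact_mod_cast hΔ
  have hΔc : ((m₁ : ℂ) * m₂ - B * B) ≠ 0 := by
    have : (((m₁ : ℝ) * m₂ - B * B : ℝ) : ℂ) ≠ 0 := Complex.ofReal_ne_zero.mpr hΔr.ne'
    push_cast at this
    exact this
  set αr : ℝ := ((m₂ : ℝ) * u - B * w) / ((m₁ : ℝ) * m₂ - B * B) with hαr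
  set βr : ℝ := ((m₁ : ℝ) * w - B * u) / ((m₁ : ℝ) * m₂ - B * B) with hβr
  have hαeq : α = (αr : ℂ) := by
    rw [hαr]
    push_cast
    rw [eq_div_iff hΔc]
    linear_combination (m₂ : ℂ) * hu' - (B : ℂ) * hw'
  have hβeq : β = (βr : ℂ) := by
    rw [hβr]
    push_cast
    rw [eq_div_iff hΔc]
    linear_combination (m₁ : ℂ) * hw' - (B : ℂ) * hu'
  have habs₁ : |αr - round αr| ≤ 1 / 2 := abs_sub_round αr
  have habs₂ : |βr - round βr| ≤ 1 / 2 := abs_sub_round βr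
  generalize round αr = a at habs₁
  generalize round βr = c at habs₂
  have hv'L : v - (a : ℂ) • φ₁ - (c : ℂ) • φ₂ ∈ L := by
    rw [Int.cast_smul_eq_zsmul, Int.cast_smul_eq_zsmul]
    exact L.sub_mem (L.sub_mem hv (L.zsmul_mem hφ₁L a)) (L.zsmul_mem hφ₂L c)
  have hv'eq : v - (a : ℂ) • φ₁ - (c : ℂ) • φ₂ =
      (((αr - a : ℝ)) : ℂ) • φ₁ + (((βr - c : ℝ)) : ℂ) • φ₂ := by
    rw [← hαβ, hαeq, hβeq]
    push_cast
    module
  obtain ⟨m', hm'⟩ := exists_nat_norm L q hint hv'L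
  have hm'r : (αr - a) * (αr - a) * (m₁ : ℝ) + 2 * ((αr - a) * (βr - c)) * (B : ℝ) +
      (βr - c) * (βr - c) * (m₂ : ℝ) = (m' : ℝ) := by
    have h1 : ((((αr - a) * (αr - a) * (m₁ : ℝ) + 2 * ((αr - a) * (βr - c)) * (B : ℝ) +
        (βr - c) * (βr - c) * (m₂ : ℝ) : ℝ)) : ℂ) = (m' : ℂ) := by
      rw [← hm', hv'eq]
      simp only [ip_add_left, ip_add_right, ip_smul_left, ip_smul_right, Complex.conj_ofReal]
      push_cast
      linear_combination (-(((αr : ℂ) - a) * ((αr : ℂ) - a))) * hφ₁m -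
        (((αr : ℂ) - a) * ((βr : ℂ) - c)) * hB - (((αr : ℂ) - a) * ((βr : ℂ) - c)) * hB' -
        (((βr : ℂ) - c) * ((βr : ℂ) - c)) * hφ₂m
    exact_mod_cast h1
  obtain ⟨hl₁, hr₁⟩ := abs_le.mp habs₁
  obtain ⟨hl₂, hr₂⟩ := abs_le.mp habs₂
  have hsq₁ : (αr - a) * (αr - a) ≤ 1 / 4 := by nlinarith
  have hsq₂ : (βr - c) * (βr - c) ≤ 1 / 4 := by nlinarith
  have hm₁r : (0 : ℝ) < (m₁ : ℝ) := by exact_mod_cast hm₁pos
  have hACr : (m₁ : ℝ) ≤ (m₂ : ℝ) := by exact_mod_cast hAC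
  have hB0r : (B : ℝ) ≤ 0 := by exact_mod_cast hB0
  have hBAr : -(2 * (B : ℝ)) ≤ (m₁ : ℝ) := by exact_mod_cast hBA
  refine ⟨a, c, ?_⟩
  by_contra hne
  have hv'0 : v - (a : ℂ) • φ₁ - (c : ℂ) • φ₂ ≠ 0 := by
    intro h
    apply hne
    rw [sub_sub, sub_eq_zero] at h
    exact h
  by_cases hβ0 : βr - c = 0
  · -- a multiple of `φ₁`
    have hle : (m₁ : ℝ) ≤ (m' : ℝ) := by exact_mod_cast hmin₁ _ hv'L hv'0 m' hm'
    rw [hβ0] at hm'r
    nlinarith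
  · have hn : ∀ t : ℂ, v - (a : ℂ) • φ₁ - (c : ℂ) • φ₂ ≠ t • φ₁ := by
      intro t ht
      rw [hv'eq] at ht
      have h1 : ((((αr - a : ℝ)) : ℂ) - t) • φ₁ + (((βr - c : ℝ)) : ℂ) • φ₂ = 0 := by
        rw [sub_smul, ← ht]
        module
      have h2 := (hind _ _ h1).2
      exact hβ0 (by exact_mod_cast h2)
    have hle : (m₂ : ℝ) ≤ (m' : ℝ) := by exact_mod_cast hmin₂ _ hv'L hn m' hm'
    have hcross : 2 * ((αr - a) * (βr - c)) * (B : ℝ) ≤ -(B : ℝ) / 2 := by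
      have h3 : -(1 / 4 : ℝ) ≤ (αr - a) * (βr - c) := by nlinarith
      nlinarith
    nlinarith

end Lattice

end Cfsg.Agent.Lib.helper79
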