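/-
S2343 piece E2: abstract Landazuri–Seitz bound for a group `P` of order `q^3` with a central
subgroup `ζ(F)` of order `q` such that every non-central-image element `x` is conjugate to
`ζ b * x` for all `b` (adapted from `Cfsg.Agent.Lib.helper44.SzChar`, section `Heis`).
-/
import Mathlib
import Cfsg.Agent.Lib.helper44.SzChar

set_option autoImplicit false

namespace Cfsg.Agent.Lib.helper79.ReeLS

open scoped ComplexConjugate
open Cfsg.Agent.Lib.helper44

section LS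

set_option linter.unusedSectionVars false

variable {F : Type*} [Field F] [Fintype F] {P : Type*} [Group P]

theorem ls_zeta_zero (ζ : F → P) (hζ : ∀ a b : F, ζ (a + b) = ζ a * ζ b) : ζ 0 = 1 := by
  have h1 := hζ 0 0
  rw [add_zero] at h1
  exact mul_eq_left.1 h1.symm

theorem ls_mu_add (ζ : F → P) (hζ : ∀ a b : F, ζ (a + b) = ζ a * ζ b)
    (hcent : ∀ (a : F) (g : P), g * ζ a = ζ a * g)
    {ψ : P → ℂ} (hψ : Cfsg.IsIrrCharacter P ψ) (b e : F) :
    ψ (ζ (b + e)) / ψ 1 = ψ (ζ b) / ψ 1 * (ψ (ζ e) / ψ 1) := by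
  have h1 := irr_central_mul hψ (ζ b) (hcent b) (ζ e)
  rw [← hζ] at h1
  rw [h1]
  ring

theorem ls_vanish (ζ : F → P)
    (hcent : ∀ (a : F) (g : P), g * ζ a = ζ a * g)
    (hfus : ∀ x : P, (∀ a : F, x ≠ ζ a) → ∀ b : F, ∃ y : P, y * x * y⁻¹ = ζ b * x)
    {ψ : P → ℂ} (hψ : Cfsg.IsIrrCharacter P ψ) (b : F) (hne : ψ (ζ b) / ψ 1 ≠ 1)
    (x : P) (hx : ∀ a : F, x ≠ ζ a) : ψ x = 0 := by
  have hcf := Cfsg.Agent.Lib.helper4.isClassFunction_of_isIrrCharacter hψ
  obtain ⟨y, hy⟩ := hfus x hx b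
  have h1 := hcf x y
  rw [hy, irr_central_mul hψ _ (hcent b)] at h1
  have h5 : (ψ (ζ b) / ψ 1 - 1) * ψ x = 0 := by linear_combination h1
  rcases mul_eq_zero.1 h5 with h6 | h6
  · exact absurd (sub_eq_zero.1 h6) hne
  · exact h6

variable [Fintype P]

/-- An irreducible character of `P` with non-trivial central character on `ζ(F)` has degree at
least `q`. -/
theorem ls_degree_ge (ζ : F → P) (hζinj : Function.Injective ζ)
    (hcent : ∀ (a : F) (g : P), g * ζ a = ζ a * g)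
    (hfus : ∀ x : P, (∀ a : F, x ≠ ζ a) → ∀ b : F, ∃ y : P, y * x * y⁻¹ = ζ b * x)
    (hcard : Fintype.card P = Fintype.card F ^ 3)
    {ψ : P → ℂ} (hψ : Cfsg.IsIrrCharacter P ψ) (b : F) (hne : ψ (ζ b) / ψ 1 ≠ 1) :
    ∃ n : ℕ, ψ 1 = n ∧ Fintype.card F ≤ n := by
  classical
  obtain ⟨n, hn0, hn⟩ := Cfsg.Agent.Lib.helper4.exists_pos_nat_degree hψ
  refine ⟨n, hn, ?_⟩
  have hnorm : ∀ g : P, ‖ψ g‖ ≤ n := by
    obtain ⟨n', ρ, hirr, rfl⟩ := hψ
    intro g
    have h1 := Cfsg.Agent.Lib.helper4.norm_char_le ρ g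
    have h2 : ρ.character 1 = (Module.finrank ℂ (Fin n' → ℂ) : ℂ) := Representation.char_one ρ
    rw [hn] at h2
    have h3 : (n : ℝ) = (Module.finrank ℂ (Fin n' → ℂ) : ℝ) := by exact_mod_cast h2
    rw [h3]
    exact h1
  have hinner := Cfsg.Agent.Lib.helper4.classInner_irr_self hψ
  unfold Cfsg.classInner at hinner
  have hcardN : Nat.card P = (Fintype.card F) ^ 3 := by
    rw [Nat.card_eq_fintype_card, hcard]
  have hne' : (Nat.card P : ℂ) ≠ 0 := by
    rw [hcardN]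
    have : Fintype.card F ≠ 0 := Fintype.card_ne_zero
    exact_mod_cast pow_ne_zero 3 this
  have hsum : ∑ g : P, ψ g * conj (ψ g) = (Nat.card P : ℂ) := by
    rw [inv_mul_eq_iff_eq_mul₀ hne', mul_one] at hinner
    exact hinner
  have hsumR : ∑ g : P, ‖ψ g‖ ^ 2 = ((Fintype.card F : ℝ)) ^ 3 := by
    have h1 : ∑ g : P, ψ g * conj (ψ g) = ∑ g : P, ((‖ψ g‖ ^ 2 : ℝ) : ℂ) := by
      refine Finset.sum_congr rfl fun g _ => ?_
      rw [Complex.mul_conj, Complex.normSq_eq_norm_sq]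
    rw [h1, hcardN] at hsum
    exact_mod_cast hsum
  have hsq : ∀ g : P, ‖ψ g‖ ^ 2 ≤ (n : ℝ) ^ 2 := fun g =>
    pow_le_pow_left₀ (norm_nonneg _) (hnorm g) 2
  have hbound : ∑ g : P, ‖ψ g‖ ^ 2 ≤ (Fintype.card F : ℝ) * (n : ℝ) ^ 2 := by
    calc ∑ g : P, ‖ψ g‖ ^ 2
        ≤ ∑ g : P, (if g ∈ Finset.univ.image ζ then (n : ℝ) ^ 2 else 0) := by
          refine Finset.sum_le_sum fun g _ => ?_
          by_cases hg : g ∈ Finset.univ.image ζ
          · rw [if_pos hg]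
            exact hsq g
          · rw [if_neg hg]
            have hx : ∀ a : F, g ≠ ζ a := by
              intro a ha
              exact hg (Finset.mem_image.2 ⟨a, Finset.mem_univ _, ha.symm⟩)
            rw [ls_vanish ζ hcent hfus hψ b hne g hx]
            simp
      _ = (Fintype.card F : ℝ) * (n : ℝ) ^ 2 := by
          rw [← Finset.sum_filter, Finset.sum_const, Finset.filter_mem_eq_inter,
            Finset.univ_inter, Finset.card_image_of_injective _ hζinj, Finset.card_univ,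
            nsmul_eq_mul]
  have hqpos : (0 : ℝ) < (Fintype.card F : ℝ) := by
    have : 0 < Fintype.card F := Fintype.card_pos
    exact_mod_cast this
  have h7 : ((Fintype.card F : ℝ)) ^ 2 ≤ (n : ℝ) ^ 2 := by
    rw [hsumR] at hbound
    have h8 : (Fintype.card F : ℝ) * (Fintype.card F : ℝ) ^ 2
        ≤ (Fintype.card F : ℝ) * (n : ℝ) ^ 2 := by
      calc (Fintype.card F : ℝ) * (Fintype.card F : ℝ) ^ 2 = (Fintype.card F : ℝ) ^ 3 := by ring
        _ ≤ _ := hbound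
    exact le_of_mul_le_mul_left h8 hqpos
  have h8 : (Fintype.card F : ℝ) ≤ (n : ℝ) :=
    (pow_le_pow_iff_left₀ (by positivity) (by positivity) (by norm_num)).1 h7
  exact_mod_cast h8

theorem ls_sum_center (ζ : F → P) (hζ : ∀ a b : F, ζ (a + b) = ζ a * ζ b)
    (hcent : ∀ (a : F) (g : P), g * ζ a = ζ a * g)
    {ψ : P → ℂ} (hψ : Cfsg.IsIrrCharacter P ψ) :
    ∃ r : ℝ, 0 ≤ r ∧ ∑ b : F, ψ (ζ b) = (r : ℂ) := by
  have h1 : ψ 1 ≠ 0 := Cfsg.Agent.Lib.helper4.irr_degree_ne_zero hψ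
  have hsum : ∑ b : F, ψ (ζ b) = ψ 1 * ∑ b : F, ψ (ζ b) / ψ 1 := by
    rw [Finset.mul_sum]
    refine Finset.sum_congr rfl fun b _ => ?_
    field_simp
  by_cases hex : ∃ b₀ : F, ψ (ζ b₀) / ψ 1 ≠ 1
  · refine ⟨0, le_rfl, ?_⟩
    rw [hsum, sum_addChar_eq_zero _ (ls_mu_add ζ hζ hcent hψ) hex]
    simp
  · push Not at hex
    obtain ⟨n, -, hn⟩ := Cfsg.Agent.Lib.helper4.exists_pos_nat_degree hψ
    refine ⟨n * Fintype.card F, by positivity, ?_⟩
    rw [hsum, Finset.sum_congr rfl (fun b _ => hex b), hn]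
    simp

theorem ls_sum_lam (ζ : F → P) (hζinj : Function.Injective ζ)
    (hζ : ∀ a b : F, ζ (a + b) = ζ a * ζ b)
    (hcent : ∀ (a : F) (g : P), g * ζ a = ζ a * g)
    (hfus : ∀ x : P, (∀ a : F, x ≠ ζ a) → ∀ b : F, ∃ y : P, y * x * y⁻¹ = ζ b * x)
    (hcard : Fintype.card P = Fintype.card F ^ 3)
    (lam : F → ℂ) (hlam : ∀ a b : F, lam (a + b) = lam a * lam b) (hlam1 : ∃ b : F, lam b ≠ 1)
    {ψ : P → ℂ} (hψ : Cfsg.IsIrrCharacter P ψ) :
    ∃ N : ℕ, ∑ b : F, lam b * ψ (ζ b) = (Fintype.card F : ℂ) * N ∧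
      (N = 0 ∨ Fintype.card F ≤ N) := by
  have h1 : ψ 1 ≠ 0 := Cfsg.Agent.Lib.helper4.irr_degree_ne_zero hψ
  have hsum : ∑ b : F, lam b * ψ (ζ b)
      = ψ 1 * ∑ b : F, lam b * (ψ (ζ b) / ψ 1) := by
    rw [Finset.mul_sum]
    refine Finset.sum_congr rfl fun b _ => ?_
    field_simp
  have hν : ∀ a b : F, lam (a + b) * (ψ (ζ (a + b)) / ψ 1)
      = lam a * (ψ (ζ a) / ψ 1) * (lam b * (ψ (ζ b) / ψ 1)) := by
    intro a b
    rw [hlam, ls_mu_add ζ hζ hcent hψ]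
    ring
  by_cases hex : ∃ b₀ : F, lam b₀ * (ψ (ζ b₀) / ψ 1) ≠ 1
  · refine ⟨0, ?_, Or.inl rfl⟩
    rw [hsum, sum_addChar_eq_zero (fun b => lam b * (ψ (ζ b) / ψ 1)) hν hex]
    simp
  · push Not at hex
    obtain ⟨b₀, hb₀⟩ := hlam1
    have hμ : ψ (ζ b₀) / ψ 1 ≠ 1 := by
      intro h
      have h3 := hex b₀
      rw [h, mul_one] at h3
      exact hb₀ h3
    obtain ⟨n, hn, hge⟩ := ls_degree_ge ζ hζinj hcent hfus hcard hψ b₀ hμ
    refine ⟨n, ?_, Or.inr hge⟩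
    rw [hsum, Finset.sum_congr rfl (fun b _ => hex b), hn]
    simp
    ring

theorem ls_list_sum_center (ζ : F → P) (hζ : ∀ a b : F, ζ (a + b) = ζ a * ζ b)
    (hcent : ∀ (a : F) (g : P), g * ζ a = ζ a * g)
    (l : List (Cfsg.IrrCharacter P)) :
    ∃ r : ℝ, 0 ≤ r ∧ ∑ b : F, (l.map Subtype.val).sum (ζ b) = (r : ℂ) := by
  induction l with
  | nil => exact ⟨0, le_rfl, by simp⟩
  | cons ψ l ih =>
    obtain ⟨r, hr, hr'⟩ := ih
    obtain ⟨r₁, hr₁, hr₁'⟩ := ls_sum_center ζ hζ hcent ψ.2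
    refine ⟨r₁ + r, add_nonneg hr₁ hr, ?_⟩
    simp only [List.map_cons, List.sum_cons, Pi.add_apply, Finset.sum_add_distrib]
    rw [hr', hr₁']
    push_cast
    rfl

theorem ls_list_sum_lam (ζ : F → P) (hζinj : Function.Injective ζ)
    (hζ : ∀ a b : F, ζ (a + b) = ζ a * ζ b)
    (hcent : ∀ (a : F) (g : P), g * ζ a = ζ a * g)
    (hfus : ∀ x : P, (∀ a : F, x ≠ ζ a) → ∀ b : F, ∃ y : P, y * x * y⁻¹ = ζ b * x)
    (hcard : Fintype.card P = Fintype.card F ^ 3)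
    (lam : F → ℂ) (hlam : ∀ a b : F, lam (a + b) = lam a * lam b) (hlam1 : ∃ b : F, lam b ≠ 1)
    (l : List (Cfsg.IrrCharacter P)) :
    ∃ N : ℕ, ∑ b : F, lam b * (l.map Subtype.val).sum (ζ b) = (Fintype.card F : ℂ) * N ∧
      (N = 0 ∨ Fintype.card F ≤ N) := by
  induction l with
  | nil => exact ⟨0, by simp, Or.inl rfl⟩
  | cons ψ l ih =>
    obtain ⟨N, hN, hN'⟩ := ih
    obtain ⟨N₁, hN₁, hN₁'⟩ := ls_sum_lam ζ hζinj hζ hcent hfus hcard lam hlam hlam1 ψ.2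
    refine ⟨N₁ + N, ?_, ?_⟩
    · simp only [List.map_cons, List.sum_cons, Pi.add_apply, mul_add, Finset.sum_add_distrib]
      rw [hN, hN₁]
      push_cast
      ring
    · rcases hN₁' with h1 | h1
      · rcases hN' with h2 | h2
        · left
          omega
        · right
          omega
      · right
        omega

/-- The bound, for an additive character `lam` normalised by `lam 0 = 1`. -/
theorem ls_degree_bound_aux {G : Type*} [Group G]
    (ζ : F → P) (hζinj : Function.Injective ζ) (hζ : ∀ a b : F, ζ (a + b) = ζ a * ζ b)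
    (hcent : ∀ (a : F) (g : P), g * ζ a = ζ a * g)
    (hfus : ∀ x : P, (∀ a : F, x ≠ ζ a) → ∀ b : F, ∃ y : P, y * x * y⁻¹ = ζ b * x)
    (hcard : Fintype.card P = Fintype.card F ^ 3)
    (lam : F → ℂ) (hlam : ∀ a b : F, lam (a + b) = lam a * lam b) (hlam1 : ∃ b : F, lam b ≠ 1)
    (hlam0 : lam 0 = 1)
    (f : P →* G) {χ : G → ℂ} (hχ : Cfsg.IsCharacter G χ)
    (hconj : ∀ b b' : F, b ≠ 0 → b' ≠ 0 → IsConj (f (ζ b)) (f (ζ b')))
    (hne : ∃ b : F, χ (f (ζ b)) ≠ χ 1) :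
    ∃ k : ℕ, χ 1 = k ∧ (Fintype.card F - 1) * Fintype.card F ≤ k ∧
      (k = (Fintype.card F - 1) * Fintype.card F → ∑ b : F, χ (f (ζ b)) = 0) := by
  classical
  obtain ⟨k, hk⟩ := Cfsg.Agent.Lib.helper4.exists_nat_degree hχ
  have hχP := Cfsg.Agent.Lib.helper4.isCharacter_comp f hχ
  obtain ⟨l, hl⟩ := Cfsg.Agent.Lib.helper4.exists_irr_list_of_isCharacter hχP
  obtain ⟨r, hr0, hr⟩ := ls_list_sum_center ζ hζ hcent l
  obtain ⟨N, hN, hN'⟩ := ls_list_sum_lam ζ hζinj hζ hcent hfus hcard lam hlam hlam1 l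
  rw [← hl] at hr hN
  have hcf := Cfsg.Agent.Lib.helper4.isClassFunction_of_isCharacter hχ
  have hconst : ∀ b : F, b ≠ 0 → χ (f (ζ b)) = χ (f (ζ 1)) := fun b hb =>
    Cfsg.Agent.Lib.helper4.IsClassFunction_eq_of_isConj hcf (hconj b 1 hb one_ne_zero)
  have h0 : χ (f (ζ 0)) = k := by rw [ls_zeta_zero ζ hζ, map_one, hk]
  have hS1 : ∑ b : F, χ (f (ζ b))
      = k + ((Fintype.card F : ℂ) - 1) * χ (f (ζ 1)) := by
    rw [← Finset.add_sum_erase Finset.univ _ (Finset.mem_univ (0 : F)), h0]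
    congr 1
    rw [Finset.sum_congr rfl (fun b hb => hconst b (Finset.ne_of_mem_erase hb)),
      Finset.sum_const, Finset.card_erase_of_mem (Finset.mem_univ _), Finset.card_univ,
      nsmul_eq_mul, Nat.cast_sub Fintype.card_pos, Nat.cast_one]
  have hlamsum : ∑ b : F, lam b = 0 := sum_addChar_eq_zero _ hlam hlam1
  have hS2 : ∑ b : F, lam b * χ (f (ζ b)) = k - χ (f (ζ 1)) := by
    rw [← Finset.add_sum_erase Finset.univ _ (Finset.mem_univ (0 : F)), h0, hlam0, one_mul]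
    have e1 : ∑ b ∈ Finset.univ.erase (0 : F), lam b * χ (f (ζ b))
        = (∑ b ∈ Finset.univ.erase (0 : F), lam b) * χ (f (ζ 1)) := by
      rw [Finset.sum_mul]
      exact Finset.sum_congr rfl (fun b hb => by rw [hconst b (Finset.ne_of_mem_erase hb)])
    have e2 : ∑ b ∈ Finset.univ.erase (0 : F), lam b = -1 := by
      have e3 := Finset.add_sum_erase Finset.univ lam (Finset.mem_univ (0 : F))
      rw [hlamsum, hlam0] at e3
      linear_combination e3
    rw [e1, e2]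
    ring
  have hkc : (k : ℂ) - χ (f (ζ 1)) = (Fintype.card F : ℂ) * N := by
    rw [← hS2]
    exact hN
  have hkc2 : (k : ℂ) + ((Fintype.card F : ℂ) - 1) * χ (f (ζ 1)) = r := by
    rw [← hS1]
    exact hr
  have hNne : N ≠ 0 := by
    rintro rfl
    obtain ⟨b, hb⟩ := hne
    have hb0 : b ≠ 0 := by
      rintro rfl
      exact hb (by rw [h0, hk])
    apply hb
    rw [hconst b hb0, hk]
    simp only [Nat.cast_zero, mul_zero] at hkc
    linear_combination -hkc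
  have hNge : Fintype.card F ≤ N := hN'.resolve_left hNne
  have hreal : (Fintype.card F : ℝ) * k - ((Fintype.card F : ℝ) - 1) * (Fintype.card F * N)
      = r := by
    have e : ((Fintype.card F : ℂ) * k - ((Fintype.card F : ℂ) - 1) * (Fintype.card F * N))
        = (r : ℂ) := by
      rw [← hkc2]
      linear_combination ((Fintype.card F : ℂ) - 1) * hkc
    exact_mod_cast e
  have hq1 : 1 ≤ Fintype.card F := Fintype.card_pos
  have hqpos : (0 : ℝ) < (Fintype.card F : ℝ) := by exact_mod_cast hq1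
  have h5 : ((Fintype.card F : ℝ) - 1) * N ≤ k := by
    have h6 : (Fintype.card F : ℝ) * (((Fintype.card F : ℝ) - 1) * N)
        ≤ (Fintype.card F : ℝ) * k := by
      linarith
    exact le_of_mul_le_mul_left h6 hqpos
  have h7 : (Fintype.card F - 1) * N ≤ k := by
    have h' : (((Fintype.card F - 1 : ℕ) : ℝ)) * N ≤ k := by
      rw [Nat.cast_sub hq1]
      simpa using h5
    exact_mod_cast h'
  have hNR : (Fintype.card F : ℝ) ≤ (N : ℝ) := by exact_mod_cast hNge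
  refine ⟨k, hk, ?_, ?_⟩
  · calc (Fintype.card F - 1) * Fintype.card F ≤ (Fintype.card F - 1) * N :=
          Nat.mul_le_mul_left _ hNge
      _ ≤ k := h7
  · intro hkeq
    have hkR : (k : ℝ) = ((Fintype.card F : ℝ) - 1) * (Fintype.card F : ℝ) := by
      rw [hkeq]
      push_cast [Nat.cast_sub hq1]
      ring
    have hq1R : (0 : ℝ) ≤ (Fintype.card F : ℝ) - 1 := by
      have : (1 : ℝ) ≤ (Fintype.card F : ℝ) := by exact_mod_cast hq1
      linarith
    have hr_le : r ≤ 0 := by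
      rw [← hreal, hkR]
      have h9 : ((Fintype.card F : ℝ) - 1) * ((Fintype.card F : ℝ) * (Fintype.card F : ℝ))
          ≤ ((Fintype.card F : ℝ) - 1) * ((Fintype.card F : ℝ) * N) :=
        mul_le_mul_of_nonneg_left (mul_le_mul_of_nonneg_left hNR hqpos.le) hq1R
      nlinarith
    have hr_eq : r = 0 := le_antisymm hr_le hr0
    rw [hr, hr_eq]
    simp

/-- **Abstract Landazuri–Seitz bound** (S2343 piece E2). -/
theorem ls_degree_bound {F : Type*} [Field F] [Fintype F] {P : Type*} [Group P] [Fintype P]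
    {G : Type*} [Group G]
    (ζ : F → P) (hζinj : Function.Injective ζ) (hζ : ∀ a b : F, ζ (a + b) = ζ a * ζ b)
    (hcent : ∀ (a : F) (g : P), g * ζ a = ζ a * g)
    (hfus : ∀ x : P, (∀ a : F, x ≠ ζ a) → ∀ b : F, ∃ y : P, y * x * y⁻¹ = ζ b * x)
    (hcard : Fintype.card P = Fintype.card F ^ 3)
    (lam : F → ℂ) (hlam : ∀ a b : F, lam (a + b) = lam a * lam b) (hlam1 : ∃ b : F, lam b ≠ 1)
    (f : P →* G) {χ : G → ℂ} (hχ : Cfsg.IsCharacter G χ)
    (hconj : ∀ b b' : F, b ≠ 0 → b' ≠ 0 → IsConj (f (ζ b)) (f (ζ b')))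
    (hne : ∃ b : F, χ (f (ζ b)) ≠ χ 1) :
    ∃ k : ℕ, χ 1 = k ∧ (Fintype.card F - 1) * Fintype.card F ≤ k ∧
      (k = (Fintype.card F - 1) * Fintype.card F → ∑ b : F, χ (f (ζ b)) = 0) := by
  by_cases h0 : lam 0 = 1
  · exact ls_degree_bound_aux ζ hζinj hζ hcent hfus hcard lam hlam hlam1 h0 f hχ hconj hne
  · -- `lam` is identically zero: use a genuine non-trivial additive character instead
    obtain ⟨ψ, hψ⟩ := (AddChar.exists_apply_ne_zero (α := F) (a := 1)).2 one_ne_zero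
    exact ls_degree_bound_aux ζ hζinj hζ hcent hfus hcard (fun b => ψ b)
      (fun a b => AddChar.map_add_eq_mul ψ a b) ⟨1, hψ⟩ (AddChar.map_zero_eq_one ψ) f hχ hconj hne

end LS

end Cfsg.Agent.Lib.helper79.ReeLS
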