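import Cfsg.Agent.Lib.helper48.LBRefl
import Cfsg.Agent.Lib.helper65.S2686OREFL
import Cfsg.Agent.Lib.helper27.S2686OGEO
import Cfsg.Agent.Lib.helper39.S2686FX

/-!
S2686 piece O-CORE: the orthogonal-type graph automorphism `cAut (dlast N δ) * gAut` of
`PSL_{N+1}(F)` (odd characteristic) has no nontrivial invariant subgroup of odd order among its
fixed points.
-/

set_option autoImplicit false

namespace Cfsg.Agent.Lib.helper79.S2686

open Matrix Cfsg
open Cfsg.Agent.Lib.helper47.PSLn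
open Cfsg.Agent.Lib.helper48.LB
open Cfsg.Agent.Lib.helper48.AbsBal (fixG)

variable {n : ℕ} {F : Type*} [Field F] [Fintype F]

section pure

variable {ι : Type} [Fintype ι] [DecidableEq ι]

/-- an involutive isometry of `G` preserves the inverse matrix `D` under congruence -/
theorem ocore_congr (G D ρ : Matrix ι ι F) (hGD : G * D = 1) (hDG : D * G = 1)
    (hρ : ρ * ρ = 1) (hiso : ρᵀ * G * ρ = G) : ρ * D * ρᵀ = D := by
  have h1 : ρᵀ * G = G * ρ := by
    calc ρᵀ * G = ρᵀ * G * (ρ * ρ) := by rw [hρ, Matrix.mul_one]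
      _ = (ρᵀ * G * ρ) * ρ := by simp only [Matrix.mul_assoc]
      _ = G * ρ := by rw [hiso]
  calc ρ * D * ρᵀ = ρ * D * ρᵀ * (G * D) := by rw [hGD, Matrix.mul_one]
    _ = ρ * D * (ρᵀ * G) * D := by simp only [Matrix.mul_assoc]
    _ = ρ * D * (G * ρ) * D := by rw [h1]
    _ = ρ * (D * G) * ρ * D := by simp only [Matrix.mul_assoc]
    _ = D := by rw [hDG, Matrix.mul_one, hρ, Matrix.one_mul]

/-- `h D hᵀ = c D` gives `hᵀ G h = c G` for the inverse matrix `G` of `D` -/
theorem ocore_sim (G D h h' : Matrix ι ι F) (hGD : G * D = 1) (hDG : D * G = 1)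
    (hh' : h' * h = 1) (c : F) (hc : h * D * hᵀ = c • D) :
    hᵀ * G * h = c • G := by
  have h1 : hᵀ = c • (G * h' * D) := by
    calc hᵀ = (G * D) * hᵀ := by rw [hGD, Matrix.one_mul]
      _ = G * (h' * h) * D * hᵀ := by rw [hh', Matrix.mul_one]
      _ = G * h' * (h * D * hᵀ) := by simp only [Matrix.mul_assoc]
      _ = c • (G * h' * D) := by rw [hc, Matrix.mul_smul]
  calc hᵀ * G * h = c • (G * h' * D) * G * h := by rw [← h1]
    _ = c • (G * h' * (D * G) * h) := by simp only [Matrix.smul_mul, Matrix.mul_assoc]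
    _ = c • G := by rw [hDG, Matrix.mul_one, Matrix.mul_assoc, hh', Matrix.mul_one]

/-- the inverse of a similitude is a similitude -/
theorem ocore_inv_iso (G k k' : Matrix ι ι F) (hk : k * k' = 1) (c : F) (hc : c ≠ 0)
    (hiso : kᵀ * G * k = c • G) : k'ᵀ * G * k' = c⁻¹ • G := by
  have h1 : k'ᵀ * (kᵀ * G * k) * k' = G := by
    calc k'ᵀ * (kᵀ * G * k) * k' = (k * k')ᵀ * G * (k * k') := by
          rw [Matrix.transpose_mul]; simp only [Matrix.mul_assoc]
      _ = G := by rw [hk]; simp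
  rw [hiso, Matrix.mul_smul, Matrix.smul_mul] at h1
  calc k'ᵀ * G * k' = c⁻¹ • (c • (k'ᵀ * G * k')) := by rw [smul_smul, inv_mul_cancel₀ hc, one_smul]
    _ = c⁻¹ • G := by rw [h1]

/-- the value of the form on the image of a similitude -/
theorem ocore_q_image (G k : Matrix ι ι F) (c : F) (hiso : kᵀ * G * k = c • G) (x y : ι → F) :
    (k *ᵥ x) ⬝ᵥ G *ᵥ (k *ᵥ y) = c * (x ⬝ᵥ G *ᵥ y) := by
  rw [← Cfsg.Agent.Lib.helper65.S2686.orefl_bil_conj, hiso, Matrix.smul_mulVec, dotProduct_smul,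
    smul_eq_mul]

/-- a matrix having every anisotropic vector of a diagonal form as an eigenvector is scalar -/
theorem ocore_scalar_aux (g : ι → F) (A : Matrix ι ι F)
    (hA : ∀ v : ι → F, v ⬝ᵥ Matrix.diagonal g *ᵥ v ≠ 0 → ∃ t : F, A *ᵥ v = t • v)
    (hg : ∀ i, g i ≠ 0) (i₀ : ι)
    (hconn : ∀ i, i ≠ i₀ → g i₀ + g i ≠ 0 ∨ ∃ j, j ≠ i₀ ∧ j ≠ i ∧ g i₀ + g j + g i ≠ 0) :
    ∃ c : F, A = c • (1 : Matrix ι ι F) := by
  classical
  -- indicator vectors
  have hind : ∀ S : Finset ι, (∑ i ∈ S, g i) ≠ 0 →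
      ∃ t : F, ∀ j, (∑ k ∈ S, A j k) = if j ∈ S then t else 0 := by
    intro S hS
    have hQ : (fun i => if i ∈ S then (1 : F) else 0) ⬝ᵥ
        Matrix.diagonal g *ᵥ (fun i => if i ∈ S then (1 : F) else 0) = ∑ i ∈ S, g i := by
      simp only [dotProduct, Matrix.mulVec_diagonal]
      rw [← Finset.univ_inter S, ← Finset.sum_ite_mem]
      apply Finset.sum_congr rfl
      intro i _
      by_cases hi : i ∈ S <;> simp [hi]
    obtain ⟨t, ht⟩ := hA _ (by rw [hQ]; exact hS)
    refine ⟨t, fun j => ?_⟩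
    have h1 := congrFun ht j
    simp only [Matrix.mulVec, dotProduct, Pi.smul_apply, smul_eq_mul] at h1
    rw [← Finset.univ_inter S, ← Finset.sum_ite_mem]
    have h2 : ∑ i, (if i ∈ S then A j i else 0) = ∑ x, A j x * (if x ∈ S then (1 : F) else 0) := by
      apply Finset.sum_congr rfl
      intro i _
      by_cases hi : i ∈ S <;> simp [hi]
    rw [h2, h1]
    by_cases hj : j ∈ S <;> simp [hj]
  -- off-diagonal entries vanish
  have hoff : ∀ i j, j ≠ i → A j i = 0 := by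
    intro i j hji
    obtain ⟨t, ht⟩ := hind {i} (by rw [Finset.sum_singleton]; exact hg i)
    have h1 := ht j
    rw [Finset.sum_singleton] at h1
    rw [h1, if_neg (by simpa using hji)]
  -- pairs
  have hpair : ∀ a b, a ≠ b → g a + g b ≠ 0 → A a a = A b b := by
    intro a b hab hgab
    obtain ⟨t, ht⟩ := hind {a, b} (by rw [Finset.sum_pair hab]; exact hgab)
    have h1 := ht a
    have h2 := ht b
    rw [Finset.sum_pair hab] at h1 h2
    rw [hoff b a hab, add_zero, if_pos (by simp)] at h1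
    rw [hoff a b (Ne.symm hab), zero_add, if_pos (by simp)] at h2
    rw [h1, h2]
  -- triples
  have htriple : ∀ a b c, a ≠ b → a ≠ c → b ≠ c → g a + g b + g c ≠ 0 → A a a = A c c := by
    intro a b c hab hac hbc hgabc
    have hnot : a ∉ ({b, c} : Finset ι) := by simp [hab, hac]
    obtain ⟨t, ht⟩ := hind (insert a {b, c}) (by
      rw [Finset.sum_insert hnot, Finset.sum_pair hbc, ← add_assoc]; exact hgabc)
    have h1 := ht a
    have h2 := ht c
    rw [Finset.sum_insert hnot, Finset.sum_pair hbc] at h1 h2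
    rw [hoff b a hab, hoff c a hac, add_zero, add_zero, if_pos (by simp)] at h1
    rw [hoff a c (Ne.symm hac), hoff b c (Ne.symm hbc), zero_add, zero_add, if_pos (by simp)] at h2
    rw [h1, h2]
  have hdiag : ∀ i, A i i = A i₀ i₀ := by
    intro i
    by_cases hi : i = i₀
    · rw [hi]
    · rcases hconn i hi with h | ⟨j, hj0, hji, h⟩
      · exact (hpair i₀ i (Ne.symm hi) h).symm
      · exact (htriple i₀ j i (Ne.symm hj0) (Ne.symm hi) hji h).symm
  refine ⟨A i₀ i₀, ?_⟩
  ext i j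
  by_cases hij : i = j
  · subst hij
    simp [hdiag i]
  · rw [hoff j i hij]
    simp [hij]

end pure

theorem orth_noCore {r f : ℕ} [Fact r.Prime] (hF : Fintype.card F = r ^ f) {N : ℕ} (hN : 2 ≤ N)
    (h2 : (2 : F) ≠ 0) (δ : Fˣ) (hδN : (δ : F) = 1 ∨ 3 ≤ N) :
    NoCore 2 (cAut (dlast N δ) * gAut : MulAut (ProjectiveSpecialLinearGroup (Fin (N + 1)) F)) := by
  classical
  intro M hMfix hMinv hMcop
  obtain ⟨D, hD⟩ : ∃ D : Matrix (Fin (N + 1)) (Fin (N + 1)) F, D = Dlast N (δ : F) := ⟨_, rfl⟩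
  obtain ⟨G, hGdef⟩ : ∃ G : Matrix (Fin (N + 1)) (Fin (N + 1)) F,
      G = Dlast N ((δ⁻¹ : Fˣ) : F) := ⟨_, rfl⟩
  have hGD : G * D = 1 := by rw [hGdef, hD]; exact (dlast N δ).inv_val
  have hDG : D * G = 1 := by rw [hGdef, hD]; exact (dlast N δ).val_inv
  have hGs : Gᵀ = G := by rw [hGdef]; exact Dlast_transpose N _
  have hGdet : G.det ≠ 0 := by
    intro h0
    have h1 := congrArg Matrix.det hGD
    rw [Matrix.det_mul, h0, zero_mul, Matrix.det_one] at h1
    exact zero_ne_one h1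
  have hDdet : D.det ≠ 0 := by
    intro h0
    have h1 := congrArg Matrix.det hGD
    rw [Matrix.det_mul, h0, mul_zero, Matrix.det_one] at h1
    exact zero_ne_one h1
  have h3 : 3 ≤ Fintype.card (Fin (N + 1)) := by rw [Fintype.card_fin]; omega
  have hn2 : 2 ≤ N + 1 := by omega
  have hdl : (dlast N δ : GL (Fin (N + 1)) F).1 = D := by rw [hD]; rfl
  rw [Subgroup.eq_bot_iff_forall]
  intro m hm
  obtain ⟨h, rfl⟩ := pr_surj m
  obtain ⟨c, hc⟩ := (Cfsg.Agent.Lib.helper39.S2686.graph_fix_iff hn2 (dlast N δ) h).mp (hMfix _ hm)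
  rw [hdl] at hc
  have hcne : c ≠ 0 := by
    rintro rfl
    rw [zero_smul] at hc
    have h1 := congrArg Matrix.det hc
    rw [Matrix.det_mul, Matrix.det_mul, Matrix.det_transpose, Matrix.det_zero] at h1
    have h4 : (h.1).det = 1 := h.2
    rw [h4, one_mul, mul_one] at h1
    exact hDdet h1
  have hh : h.1 * (h⁻¹).1 = 1 := coe_mul_inv' h
  have hh' : (h⁻¹).1 * h.1 = 1 := coe_inv_mul' h
  have hsim : h.1ᵀ * G * h.1 = c • G := ocore_sim G D h.1 (h⁻¹).1 hGD hDG hh' c hc
  have hsim' : (h⁻¹).1ᵀ * G * (h⁻¹).1 = c⁻¹ • G := ocore_inv_iso G h.1 (h⁻¹).1 hh c hcne hsim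
  -- reflections as elements of `GL`, commuting with the graph automorphism
  have hreflcomm : ∀ v : Fin (N + 1) → F, v ⬝ᵥ G *ᵥ v ≠ 0 →
      ∃ gv : GL (Fin (N + 1)) F, gv.1 = refl G v ∧ gv⁻¹.1 = refl G v ∧
        ∀ k ∈ M, cAut gv k ∈ M := by
    intro v hv
    have hsq := Cfsg.Agent.Lib.helper65.S2686.refl_mul_self G hGs v hv
    have hiso := Cfsg.Agent.Lib.helper65.S2686.refl_isometry G hGs v hv
    refine ⟨⟨refl G v, refl G v, hsq, hsq⟩, rfl, rfl, ?_⟩
    apply hMinv
    apply Cfsg.Agent.Lib.helper39.S2686.graph_comm (dlast N δ) _ 1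
    rw [hdl, one_smul]
    exact ocore_congr G D (refl G v) hGD hDG hsq hiso
  -- key claim: `h⁻¹` maps every anisotropic vector to a multiple of itself
  have key : ∀ v : Fin (N + 1) → F, v ⬝ᵥ G *ᵥ v ≠ 0 → ∃ t : F, (h⁻¹).1 *ᵥ v = t • v := by
    intro v hv
    by_contra hcon
    push Not at hcon
    obtain ⟨w, hwdef⟩ : ∃ w : Fin (N + 1) → F, w = (h⁻¹).1 *ᵥ v := ⟨_, rfl⟩
    have hw : w ⬝ᵥ G *ᵥ w ≠ 0 := by
      rw [hwdef, ocore_q_image G (h⁻¹).1 c⁻¹ hsim' v v]
      exact mul_ne_zero (inv_ne_zero hcne) hv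
    obtain ⟨gv, hgv1, hgv2, hgvM⟩ := hreflcomm v hv
    -- the element `y = m⁻¹ * a_v m`
    have hyM : (pr h)⁻¹ * cAut gv (pr h) ∈ M := mul_mem (inv_mem hm) (hgvM _ hm)
    obtain ⟨k, hkdef⟩ : ∃ k : SpecialLinearGroup (Fin (N + 1)) F, k = h⁻¹ * conjSL gv h := ⟨_, rfl⟩
    have hyk : (pr h)⁻¹ * cAut gv (pr h) = pr k := by
      rw [hkdef, cAut_pr, map_mul, map_inv]
    have hk1 : k.1 = refl G w * refl G v := by
      rw [hkdef, coe_mul', conjSL_coe, hgv1, hgv2, hwdef,
        ← Cfsg.Agent.Lib.helper65.S2686.refl_conj G hGs h.1 (h⁻¹).1 hh c hcne hsim v]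
      simp only [Matrix.mul_assoc]
    have hkiso : k.1ᵀ * G * k.1 = (1 : F) • G := by
      rw [hk1, one_smul, Matrix.transpose_mul]
      calc (refl G v)ᵀ * (refl G w)ᵀ * G * (refl G w * refl G v)
          = (refl G v)ᵀ * ((refl G w)ᵀ * G * refl G w) * refl G v := by
            simp only [Matrix.mul_assoc]
        _ = G := by
            rw [Cfsg.Agent.Lib.helper65.S2686.refl_isometry G hGs w hw,
              Cfsg.Agent.Lib.helper65.S2686.refl_isometry G hGs v hv]
    have hkk : k.1 * (k⁻¹).1 = 1 := coe_mul_inv' k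
    have hkk' : (k⁻¹).1 * k.1 = 1 := coe_inv_mul' k
    have hkiso' : (k⁻¹).1ᵀ * G * (k⁻¹).1 = (1 : F) • G := by
      have := ocore_inv_iso G k.1 (k⁻¹).1 hkk 1 one_ne_zero hkiso
      rwa [inv_one] at this
    have hcon' : ∀ t : F, w ≠ t • v := by
      intro t
      rw [hwdef]
      exact hcon t
    obtain ⟨u, hu, hperp⟩ := Cfsg.Agent.Lib.helper27.S2686.exists_perp_image h2 G hGs hGdet h3 v w
      hv hw hcon'
    rw [← hk1] at hperp
    obtain ⟨gu, hgu1, hgu2, hguM⟩ := hreflcomm u hu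
    have hzM : (pr k)⁻¹ * cAut gu (pr k) ∈ M := by
      have hykM : pr k ∈ M := by rw [← hyk]; exact hyM
      exact mul_mem (inv_mem hykM) (hguM _ hykM)
    obtain ⟨s, hsdef⟩ : ∃ s : SpecialLinearGroup (Fin (N + 1)) F, s = k⁻¹ * conjSL gu k := ⟨_, rfl⟩
    have hzs : (pr k)⁻¹ * cAut gu (pr k) = pr s := by
      rw [hsdef, cAut_pr, map_mul, map_inv]
    obtain ⟨a, hadef⟩ : ∃ a : Fin (N + 1) → F, a = (k⁻¹).1 *ᵥ u := ⟨_, rfl⟩
    have hs1 : s.1 = refl G a * refl G u := by
      rw [hsdef, coe_mul', conjSL_coe, hgu1, hgu2, hadef,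
        ← Cfsg.Agent.Lib.helper65.S2686.refl_conj G hGs k.1 (k⁻¹).1 hkk 1 one_ne_zero hkiso u]
      simp only [Matrix.mul_assoc]
    have ha : a ⬝ᵥ G *ᵥ a ≠ 0 := by
      rw [hadef, ocore_q_image G (k⁻¹).1 1 hkiso' u u, one_mul]
      exact hu
    have hab : a ⬝ᵥ G *ᵥ u = 0 := by
      have h5 : u = (k⁻¹).1 *ᵥ (k.1 *ᵥ u) := by
        rw [Matrix.mulVec_mulVec, hkk', Matrix.one_mulVec]
      calc a ⬝ᵥ G *ᵥ u = ((k⁻¹).1 *ᵥ u) ⬝ᵥ G *ᵥ ((k⁻¹).1 *ᵥ (k.1 *ᵥ u)) := by
            rw [hadef, ← h5]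
        _ = 1 * (u ⬝ᵥ G *ᵥ (k.1 *ᵥ u)) := ocore_q_image G (k⁻¹).1 1 hkiso' u (k.1 *ᵥ u)
        _ = 0 := by rw [hperp, mul_zero]
    have hss : s * s = 1 := by
      apply Subtype.ext
      rw [coe_mul', hs1]
      exact Cfsg.Agent.Lib.helper65.S2686.refl_perp_sq G hGs a u ha hu hab
    have hsne : pr s ≠ 1 := by
      intro h1
      have h6 : pr (1 : SpecialLinearGroup (Fin (N + 1)) F) = pr s := by rw [h1, map_one]
      obtain ⟨c', -, hc'⟩ := (pr_eq_iff _ _).mp h6
      rw [hs1] at hc'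
      exact Cfsg.Agent.Lib.helper65.S2686.refl_perp_not_scalar h2 G hGs h3 a u ha hu hab c' hc'
    have hsq : pr s * pr s = 1 := by rw [← map_mul, hss, map_one]
    -- an element of order two in `M`
    have hsM : pr s ∈ M := by rw [← hzs]; exact hzM
    have hord : orderOf (⟨pr s, hsM⟩ : M) = 2 := by
      apply orderOf_eq_prime
      · apply Subtype.ext
        rw [pow_two]
        exact hsq
      · intro h1
        exact hsne (congrArg Subtype.val h1)
    have hdvd : 2 ∣ Nat.card M := by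
      rw [← hord]
      exact orderOf_dvd_natCard _
    have := Nat.Coprime.eq_one_of_dvd hMcop.symm hdvd
    omega
  -- `h⁻¹` is a scalar matrix
  have hscal : ∃ c0 : F, (h⁻¹).1 = c0 • (1 : Matrix (Fin (N + 1)) (Fin (N + 1)) F) := by
    refine ocore_scalar_aux (fun i => if i = Fin.last N then ((δ⁻¹ : Fˣ) : F) else 1) (h⁻¹).1
      ?_ ?_ (⟨0, by omega⟩ : Fin (N + 1)) ?_
    · intro v hv
      apply key v
      rw [hGdef]
      exact hv
    · intro i
      by_cases hi : i = Fin.last N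
      · simp only [if_pos hi]
        exact Units.ne_zero _
      · simp only [if_neg hi]
        exact one_ne_zero
    · intro i hi
      have h0 : (⟨0, by omega⟩ : Fin (N + 1)) ≠ Fin.last N := by
        intro h1
        have := congrArg Fin.val h1
        simp at this
        omega
      by_cases hil : i = Fin.last N
      · by_cases hδ : (1 : F) + ((δ⁻¹ : Fˣ) : F) = 0
        · right
          refine ⟨⟨1, by omega⟩, ?_, ?_, ?_⟩
          · intro h1
            have := congrArg Fin.val h1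
            simp at this
          · rw [hil]
            intro h1
            have := congrArg Fin.val h1
            simp at this
            omega
          · have h1 : (⟨1, by omega⟩ : Fin (N + 1)) ≠ Fin.last N := by
              intro h1
              have := congrArg Fin.val h1
              simp at this
              omega
            rw [if_neg h0, if_neg h1, if_pos hil, add_assoc, hδ, add_zero]
            exact one_ne_zero
        · left
          rw [if_neg h0, if_pos hil]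
          exact hδ
      · left
        rw [if_neg h0, if_neg hil]
        have : (1 : F) + 1 = 2 := by norm_num
        rw [this]
        exact h2
  obtain ⟨c0, hc0⟩ := hscal
  have hc0n : c0 ^ (N + 1) = 1 := by
    have h1 : ((h⁻¹).1).det = 1 := (h⁻¹).2
    rw [hc0, Matrix.det_smul, Matrix.det_one, mul_one, Fintype.card_fin] at h1
    exact h1
  have h7 : pr (1 : SpecialLinearGroup (Fin (N + 1)) F) = pr h⁻¹ := by
    rw [pr_eq_iff]
    exact ⟨c0, hc0n, by rw [hc0]; rfl⟩
  rw [map_one, map_inv] at h7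
  exact inv_eq_one.mp h7.symm

end Cfsg.Agent.Lib.helper79.S2686
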