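import Mathlib
import Cfsg.Agent.Lib.helper6.S3366Defs

/-!
S3366 piece P2: the centraliser of `R/Z` in `X` lies in `R` (hence so does `C_X(R)`).
-/

set_option autoImplicit false

namespace Cfsg.Agent.Lib.helper79.S3366

open Cfsg.Agent.Lib.helper6.S3366

variable {X : Type*} [Group X] [Finite X] {R : Subgroup X} {π : X →* SL23} {z : X}

theorem p2_sl23_fact : ∀ A : SL23, A ≠ 1 → ∃ B : SL23,
    A = -1 ∨ A ^ 2 = -1 ∨ A ^ 3 = -1 ∨ (B * A * B⁻¹ * A⁻¹) ^ 2 = -1 := by
  decide +kernel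

theorem p2_negOne_ne : (-1 : SL23) ≠ 1 := by decide +kernel

theorem p2_negOne_central : ∀ B : SL23, B * (-1) = (-1) * B := by decide +kernel

theorem p2_negOne_cube : (-1 : SL23) ^ 3 = -1 := by decide +kernel

theorem p2_negOne_sq : (-1 : SL23) ^ 2 = 1 := by decide +kernel

/-- Elements of `Z` are central in `X`. -/
theorem p2_Z_central (hz : ∀ g : X, g * z = z * g) (c : X) (hc : c ∈ Subgroup.zpowers z)
    (g : X) : g * c = c * g := by
  have hzc : z ∈ Subgroup.centralizer ({g} : Set X) := by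
    rw [Subgroup.mem_centralizer_iff]
    intro h hh
    rw [Set.mem_singleton_iff] at hh
    subst hh
    exact hz h
  have : Subgroup.zpowers z ≤ Subgroup.centralizer ({g} : Set X) := by
    rw [Subgroup.zpowers_le]
    exact hzc
  have h2 := this hc
  rw [Subgroup.mem_centralizer_iff] at h2
  exact h2 g rfl

theorem p2_R_conj (S : Setting X R π z) (g r : X) (hr : r ∈ R) : g * r * g⁻¹ ∈ R := by
  rw [← S.ker] at hr ⊢
  rw [map_mul, map_mul, hr, mul_one, map_inv, mul_inv_cancel]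

theorem p2_Z_le_R (S : Setting X R π z) : Subgroup.zpowers z ≤ R := by
  rw [Subgroup.zpowers_le]
  exact S.zmem

/-- The subgroup `N = C_X(R/Z)`. -/
def p2N (S : Setting X R π z) (hz : ∀ g : X, g * z = z * g) : Subgroup X where
  carrier := {x | ∀ r ∈ R, x * r * x⁻¹ * r⁻¹ ∈ Subgroup.zpowers z}
  one_mem' := by
    intro r _
    simp
  mul_mem' := by
    intro x y hx hy r hr
    have h1 := hy r hr
    have h2 := hx r hr
    have hc := p2_Z_central hz _ h1
    have : x * y * r * (x * y)⁻¹ * r⁻¹ = (y * r * y⁻¹ * r⁻¹) * (x * r * x⁻¹ * r⁻¹) := by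
      have e1 : y * r * y⁻¹ = (y * r * y⁻¹ * r⁻¹) * r := by group
      calc x * y * r * (x * y)⁻¹ * r⁻¹ = x * (y * r * y⁻¹) * x⁻¹ * r⁻¹ := by group
        _ = x * ((y * r * y⁻¹ * r⁻¹) * r) * x⁻¹ * r⁻¹ := by rw [← e1]
        _ = (x * (y * r * y⁻¹ * r⁻¹)) * r * x⁻¹ * r⁻¹ := by group
        _ = ((y * r * y⁻¹ * r⁻¹) * x) * r * x⁻¹ * r⁻¹ := by rw [hc x]
        _ = (y * r * y⁻¹ * r⁻¹) * (x * r * x⁻¹ * r⁻¹) := by group
    show x * y * r * (x * y)⁻¹ * r⁻¹ ∈ Subgroup.zpowers z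
    rw [this]
    exact mul_mem h1 h2
  inv_mem' := by
    intro x hx r hr
    have hr' : x⁻¹ * r * x ∈ R := by
      have := p2_R_conj S x⁻¹ r hr
      rwa [inv_inv] at this
    have h1 := hx _ hr'
    have h2 := inv_mem h1
    have : x⁻¹ * r * x⁻¹⁻¹ * r⁻¹ = (x * (x⁻¹ * r * x) * x⁻¹ * (x⁻¹ * r * x)⁻¹)⁻¹ := by group
    show x⁻¹ * r * x⁻¹⁻¹ * r⁻¹ ∈ Subgroup.zpowers z
    rw [this]
    exact h2

theorem p2N_mem (S : Setting X R π z) (hz : ∀ g : X, g * z = z * g) (x : X) :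
    x ∈ p2N S hz ↔ ∀ r ∈ R, x * r * x⁻¹ * r⁻¹ ∈ Subgroup.zpowers z := Iff.rfl

theorem p2N_conj (S : Setting X R π z) (hz : ∀ g : X, g * z = z * g) (x g : X)
    (hx : x ∈ p2N S hz) : g * x * g⁻¹ ∈ p2N S hz := by
  rw [p2N_mem] at hx ⊢
  intro r hr
  have hr' : g⁻¹ * r * g ∈ R := by
    have := p2_R_conj S g⁻¹ r hr
    rwa [inv_inv] at this
  have h1 := hx _ hr'
  have hc := p2_Z_central hz _ h1 g
  have : g * x * g⁻¹ * r * (g * x * g⁻¹)⁻¹ * r⁻¹
      = g * (x * (g⁻¹ * r * g) * x⁻¹ * (g⁻¹ * r * g)⁻¹) * g⁻¹ := by group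
  rw [this, hc]
  simpa using h1

theorem cent_mod_le (S : Setting X R π z) (hz : ∀ g : X, g * z = z * g) :
    ∀ x : X, (∀ r ∈ R, x * r * x⁻¹ * r⁻¹ ∈ Subgroup.zpowers z) → x ∈ R := by
  intro x hx
  by_contra hxR
  have hxN : x ∈ p2N S hz := hx
  have hA : π x ≠ 1 := fun h => hxR ((S.ker x).mp h)
  -- some n ∈ N with π n = -1
  have hn : ∃ n ∈ p2N S hz, π n = -1 := by
    obtain ⟨B, hB⟩ := p2_sl23_fact (π x) hA
    rcases hB with h | h | h | h
    · exact ⟨x, hxN, h⟩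
    · exact ⟨x ^ 2, pow_mem hxN 2, by rw [map_pow, h]⟩
    · exact ⟨x ^ 3, pow_mem hxN 3, by rw [map_pow, h]⟩
    · obtain ⟨b, hb⟩ := S.surj B
      refine ⟨(b * x * b⁻¹ * x⁻¹) ^ 2, pow_mem (mul_mem (p2N_conj S hz x b hxN) (inv_mem hxN)) 2, ?_⟩
      rw [map_pow, map_mul, map_mul, map_mul, map_inv, map_inv, hb, h]
  obtain ⟨n, hnN, hnπ⟩ := hn
  obtain ⟨u, hu⟩ : ∃ u : X, u = n ^ 3 := ⟨_, rfl⟩
  have hn2 : n ^ 2 ∈ R := by
    rw [← S.ker, map_pow, hnπ, p2_negOne_sq]
  have hu2 : u ^ 2 = 1 := by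
    have := S.exp _ hn2
    rw [hu, ← pow_mul]
    rw [← pow_mul] at this
    exact this
  have huπ : π u = -1 := by rw [hu, map_pow, hnπ, p2_negOne_cube]
  have huN : u ∈ p2N S hz := by rw [hu]; exact pow_mem hnN 3
  have hu1 : u ≠ 1 := by
    intro h
    rw [h, map_one] at huπ
    exact p2_negOne_ne huπ.symm
  have huinv : u⁻¹ = u := by
    rw [inv_eq_iff_mul_eq_one, ← pow_two, hu2]
  -- u centralises R
  have hcR : ∀ r ∈ R, u * r = r * u := by
    intro r hr
    have hc := huN r hr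
    obtain ⟨c, hcdef⟩ : ∃ c : X, c = u * r * u⁻¹ * r⁻¹ := ⟨_, rfl⟩
    rw [← hcdef] at hc
    have hcc := p2_Z_central hz c hc
    have h1 : u * r * u⁻¹ = c * r := by rw [hcdef]; group
    have h2 : u * (u * r * u⁻¹) * u⁻¹ = c * (c * r) := by
      rw [h1]
      calc u * (c * r) * u⁻¹ = (u * c) * r * u⁻¹ := by group
        _ = (c * u) * r * u⁻¹ := by rw [hcc u]
        _ = c * (u * r * u⁻¹) := by group
        _ = c * (c * r) := by rw [h1]
    have h3 : u * (u * r * u⁻¹) * u⁻¹ = r := by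
      calc u * (u * r * u⁻¹) * u⁻¹ = (u * u) * r * (u * u)⁻¹ := by group
        _ = r := by rw [← pow_two, hu2]; group
    have h4 : c ^ 2 = 1 := by
      have : c * (c * r) = r := by rw [← h2, h3]
      have h5 : c * c * r = 1 * r := by rw [one_mul, mul_assoc]; exact this
      rw [pow_two]
      exact mul_right_cancel h5
    have h5 : c ^ 3 = 1 := S.exp c (p2_Z_le_R S hc)
    have h6 : c = 1 := by
      have : c ^ 3 = c ^ 2 * c := pow_succ c 2
      rw [h5, h4, one_mul] at this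
      exact this.symm
    rw [h6] at h1
    rw [one_mul] at h1
    calc u * r = (u * r * u⁻¹) * u := by group
      _ = r * u := by rw [h1]
  -- u is central
  have hcen : ∀ g : X, g * u = u * g := by
    intro g
    obtain ⟨q, hq⟩ : ∃ q : X, q = u⁻¹ * (g * u * g⁻¹) := ⟨_, rfl⟩
    have hqR : q ∈ R := by
      rw [← S.ker, hq, map_mul, map_mul, map_mul, map_inv, map_inv, huπ,
        p2_negOne_central (π g)]
      group
    have huq : u * q = g * u * g⁻¹ := by rw [hq]; group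
    have h1 : (u * q) ^ 2 = 1 := by
      rw [huq]
      calc (g * u * g⁻¹) ^ 2 = g * (u * u) * g⁻¹ := by rw [pow_two]; group
        _ = 1 := by rw [← pow_two, hu2]; group
    have h2 : u * q = q * u := hcR q hqR
    have h3 : q ^ 2 = 1 := by
      have : (u * q) ^ 2 = u ^ 2 * q ^ 2 := by
        rw [pow_two, pow_two, pow_two]
        calc u * q * (u * q) = u * (q * u) * q := by group
          _ = u * (u * q) * q := by rw [h2]
          _ = u * u * (q * q) := by group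
      rw [this, hu2, one_mul] at h1
      exact h1
    have h4 : q ^ 3 = 1 := S.exp q hqR
    have h5 : q = 1 := by
      have : q ^ 3 = q ^ 2 * q := pow_succ q 2
      rw [h4, h3, one_mul] at this
      exact this.symm
    rw [h5, mul_one] at huq
    calc g * u = (g * u * g⁻¹) * g := by group
      _ = u * g := by rw [← huq]
  exact hu1 (S.noinv u hu2 hcen)

theorem cent_le (S : Setting X R π z) (hz : ∀ g : X, g * z = z * g) :
    ∀ x : X, (∀ r ∈ R, x * r = r * x) → x ∈ R := by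
  intro x hx
  apply cent_mod_le S hz x
  intro r hr
  have : x * r * x⁻¹ * r⁻¹ = 1 := by
    rw [hx r hr]
    group
  rw [this]
  exact one_mem _

end Cfsg.Agent.Lib.helper79.S3366
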