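import Mathlib
import Cfsg.Agent.Lib.helper26.S4409Defs

/-!
# S4409, piece AQA (racing copy of helper79): `Q8 · ⟨c⟩` with `c` centralizing, `c ∉ K`, `c² ∈ K`
has order 16 and contains an abelian noncyclic subgroup of order 8.
-/

set_option autoImplicit false

namespace Cfsg.Agent.Lib.helper26.S4409

variable {G : Type*} [Group G]

/-- Elements of `M ⊔ ⟨c⟩` (`c` centralizes `M`, `c² ∈ M`) lie in `M` or in `M c⁻¹`. -/
theorem h79_mem_sup_zpowers (M : Subgroup G) (c : G)
    (hc : c ∈ Subgroup.centralizer (M : Set G)) (hc2 : c * c ∈ M) :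
    ∀ g ∈ M ⊔ Subgroup.zpowers c, g ∈ M ∨ g * c ∈ M := by
  have hcomm : ∀ m ∈ M, c * m = m * c := fun m hm =>
    ((Subgroup.mem_centralizer_iff.1 hc) m hm).symm
  -- every `g` with `g ∈ M ∨ g * c ∈ M` commutes with `c`
  have hcg : ∀ g, (g ∈ M ∨ g * c ∈ M) → c * g = g * c := by
    intro g hg
    rcases hg with hg | hg
    · exact hcomm g hg
    · have h := hcomm _ hg
      rw [← mul_assoc] at h
      exact mul_right_cancel h
  let Y' : Subgroup G :=
    { carrier := {g | g ∈ M ∨ g * c ∈ M}
      one_mem' := Or.inl M.one_mem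
      mul_mem' := by
        intro g h hg hh
        have hch := hcg h hh
        rcases hg with hg | hg
        · rcases hh with hh | hh
          · exact Or.inl (M.mul_mem hg hh)
          · right
            rw [mul_assoc]
            exact M.mul_mem hg hh
        · rcases hh with hh | hh
          · right
            have e : g * h * c = g * c * h := by rw [mul_assoc, ← hch, ← mul_assoc]
            rw [e]
            exact M.mul_mem hg hh
          · left
            have e : g * h = g * c * (h * c) * (c * c)⁻¹ := by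
              have e1 : g * c * (h * c) * (c * c)⁻¹ = g * (c * h) * c⁻¹ := by group
              rw [e1, hch]
              group
            rw [e]
            exact M.mul_mem (M.mul_mem hg hh) (M.inv_mem hc2)
      inv_mem' := by
        intro g hg
        have hcg' := hcg g hg
        rcases hg with hg | hg
        · exact Or.inl (M.inv_mem hg)
        · right
          have e : g⁻¹ * c = (g * c)⁻¹ * (c * c) := by
            have e1 : (g * c)⁻¹ * (c * c) = c⁻¹ * g⁻¹ * c * c := by group
            have e2 : c⁻¹ * g⁻¹ = g⁻¹ * c⁻¹ := by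
              rw [← mul_inv_rev, ← mul_inv_rev, hcg']
            rw [e1, e2]
            group
          rw [e]
          exact M.mul_mem (M.inv_mem hg) hc2 }
  have hle : M ⊔ Subgroup.zpowers c ≤ Y' := by
    apply sup_le
    · intro m hm
      exact Or.inl hm
    · rw [Subgroup.zpowers_le]
      exact Or.inr hc2
  intro g hg
  exact hle hg

/-- `|M ⊔ ⟨c⟩| = |M| · 2`. -/
theorem h79_card_sup_zpowers [Finite G] (M : Subgroup G) (c : G)
    (hc : c ∈ Subgroup.centralizer (M : Set G)) (hcM : c ∉ M) (hc2 : c * c ∈ M) :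
    Nat.card ↥(M ⊔ Subgroup.zpowers c : Subgroup G) = Nat.card ↥M * 2 := by
  have hmem := h79_mem_sup_zpowers M c hc hc2
  have hcY : c ∈ M ⊔ Subgroup.zpowers c :=
    (le_sup_right : Subgroup.zpowers c ≤ M ⊔ Subgroup.zpowers c) (Subgroup.mem_zpowers c)
  have hidx : (M.subgroupOf (M ⊔ Subgroup.zpowers c)).index = 2 := by
    rw [Subgroup.index_eq_two_iff]
    refine ⟨⟨c, hcY⟩, fun b => ?_⟩
    have hb := hmem b.1 b.2
    by_cases hbM : (b : G) ∈ M
    · right
      refine ⟨Subgroup.mem_subgroupOf.2 hbM, fun h => ?_⟩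
      have h2 : (b : G) * c ∈ M := Subgroup.mem_subgroupOf.1 h
      have h3 : c ∈ M := by
        have := M.mul_mem (M.inv_mem hbM) h2
        rwa [inv_mul_cancel_left] at this
      exact hcM h3
    · left
      refine ⟨?_, fun h => hbM (Subgroup.mem_subgroupOf.1 h)⟩
      rcases hb with hb | hb
      · exact absurd hb hbM
      · exact Subgroup.mem_subgroupOf.2 hb
  have hcard := Subgroup.card_mul_index (M.subgroupOf (M ⊔ Subgroup.zpowers c))
  rw [hidx, Nat.card_congr (Subgroup.subgroupOfEquivOfLe (le_sup_left : M ≤ M ⊔ Subgroup.zpowers c)).toEquiv] at hcard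
  exact hcard.symm

/-- the centre of `Q8` -/
theorem h79_q8_center : ∀ x : QuaternionGroup 2, (∀ y : QuaternionGroup 2, x * y = y * x) →
    x = 1 ∨ x = QuaternionGroup.a 1 * QuaternionGroup.a 1 := by
  decide

/-- AQA (racing copy). -/
theorem h79_aqa [Finite G] (K : Subgroup G) (hQ : IsQ8 K) (c : G)
    (hc : c ∈ Subgroup.centralizer (K : Set G)) (hcK : c ∉ K) (hc2 : c * c ∈ K) :
    ¬ NoP (K ⊔ Subgroup.zpowers c) ∧ Nat.card ↥(K ⊔ Subgroup.zpowers c : Subgroup G) = 16 := by
  obtain ⟨e⟩ := hQ
  have hK8 : Nat.card ↥K = 8 := by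
    rw [Nat.card_congr e.toEquiv, Nat.card_eq_fintype_card, QuaternionGroup.card]
  have hcomm : ∀ m ∈ K, c * m = m * c := fun m hm =>
    ((Subgroup.mem_centralizer_iff.1 hc) m hm).symm
  refine ⟨?_, ?_⟩
  swap
  · rw [h79_card_sup_zpowers K c hc hcK hc2, hK8]
  -- the element `i` of order 4
  set i : G := ((e.symm (QuaternionGroup.a 1) : ↥K) : G) with hi
  have hiK : i ∈ K := (e.symm (QuaternionGroup.a 1)).2
  have hio : orderOf i = 4 := by
    rw [hi, Subgroup.orderOf_coe, MulEquiv.orderOf_eq, QuaternionGroup.orderOf_a_one]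
  have hi4 : i ^ 4 = 1 := by rw [← hio]; exact pow_orderOf_eq_one i
  -- `c * c` is `1` or `i * i`
  have hcc : c * c = 1 ∨ c * c = i * i := by
    have hcen : ∀ y : QuaternionGroup 2, e ⟨c * c, hc2⟩ * y = y * e ⟨c * c, hc2⟩ := by
      intro y
      obtain ⟨k, rfl⟩ := e.surjective y
      rw [← map_mul, ← map_mul]
      congr 1
      apply Subtype.ext
      show c * c * (k : G) = (k : G) * (c * c)
      rw [mul_assoc, hcomm _ k.2, ← mul_assoc, hcomm _ k.2, mul_assoc]
    rcases h79_q8_center _ hcen with h | h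
    · left
      have h1 : (⟨c * c, hc2⟩ : ↥K) = 1 := by
        apply e.injective
        rw [h, map_one]
      exact congrArg Subtype.val h1
    · right
      have h1 : (⟨c * c, hc2⟩ : ↥K) = e.symm (QuaternionGroup.a 1) * e.symm (QuaternionGroup.a 1) := by
        apply e.injective
        rw [h, map_mul, MulEquiv.apply_symm_apply]
      exact congrArg Subtype.val h1
  have hc4 : c ^ 4 = 1 := by
    have h4 : c ^ 4 = (c * c) * (c * c) := by
      rw [show (4 : ℕ) = 2 + 2 from rfl, pow_add, pow_two]
    rw [h4]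
    rcases hcc with h | h
    · rw [h, one_mul]
    · rw [h]
      have : i * i * (i * i) = i ^ 4 := by
        rw [show (4 : ℕ) = 2 + 2 from rfl, pow_add, pow_two]
      rw [this, hi4]
  -- the data for the lemma with `M = ⟨i⟩`
  have hzi : Subgroup.zpowers i ≤ K := Subgroup.zpowers_le.2 hiK
  have hc' : c ∈ Subgroup.centralizer ((Subgroup.zpowers i : Subgroup G) : Set G) :=
    Subgroup.centralizer_le (by exact_mod_cast hzi) hc
  have hcM : c ∉ Subgroup.zpowers i := fun h => hcK (hzi h)
  have hc2' : c * c ∈ Subgroup.zpowers i := by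
    rcases hcc with h | h
    · rw [h]; exact Subgroup.one_mem _
    · rw [h]; exact Subgroup.mul_mem _ (Subgroup.mem_zpowers i) (Subgroup.mem_zpowers i)
  have hA8 : Nat.card ↥(Subgroup.zpowers i ⊔ Subgroup.zpowers c : Subgroup G) = 8 := by
    rw [h79_card_sup_zpowers _ c hc' hcM hc2', Nat.card_zpowers, hio]
  have hAle : Subgroup.zpowers i ⊔ Subgroup.zpowers c ≤ K ⊔ Subgroup.zpowers c :=
    sup_le_sup_right hzi _
  have hAcomm : IsMulCommutative ↥(Subgroup.zpowers i ⊔ Subgroup.zpowers c : Subgroup G) := by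
    have hEq : (Subgroup.zpowers i ⊔ Subgroup.zpowers c : Subgroup G) = Subgroup.closure {i, c} := by
      rw [Subgroup.zpowers_eq_closure, Subgroup.zpowers_eq_closure, ← Subgroup.closure_union]
      rfl
    rw [hEq]
    apply Subgroup.isMulCommutative_closure
    intro x hx y hy
    rcases hx with rfl | rfl <;> rcases hy with rfl | rfl
    · rfl
    · exact (hcomm _ hiK).symm
    · exact hcomm _ hiK
    · rfl
  have hexp : ∀ x ∈ (Subgroup.zpowers i ⊔ Subgroup.zpowers c : Subgroup G), x ^ 4 = 1 := by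
    intro x hx
    have hzp : ∀ m ∈ Subgroup.zpowers i, m ^ 4 = 1 := by
      intro m hm
      obtain ⟨k, rfl⟩ := Subgroup.mem_zpowers_iff.1 hm
      rw [← zpow_natCast, ← zpow_mul, mul_comm, zpow_mul, zpow_natCast, hi4, one_zpow]
    rcases h79_mem_sup_zpowers _ c hc' hc2' x hx with h | h
    · exact hzp x h
    · have hm4 := hzp _ h
      have hcm : Commute (x * c) c⁻¹ := by
        have h1 : c * (x * c) = (x * c) * c := hcomm _ (hzi h)
        have h2 : Commute c (x * c) := h1
        exact h2.symm.inv_right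
      have hx : x = (x * c) * c⁻¹ := by group
      rw [hx, hcm.mul_pow, hm4, one_mul, inv_pow, hc4, inv_one]
  intro hNoP
  have hcyc := hNoP _ hAle hAcomm hA8
  obtain ⟨g, hg⟩ := hcyc.exists_generator
  have hog : orderOf g = 8 := by
    rw [orderOf_eq_card_of_forall_mem_zpowers hg, hA8]
  have hg4 : g ^ 4 = 1 := by
    apply Subtype.ext
    rw [Subgroup.coe_pow]
    exact hexp g.1 g.2
  have hdvd : orderOf g ∣ 4 := orderOf_dvd_of_pow_eq_one hg4
  rw [hog] at hdvd
  omega

end Cfsg.Agent.Lib.helper26.S4409
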