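/-
S0892 split (architect helper70): race copies by helper79, under `h79_`-prefixed names, of the pieces
W1 (`a4_comm`), O3 (`odd_invol_pow`) and O4 (`odd_a4`).  Mathlib only.
-/
import Mathlib

set_option autoImplicit false

namespace Cfsg.Agent.Lib.helper70.SM

universe u

/-- An element of an odd-order kernel whose square is trivial is trivial. -/
theorem h79_sm_eq_one_of_sq {Γ : Type u} [Group Γ] [Finite Γ] {P : Type*} [Group P] (π : Γ →* P)
    (hodd : Odd (Nat.card π.ker)) (g : Γ) (hg : g ∈ π.ker) (h2 : g * g = 1) : g = 1 := by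
  have h1 : orderOf g ∣ 2 := orderOf_dvd_of_pow_eq_one (by rw [pow_two]; exact h2)
  have h3 : orderOf g ∣ Nat.card π.ker := by
    have := orderOf_dvd_natCard (⟨g, hg⟩ : π.ker)
    rwa [Subgroup.orderOf_mk] at this
  have h4 : orderOf g = 1 := by
    rcases (Nat.dvd_prime Nat.prime_two).1 h1 with h | h
    · exact h
    · exfalso
      rw [h] at h3
      exact (Nat.not_even_iff_odd.2 hodd) (even_iff_two_dvd.2 h3)
  exact orderOf_eq_one_iff.1 h4

/-- W1 (race copy of `a4_comm`). -/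
theorem h79_a4_comm {G : Type*} [Group G] (a b : G) (ha : a ^ 3 = 1) (hb : b ^ 2 = 1)
    (hab : (a * b) ^ 3 = 1) : b * (a * b * a⁻¹) = (a * b * a⁻¹) * b := by
  have hb2 : b * b = 1 := by rw [← pow_two]; exact hb
  have hb' : b⁻¹ = b := inv_eq_of_mul_eq_one_left hb2
  obtain ⟨c, hc⟩ : ∃ c, c = a * b * a⁻¹ := ⟨_, rfl⟩
  obtain ⟨d, hd⟩ : ∃ d, d = a * c * a⁻¹ := ⟨_, rfl⟩
  rw [← hc]
  have hc2 : c * c = 1 := by
    rw [hc]
    calc a * b * a⁻¹ * (a * b * a⁻¹) = a * (b * b) * a⁻¹ := by group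
      _ = 1 := by rw [hb2]; group
  have hc' : c⁻¹ = c := inv_eq_of_mul_eq_one_left hc2
  have hd2 : d * d = 1 := by
    rw [hd]
    calc a * c * a⁻¹ * (a * c * a⁻¹) = a * (c * c) * a⁻¹ := by group
      _ = 1 := by rw [hc2]; group
  have hd' : d⁻¹ = d := inv_eq_of_mul_eq_one_left hd2
  have hab3 : (a * b) * (a * b) * (a * b) = 1 := by rw [← pow_three']; exact hab
  have h1 : c * d * b = 1 := by
    rw [hd, hc]
    calc a * b * a⁻¹ * (a * (a * b * a⁻¹) * a⁻¹) * b
        = (a * b) * (a * b) * (a * b) * (b⁻¹ * (a ^ 3)⁻¹ * b) := by group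
      _ = 1 := by rw [hab3, ha]; group
  have h2 : d = c⁻¹ * b⁻¹ := by
    calc d = c⁻¹ * (c * d * b) * b⁻¹ := by group
      _ = c⁻¹ * b⁻¹ := by rw [h1]; group
  have h3 : b * c = d⁻¹ := by
    rw [h2]
    group
  calc b * c = d⁻¹ := h3
    _ = d := hd'
    _ = c⁻¹ * b⁻¹ := h2
    _ = c * b := by rw [hc', hb']

/-- O3 (race copy of `odd_invol_pow`). -/
theorem h79_odd_invol_pow {Γ : Type u} [Group Γ] [Finite Γ] {P : Type*} [Group P] (π : Γ →* P)
    (hc : π.ker ≤ Subgroup.center Γ) (hodd : Odd (Nat.card π.ker))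
    (u v : Γ) (hu : u ^ 2 = 1) (hv : v ^ 2 = 1) (m : ℕ) (h : (π u * π v) ^ m = 1) :
    (u * v) ^ m = 1 := by
  have hu2 : u * u = 1 := by rw [← pow_two]; exact hu
  have hv2 : v * v = 1 := by rw [← pow_two]; exact hv
  have hu' : u⁻¹ = u := inv_eq_of_mul_eq_one_left hu2
  have hv' : v⁻¹ = v := inv_eq_of_mul_eq_one_left hv2
  have hbK : (u * v) ^ m ∈ π.ker := by
    rw [MonoidHom.mem_ker, map_pow, map_mul, h]
  have hbc : (u * v) ^ m ∈ Subgroup.center Γ := hc hbK
  have e2 : u * (u * v) * u⁻¹ = (u * v)⁻¹ := by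
    rw [mul_inv_rev, hu', hv']
    calc u * (u * v) * u = (u * u) * v * u := by group
      _ = v * u := by rw [hu2, one_mul]
  have h1 : u * (u * v) ^ m * u⁻¹ = ((u * v) ^ m)⁻¹ := by
    rw [← conj_pow, e2, inv_pow]
  have h2 : u * (u * v) ^ m * u⁻¹ = (u * v) ^ m := by
    have h3 : u * (u * v) ^ m = (u * v) ^ m * u := Subgroup.mem_center_iff.1 hbc u
    rw [h3, mul_assoc, mul_inv_cancel, mul_one]
  have h4 : ((u * v) ^ m)⁻¹ = (u * v) ^ m := by rw [← h1, h2]
  have h5 : (u * v) ^ m * (u * v) ^ m = 1 := by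
    nth_rewrite 1 [← h4]
    exact inv_mul_cancel _
  exact h79_sm_eq_one_of_sq π hodd _ hbK h5

/-- O4 (race copy of `odd_a4`). -/
theorem h79_odd_a4 {Γ : Type u} [Group Γ] [Finite Γ] {P : Type*} [Group P] (π : Γ →* P)
    (hc : π.ker ≤ Subgroup.center Γ) (hodd : Odd (Nat.card π.ker))
    (a b : Γ) (ha : a ^ 3 = 1) (hb : b ^ 2 = 1) (hab : (π a * π b) ^ 3 = 1) :
    (a * b) ^ 3 = 1 := by
  have hb2 : b * b = 1 := by rw [← pow_two]; exact hb
  have hb' : b⁻¹ = b := inv_eq_of_mul_eq_one_left hb2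
  obtain ⟨v, hv⟩ : ∃ v, v = a * b * a⁻¹ := ⟨_, rfl⟩
  obtain ⟨w, hw⟩ : ∃ w, w = a * v * a⁻¹ := ⟨_, rfl⟩
  have hv2 : v * v = 1 := by
    rw [hv]
    calc a * b * a⁻¹ * (a * b * a⁻¹) = a * (b * b) * a⁻¹ := by group
      _ = 1 := by rw [hb2]; group
  have hv' : v⁻¹ = v := inv_eq_of_mul_eq_one_left hv2
  have hw2 : w * w = 1 := by
    rw [hw]
    calc a * v * a⁻¹ * (a * v * a⁻¹) = a * (v * v) * a⁻¹ := by group
      _ = 1 := by rw [hv2]; group
  have hexp : (a * b) ^ 3 = v * w * b := by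
    have h0 : (a * b) ^ 3
        = (a * b * a⁻¹) * (a * (a * b * a⁻¹) * a⁻¹) * (a ^ 3 * b * (a ^ 3)⁻¹) * a ^ 3 := by
      rw [pow_three']
      group
    rw [h0, ha, ← hv, ← hw]
    simp
  -- the images of `b` and `v` commute
  have hπv : π v = π a * π b * (π a)⁻¹ := by
    rw [hv, map_mul, map_mul, map_inv]
  have hBV : π b * π v = π v * π b := by
    rw [hπv]
    exact h79_a4_comm (π a) (π b) (by rw [← map_pow, ha, map_one])
      (by rw [← map_pow, hb, map_one]) hab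
  have hB2 : π b * π b = 1 := by rw [← map_mul, hb2, map_one]
  have hV2 : π v * π v = 1 := by rw [← map_mul, hv2, map_one]
  have h2 : (π b * π v) ^ 2 = 1 := by
    rw [pow_two]
    calc π b * π v * (π b * π v) = π b * (π v * π b) * π v := by group
      _ = π b * (π b * π v) * π v := by rw [hBV]
      _ = (π b * π b) * (π v * π v) := by group
      _ = 1 := by rw [hB2, hV2, one_mul]
  have hbv2 : (b * v) ^ 2 = 1 :=
    h79_odd_invol_pow π hc hodd b v hb (by rw [pow_two]; exact hv2) 2 h2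
  have hcomm_bv : b * v = v * b := by
    have e : (b * v) * (b * v) = 1 := by rw [← pow_two]; exact hbv2
    have e' : (b * v)⁻¹ = b * v := inv_eq_of_mul_eq_one_left e
    calc b * v = (b * v)⁻¹ := e'.symm
      _ = v⁻¹ * b⁻¹ := mul_inv_rev _ _
      _ = v * b := by rw [hv', hb']
  have hcomm_vw : v * w = w * v := by
    have e1 : v * w = a * (b * v) * a⁻¹ := by
      rw [hw, hv]
      group
    have e2 : w * v = a * (v * b) * a⁻¹ := by
      rw [hw, hv]
      group
    rw [e1, e2, hcomm_bv]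
  have ha3 : a * a * a = 1 := by rw [← pow_three']; exact ha
  have haw : a * w * a⁻¹ = b := by
    rw [hw, hv]
    calc a * (a * (a * b * a⁻¹) * a⁻¹) * a⁻¹ = (a * a * a) * b * (a * a * a)⁻¹ := by group
      _ = b := by rw [ha3]; group
  have hcomm_wb : w * b = b * w := by
    have e1 : w * b = a * (v * w) * a⁻¹ := by
      calc w * b = (a * v * a⁻¹) * (a * w * a⁻¹) := by rw [haw, ← hw]
        _ = a * (v * w) * a⁻¹ := by group
    have e2 : b * w = a * (w * v) * a⁻¹ := by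
      calc b * w = (a * w * a⁻¹) * (a * v * a⁻¹) := by rw [haw, ← hw]
        _ = a * (w * v) * a⁻¹ := by group
    rw [e1, e2, hcomm_vw]
  have hβ2 : (v * w * b) * (v * w * b) = 1 := by
    calc v * w * b * (v * w * b) = v * w * (b * v) * w * b := by group
      _ = v * w * (v * b) * w * b := by rw [hcomm_bv]
      _ = v * (w * v) * (b * w) * b := by group
      _ = v * (v * w) * (w * b) * b := by rw [← hcomm_vw, ← hcomm_wb]
      _ = (v * v) * (w * w) * (b * b) := by group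
      _ = 1 := by rw [hv2, hw2, hb2]; simp
  have hK : v * w * b ∈ π.ker := by
    rw [MonoidHom.mem_ker, ← hexp, map_pow, map_mul, hab]
  rw [hexp]
  exact h79_sm_eq_one_of_sq π hodd _ hK hβ2

end Cfsg.Agent.Lib.helper70.SM
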