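/-
S4073 split (architect helper69), piece CENT-EQ (`sn_cent_prime_index_eq`), race copy by helper79.

`G` simple non-abelian `SN`, Sylow `p`-subgroups abelian, `x` of order `p`, `C = C_G(x)` with an
abelian normal subgroup `A` of index `p`: then `C` is abelian.
-/
import Mathlib
import Cfsg.Agent.Lib.helper69.SNDefs

set_option autoImplicit false

open Cfsg.Agent.Lib.helper69.SNG

namespace Cfsg.Agent.Lib.helper79.SNG

universe u

/-- Bezout data for the `p`-part and the `p'`-part of `n`. -/
theorem h79_bezout (n p : ℕ) (hp : p.Prime) (hn : n ≠ 0) :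
    ∃ (e m : ℕ) (α β : ℤ), ¬ p ∣ m ∧ n = p ^ e * m ∧
      ((p ^ e : ℕ) : ℤ) * α + (m : ℤ) * β = 1 := by
  obtain ⟨e, m, hm, hnm⟩ := Nat.exists_eq_pow_mul_and_not_dvd hn p hp.ne_one
  have hcop : Nat.Coprime (p ^ e) m :=
    Nat.Coprime.pow_left e ((Nat.Prime.coprime_iff_not_dvd hp).2 hm)
  have hb := Nat.gcd_eq_gcd_ab (p ^ e) m
  rw [hcop.gcd_eq_one] at hb
  exact ⟨e, m, _, _, hm, hnm, by rw [← hb]; simp⟩

/-- Decomposition of an element along Bezout coefficients. -/
theorem h79_decomp {K : Type*} [Group K] (k : K) (e m p : ℕ) (α β : ℤ)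
    (hαβ : ((p ^ e : ℕ) : ℤ) * α + (m : ℤ) * β = 1) :
    k = (k ^ (p ^ e)) ^ α * (k ^ m) ^ β := by
  rw [← zpow_natCast k (p ^ e), ← zpow_natCast k m, ← zpow_mul, ← zpow_mul, ← zpow_add, hαβ,
    zpow_one]

/-- An element which is both a `p`-element and a `p'`-element is trivial. -/
theorem h79_eq_one_of_coprime_pow {K : Type*} [Group K] (b : K) (p m j : ℕ) (hp : p.Prime)
    (hm : ¬ p ∣ m) (h1 : b ^ m = 1) (h2 : b ^ (p ^ j) = 1) : b = 1 := by
  have d1 : orderOf b ∣ m := orderOf_dvd_of_pow_eq_one h1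
  have d2 : orderOf b ∣ p ^ j := orderOf_dvd_of_pow_eq_one h2
  have hcop : Nat.Coprime (p ^ j) m :=
    Nat.Coprime.pow_left j ((Nat.Prime.coprime_iff_not_dvd hp).2 hm)
  have h3 : orderOf b ∣ Nat.gcd (p ^ j) m := Nat.dvd_gcd d2 d1
  rw [hcop.gcd_eq_one] at h3
  exact orderOf_eq_one_iff.1 (Nat.dvd_one.1 h3)

/-- A subgroup of prime order is generated by each of its non-trivial elements. -/
theorem h79_gen_of_prime_card {G : Type*} [Group G] {p : ℕ} (hp : p.Prime) {P : Subgroup G}
    (hP : Nat.card P = p) (z : G) (hz : z ∈ P) (hz1 : z ≠ 1) : P = Subgroup.zpowers z := by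
  have := Fact.mk hp
  have h1 : Subgroup.zpowers (⟨z, hz⟩ : P) = ⊤ :=
    zpowers_eq_top_of_prime_card hP (fun h => hz1 (congrArg Subtype.val h))
  apply le_antisymm
  · intro w hw
    have h2 : (⟨w, hw⟩ : P) ∈ Subgroup.zpowers (⟨z, hz⟩ : P) := by rw [h1]; trivial
    obtain ⟨k, hk⟩ := Subgroup.mem_zpowers_iff.mp h2
    refine Subgroup.mem_zpowers_iff.mpr ⟨k, ?_⟩
    have := congrArg Subtype.val hk
    simpa using this
  · rw [Subgroup.zpowers_le]; exact hz

/-- If `g` conjugates `x` (of prime order) to a power of `x`, it conjugates `C_G(x)` into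
itself. -/
theorem h79_conj_cent {G : Type*} [Group G] (p : ℕ) (hp : p.Prime) (x : G) (hxo : orderOf x = p)
    (g : G) (j : ℤ) (hg : g * x * g⁻¹ = x ^ j) (y : G) (hy : x * y = y * x) :
    x * (g * y * g⁻¹) = (g * y * g⁻¹) * x := by
  have hx1 : x ≠ 1 := by
    intro h1
    rw [h1, orderOf_one] at hxo
    exact hp.one_lt.ne hxo
  have hz1 : x ^ j ≠ 1 := by
    intro h1
    rw [h1] at hg
    apply hx1
    calc x = g⁻¹ * (g * x * g⁻¹) * g := by group
      _ = 1 := by rw [hg]; group
  have hcard : Nat.card (Subgroup.zpowers x) = p := by rw [Nat.card_zpowers, hxo]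
  have hgen := h79_gen_of_prime_card hp hcard (x ^ j)
    (Subgroup.zpow_mem _ (Subgroup.mem_zpowers x) j) hz1
  have hxz : x ∈ Subgroup.zpowers (x ^ j) := by
    rw [← hgen]
    exact Subgroup.mem_zpowers x
  obtain ⟨l, hl⟩ := Subgroup.mem_zpowers_iff.1 hxz
  have hc1 : Commute (g * y * g⁻¹) (g * x * g⁻¹) := by
    show g * y * g⁻¹ * (g * x * g⁻¹) = g * x * g⁻¹ * (g * y * g⁻¹)
    calc g * y * g⁻¹ * (g * x * g⁻¹) = g * (y * x) * g⁻¹ := by group
      _ = g * (x * y) * g⁻¹ := by rw [hy]
      _ = g * x * g⁻¹ * (g * y * g⁻¹) := by group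
  rw [hg] at hc1
  have hc2 : Commute (g * y * g⁻¹) ((x ^ j) ^ l) := hc1.zpow_right l
  rw [hl] at hc2
  exact hc2.eq.symm

/-- The structure of a non-abelian `SN`-group with an abelian normal subgroup of index `p`, all
of whose `p`-subgroups are abelian: `K = B ⟨s⟩` with `B` a normal `p'`-subgroup and `s` a
`p`-element. -/
theorem h79_struct {K : Type u} [Group K] [Finite K] (p : ℕ) [Fact p.Prime] (h : SN K)
    (hna : ¬ IsMulCommutative K) (A : Subgroup K) [hAn : A.Normal] (hA : IsMulCommutative A)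
    (hAi : A.index = p)
    (hQ : ∀ Q : Subgroup K, IsPGroup p Q → IsMulCommutative Q) :
    ∃ (B : Subgroup K) (s : K) (m e : ℕ), B.Normal ∧ ¬ p ∣ m ∧ (∀ b ∈ B, b ^ m = 1) ∧
      s ^ (p ^ e) = 1 ∧ ∀ k : K, ∃ b ∈ B, ∃ i : ℤ, k = b * s ^ i := by
  classical
  have hp : p.Prime := Fact.out
  have hAc : ∀ a ∈ A, ∀ b ∈ A, a * b = b * a := (comm_iff A).1 hA
  obtain ⟨e, m, α, β, hm, hnm, hαβ⟩ := h79_bezout (Nat.card K) p hp Nat.card_pos.ne'
  have hpow : ∀ k : K, k ^ (p ^ e * m) = 1 := by
    intro k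
    rw [← hnm]
    exact pow_card_eq_one'
  -- the `p'`-part `B` and the `p`-part `T` of `A`
  let B : Subgroup K :=
    { carrier := {a | a ∈ A ∧ a ^ m = 1}
      one_mem' := ⟨A.one_mem, one_pow m⟩
      mul_mem' := by
        rintro a b ⟨ha, ha'⟩ ⟨hb, hb'⟩
        refine ⟨A.mul_mem ha hb, ?_⟩
        have hc : Commute a b := hAc a ha b hb
        rw [hc.mul_pow, ha', hb', one_mul]
      inv_mem' := by
        rintro a ⟨ha, ha'⟩
        exact ⟨A.inv_mem ha, by rw [inv_pow, ha', inv_one]⟩ }
  let T : Subgroup K :=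
    { carrier := {a | a ∈ A ∧ a ^ (p ^ e) = 1}
      one_mem' := ⟨A.one_mem, one_pow _⟩
      mul_mem' := by
        rintro a b ⟨ha, ha'⟩ ⟨hb, hb'⟩
        refine ⟨A.mul_mem ha hb, ?_⟩
        have hc : Commute a b := hAc a ha b hb
        rw [hc.mul_pow, ha', hb', one_mul]
      inv_mem' := by
        rintro a ⟨ha, ha'⟩
        exact ⟨A.inv_mem ha, by rw [inv_pow, ha', inv_one]⟩ }
  have hBmem : ∀ a : K, a ∈ B ↔ a ∈ A ∧ a ^ m = 1 := fun a => Iff.rfl
  have hTmem : ∀ a : K, a ∈ T ↔ a ∈ A ∧ a ^ (p ^ e) = 1 := fun a => Iff.rfl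
  have hBn : B.Normal := by
    constructor
    intro b hb k
    rw [hBmem] at hb ⊢
    exact ⟨hAn.conj_mem b hb.1 k, by rw [conj_pow, hb.2, mul_one, mul_inv_cancel]⟩
  have hTn : T.Normal := by
    constructor
    intro b hb k
    rw [hTmem] at hb ⊢
    exact ⟨hAn.conj_mem b hb.1 k, by rw [conj_pow, hb.2, mul_one, mul_inv_cancel]⟩
  -- `A = B T`
  have hBT : A ≤ B ⊔ T := by
    intro a ha
    have h1 : a ^ (p ^ e) ∈ B := by
      rw [hBmem]
      exact ⟨A.pow_mem ha _, by rw [← pow_mul]; exact hpow a⟩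
    have h2 : a ^ m ∈ T := by
      rw [hTmem]
      exact ⟨A.pow_mem ha _, by rw [← pow_mul, mul_comm]; exact hpow a⟩
    have h3 := h79_decomp a e m p α β hαβ
    rw [h3]
    exact Subgroup.mul_mem _ (Subgroup.zpow_mem _ (Subgroup.mem_sup_left h1) α)
      (Subgroup.zpow_mem _ (Subgroup.mem_sup_right h2) β)
  -- a `p`-element `s` outside `A`
  have hAtop : A ≠ ⊤ := by
    intro h1
    rw [h1, Subgroup.index_top] at hAi
    exact hp.one_lt.ne hAi
  obtain ⟨g, hg⟩ : ∃ g : K, g ∉ A := by
    by_contra hall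
    push Not at hall
    exact hAtop ((Subgroup.eq_top_iff' A).2 hall)
  have he : e ≠ 0 := by
    intro he0
    have h1 : p ∣ Nat.card K := by
      rw [← hAi]
      exact Subgroup.index_dvd_card A
    rw [hnm, he0, pow_zero, one_mul] at h1
    exact hm h1
  have hgp : g ^ p ∈ A := by
    have := Subgroup.pow_index_mem A g
    rwa [hAi] at this
  have hgpe : g ^ (p ^ e) ∈ A := by
    obtain ⟨e', rfl⟩ : ∃ e', e = e' + 1 := ⟨e - 1, by omega⟩
    rw [pow_succ, mul_comm, pow_mul]
    exact A.pow_mem hgp _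
  have hsA : g ^ m ∉ A := by
    intro h1
    apply hg
    have h3 := h79_decomp g e m p α β hαβ
    rw [h3]
    exact A.mul_mem (A.zpow_mem hgpe α) (A.zpow_mem h1 β)
  obtain ⟨s, hs_def⟩ : ∃ s : K, s = g ^ m := ⟨_, rfl⟩
  rw [← hs_def] at hsA
  have hs : s ^ (p ^ e) = 1 := by
    rw [hs_def, ← pow_mul, mul_comm]
    exact hpow g
  -- `K = A ⟨s⟩`
  have hAs : A ⊔ Subgroup.zpowers s = ⊤ := by
    have hle : A ≤ A ⊔ Subgroup.zpowers s := le_sup_left
    have hrel := Subgroup.relIndex_mul_index hle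
    rw [hAi] at hrel
    have hd : (A ⊔ Subgroup.zpowers s).index ∣ p := Dvd.intro_left _ hrel
    rcases (Nat.dvd_prime hp).1 hd with h1 | h1
    · exact Subgroup.index_eq_one.1 h1
    · exfalso
      rw [h1] at hrel
      have h2 : A.relIndex (A ⊔ Subgroup.zpowers s) = 1 := by
        have hpp := hp.pos
        nlinarith
      have hMA : A ⊔ Subgroup.zpowers s ≤ A := Subgroup.relIndex_eq_one.1 h2
      exact hsA (hMA (Subgroup.mem_sup_right (Subgroup.mem_zpowers s)))
  -- `T` commutes with `s`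
  have hTs : ∀ t ∈ T, t * s = s * t := by
    have hT : IsPGroup p T := by
      rintro ⟨t, ht⟩
      exact ⟨e, Subtype.ext ((hTmem t).1 ht).2⟩
    have hZ : IsPGroup p (Subgroup.zpowers s) := by
      rintro ⟨y, hy⟩
      obtain ⟨i, rfl⟩ := Subgroup.mem_zpowers_iff.1 hy
      refine ⟨e, Subtype.ext ?_⟩
      show (s ^ i) ^ (p ^ e) = 1
      rw [← zpow_natCast, ← zpow_mul, mul_comm, zpow_mul, zpow_natCast, hs, one_zpow]
    have hQp : IsPGroup p ↥(T ⊔ Subgroup.zpowers s) := IsPGroup.to_sup_of_normal_left hT hZ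
    have hQc := (comm_iff _).1 (hQ _ hQp)
    intro t ht
    exact hQc t (Subgroup.mem_sup_left ht) s (Subgroup.mem_sup_right (Subgroup.mem_zpowers s))
  -- `N = B ⟨s⟩` is normal
  have hNn : (B ⊔ Subgroup.zpowers s).Normal := by
    rw [← Subgroup.normalizer_eq_top_iff, eq_top_iff, ← hAs]
    apply sup_le
    · refine hBT.trans (sup_le ?_ ?_)
      · exact le_sup_left.trans Subgroup.le_normalizer
      · intro t ht
        apply Subgroup.centralizer_le_normalizer
        rw [Subgroup.mem_centralizer_iff]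
        intro n hn
        have hle : B ⊔ Subgroup.zpowers s ≤ Subgroup.centralizer ({t} : Set K) := by
          apply sup_le
          · intro b hb
            rw [Subgroup.mem_centralizer_iff]
            intro y hy
            rw [Set.mem_singleton_iff] at hy
            rw [hy]
            exact hAc t ((hTmem t).1 ht).1 b ((hBmem b).1 hb).1
          · rw [Subgroup.zpowers_le, Subgroup.mem_centralizer_iff]
            intro y hy
            rw [Set.mem_singleton_iff] at hy
            rw [hy]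
            exact hTs t ht
        have h1 := hle hn
        rw [Subgroup.mem_centralizer_iff] at h1
        exact (h1 t rfl).symm
    · exact le_sup_right.trans Subgroup.le_normalizer
  -- `N` is not abelian
  have hNna : ¬ IsMulCommutative ↥(B ⊔ Subgroup.zpowers s) := by
    intro hc
    apply hna
    have hcN := (comm_iff _).1 hc
    have hBs : ∀ b ∈ B, b * s = s * b := fun b hb =>
      hcN b (Subgroup.mem_sup_left hb) s (Subgroup.mem_sup_right (Subgroup.mem_zpowers s))
    have hAs' : ∀ a ∈ A, a * s = s * a := by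
      intro a ha
      have hle : B ⊔ T ≤ Subgroup.centralizer ({s} : Set K) := by
        apply sup_le
        · intro b hb
          rw [Subgroup.mem_centralizer_iff]
          intro y hy
          rw [Set.mem_singleton_iff] at hy
          rw [hy]
          exact (hBs b hb).symm
        · intro t ht
          rw [Subgroup.mem_centralizer_iff]
          intro y hy
          rw [Set.mem_singleton_iff] at hy
          rw [hy]
          exact (hTs t ht).symm
      have h1 := hle (hBT ha)
      rw [Subgroup.mem_centralizer_iff] at h1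
      exact (h1 s rfl).symm
    rw [comm_iff_top]
    have hcen : (⊤ : Subgroup K) ≤ Subgroup.center K := by
      rw [← hAs]
      apply sup_le
      · intro a ha
        rw [Subgroup.mem_center_iff]
        have hle : A ⊔ Subgroup.zpowers s ≤ Subgroup.centralizer ({a} : Set K) := by
          apply sup_le
          · intro a' ha'
            rw [Subgroup.mem_centralizer_iff]
            intro y hy
            rw [Set.mem_singleton_iff] at hy
            rw [hy]
            exact hAc a ha a' ha'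
          · rw [Subgroup.zpowers_le, Subgroup.mem_centralizer_iff]
            intro y hy
            rw [Set.mem_singleton_iff] at hy
            rw [hy]
            exact hAs' a ha
        intro g'
        have hg' : g' ∈ Subgroup.centralizer ({a} : Set K) := hle (by rw [hAs]; trivial)
        rw [Subgroup.mem_centralizer_iff] at hg'
        exact (hg' a rfl).symm
      · rw [Subgroup.zpowers_le, Subgroup.mem_center_iff]
        have hle : A ⊔ Subgroup.zpowers s ≤ Subgroup.centralizer ({s} : Set K) := by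
          apply sup_le
          · intro a' ha'
            rw [Subgroup.mem_centralizer_iff]
            intro y hy
            rw [Set.mem_singleton_iff] at hy
            rw [hy]
            exact (hAs' a' ha').symm
          · rw [Subgroup.zpowers_le, Subgroup.mem_centralizer_iff]
            intro y hy
            rw [Set.mem_singleton_iff] at hy
            rw [hy]
        intro g'
        have hg' : g' ∈ Subgroup.centralizer ({s} : Set K) := hle (by rw [hAs]; trivial)
        rw [Subgroup.mem_centralizer_iff] at hg'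
        exact (hg' s rfl).symm
    intro a b
    exact Subgroup.mem_center_iff.1 (hcen (Subgroup.mem_top b)) a
  -- hence `N = ⊤`
  have hNtop : B ⊔ Subgroup.zpowers s = ⊤ := by
    have h1 := h _ hNna
    have h2 : Subgroup.normalizer ((B ⊔ Subgroup.zpowers s : Subgroup K) : Set K) = ⊤ :=
      Subgroup.normalizer_eq_top_iff.2 hNn
    rw [← h1, h2]
  refine ⟨B, s, m, e, hBn, hm, fun b hb => ((hBmem b).1 hb).2, hs, ?_⟩
  intro k
  have hk : k ∈ ((B ⊔ Subgroup.zpowers s : Subgroup K) : Set K) := by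
    rw [hNtop]
    trivial
  rw [Subgroup.normal_mul B (Subgroup.zpowers s)] at hk
  obtain ⟨b, hb, c, hc, hbc⟩ := Set.mem_mul.1 hk
  obtain ⟨i, hi⟩ := Subgroup.mem_zpowers_iff.1 hc
  exact ⟨b, hb, i, by rw [hi]; exact hbc.symm⟩

/-- **[CENT-EQ]** (race copy by helper79). -/
theorem sn_cent_prime_index_eq {G : Type u} [Group G] [Finite G] [IsSimpleGroup G]
    (hna : ¬ IsMulCommutative G) (h : SN G) (p : ℕ) [Fact p.Prime]
    (hSyl : ∀ P : Sylow p G, IsMulCommutative P) (x : G) (hxo : orderOf x = p)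
    (A : Subgroup (Subgroup.centralizer ({x} : Set G))) [A.Normal] (hA : IsMulCommutative A)
    (hAi : A.index = p) : IsMulCommutative (Subgroup.centralizer ({x} : Set G)) := by
  classical
  by_contra hCna
  have hp : p.Prime := Fact.out
  have hx1 : x ≠ 1 := by
    intro h1
    rw [h1, orderOf_one] at hxo
    exact hp.one_lt.ne hxo
  have hmemC : ∀ g : G, g ∈ Subgroup.centralizer ({x} : Set G) ↔ x * g = g * x := by
    intro g
    rw [Subgroup.mem_centralizer_iff]
    constructor
    · intro hg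
      exact hg x rfl
    · intro hg y hy
      rw [Set.mem_singleton_iff] at hy
      rw [hy]
      exact hg
  -- `p`-subgroups of `C` are abelian
  have hQ : ∀ Q : Subgroup ↥(Subgroup.centralizer ({x} : Set G)), IsPGroup p Q →
      IsMulCommutative Q := by
    intro Q hQp
    have hQ' : IsPGroup p (Q.map (Subgroup.centralizer ({x} : Set G)).subtype) :=
      hQp.map (Subgroup.centralizer ({x} : Set G)).subtype
    obtain ⟨P, hP⟩ := hQ'.exists_le_sylow
    have hPc := (comm_iff (P : Subgroup G)).1 (hSyl P)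
    rw [comm_iff]
    intro a ha b hb
    apply Subtype.ext
    exact hPc a (hP (Subgroup.mem_map_of_mem _ ha)) b (hP (Subgroup.mem_map_of_mem _ hb))
  obtain ⟨B, s, m, e, hBn, hm, hBm, hs, hdec⟩ :=
    h79_struct p (h.subgroup (Subgroup.centralizer ({x} : Set G))) hCna A hA hAi hQ
  -- a Sylow subgroup `S` of `G` through `x` and `s`
  have hsx : x * (s : G) = (s : G) * x := (hmemC _).1 s.2
  have hs' : (s : G) ^ (p ^ e) = 1 := by
    have := congrArg Subtype.val hs
    simpa using this
  have hZx : IsPGroup p (Subgroup.zpowers x) := by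
    apply IsPGroup.of_card (n := 1)
    rw [Nat.card_zpowers, hxo, pow_one]
  have hZs : IsPGroup p (Subgroup.zpowers (s : G)) := by
    rintro ⟨y, hy⟩
    obtain ⟨i, rfl⟩ := Subgroup.mem_zpowers_iff.1 hy
    refine ⟨e, Subtype.ext ?_⟩
    show ((s : G) ^ i) ^ (p ^ e) = 1
    rw [← zpow_natCast, ← zpow_mul, mul_comm, zpow_mul, zpow_natCast, hs', one_zpow]
  have hQ0 : IsPGroup p ↥(Subgroup.zpowers x ⊔ Subgroup.zpowers (s : G)) := by
    apply IsPGroup.to_sup_of_normal_right' hZx hZs
    rw [Subgroup.zpowers_le]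
    apply Subgroup.centralizer_le_normalizer
    rw [Subgroup.mem_centralizer_iff]
    intro y hy
    obtain ⟨i, rfl⟩ := Subgroup.mem_zpowers_iff.1 hy
    have hc : Commute ((s : G) ^ i) x := (Commute.zpow_left hsx.symm i)
    exact hc.eq
  obtain ⟨S, hS⟩ := hQ0.exists_le_sylow
  have hxS : x ∈ (S : Subgroup G) := hS (Subgroup.mem_sup_left (Subgroup.mem_zpowers x))
  have hsS : (s : G) ∈ (S : Subgroup G) :=
    hS (Subgroup.mem_sup_right (Subgroup.mem_zpowers _))
  have hSc := (comm_iff (S : Subgroup G)).1 (hSyl S)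
  have hSC : ∀ t ∈ (S : Subgroup G), t ∈ Subgroup.centralizer ({x} : Set G) :=
    fun t ht => (hmemC t).2 (hSc x hxS t ht)
  -- elements of `B` lying in `S` are trivial
  have hBS : ∀ b : ↥(Subgroup.centralizer ({x} : Set G)), b ∈ B → (b : G) ∈ (S : Subgroup G) →
      b = 1 := by
    intro b hb hbS
    obtain ⟨j, hj⟩ := S.isPGroup' ⟨(b : G), hbS⟩
    have hbj : b ^ (p ^ j) = 1 := by
      apply Subtype.ext
      have := congrArg Subtype.val hj
      simpa using this
    exact h79_eq_one_of_coprime_pow b p m j hp hm (hBm b hb) hbj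
  -- `S` is generated by `s`
  have hSs : ∀ t ∈ (S : Subgroup G), ∃ i : ℤ, t = (s : G) ^ i := by
    intro t ht
    obtain ⟨b, hb, i, hbi⟩ := hdec ⟨t, hSC t ht⟩
    refine ⟨i, ?_⟩
    have hbi' : t = (b : G) * (s : G) ^ i := by
      have := congrArg Subtype.val hbi
      simpa using this
    have hbS : (b : G) ∈ (S : Subgroup G) := by
      have h1 : (b : G) = t * ((s : G) ^ i)⁻¹ := by
        rw [hbi']
        group
      rw [h1]
      exact S.mul_mem ht (S.inv_mem (S.zpow_mem hsS i))
    have hb1 : b = 1 := hBS b hb hbS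
    rw [hbi', hb1]
    simp
  -- Burnside's hypothesis
  have hN : Subgroup.normalizer ((S : Subgroup G) : Set G) ≤
      Subgroup.centralizer ((S : Subgroup G) : Set G) := by
    intro g hg
    have hgs : g * (s : G) * g⁻¹ ∈ (S : Subgroup G) :=
      (Subgroup.mem_normalizer_iff.1 hg (s : G)).1 hsS
    obtain ⟨j, hj⟩ := hSs _ hgs
    obtain ⟨i, hi⟩ := hSs x hxS
    have hgx : g * x * g⁻¹ = x ^ j := by
      calc g * x * g⁻¹ = g * (s : G) ^ i * g⁻¹ := by rw [← hi]
        _ = (g * (s : G) * g⁻¹) ^ i := (conj_zpow).symm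
        _ = ((s : G) ^ j) ^ i := by rw [hj]
        _ = ((s : G) ^ i) ^ j := by rw [← zpow_mul, ← zpow_mul, mul_comm]
        _ = x ^ j := by rw [← hi]
    -- `g` normalizes `C`, hence lies in `C`
    have hgN : g ∈ Subgroup.normalizer
        ((Subgroup.centralizer ({x} : Set G) : Subgroup G) : Set G) := by
      apply Subgroup.mem_normalizer_fintype
      intro y hy
      exact (hmemC _).2 (h79_conj_cent p hp x hxo g j hgx y ((hmemC y).1 hy))
    rw [h _ hCna] at hgN
    -- decompose `g = b s^i'`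
    obtain ⟨b, hb, i', hbi⟩ := hdec ⟨g, hgN⟩
    have hbi' : g = (b : G) * (s : G) ^ i' := by
      have := congrArg Subtype.val hbi
      simpa using this
    have hσS : (s : G) ^ i' ∈ (S : Subgroup G) := S.zpow_mem hsS i'
    rw [Subgroup.mem_centralizer_iff]
    intro t ht
    -- `b` commutes with `t`
    have hgt : g * t * g⁻¹ ∈ (S : Subgroup G) := (Subgroup.mem_normalizer_iff.1 hg t).1 ht
    have hσt : (s : G) ^ i' * t = t * (s : G) ^ i' := hSc _ hσS t ht
    have hbt : (b : G) * t * (b : G)⁻¹ = g * t * g⁻¹ := by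
      rw [hbi']
      calc (b : G) * t * (b : G)⁻¹
          = (b : G) * (t * (s : G) ^ i') * ((s : G) ^ i')⁻¹ * (b : G)⁻¹ := by group
        _ = (b : G) * ((s : G) ^ i' * t) * ((s : G) ^ i')⁻¹ * (b : G)⁻¹ := by rw [hσt]
        _ = (b : G) * (s : G) ^ i' * t * ((b : G) * (s : G) ^ i')⁻¹ := by group
    have hcS : (b : G) * t * (b : G)⁻¹ * t⁻¹ ∈ (S : Subgroup G) := by
      rw [hbt]
      exact S.mul_mem hgt (S.inv_mem ht)
    have hcB : b * (⟨t, hSC t ht⟩ * b⁻¹ * (⟨t, hSC t ht⟩ :
        ↥(Subgroup.centralizer ({x} : Set G)))⁻¹) ∈ B :=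
      B.mul_mem hb (hBn.conj_mem b⁻¹ (B.inv_mem hb) _)
    have hc1 := hBS _ hcB (by
      have e1 : ((b * (⟨t, hSC t ht⟩ * b⁻¹ * (⟨t, hSC t ht⟩ :
          ↥(Subgroup.centralizer ({x} : Set G)))⁻¹) :
          ↥(Subgroup.centralizer ({x} : Set G))) : G) = (b : G) * t * (b : G)⁻¹ * t⁻¹ := by
        simp only [Subgroup.coe_mul, Subgroup.coe_inv]
        group
      rw [e1]
      exact hcS)
    have hc2 : (b : G) * t * (b : G)⁻¹ * t⁻¹ = 1 := by
      have := congrArg Subtype.val hc1
      simp only [Subgroup.coe_mul, Subgroup.coe_inv, Subgroup.coe_one] at this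
      rw [← this]
      group
    have hbt' : (b : G) * t = t * (b : G) := by
      calc (b : G) * t = ((b : G) * t * (b : G)⁻¹ * t⁻¹) * (t * (b : G)) := by group
        _ = t * (b : G) := by rw [hc2, one_mul]
    -- conclusion: `t * g = g * t`
    rw [hbi']
    calc t * ((b : G) * (s : G) ^ i') = (t * (b : G)) * (s : G) ^ i' := by group
      _ = ((b : G) * t) * (s : G) ^ i' := by rw [hbt']
      _ = (b : G) * (t * (s : G) ^ i') := by group
      _ = (b : G) * ((s : G) ^ i' * t) := by rw [hσt]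
      _ = (b : G) * (s : G) ^ i' * t := by group
  -- Burnside's normal `p`-complement theorem and simplicity
  have hcompl := MonoidHom.ker_transferSylow_isComplement' S hN
  rcases Subgroup.Normal.eq_bot_or_eq_top
    (inferInstance : (MonoidHom.transferSylow S hN).ker.Normal) with hk | hk
  · rw [hk, Subgroup.isComplement'_bot_left] at hcompl
    apply hna
    rw [comm_iff_top]
    intro a b
    exact hSc a (by rw [hcompl]; trivial) b (by rw [hcompl]; trivial)
  · rw [hk, Subgroup.isComplement'_top_left] at hcompl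
    rw [hcompl] at hxS
    exact hx1 (Subgroup.mem_bot.1 hxS)

end Cfsg.Agent.Lib.helper79.SNG
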