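import Mathlib
import Cfsg.Agent.Lib.helper44.SUWDefs
import Cfsg.Agent.Lib.helper29.SUWFSIG

/-!
# S2335, piece PAIR (racing copy of helper79): orthogonality of the characters
`C ↦ ψ (tr (Y C))` of the group of skew-Hermitian matrices
-/

set_option autoImplicit false

namespace Cfsg.Agent.Lib.helper44.SUW

open Matrix

/-- there is `θ` with `θ + σ θ ≠ 0` -/
theorem h79_exists_tr_ne {K : Type*} [Field K] (σ : K →+* K) (hne : σ ≠ RingHom.id K) :
    ∃ θ : K, θ + σ θ ≠ 0 := by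
  by_contra hcon
  push Not at hcon
  have h1 : (1 : K) + 1 = 0 := by simpa using hcon 1
  apply hne
  ext x
  have hx := hcon x
  have h2 : x + x = 0 := by linear_combination x * h1
  have h3 : σ x = x := by linear_combination hx - h2
  simpa using h3

/-- an element of trace `1` -/
theorem h79_exists_tr_one {K : Type*} [Field K] (σ : K →+* K) (hσσ : ∀ x, σ (σ x) = x)
    (hne : σ ≠ RingHom.id K) : ∃ μ : K, μ + σ μ = 1 := by
  obtain ⟨θ, hθ⟩ := h79_exists_tr_ne σ hne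
  have hθ' : σ θ + θ ≠ 0 := by rwa [add_comm]
  refine ⟨θ / (θ + σ θ), ?_⟩
  rw [map_div₀, map_add, hσσ]
  field_simp
  ring

/-- a skew-Hermitian matrix `C` with `tr (Y C) = 1` -/
theorem h79_exists_witness {K : Type*} [Field K] (σ : K →+* K) (hσσ : ∀ x, σ (σ x) = x)
    (hne : σ ≠ RingHom.id K) {m : ℕ}
    (Y : Matrix (Fin m) (Fin m) K) (hY : Y ∈ skewH σ m) (hY0 : Y ≠ 0) :
    ∃ C ∈ skewH σ m, Matrix.trace (Y * C) = 1 := by
  classical
  by_cases hd : ∃ i, Y i i ≠ 0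
  · obtain ⟨i, hi⟩ := hd
    have hYi : σ (Y i i) = - Y i i := hY i i
    refine ⟨Matrix.single i i (Y i i)⁻¹, ?_, ?_⟩
    · intro a b
      rw [Matrix.single_apply, Matrix.single_apply]
      by_cases h : i = a ∧ i = b
      · rw [if_pos h, if_pos ⟨h.2, h.1⟩, map_inv₀, hYi, inv_neg]
      · rw [if_neg h, if_neg (fun h' => h ⟨h'.2, h'.1⟩), map_zero, neg_zero]
    · rw [Matrix.trace_mul_single]
      simp [hi]
  · push Not at hd
    obtain ⟨i, j, hij⟩ : ∃ i j, Y i j ≠ 0 := by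
      by_contra h
      push Not at h
      exact hY0 (by ext a b; simpa using h a b)
    have hne_ij : i ≠ j := fun h => hij (h ▸ hd i)
    obtain ⟨μ, hμ⟩ := h79_exists_tr_one σ hσσ hne
    refine ⟨Matrix.single j i ((Y i j)⁻¹ * μ) - Matrix.single i j (σ ((Y i j)⁻¹ * μ)), ?_, ?_⟩
    · intro a b
      simp only [Matrix.sub_apply, map_sub, Matrix.single_apply]
      by_cases h1 : j = a ∧ i = b
      · have h2 : ¬ (i = a ∧ j = b) := fun h => hne_ij (h.1.trans h1.1.symm)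
        have h3 : ¬ (j = b ∧ i = a) := fun h => hne_ij (h.2.trans h1.1.symm)
        have h4 : i = b ∧ j = a := ⟨h1.2, h1.1⟩
        rw [if_pos h1, if_neg h2, if_neg h3, if_pos h4]
        simp
      · by_cases h2 : i = a ∧ j = b
        · have h3 : j = b ∧ i = a := ⟨h2.2, h2.1⟩
          have h4 : ¬ (i = b ∧ j = a) := fun h => h1 ⟨h.2, h.1⟩
          rw [if_neg h1, if_pos h2, if_pos h3, if_neg h4]
          simp [hσσ]
        · have h3 : ¬ (j = b ∧ i = a) := fun h => h2 ⟨h.2, h.1⟩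
          have h4 : ¬ (i = b ∧ j = a) := fun h => h1 ⟨h.2, h.1⟩
          rw [if_neg h1, if_neg h2, if_neg h3, if_neg h4]
          simp
    · rw [Matrix.mul_sub, Matrix.trace_sub, Matrix.trace_mul_single, Matrix.trace_mul_single]
      have hji : Y j i = - σ (Y i j) := by
        have h := hY i j
        rw [h]; ring
      have hs : σ (Y i j) ≠ 0 := (map_ne_zero σ).2 hij
      simp only [MulOpposite.smul_eq_mul_unop, MulOpposite.unop_op]
      rw [hji, map_mul, map_inv₀]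
      field_simp
      linear_combination hμ

/-- PAIR (racing copy). -/
theorem h79_pair_orth {K : Type*} [Field K] [Fintype K] {q m : ℕ} (hK : Fintype.card K = q ^ 2)
    (σ : K →+* K) (hσ : ∀ x, σ x = x ^ q) (ψ : AddChar K ℂ) (hψ : ψ 1 ≠ 1)
    [Fintype ↥(skewH σ m)] (Y : Matrix (Fin m) (Fin m) K) (hY : Y ∈ skewH σ m) (hY0 : Y ≠ 0) :
    ∑ C : ↥(skewH σ m), ψ (Matrix.trace (Y * C.1)) = 0 := by
  obtain ⟨hσσ, hne⟩ := sigma_facts hK σ hσ
  obtain ⟨C₂, hC₂, htr⟩ := h79_exists_witness σ hσσ hne Y hY hY0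
  have hshift : ∑ C : ↥(skewH σ m), ψ (Matrix.trace (Y * C.1)) =
      ψ 1 * ∑ C : ↥(skewH σ m), ψ (Matrix.trace (Y * C.1)) := by
    rw [Finset.mul_sum]
    rw [← Equiv.sum_comp (Equiv.addLeft (⟨C₂, hC₂⟩ : ↥(skewH σ m)))]
    refine Finset.sum_congr rfl fun C _ => ?_
    rw [Equiv.coe_addLeft, AddSubgroup.coe_add, Matrix.mul_add, Matrix.trace_add,
      AddChar.map_add_eq_mul, htr]
  have h1 : (1 - ψ 1) * ∑ C : ↥(skewH σ m), ψ (Matrix.trace (Y * C.1)) = 0 := by
    rw [sub_mul, one_mul, ← hshift, sub_self]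
  rcases mul_eq_zero.1 h1 with h | h
  · exact absurd (sub_eq_zero.1 h).symm hψ
  · exact h

end Cfsg.Agent.Lib.helper44.SUW
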