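import Mathlib
import Cfsg.Agent.Lib.helper24.SfoDefs

/-!
# S5981, piece BINCNT (racing copy of helper79): number of solutions of `a x² + b y² = t`

Uniform proof with `e = χ(a) χ(b) χ(-1)` (`χ` the quadratic character), via
`quadraticChar_card_sqrts` and `jacobiSum_nontrivial_inv`.
-/

set_option autoImplicit false
set_option linter.unusedSectionVars false

namespace Cfsg.Agent.Lib.helper24

open Finset

section
variable {F : Type*} [Field F] [Fintype F] [DecidableEq F]

theorem h79_ringChar_ne_two (h2 : (2 : F) ≠ 0) : ringChar F ≠ 2 := by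
  intro h
  have := ringChar.of_eq h
  exact h2 (by exact_mod_cast CharP.cast_eq_zero F 2)

theorem h79_card_sqrt (hF : ringChar F ≠ 2) (c : F) :
    ((univ.filter (fun x : F => x ^ 2 = c)).card : ℤ) = quadraticChar F c + 1 := by
  rw [← quadraticChar_card_sqrts hF c]
  congr 2
  ext x
  simp

/-- sum over the fibres of the squaring map -/
theorem h79_sum_sq (hF : ringChar F ≠ 2) (f : F → ℤ) :
    ∑ y : F, f (y ^ 2) = ∑ w : F, f w * (quadraticChar F w + 1) := by
  rw [← Finset.sum_fiberwise univ (fun y : F => y ^ 2) (fun y => f (y ^ 2))]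
  refine Finset.sum_congr rfl fun w _ => ?_
  have h : ∀ y ∈ univ.filter (fun y : F => y ^ 2 = w), f (y ^ 2) = f w := by
    intro y hy
    rw [(Finset.mem_filter.1 hy).2]
  rw [Finset.sum_congr rfl h, Finset.sum_const, nsmul_eq_mul, h79_card_sqrt hF w, mul_comm]

theorem h79_qc_div (c : F) {a : F} (ha : a ≠ 0) :
    quadraticChar F (c / a) = quadraticChar F c * quadraticChar F a := by
  have h : c / a = c * a * (a⁻¹) ^ 2 := by field_simp
  rw [h, map_mul, map_mul, quadraticChar_sq_one' (inv_ne_zero ha), mul_one]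

/-- The count as a character sum. -/
theorem h79_count_eq (hF : ringChar F ≠ 2) (a b t : F) (ha : a ≠ 0) :
    ((univ.filter (fun p : F × F => a * p.1 ^ 2 + b * p.2 ^ 2 = t)).card : ℤ) =
      (Fintype.card F : ℤ) + quadraticChar F a *
        ∑ w : F, quadraticChar F (t - b * w) * (quadraticChar F w + 1) := by
  have h1 : ((univ.filter (fun p : F × F => a * p.1 ^ 2 + b * p.2 ^ 2 = t)).card : ℤ) =
      ∑ y : F, ((univ.filter (fun x : F => x ^ 2 = (t - b * y ^ 2) / a)).card : ℤ) := by
    rw [Finset.card_filter]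
    push_cast
    rw [Fintype.sum_prod_type_right]
    refine Finset.sum_congr rfl fun y _ => ?_
    rw [Finset.card_filter]
    push_cast
    refine Finset.sum_congr rfl fun x _ => ?_
    have hiff : (a * x ^ 2 + b * y ^ 2 = t) ↔ (x ^ 2 = (t - b * y ^ 2) / a) := by
      rw [eq_div_iff ha]
      constructor <;> intro h <;> linear_combination h
    simp only [hiff]
  rw [h1]
  simp_rw [h79_card_sqrt hF, h79_qc_div _ ha]
  rw [Finset.sum_add_distrib, Finset.sum_const, Finset.card_univ, nsmul_eq_mul, mul_one,
    ← Finset.sum_mul, add_comm, mul_comm]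
  congr 2
  exact h79_sum_sq hF (fun w => quadraticChar F (t - b * w))

theorem h79_sum_shift (hF : ringChar F ≠ 2) (b t : F) (hb : b ≠ 0) :
    ∑ w : F, quadraticChar F (t - b * w) = 0 := by
  rw [← quadraticChar_sum_zero hF]
  exact Equiv.sum_comp ((Equiv.mulLeft₀ b hb).trans (Equiv.subLeft t)) (fun u => quadraticChar F u)

theorem h79_sum_jac (hF : ringChar F ≠ 2) (b t : F) (hb : b ≠ 0) (ht : t ≠ 0) :
    ∑ w : F, quadraticChar F (t - b * w) * quadraticChar F w =
      - (quadraticChar F b * quadraticChar F (-1)) := by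
  have hJ : jacobiSum (quadraticChar F) (quadraticChar F) = - quadraticChar F (-1) := by
    have h := jacobiSum_nontrivial_inv (quadraticChar_ne_one hF)
    rwa [(quadraticChar_isQuadratic F).inv] at h
  have htb : t / b ≠ 0 := div_ne_zero ht hb
  rw [← Equiv.sum_comp (Equiv.mulLeft₀ (t / b) htb)]
  have hz : ∀ z : F, quadraticChar F (t - b * ((Equiv.mulLeft₀ (t / b) htb) z)) *
      quadraticChar F ((Equiv.mulLeft₀ (t / b) htb) z) =
      quadraticChar F b * (quadraticChar F z * quadraticChar F (1 - z)) := by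
    intro z
    have e2 : (Equiv.mulLeft₀ (t / b) htb) z = t / b * z := rfl
    have e1 : t - b * (t / b * z) = t * (1 - z) := by
      field_simp
    rw [e2, e1, map_mul, map_mul, h79_qc_div t hb]
    have hsq := quadraticChar_sq_one ht
    linear_combination (quadraticChar F b * quadraticChar F z * quadraticChar F (1 - z)) * hsq
  simp_rw [hz]
  rw [← Finset.mul_sum]
  have hjs : ∑ z : F, quadraticChar F z * quadraticChar F (1 - z) =
      jacobiSum (quadraticChar F) (quadraticChar F) := rfl
  rw [hjs, hJ]
  ring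

theorem h79_sum_zero_case (b : F) :
    ∑ w : F, quadraticChar F (0 - b * w) * quadraticChar F w =
      quadraticChar F b * quadraticChar F (-1) * ((Fintype.card F : ℤ) - 1) := by
  have h : ∀ w : F, quadraticChar F (0 - b * w) * quadraticChar F w =
      quadraticChar F b * quadraticChar F (-1) * (if w = 0 then 0 else 1) := by
    intro w
    have e : 0 - b * w = b * (-1) * w := by ring
    rw [e, map_mul, map_mul]
    by_cases hw : w = 0
    · simp [hw]
    · rw [if_neg hw]
      have hsq := quadraticChar_sq_one hw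
      linear_combination (quadraticChar F b * quadraticChar F (-1)) * hsq
  simp_rw [h]
  rw [← Finset.mul_sum]
  congr 1
  rw [Finset.sum_ite, Finset.sum_const_zero, zero_add, Finset.sum_const, nsmul_eq_mul, mul_one]
  have hc : (univ.filter (fun w : F => ¬ w = 0)).card = Fintype.card F - 1 := by
    rw [Finset.filter_ne', Finset.card_erase_of_mem (Finset.mem_univ _), Finset.card_univ]
  rw [hc, Nat.cast_sub Fintype.card_pos, Nat.cast_one]

/-- BINCNT (racing copy). -/
theorem h79_sfo_bin_count {F : Type*} [Field F] [Fintype F] [DecidableEq F] (h2 : (2 : F) ≠ 0)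
    (a b : F) (ha : a ≠ 0) (hb : b ≠ 0) :
    ∃ e : ℤ, (e = 1 ∨ e = -1) ∧
      (∀ t : F, t ≠ 0 →
        ((Finset.univ.filter (fun p : F × F => a * p.1 ^ 2 + b * p.2 ^ 2 = t)).card : ℤ) =
          (Fintype.card F : ℤ) - e) ∧
      ((Finset.univ.filter (fun p : F × F => a * p.1 ^ 2 + b * p.2 ^ 2 = 0)).card : ℤ) =
        (Fintype.card F : ℤ) + ((Fintype.card F : ℤ) - 1) * e := by
  have hF := h79_ringChar_ne_two h2
  refine ⟨quadraticChar F a * quadraticChar F b * quadraticChar F (-1), ?_, ?_, ?_⟩
  · have h1 := quadraticChar_dichotomy ha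
    have h3 := quadraticChar_dichotomy hb
    have h4 := quadraticChar_dichotomy (neg_ne_zero.2 (one_ne_zero (α := F)))
    rcases h1 with h1 | h1 <;> rcases h3 with h3 | h3 <;> rcases h4 with h4 | h4 <;>
      simp [h1, h3, h4]
  · intro t ht
    rw [h79_count_eq hF a b t ha]
    simp_rw [mul_add, mul_one]
    rw [Finset.sum_add_distrib, h79_sum_jac hF b t hb ht, h79_sum_shift hF b t hb]
    ring
  · rw [h79_count_eq hF a b 0 ha]
    simp_rw [mul_add, mul_one]
    rw [Finset.sum_add_distrib, h79_sum_zero_case b, h79_sum_shift hF b 0 hb]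
    ring

end

end Cfsg.Agent.Lib.helper24
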