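import Mathlib
import Cfsg.Agent.Lib.helper79.SubsectionHt
import Cfsg.Agent.Lib.helper79.SubsectionGalois
import Cfsg.Agent.Lib.helper79.CycloLocal

/-!
# Major subsections: heights and contributions

For a major subsection `(z, b)` of the block `B` (so `b^G = B` and `b`, `B` have the same defect
`d`), a character `χ ∈ B` and a character `ψ₀ ∈ B` of height zero, the contribution
`p ^ d * gram χ ψ₀` is `p ^ h(χ)` times a local unit (`exists_unit_gram_of_major`).  In particular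
the generalized decomposition map does not vanish on any `χ ∈ B`.
-/

set_option autoImplicit false
set_option linter.unusedSectionVars false

namespace Cfsg.Agent.Lib.helper79

open Cfsg
open scoped ComplexConjugate

universe u

section Major2

variable {G : Type u} [Group G] [Fintype G] {p : ℕ} [Fact p.Prime] {M : Ideal AlgInt}

/-- For `ψ ∈ B`, `|G| / ψ(1) * p ^ h(ψ)` is `p ^ d(B)` times a local unit. -/
theorem exists_unit_card_div_degree_height (hM : IsPModular p M) {B : Set (IrrCharacter G)}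
    (hB : IsPBlock M B) {ψ : IrrCharacter G} (hψ : ψ ∈ B) :
    ∃ u v : ℂ, MemLocalRing M u ∧ MemLocalRing M v ∧ v * u = 1 ∧
      (Nat.card G : ℂ) / (ψ : G → ℂ) 1 * (p : ℂ) ^ blockHeight p B (ψ : G → ℂ) =
        (p ^ blockDefect p B : ℂ) * u := by
  have hp : p.Prime := Fact.out
  have hpc : (p : ℂ) ≠ 0 := Nat.cast_ne_zero.mpr hp.ne_zero
  have hk0 : charDegree (ψ : G → ℂ) ≠ 0 := (helper82.irr_charDegree_pos ψ).ne'
  have hGm : ¬ p ∣ Nat.card G / p ^ (Nat.card G).factorization p :=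
    Nat.not_dvd_ordCompl hp Nat.card_pos.ne'
  have hkm : ¬ p ∣ charDegree (ψ : G → ℂ) / p ^ (charDegree (ψ : G → ℂ)).factorization p :=
    Nat.not_dvd_ordCompl hp hk0
  have hn0 : ((Nat.card G / p ^ (Nat.card G).factorization p : ℕ) : ℂ) ≠ 0 := by
    apply Nat.cast_ne_zero.mpr
    intro h
    exact hGm (h ▸ dvd_zero p)
  have hx0 : ((charDegree (ψ : G → ℂ) / p ^ (charDegree (ψ : G → ℂ)).factorization p : ℕ) : ℂ)
      ≠ 0 := by
    apply Nat.cast_ne_zero.mpr
    intro h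
    exact hkm (h ▸ dvd_zero p)
  refine ⟨((Nat.card G / p ^ (Nat.card G).factorization p : ℕ) : ℂ) /
      ((charDegree (ψ : G → ℂ) / p ^ (charDegree (ψ : G → ℂ)).factorization p : ℕ) : ℂ),
    ((charDegree (ψ : G → ℂ) / p ^ (charDegree (ψ : G → ℂ)).factorization p : ℕ) : ℂ) /
      ((Nat.card G / p ^ (Nat.card G).factorization p : ℕ) : ℂ), ?_, ?_, ?_, ?_⟩
  · exact ⟨((Nat.card G / p ^ (Nat.card G).factorization p : ℕ) : AlgInt),
      ((charDegree (ψ : G → ℂ) / p ^ (charDegree (ψ : G → ℂ)).factorization p : ℕ) : AlgInt),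
      isPModular_natCast_not_mem hM hkm, by push_cast; rfl⟩
  · exact ⟨((charDegree (ψ : G → ℂ) / p ^ (charDegree (ψ : G → ℂ)).factorization p : ℕ) : AlgInt),
      ((Nat.card G / p ^ (Nat.card G).factorization p : ℕ) : AlgInt),
      isPModular_natCast_not_mem hM hGm, by push_cast; rfl⟩
  · field_simp
  · have harith := factorization_add_defect (p := p) hψ
    have hG : (p : ℂ) ^ (Nat.card G).factorization p *
        ((Nat.card G / p ^ (Nat.card G).factorization p : ℕ) : ℂ) = (Nat.card G : ℂ) := by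
      exact_mod_cast Nat.ordProj_mul_ordCompl_eq_self (Nat.card G) p
    have hk : (p : ℂ) ^ (charDegree (ψ : G → ℂ)).factorization p *
        ((charDegree (ψ : G → ℂ) / p ^ (charDegree (ψ : G → ℂ)).factorization p : ℕ) : ℂ) =
        (charDegree (ψ : G → ℂ) : ℂ) := by
      exact_mod_cast Nat.ordProj_mul_ordCompl_eq_self (charDegree (ψ : G → ℂ)) p
    have hpow : (p : ℂ) ^ (Nat.card G).factorization p * (p : ℂ) ^ blockHeight p B (ψ : G → ℂ) =
        (p : ℂ) ^ blockDefect p B * (p : ℂ) ^ (charDegree (ψ : G → ℂ)).factorization p := by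
      rw [← pow_add, ← pow_add, ← harith, add_comm]
    rw [helper82.irr_one_eq, ← hG, ← hk]
    have h1 : (p : ℂ) ^ (charDegree (ψ : G → ℂ)).factorization p ≠ 0 := pow_ne_zero _ hpc
    field_simp
    linear_combination hpow

/-- The contributions `p ^ d(b) * gram χ ψ` are algebraic integers. -/
theorem isIntegral_pow_defect_mul_gram (hM : IsPModular p M) (H : Subgroup G) [Fintype H]
    {b : Set (IrrCharacter H)} (hb : IsPBlock M b) (z : G) (hzH : z ∈ H)
    (hzc : ∀ h : H, h * (⟨z, hzH⟩ : H) = ⟨z, hzH⟩ * h) (χ ψ : IrrCharacter G) :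
    IsIntegral ℤ ((p ^ blockDefect p b : ℂ) * gram p H b z (χ : G → ℂ) (ψ : G → ℂ)) := by
  have hN : 0 < orderOf z := orderOf_pos z
  have hζ : IsPrimitiveRoot (Complex.exp (2 * Real.pi * Complex.I / (orderOf z : ℂ))) (orderOf z) :=
    Complex.isPrimitiveRoot_exp (orderOf z) hN.ne'
  obtain ⟨F, hF⟩ := exists_poly_gram hM H hb z hzH hzc (orderOf z) hN (pow_orderOf_eq_one z) _ hζ
    χ ψ
  have h1 := hF 1
  rw [pow_one] at h1
  rw [h1]
  exact isIntegral_aeval_pow_primitiveRoot hN hζ 1 F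

/-- **Major subsections.**  For a major subsection `(z, b)` of `B`, `χ ∈ B` and `ψ₀ ∈ B` of height
zero, the contribution `p ^ d * gram χ ψ₀` is `p ^ h(χ)` times a local unit. -/
theorem exists_unit_gram_of_major (hM : IsPModular p M) (H : Subgroup G) [Fintype H]
    {b : Set (IrrCharacter H)} {B : Set (IrrCharacter G)}
    (hB : IsPBlock M B) (hind : IsInducedBlock M H b B) (z : G)
    (hH : ∀ g : G, g ∈ H ↔ g * z = z * g) (hz : ∃ k : ℕ, orderOf z = p ^ k)
    (hdd : blockDefect p b = blockDefect p B) {χ ψ₀ : IrrCharacter G} (hχ : χ ∈ B)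
    (hψ₀ : ψ₀ ∈ B) (h0 : blockHeight p B (ψ₀ : G → ℂ) = 0) :
    ∃ r : ℂ, MemLocalRing M r ∧ ¬ MemLocalIdeal M r ∧
      (p ^ blockDefect p b : ℂ) * gram p H b z (χ : G → ℂ) (ψ₀ : G → ℂ) =
        (p : ℂ) ^ blockHeight p B (χ : G → ℂ) * r := by
  have hp : p.Prime := Fact.out
  have hprime : M.IsPrime := isPModular_isPrime hM
  have hpc : (p : ℂ) ≠ 0 := Nat.cast_ne_zero.mpr hp.ne_zero
  have hb : IsPBlock M b := hind.1
  obtain ⟨hzH, hzc⟩ := central_of_centralizer H z hH
  obtain ⟨u, v, hu, hv, hvu, e⟩ := exists_unit_card_div_degree_height hM hB hχ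
  obtain ⟨u₀, v₀, hu₀, hv₀, hvu₀, e₀⟩ := exists_unit_card_div_degree hM hB hψ₀ h0
  have hcol := memLocalIdeal_gram_col (p := p) hM H hb z hH ψ₀
    (helper81.sameBlock_of_mem hprime hB hχ hψ₀)
  have hg₀ := gram_not_memLocalIdeal_of_heights_zero hM H hind z hH hz hψ₀ h0 hψ₀ h0
  have hg₀R : MemLocalRing M ((p ^ blockDefect p b : ℂ) *
      gram p H b z (ψ₀ : G → ℂ) (ψ₀ : G → ℂ)) :=
    memLocalRing_of_isIntegral hprime (isIntegral_pow_defect_mul_gram hM H hb z hzH hzc ψ₀ ψ₀)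
  set g₀ := (p ^ blockDefect p b : ℂ) * gram p H b z (ψ₀ : G → ℂ) (ψ₀ : G → ℂ) with hg₀def
  set g := (p ^ blockDefect p b : ℂ) * gram p H b z (χ : G → ℂ) (ψ₀ : G → ℂ) with hgdef
  have hph : (p : ℂ) ^ blockHeight p B (χ : G → ℂ) ≠ 0 := pow_ne_zero _ hpc
  have e' : (Nat.card G : ℂ) / (χ : G → ℂ) 1 =
      (p ^ blockDefect p B : ℂ) * u / (p : ℂ) ^ blockHeight p B (χ : G → ℂ) := by
    rw [← e, mul_div_cancel_right₀ _ hph]
  have h1 : (Nat.card G : ℂ) * gram p H b z (χ : G → ℂ) (ψ₀ : G → ℂ) / (χ : G → ℂ) 1 -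
      (Nat.card G : ℂ) * gram p H b z (ψ₀ : G → ℂ) (ψ₀ : G → ℂ) / (ψ₀ : G → ℂ) 1 =
      u * g / (p : ℂ) ^ blockHeight p B (χ : G → ℂ) - u₀ * g₀ := by
    rw [mul_div_right_comm, mul_div_right_comm _ _ ((ψ₀ : G → ℂ) 1), e', e₀, hgdef, hg₀def, hdd]
    ring
  rw [h1] at hcol
  have hu₀g₀ : MemLocalRing M (u₀ * g₀) := helper20.memLocalRing_mul hprime hu₀ hg₀R
  have hr'R : MemLocalRing M (u * g / (p : ℂ) ^ blockHeight p B (χ : G → ℂ)) := by
    have := helper20.memLocalRing_add hprime (helper20.memLocalRing_of_memLocalIdeal hcol) hu₀g₀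
    rwa [sub_add_cancel] at this
  have hr'J : ¬ MemLocalIdeal M (u * g / (p : ℂ) ^ blockHeight p B (χ : G → ℂ)) := by
    intro hJ
    have h2 := helper20.memLocalIdeal_sub hprime hJ hcol
    rw [sub_sub_cancel] at h2
    have h3 := helper20.memLocalIdeal_mul_left hprime hv₀ h2
    rw [← mul_assoc, hvu₀, one_mul] at h3
    exact hg₀ h3
  refine ⟨v * (u * g / (p : ℂ) ^ blockHeight p B (χ : G → ℂ)),
    helper20.memLocalRing_mul hprime hv hr'R, ?_, ?_⟩
  · intro hJ
    have h3 := helper20.memLocalIdeal_mul_left hprime hu hJ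
    rw [← mul_assoc, mul_comm u v, hvu, one_mul] at h3
    exact hr'J h3
  · rw [← mul_assoc, mul_comm _ v, mul_assoc, mul_div_cancel₀ _ hph, ← mul_assoc, hvu, one_mul]

/-- For a major subsection, the generalized decomposition map does not vanish on the characters
of `B`. -/
theorem gdm_ne_zero_of_major (hM : IsPModular p M) (H : Subgroup G) [Fintype H]
    {b : Set (IrrCharacter H)} {B : Set (IrrCharacter G)}
    (hB : IsPBlock M B) (hind : IsInducedBlock M H b B) (z : G)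
    (hH : ∀ g : G, g ∈ H ↔ g * z = z * g) (hz : ∃ k : ℕ, orderOf z = p ^ k)
    (hdd : blockDefect p b = blockDefect p B) {χ : IrrCharacter G} (hχ : χ ∈ B) :
    gdm p H b z (χ : G → ℂ) ≠ 0 := by
  have hp : p.Prime := Fact.out
  have hprime : M.IsPrime := isPModular_isPrime hM
  have hpc : (p : ℂ) ≠ 0 := Nat.cast_ne_zero.mpr hp.ne_zero
  obtain ⟨ψ₀, hψ₀, h0⟩ := exists_height_zero (p := p) hM hB
  obtain ⟨r, -, hrJ, hr⟩ := exists_unit_gram_of_major hM H hB hind z hH hz hdd hχ hψ₀ h0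
  intro hzero
  apply hrJ
  have h1 : gram p H b z (χ : G → ℂ) (ψ₀ : G → ℂ) = 0 := by
    unfold gram
    rw [hzero]
    simp
  rw [h1, mul_zero] at hr
  have h2 : r = 0 := by
    rcases mul_eq_zero.mp hr.symm with h | h
    · exact absurd h (pow_ne_zero _ hpc)
    · exact h
  rw [h2]
  exact helper20.memLocalIdeal_zero hprime

end Major2

end Cfsg.Agent.Lib.helper79
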