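import Mathlib
import Cfsg.Agent.Lib.helper79.SubsectionMajor2
import Cfsg.Agent.Lib.helper79.RegLattice

/-!
# Subsections whose block has at most two irreducible Brauer characters

* `regLat p b`: the lattice generated by the `p`-regular parts of the members of `b`; the form
  `p ^ d(b) * ip` is integral on it (`regLat_integral`) and has rank one modulo `p`
  (`prime_dvd_disc`);
* `exists_coord_poly`: coordinates of the generalized decomposition map with respect to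
  generators of the lattice, as values of integer polynomials at roots of unity;
* `coord_sums_one`, `coord_sums_two`: the orthogonality relations in coordinates.
-/

set_option autoImplicit false
set_option linter.unusedSectionVars false
set_option linter.unusedSimpArgs false

namespace Cfsg.Agent.Lib.helper79

open Cfsg
open scoped ComplexConjugate

universe u

section RegLat

variable {K : Type u} [Group K] [Fintype K] {p : ℕ} [Fact p.Prime] {M : Ideal AlgInt}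

/-- The lattice generated by the `p`-regular parts of the members of `b`. -/
noncomputable def regLat (p : ℕ) (b : Set (IrrCharacter K)) : AddSubgroup (K → ℂ) :=
  AddSubgroup.closure ((fun θ : IrrCharacter K => pRegularPart p (θ : K → ℂ)) '' b)

theorem pRegularPart_mem_regLat (p : ℕ) {b : Set (IrrCharacter K)} {θ : IrrCharacter K}
    (hθ : θ ∈ b) : pRegularPart p (θ : K → ℂ) ∈ regLat p b :=
  AddSubgroup.subset_closure ⟨θ, hθ, rfl⟩

theorem span_regLat (p : ℕ) (b : Set (IrrCharacter K)) :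
    Submodule.span ℂ (regLat p b : Set (K → ℂ)) = helper78.regSpan p b := by
  apply le_antisymm
  · rw [Submodule.span_le]
    have : regLat p b ≤ (helper78.regSpan p b).toAddSubgroup := by
      unfold regLat
      rw [AddSubgroup.closure_le]
      exact Submodule.subset_span
    exact this
  · unfold helper78.regSpan
    apply Submodule.span_mono
    exact AddSubgroup.subset_closure

theorem mem_regSpan_of_mem_regLat (p : ℕ) {b : Set (IrrCharacter K)} {v : K → ℂ}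
    (hv : v ∈ regLat p b) : v ∈ helper78.regSpan p b := by
  rw [← span_regLat]
  exact Submodule.subset_span hv

theorem ip_pRegularPart (hM : IsPModular p M) {b : Set (IrrCharacter K)} (hb : IsPBlock M b)
    {θ : IrrCharacter K} (hθ : θ ∈ b) (θ' : IrrCharacter K) :
    (p ^ blockDefect p b : ℂ) * ip (pRegularPart p (θ : K → ℂ)) (pRegularPart p (θ' : K → ℂ)) =
      (contrib p b θ θ' : ℂ) := by
  have hK0 : (Nat.card K : ℂ) ≠ 0 := Nat.cast_ne_zero.mpr Nat.card_pos.ne'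
  have h := contrib_spec hM hb hθ θ'
  have h1 : ∑ s : K, pRegularPart p (θ : K → ℂ) s * conj (pRegularPart p (θ' : K → ℂ) s) =
      regInner p (θ : K → ℂ) (θ' : K → ℂ) := by
    unfold regInner
    apply Finset.sum_congr rfl
    intro s _
    by_cases hs : p ∣ orderOf s
    · rw [helper78.pRegularPart_apply_of_sing p _ hs, zero_mul, zero_mul]
    · rw [helper78.pRegularPart_apply_of_reg p _ hs, helper78.pRegularPart_apply_of_reg p _ hs]
  unfold ip
  rw [h1]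
  field_simp
  linear_combination -h

/-- The form `p ^ d(b) * ip` is integral on the lattice. -/
theorem regLat_integral (hM : IsPModular p M) {b : Set (IrrCharacter K)} (hb : IsPBlock M b) :
    ∀ v ∈ regLat p b, ∀ w ∈ regLat p b,
      ∃ m : ℤ, ((p ^ blockDefect p b : ℕ) : ℂ) * ip v w = m := by
  intro v hv w hw
  unfold regLat at hv hw
  refine AddSubgroup.closure_induction₂
    (p := fun v w _ _ => ∃ m : ℤ, ((p ^ blockDefect p b : ℕ) : ℂ) * ip v w = m)
    ?_ ?_ ?_ ?_ ?_ ?_ ?_ hv hw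
  · rintro _ _ ⟨θ, hθ, rfl⟩ ⟨θ', hθ', rfl⟩
    exact ⟨contrib p b θ θ', by rw [Nat.cast_pow]; exact ip_pRegularPart hM hb hθ θ'⟩
  · intro x _
    exact ⟨0, by rw [ip_zero_left]; simp⟩
  · intro x _
    exact ⟨0, by rw [ip_zero_right]; simp⟩
  · rintro x y z _ _ _ ⟨m, hm⟩ ⟨n, hn⟩
    exact ⟨m + n, by rw [ip_add_left, mul_add, hm, hn]; push_cast; rfl⟩
  · rintro y z x _ _ _ ⟨m, hm⟩ ⟨n, hn⟩
    exact ⟨m + n, by rw [ip_add_right, mul_add, hm, hn]; push_cast; rfl⟩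
  · rintro x y _ _ ⟨m, hm⟩
    exact ⟨-m, by rw [ip_neg_left, mul_neg, hm]; push_cast; rfl⟩
  · rintro x y _ _ ⟨m, hm⟩
    exact ⟨-m, by rw [ip_neg_right, mul_neg, hm]; push_cast; rfl⟩

/-- Values at `1` of lattice vectors. -/
theorem regLat_apply_one (hM : IsPModular p M) {b : Set (IrrCharacter K)} (hb : IsPBlock M b) :
    ∀ v ∈ regLat p b, ∃ n : ℤ,
      v 1 = (p : ℂ) ^ ((Nat.card K).factorization p - blockDefect p b) * n := by
  intro v hv
  unfold regLat at hv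
  refine AddSubgroup.closure_induction
    (p := fun v _ => ∃ n : ℤ,
      v 1 = (p : ℂ) ^ ((Nat.card K).factorization p - blockDefect p b) * n) ?_ ?_ ?_ ?_ hv
  · rintro _ ⟨θ, hθ, rfl⟩
    refine ⟨(htDeg p b θ : ℤ), ?_⟩
    beta_reduce
    rw [pRegularPart_one (p := p) θ, (charDegree_eq_pow_mul_htDeg hM hb).2 θ hθ]
    push_cast
    rfl
  · exact ⟨0, by simp⟩
  · rintro x y _ _ ⟨m, hm⟩ ⟨n, hn⟩
    exact ⟨m + n, by rw [Pi.add_apply, hm, hn]; push_cast; ring⟩
  · rintro x _ ⟨m, hm⟩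
    exact ⟨-m, by rw [Pi.neg_apply, hm]; push_cast; ring⟩

/-- The form `p ^ d(b) * ip` has rank one on the lattice modulo the local ideal. -/
theorem regLat_rank_one (hM : IsPModular p M) {b : Set (IrrCharacter K)} (hb : IsPBlock M b)
    {θ₀ : IrrCharacter K} (hθ₀ : θ₀ ∈ b) :
    ∀ v ∈ regLat p b, ∀ w ∈ regLat p b, ∃ n n' : ℤ,
      v 1 = (p : ℂ) ^ ((Nat.card K).factorization p - blockDefect p b) * n ∧
      w 1 = (p : ℂ) ^ ((Nat.card K).factorization p - blockDefect p b) * n' ∧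
      MemLocalIdeal M ((htDeg p b θ₀ : ℂ) *
          ((Nat.card K / p ^ (Nat.card K).factorization p : ℕ) : ℂ) *
            ((p ^ blockDefect p b : ℂ) * ip v w) -
        (n : ℂ) * (n' : ℂ) * cc p (θ₀ : K → ℂ) (θ₀ : K → ℂ)) := by
  have hp : p.Prime := Fact.out
  have hprime : M.IsPrime := isPModular_isPrime hM
  have hpc : (p : ℂ) ^ ((Nat.card K).factorization p - blockDefect p b) ≠ 0 :=
    pow_ne_zero _ (Nat.cast_ne_zero.mpr hp.ne_zero)
  have hcancel : ∀ m n : ℤ,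
      (p : ℂ) ^ ((Nat.card K).factorization p - blockDefect p b) * m =
        (p : ℂ) ^ ((Nat.card K).factorization p - blockDefect p b) * n → m = n := by
    intro m n h
    have := mul_left_cancel₀ hpc h
    exact_mod_cast this
  intro v hv w hw
  have hv' := hv
  have hw' := hw
  unfold regLat at hv hw
  refine AddSubgroup.closure_induction₂
    (p := fun v w _ _ => ∃ n n' : ℤ,
      v 1 = (p : ℂ) ^ ((Nat.card K).factorization p - blockDefect p b) * n ∧
      w 1 = (p : ℂ) ^ ((Nat.card K).factorization p - blockDefect p b) * n' ∧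
      MemLocalIdeal M ((htDeg p b θ₀ : ℂ) *
          ((Nat.card K / p ^ (Nat.card K).factorization p : ℕ) : ℂ) *
            ((p ^ blockDefect p b : ℂ) * ip v w) -
        (n : ℂ) * (n' : ℂ) * cc p (θ₀ : K → ℂ) (θ₀ : K → ℂ)))
    ?_ ?_ ?_ ?_ ?_ ?_ ?_ hv hw
  · rintro _ _ ⟨θ, hθ, rfl⟩ ⟨θ', hθ', rfl⟩
    refine ⟨(htDeg p b θ : ℤ), (htDeg p b θ' : ℤ), ?_, ?_, ?_⟩
    · beta_reduce
      rw [pRegularPart_one (p := p) θ, (charDegree_eq_pow_mul_htDeg hM hb).2 θ hθ]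
      push_cast
      rfl
    · beta_reduce
      rw [pRegularPart_one (p := p) θ', (charDegree_eq_pow_mul_htDeg hM hb).2 θ' hθ']
      push_cast
      rfl
    · beta_reduce
      rw [ip_pRegularPart hM hb hθ θ']
      have := memLocalIdeal_contrib_sub hM hb hθ hθ' hθ₀
      simpa using this
  · intro x hx
    obtain ⟨n', hn'⟩ := regLat_apply_one hM hb x hx
    refine ⟨0, n', by simp, hn', ?_⟩
    rw [ip_zero_left]
    simp only [Int.cast_zero, zero_mul, mul_zero, sub_zero]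
    exact helper20.memLocalIdeal_zero hprime
  · intro x hx
    obtain ⟨n, hn⟩ := regLat_apply_one hM hb x hx
    refine ⟨n, 0, hn, by simp, ?_⟩
    rw [ip_zero_right]
    simp only [Int.cast_zero, zero_mul, mul_zero, sub_zero]
    exact helper20.memLocalIdeal_zero hprime
  · rintro x y z _ _ _ ⟨n₁, n', h1, h2, h3⟩ ⟨n₂, n'', h4, h5, h6⟩
    have hnn : n'' = n' := hcancel _ _ (by rw [← h5, ← h2])
    rw [hnn] at h6
    refine ⟨n₁ + n₂, n', by rw [Pi.add_apply, h1, h4]; push_cast; ring, h2, ?_⟩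
    have := helper20.memLocalIdeal_add hprime h3 h6
    rw [ip_add_left]
    convert this using 1
    push_cast
    ring
  · rintro y z x _ _ _ ⟨n, n₁, h1, h2, h3⟩ ⟨n', n₂, h4, h5, h6⟩
    have hnn : n' = n := hcancel _ _ (by rw [← h4, ← h1])
    rw [hnn] at h6
    refine ⟨n, n₁ + n₂, h1, by rw [Pi.add_apply, h2, h5]; push_cast; ring, ?_⟩
    have := helper20.memLocalIdeal_add hprime h3 h6
    rw [ip_add_right]
    convert this using 1
    push_cast
    ring
  · rintro x y _ _ ⟨n, n', h1, h2, h3⟩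
    refine ⟨-n, n', by rw [Pi.neg_apply, h1]; push_cast; ring, h2, ?_⟩
    have := helper20.memLocalIdeal_neg h3
    rw [ip_neg_left]
    convert this using 1
    push_cast
    ring
  · rintro x y _ _ ⟨n, n', h1, h2, h3⟩
    refine ⟨n, -n', h1, by rw [Pi.neg_apply, h2]; push_cast; ring, ?_⟩
    have := helper20.memLocalIdeal_neg h3
    rw [ip_neg_right]
    convert this using 1
    push_cast
    ring

/-- The discriminant of the form `p ^ d(b) * ip` on two lattice vectors is divisible by `p`. -/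
theorem prime_dvd_disc (hM : IsPModular p M) {b : Set (IrrCharacter K)} (hb : IsPBlock M b)
    {φ₁ φ₂ : K → ℂ} (h₁ : φ₁ ∈ regLat p b) (h₂ : φ₂ ∈ regLat p b) {A B C : ℤ}
    (hA : ((p ^ blockDefect p b : ℕ) : ℂ) * ip φ₁ φ₁ = A)
    (hB : ((p ^ blockDefect p b : ℕ) : ℂ) * ip φ₁ φ₂ = B)
    (hC : ((p ^ blockDefect p b : ℕ) : ℂ) * ip φ₂ φ₂ = C) :
    (p : ℤ) ∣ A * C - B * B := by
  have hp : p.Prime := Fact.out
  have hprime : M.IsPrime := isPModular_isPrime hM
  have hpc : (p : ℂ) ^ ((Nat.card K).factorization p - blockDefect p b) ≠ 0 :=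
    pow_ne_zero _ (Nat.cast_ne_zero.mpr hp.ne_zero)
  have hcancel : ∀ m n : ℤ,
      (p : ℂ) ^ ((Nat.card K).factorization p - blockDefect p b) * m =
        (p : ℂ) ^ ((Nat.card K).factorization p - blockDefect p b) * n → m = n := by
    intro m n h
    have := mul_left_cancel₀ hpc h
    exact_mod_cast this
  obtain ⟨θ₀, hθ₀, hθ₀0⟩ := exists_height_zero (p := p) hM hb
  set U : ℕ := htDeg p b θ₀ * (Nat.card K / p ^ (Nat.card K).factorization p) with hU
  have hUp : ¬ p ∣ U := by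
    rw [hU, hp.dvd_mul]
    push Not
    exact ⟨not_dvd_htDeg_of_height_zero hθ₀0, Nat.not_dvd_ordCompl hp Nat.card_pos.ne'⟩
  have hWR : MemLocalRing M (cc p (θ₀ : K → ℂ) (θ₀ : K → ℂ)) :=
    helper20.memLocalRing_of_algInt hprime ⟨_, cc_isIntegral θ₀ θ₀⟩
  set W := cc p (θ₀ : K → ℂ) (θ₀ : K → ℂ) with hW
  rw [Nat.cast_pow] at hA hB hC
  obtain ⟨n₁, n₁', e1, e1', J₁₁⟩ := regLat_rank_one hM hb hθ₀ φ₁ h₁ φ₁ h₁
  obtain ⟨n₁'', n₂, e2, e2', J₁₂⟩ := regLat_rank_one hM hb hθ₀ φ₁ h₁ φ₂ h₂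
  obtain ⟨n₂', n₂'', e3, e3', J₂₂⟩ := regLat_rank_one hM hb hθ₀ φ₂ h₂ φ₂ h₂
  have hn1 : n₁' = n₁ := hcancel _ _ (by rw [← e1, ← e1'])
  have hn2 : n₁'' = n₁ := hcancel _ _ (by rw [← e1, ← e2])
  have hn3 : n₂' = n₂ := hcancel _ _ (by rw [← e2', ← e3])
  have hn4 : n₂'' = n₂ := hcancel _ _ (by rw [← e2', ← e3'])
  rw [hn1, hA] at J₁₁
  rw [hn2, hB] at J₁₂
  rw [hn3, hn4, hC] at J₂₂
  have hUc : (htDeg p b θ₀ : ℂ) * ((Nat.card K / p ^ (Nat.card K).factorization p : ℕ) : ℂ) =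
      (U : ℂ) := by
    rw [hU]
    push_cast
    rfl
  rw [hUc] at J₁₁ J₁₂ J₂₂
  have hUR : MemLocalRing M (U : ℂ) := helper20.memLocalRing_natCast hprime U
  have hR : ∀ n : ℤ, MemLocalRing M (n : ℂ) := fun n => helper20.memLocalRing_intCast hprime n
  have key : MemLocalIdeal M (((U * U * (A * C - B * B) : ℤ)) : ℂ) := by
    have e : (((U * U * (A * C - B * B) : ℤ)) : ℂ) =
        ((U : ℂ) * A - (n₁ : ℂ) * n₁ * W) * ((U : ℂ) * C) +
        ((n₁ : ℂ) * n₁ * W) * ((U : ℂ) * C - (n₂ : ℂ) * n₂ * W) -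
        ((U : ℂ) * B - (n₁ : ℂ) * n₂ * W) * ((U : ℂ) * B + (n₁ : ℂ) * n₂ * W) := by
      push_cast
      ring
    rw [e]
    apply helper20.memLocalIdeal_sub hprime
    · apply helper20.memLocalIdeal_add hprime
      · exact helper20.memLocalIdeal_mul_right hprime J₁₁
          (helper20.memLocalRing_mul hprime hUR (hR C))
      · exact helper20.memLocalIdeal_mul_left hprime
          (helper20.memLocalRing_mul hprime (helper20.memLocalRing_mul hprime (hR n₁) (hR n₁)) hWR)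
          J₂₂
    · exact helper20.memLocalIdeal_mul_right hprime J₁₂
        (helper20.memLocalRing_add hprime (helper20.memLocalRing_mul hprime hUR (hR B))
          (helper20.memLocalRing_mul hprime
            (helper20.memLocalRing_mul hprime (hR n₁) (hR n₂)) hWR))
  have h1 := int_dvd_of_memLocalIdeal hM key
  have hpi := Nat.prime_iff_prime_int.mp hp
  rcases hpi.dvd_or_dvd h1 with h2 | h2
  · rcases hpi.dvd_or_dvd h2 with h3 | h3
    · exact absurd (by exact_mod_cast h3) hUp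
    · exact absurd (by exact_mod_cast h3) hUp
  · exact h2

end RegLat

section Coord

variable {G : Type u} [Group G] [Fintype G] {p : ℕ} [Fact p.Prime] {M : Ideal AlgInt}

open Classical in
/-- Coordinates of the generalized decomposition map at the powers of `y` with respect to two
vectors generating the lattice of `b`: values of integer polynomials at roots of unity. -/
theorem exists_coord_poly (H : Subgroup G) [Fintype H] (b : Set (IrrCharacter H)) (y : G)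
    (hyH : y ∈ H) (hyc : ∀ h : H, h * (⟨y, hyH⟩ : H) = ⟨y, hyH⟩ * h) (ζ : ℂ)
    (e : IrrCharacter H → ℕ)
    (he : ∀ θ : IrrCharacter H, ζ ^ e θ = (θ : H → ℂ) ⟨y, hyH⟩ / (θ : H → ℂ) 1)
    (φ₁ φ₂ : H → ℂ)
    (hgen : ∀ θ ∈ b, ∃ a c : ℤ, pRegularPart p (θ : H → ℂ) = (a : ℂ) • φ₁ + (c : ℂ) • φ₂) :
    ∃ Xp Yp : IrrCharacter G → Polynomial ℤ, ∀ (χ : IrrCharacter G) (j : ℕ),
      gdm p H b (y ^ j) (χ : G → ℂ) =
        Polynomial.aeval (ζ ^ j) (Xp χ) • φ₁ + Polynomial.aeval (ζ ^ j) (Yp χ) • φ₂ := by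
  have hgen' : ∀ θ : IrrCharacter H, ∃ a c : ℤ, θ ∈ b →
      pRegularPart p (θ : H → ℂ) = (a : ℂ) • φ₁ + (c : ℂ) • φ₂ := by
    intro θ
    by_cases hθ : θ ∈ b
    · obtain ⟨a, c, h⟩ := hgen θ hθ
      exact ⟨a, c, fun _ => h⟩
    · exact ⟨0, 0, fun h => absurd h hθ⟩
  choose a c hac using hgen'
  refine ⟨fun χ => ∑ θ : IrrCharacter H, if θ ∈ b then
      Polynomial.C ((resMult H χ θ : ℤ) * a θ) * Polynomial.X ^ e θ else 0,
    fun χ => ∑ θ : IrrCharacter H, if θ ∈ b then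
      Polynomial.C ((resMult H χ θ : ℤ) * c θ) * Polynomial.X ^ e θ else 0, ?_⟩
  intro χ j
  have hzH : y ^ j ∈ H := pow_mem hyH j
  have hzeq : (⟨y ^ j, hzH⟩ : H) = (⟨y, hyH⟩ : H) ^ j := Subtype.ext (by simp)
  have hzc : ∀ h : H, h * (⟨y ^ j, hzH⟩ : H) = ⟨y ^ j, hzH⟩ * h := by
    intro h
    rw [hzeq]
    exact (Commute.pow_right (show Commute h (⟨y, hyH⟩ : H) from hyc h) j).eq
  rw [gdm_eq_sum p H b (y ^ j) hzH hzc (χ : G → ℂ) (helper81.irr_classFun χ)]
  simp only [map_sum]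
  rw [Finset.sum_smul, Finset.sum_smul, ← Finset.sum_add_distrib]
  apply Finset.sum_congr rfl
  intro θ _
  by_cases hθ : θ ∈ b
  · rw [if_pos hθ, if_pos hθ, if_pos hθ, gdmCoeff_eq, hzeq, irr_central_pow θ _ hyc j, ← he θ,
      hac θ hθ]
    simp only [map_mul, map_pow, Polynomial.aeval_X, Polynomial.aeval_C, eq_intCast, Int.cast_mul,
      Int.cast_natCast, map_natCast, map_intCast]
    rw [smul_add, smul_smul, smul_smul, ← pow_mul, ← pow_mul, mul_comm (e θ) j]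
    congr 2 <;> ring
  · rw [if_neg hθ, if_neg hθ, if_neg hθ]
    simp

/-- The reproducing identity in terms of the normalized inner product. -/
theorem sum_ip_smul_gdm (hM : IsPModular p M) (H : Subgroup G) [Fintype H]
    {b : Set (IrrCharacter H)} (hb : IsPBlock M b) (z : G) (hH : ∀ g : G, g ∈ H ↔ g * z = z * g)
    (hz : ∃ k : ℕ, orderOf z = p ^ k) {w : H → ℂ} (hw : w ∈ helper78.regSpan p b) :
    ∑ χ : IrrCharacter G, ip w (gdm p H b z (χ : G → ℂ)) • gdm p H b z (χ : G → ℂ) = w := by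
  funext s
  rw [Finset.sum_apply]
  have h := sum_inner_gdm_mul hM H hb z hH hz hw s
  have hH0 := card_subgroup_ne_zero H
  simp only [Pi.smul_apply, smul_eq_mul]
  unfold ip
  simp_rw [mul_assoc]
  rw [← Finset.mul_sum, h]
  field_simp

/-- Orthogonality relations in coordinates: one generator. -/
theorem coord_sums_one (hM : IsPModular p M) (H : Subgroup G) [Fintype H]
    {b : Set (IrrCharacter H)} (hb : IsPBlock M b) (z : G) (hH : ∀ g : G, g ∈ H ↔ g * z = z * g)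
    (hz : ∃ k : ℕ, orderOf z = p ^ k) {φ₁ : H → ℂ} (h₁ : φ₁ ∈ helper78.regSpan p b)
    (hφ₁ : φ₁ ≠ 0) (x : IrrCharacter G → ℂ)
    (hx : ∀ χ : IrrCharacter G, gdm p H b z (χ : G → ℂ) = x χ • φ₁)
    (q : ℕ) (A : ℤ) (hA : (q : ℂ) * ip φ₁ φ₁ = A) :
    (A : ℝ) * ∑ χ : IrrCharacter G, ‖x χ‖ ^ 2 = q := by
  have h := sum_ip_smul_gdm hM H hb z hH hz h₁
  simp_rw [hx, ip_smul_right, smul_smul] at h
  rw [← Finset.sum_smul] at h
  have h2 : (∑ χ : IrrCharacter G, conj (x χ) * ip φ₁ φ₁ * x χ - 1) • φ₁ = 0 := by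
    rw [sub_smul, h, one_smul, sub_self]
  have h3 := (smul_eq_zero.mp h2).resolve_right hφ₁
  have h4 : ∑ χ : IrrCharacter G, conj (x χ) * ip φ₁ φ₁ * x χ =
      ip φ₁ φ₁ * ((∑ χ : IrrCharacter G, ‖x χ‖ ^ 2 : ℝ) : ℂ) := by
    push_cast
    rw [Finset.mul_sum]
    apply Finset.sum_congr rfl
    intro χ _
    rw [← Complex.conj_mul']
    ring
  rw [h4] at h3
  have h5 : ((A : ℝ) * ∑ χ : IrrCharacter G, ‖x χ‖ ^ 2 : ℝ) = ((q : ℝ) : ℂ) := by
    push_cast
    rw [← hA]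
    push_cast at h3
    linear_combination (q : ℂ) * h3
  exact_mod_cast h5

/-- Orthogonality relations in coordinates: two generators. -/
theorem coord_sums_two (hM : IsPModular p M) (H : Subgroup G) [Fintype H]
    {b : Set (IrrCharacter H)} (hb : IsPBlock M b) (z : G) (hH : ∀ g : G, g ∈ H ↔ g * z = z * g)
    (hz : ∃ k : ℕ, orderOf z = p ^ k) {φ₁ φ₂ : H → ℂ} (h₁ : φ₁ ∈ helper78.regSpan p b)
    (h₂ : φ₂ ∈ helper78.regSpan p b)
    (hind : ∀ s t : ℂ, s • φ₁ + t • φ₂ = 0 → s = 0 ∧ t = 0) (x y : IrrCharacter G → ℂ)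
    (hxy : ∀ χ : IrrCharacter G, gdm p H b z (χ : G → ℂ) = x χ • φ₁ + y χ • φ₂)
    (q : ℕ) (A B C : ℤ) (hA : (q : ℂ) * ip φ₁ φ₁ = A) (hB : (q : ℂ) * ip φ₁ φ₂ = B)
    (hC : (q : ℂ) * ip φ₂ φ₂ = C) :
    ((A * C - B * B : ℤ) : ℝ) * ∑ χ : IrrCharacter G, ‖x χ‖ ^ 2 = (C : ℝ) * q ∧
    ((A * C - B * B : ℤ) : ℝ) * ∑ χ : IrrCharacter G, ‖y χ‖ ^ 2 = (A : ℝ) * q ∧
    ((A * C - B * B : ℤ) : ℝ) * ∑ χ : IrrCharacter G, ‖x χ - y χ‖ ^ 2 =
      ((A : ℝ) + C + 2 * B) * q := by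
  have hB' : (q : ℂ) * ip φ₂ φ₁ = B := by
    rw [← ip_conj φ₁ φ₂]
    have := congrArg (starRingEnd ℂ) hB
    rwa [map_mul, Complex.conj_natCast, map_intCast] at this
  set Sxx := ∑ χ : IrrCharacter G, conj (x χ) * x χ with hSxx
  set Syx := ∑ χ : IrrCharacter G, conj (y χ) * x χ with hSyx
  set Sxy := ∑ χ : IrrCharacter G, conj (x χ) * y χ with hSxy
  set Syy := ∑ χ : IrrCharacter G, conj (y χ) * y χ with hSyy
  have key : ∀ w : H → ℂ, w ∈ helper78.regSpan p b →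
      (ip w φ₁ * Sxx + ip w φ₂ * Syx) • φ₁ + (ip w φ₁ * Sxy + ip w φ₂ * Syy) • φ₂ = w := by
    intro w hw
    have h := sum_ip_smul_gdm hM H hb z hH hz hw
    simp_rw [hxy, ip_add_right, ip_smul_right] at h
    conv_rhs => rw [← h]
    rw [hSxx, hSyx, hSxy, hSyy, Finset.mul_sum, Finset.mul_sum, Finset.mul_sum,
      Finset.mul_sum, ← Finset.sum_add_distrib, ← Finset.sum_add_distrib, Finset.sum_smul,
      Finset.sum_smul, ← Finset.sum_add_distrib]
    apply Finset.sum_congr rfl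
    intro χ _
    module
  have k1 := key φ₁ h₁
  have k2 := key φ₂ h₂
  have k1' : (ip φ₁ φ₁ * Sxx + ip φ₁ φ₂ * Syx - 1) • φ₁ +
      (ip φ₁ φ₁ * Sxy + ip φ₁ φ₂ * Syy) • φ₂ = 0 := by
    rw [sub_smul, one_smul, sub_add_eq_add_sub, k1, sub_self]
  have k2' : (ip φ₂ φ₁ * Sxx + ip φ₂ φ₂ * Syx) • φ₁ +
      (ip φ₂ φ₁ * Sxy + ip φ₂ φ₂ * Syy - 1) • φ₂ = 0 := by
    rw [sub_smul, one_smul, ← add_sub_assoc, k2, sub_self]
  obtain ⟨e1, e2⟩ := hind _ _ k1'
  obtain ⟨e3, e4⟩ := hind _ _ k2'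
  have E1 : (A : ℂ) * Sxx + (B : ℂ) * Syx = q := by
    rw [← hA, ← hB]
    linear_combination (q : ℂ) * e1
  have E2 : (A : ℂ) * Sxy + (B : ℂ) * Syy = 0 := by
    rw [← hA, ← hB]
    linear_combination (q : ℂ) * e2
  have E3 : (B : ℂ) * Sxx + (C : ℂ) * Syx = 0 := by
    rw [← hB', ← hC]
    linear_combination (q : ℂ) * e3
  have E4 : (B : ℂ) * Sxy + (C : ℂ) * Syy = q := by
    rw [← hB', ← hC]
    linear_combination (q : ℂ) * e4
  have R1 : ((A : ℂ) * C - B * B) * Sxx = (C : ℂ) * q := by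
    linear_combination (C : ℂ) * E1 - (B : ℂ) * E3
  have R2 : ((A : ℂ) * C - B * B) * Syy = (A : ℂ) * q := by
    linear_combination (A : ℂ) * E4 - (B : ℂ) * E2
  have R3 : ((A : ℂ) * C - B * B) * Syx = -(B : ℂ) * q := by
    linear_combination (A : ℂ) * E3 - (B : ℂ) * E1
  have R4 : ((A : ℂ) * C - B * B) * Sxy = -(B : ℂ) * q := by
    linear_combination (C : ℂ) * E2 - (B : ℂ) * E4
  have hxx : ((∑ χ : IrrCharacter G, ‖x χ‖ ^ 2 : ℝ) : ℂ) = Sxx := by
    push_cast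
    apply Finset.sum_congr rfl
    intro χ _
    rw [← Complex.conj_mul']
  have hyy : ((∑ χ : IrrCharacter G, ‖y χ‖ ^ 2 : ℝ) : ℂ) = Syy := by
    push_cast
    apply Finset.sum_congr rfl
    intro χ _
    rw [← Complex.conj_mul']
  have hdd : ((∑ χ : IrrCharacter G, ‖x χ - y χ‖ ^ 2 : ℝ) : ℂ) = Sxx - Sxy - Syx + Syy := by
    push_cast
    rw [hSxx, hSyx, hSxy, hSyy, ← Finset.sum_sub_distrib, ← Finset.sum_sub_distrib,
      ← Finset.sum_add_distrib]
    apply Finset.sum_congr rfl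
    intro χ _
    rw [← Complex.conj_mul', map_sub]
    ring
  refine ⟨?_, ?_, ?_⟩
  · have : ((((A * C - B * B : ℤ) : ℝ) * ∑ χ : IrrCharacter G, ‖x χ‖ ^ 2 : ℝ) : ℂ) =
        (((C : ℝ) * q : ℝ) : ℂ) := by
      rw [Complex.ofReal_mul, hxx]
      push_cast
      exact R1
    exact_mod_cast this
  · have : ((((A * C - B * B : ℤ) : ℝ) * ∑ χ : IrrCharacter G, ‖y χ‖ ^ 2 : ℝ) : ℂ) =
        (((A : ℝ) * q : ℝ) : ℂ) := by
      rw [Complex.ofReal_mul, hyy]
      push_cast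
      exact R2
    exact_mod_cast this
  · have : ((((A * C - B * B : ℤ) : ℝ) * ∑ χ : IrrCharacter G, ‖x χ - y χ‖ ^ 2 : ℝ) : ℂ) =
        ((((A : ℝ) + C + 2 * B) * q : ℝ) : ℂ) := by
      rw [Complex.ofReal_mul, hdd]
      push_cast
      linear_combination R1 - R4 - R3 + R2
    exact_mod_cast this

/-- The contributions in coordinates. -/
theorem gram_eq_coord (H : Subgroup G) [Fintype H] (b : Set (IrrCharacter H)) (z : G)
    {φ₁ φ₂ : H → ℂ} (x y : IrrCharacter G → ℂ)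
    (hxy : ∀ χ : IrrCharacter G, gdm p H b z (χ : G → ℂ) = x χ • φ₁ + y χ • φ₂)
    (q : ℕ) (A B C : ℤ) (hA : (q : ℂ) * ip φ₁ φ₁ = A) (hB : (q : ℂ) * ip φ₁ φ₂ = B)
    (hC : (q : ℂ) * ip φ₂ φ₂ = C) (χ ψ : IrrCharacter G) :
    (q : ℂ) * gram p H b z (χ : G → ℂ) (ψ : G → ℂ) =
      (A : ℂ) * (x χ * conj (x ψ)) + (B : ℂ) * (x χ * conj (y ψ) + y χ * conj (x ψ)) +
        (C : ℂ) * (y χ * conj (y ψ)) := by
  have hB' : (q : ℂ) * ip φ₂ φ₁ = B := by
    rw [← ip_conj φ₁ φ₂]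
    have := congrArg (starRingEnd ℂ) hB
    rwa [map_mul, Complex.conj_natCast, map_intCast] at this
  show (q : ℂ) * ip (gdm p H b z (χ : G → ℂ)) (gdm p H b z (ψ : G → ℂ)) = _
  rw [hxy χ, hxy ψ]
  simp only [ip_add_left, ip_add_right, ip_smul_left, ip_smul_right]
  linear_combination (x χ * conj (x ψ)) * hA + (x χ * conj (y ψ)) * hB +
    (y χ * conj (x ψ)) * hB' + (y χ * conj (y ψ)) * hC

/-- A weighted double counting inequality. -/
theorem weighted_count {Ω : Type*} [Fintype Ω] (S : Finset ℕ) (hS : 0 < S.card)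
    (T : Ω → ℕ → ℝ) (hT : ∀ χ j, 0 ≤ T χ j) (Q : ℝ) (hsum : ∀ j ∈ S, ∑ χ : Ω, T χ j ≤ Q)
    (B' : Finset Ω) (c : Ω → ℝ) (hc : ∀ χ ∈ B', c χ * S.card ≤ ∑ j ∈ S, T χ j) :
    ∑ χ ∈ B', c χ ≤ Q := by
  have hSr : (0 : ℝ) < S.card := by exact_mod_cast hS
  have h1 : (∑ χ ∈ B', c χ) * S.card ≤ Q * S.card := by
    calc (∑ χ ∈ B', c χ) * S.card = ∑ χ ∈ B', c χ * S.card := Finset.sum_mul _ _ _
      _ ≤ ∑ χ ∈ B', ∑ j ∈ S, T χ j := Finset.sum_le_sum hc
      _ ≤ ∑ χ : Ω, ∑ j ∈ S, T χ j :=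
          Finset.sum_le_sum_of_subset_of_nonneg (Finset.subset_univ _)
            (fun χ _ _ => Finset.sum_nonneg (fun j _ => hT χ j))
      _ = ∑ j ∈ S, ∑ χ : Ω, T χ j := Finset.sum_comm
      _ ≤ ∑ j ∈ S, Q := Finset.sum_le_sum hsum
      _ = Q * S.card := by rw [Finset.sum_const, nsmul_eq_mul, mul_comm]
  exact le_of_mul_le_mul_right h1 hSr

end Coord

end Cfsg.Agent.Lib.helper79
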