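import Mathlib
import Cfsg.Agent.Lib.helper79.SubsectionRank2

/-!
# Major subsections with at most two irreducible Brauer characters

`card_le_pow_of_major_rank_le_two`: if `(y, b)` is a major subsection of the block `B` of defect
`d` and `l(b) ≤ 2`, then `k(B) ≤ p ^ d` (Brauer for `l(b) = 1`, Olsson for `l(b) = 2`).
-/

set_option autoImplicit false
set_option linter.unusedSectionVars false
set_option linter.unusedSimpArgs false
set_option linter.unusedVariables false

namespace Cfsg.Agent.Lib.helper79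

open Cfsg Polynomial
open scoped ComplexConjugate

universe u

section Rank2Main

variable {G : Type u} [Group G] [Fintype G] {p : ℕ} [Fact p.Prime] {M : Ideal AlgInt}

theorem reduced_disc_bound (A Bc C : ℤ) (hA2 : 2 ≤ A) (hAC : A ≤ C) (hB0 : Bc ≤ 0)
    (hBA : -(2 * Bc) ≤ A) : A + C + Bc ≤ A * C - Bc * Bc := by
  have h1 : (A - 1) * (A - 1) ≤ (A - 1) * (C - 1) :=
    mul_le_mul_of_nonneg_left (by omega) (by omega)
  have h2 : (-Bc) * (-Bc - 1) ≤ A * (A - 2) := by
    rcases eq_or_lt_of_le hB0 with h | h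
    · have : 0 ≤ A * (A - 2) := mul_nonneg (by omega) (by omega)
      simpa [h] using this
    · exact mul_le_mul (by omega) (by omega) (by omega) (by omega)
  nlinarith [h1, h2]

theorem exceptional_arith (z a k1 q P Cr : ℝ) (hz : 0 ≤ z) (ha : 0 ≤ a) (hq : 0 ≤ q)
    (hP : 2 ≤ P) (hC : P ≤ Cr) (c1 : a + P ^ 2 * k1 ≤ q) (c2 : (z + a) * Cr ≤ q) :
    z + a + k1 ≤ q := by
  have h1 : (z + a) * P ≤ q := le_trans (mul_le_mul_of_nonneg_left hC (by linarith)) c2
  have hP2 : (0:ℝ) < P ^ 2 := by positivity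
  have h3 : P * ((z + a) * P) ≤ P * q := mul_le_mul_of_nonneg_left h1 (by linarith)
  have h4 : P ^ 2 * k1 ≤ q := by linarith
  have h5 : P * q + q ≤ P ^ 2 * q := by
    have := mul_nonneg hq (add_nonneg (mul_nonneg (by linarith : (0:ℝ) ≤ P - 2)
      (by linarith : (0:ℝ) ≤ P + 1)) zero_le_one)
    nlinarith
  have h2 : P ^ 2 * (z + a + k1) ≤ P ^ 2 * q := by nlinarith [h3, h4, h5]
  exact le_of_mul_le_mul_left h2 hP2

open Classical in
/-- Major subsection `(y, b)` with `l(b) = 1`: `k(B) ≤ p ^ d`. -/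
theorem card_le_pow_of_major_rank_one (hM : IsPModular p M) (H : Subgroup G) [Fintype H]
    {b : Set (IrrCharacter H)} {B : Set (IrrCharacter G)}
    (hB : IsPBlock M B) (hind : IsInducedBlock M H b B) (y : G)
    (hH : ∀ g : G, g ∈ H ↔ g * y = y * g) (hy : ∃ k : ℕ, orderOf y = p ^ k)
    (hdd : blockDefect p b = blockDefect p B) (hl : blockRank p b = 1) :
    Nat.card B ≤ p ^ blockDefect p b := by
  have hp : p.Prime := Fact.out
  have hprime := isPModular_isPrime hM
  have hb : IsPBlock M b := hind.1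
  obtain ⟨hyH, hyc⟩ := central_of_centralizer H y hH
  have hN : 0 < orderOf y := orderOf_pos y
  have hζ : IsPrimitiveRoot (Complex.exp (2 * Real.pi * Complex.I / (orderOf y : ℂ))) (orderOf y) :=
    Complex.isPrimitiveRoot_exp (orderOf y) hN.ne'
  generalize Complex.exp (2 * Real.pi * Complex.I / (orderOf y : ℂ)) = ζ at hζ
  obtain ⟨e, he⟩ := exists_exponent H y hyH hyc (orderOf y) hN (pow_orderOf_eq_one y) ζ hζ
  have hSpos := card_coprime_pos hN
  have hspec : ∀ j ∈ (Finset.range (orderOf y)).filter (fun k => k.Coprime (orderOf y)),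
      (∀ g : G, g ∈ H ↔ g * y ^ j = y ^ j * g) ∧ ∃ k : ℕ, orderOf (y ^ j) = p ^ k :=
    fun j hj => pow_coprime_spec H y hH hy (Finset.mem_filter.mp hj).2
  have hqpos : 0 < p ^ blockDefect p b := pow_pos hp.pos _
  have hint := regLat_integral hM hb
  have hr1 : Module.finrank ℂ (Submodule.span ℂ (regLat p b : Set (H → ℂ))) = 1 := by
    rw [span_regLat, ← helper78.blockRank_eq_finrank_regSpan]
    exact hl
  obtain ⟨φ₁, hφ₁L, A, hA, hApos, hφ₁0, hgen⟩ := exists_generator (regLat p b) _ hqpos hint hr1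
  obtain ⟨Xp, Yp, hXY⟩ := exists_coord_poly (p := p) (G := G) H b y hyH hyc ζ e he φ₁ 0
    (fun θ hθ => by
      obtain ⟨a, ha⟩ := hgen _ (pRegularPart_mem_regLat p hθ)
      exact ⟨a, 0, by rw [ha]; simp⟩)
  have hX : ∀ (χ : IrrCharacter G) (j : ℕ),
      gdm p H b (y ^ j) (χ : G → ℂ) = aeval (ζ ^ j) (Xp χ) • φ₁ := by
    intro χ j
    rw [hXY χ j, smul_zero, add_zero]
  have hφ₁span := mem_regSpan_of_mem_regLat p hφ₁L
  have hsum : ∀ j ∈ (Finset.range (orderOf y)).filter (fun k => k.Coprime (orderOf y)),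
      ∑ χ : IrrCharacter G, ‖aeval (ζ ^ j) (Xp χ)‖ ^ 2 ≤ ((p ^ blockDefect p b : ℕ) : ℝ) := by
    intro j hj
    have h1 := coord_sums_one hM H hb (y ^ j) (hspec j hj).1 (hspec j hj).2 hφ₁span hφ₁0
      (fun χ => aeval (ζ ^ j) (Xp χ)) (fun χ => hX χ j) _ A hA
    have hA1 : (1 : ℝ) ≤ (A : ℝ) := by exact_mod_cast hApos
    have hnn : (0 : ℝ) ≤ ∑ χ : IrrCharacter G, ‖aeval (ζ ^ j) (Xp χ)‖ ^ 2 :=
      Finset.sum_nonneg (fun _ _ => by positivity)
    nlinarith
  have hcount := weighted_count _ hSpos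
    (fun (χ : IrrCharacter G) j => ‖aeval (ζ ^ j) (Xp χ)‖ ^ 2)
    (fun _ _ => by positivity) _ hsum B.toFinset (fun _ => 1) (by
      intro χ hχ
      rw [one_mul]
      apply card_le_sum_norm_sq_aeval hN hζ (Xp χ)
      intro h0
      apply gdm_ne_zero_of_major hM H hB hind y hH hy hdd (Set.mem_toFinset.mp hχ)
      have := hX χ 1
      rw [pow_one, pow_one, h0, zero_smul] at this
      exact this)
  have hk : Nat.card B = B.toFinset.card := by
    rw [Nat.card_eq_fintype_card, Set.toFinset_card]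
  rw [hk]
  simp only [Finset.sum_const, nsmul_eq_mul, mul_one] at hcount
  exact_mod_cast hcount

open Classical in
/-- Major subsection `(y, b)` with `l(b) = 2`: `k(B) ≤ p ^ d`. -/
theorem card_le_pow_of_major_rank_two (hM : IsPModular p M) (H : Subgroup G) [Fintype H]
    {b : Set (IrrCharacter H)} {B : Set (IrrCharacter G)}
    (hB : IsPBlock M B) (hind : IsInducedBlock M H b B) (y : G)
    (hH : ∀ g : G, g ∈ H ↔ g * y = y * g) (hy : ∃ k : ℕ, orderOf y = p ^ k)
    (hdd : blockDefect p b = blockDefect p B) (hl : blockRank p b = 2) :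
    Nat.card B ≤ p ^ blockDefect p b := by
  have hp : p.Prime := Fact.out
  have hprime := isPModular_isPrime hM
  have hpc : (p : ℂ) ≠ 0 := Nat.cast_ne_zero.mpr hp.ne_zero
  have hb : IsPBlock M b := hind.1
  obtain ⟨hyH, hyc⟩ := central_of_centralizer H y hH
  have hN : 0 < orderOf y := orderOf_pos y
  have hζ : IsPrimitiveRoot (Complex.exp (2 * Real.pi * Complex.I / (orderOf y : ℂ))) (orderOf y) :=
    Complex.isPrimitiveRoot_exp (orderOf y) hN.ne'
  generalize Complex.exp (2 * Real.pi * Complex.I / (orderOf y : ℂ)) = ζ at hζ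
  obtain ⟨e, he⟩ := exists_exponent H y hyH hyc (orderOf y) hN (pow_orderOf_eq_one y) ζ hζ
  have hSpos := card_coprime_pos hN
  have hspec : ∀ j ∈ (Finset.range (orderOf y)).filter (fun k => k.Coprime (orderOf y)),
      (∀ g : G, g ∈ H ↔ g * y ^ j = y ^ j * g) ∧ ∃ k : ℕ, orderOf (y ^ j) = p ^ k :=
    fun j hj => pow_coprime_spec H y hH hy (Finset.mem_filter.mp hj).2
  set S := (Finset.range (orderOf y)).filter (fun k => k.Coprime (orderOf y)) with hS
  have hqpos : 0 < p ^ blockDefect p b := pow_pos hp.pos _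
  have hint := regLat_integral hM hb
  have hqc : ((p ^ blockDefect p b : ℕ) : ℂ) = (p : ℂ) ^ blockDefect p b := by
    push_cast
    rfl
  set q : ℕ := p ^ blockDefect p b with hq
  have hqr : (0 : ℝ) < (q : ℝ) := by exact_mod_cast hqpos
  have hr2 : Module.finrank ℂ (Submodule.span ℂ (regLat p b : Set (H → ℂ))) = 2 := by
    rw [span_regLat, ← helper78.blockRank_eq_finrank_regSpan]
    exact hl
  obtain ⟨φ₁, hφ₁L, φ₂, hφ₂L, A, Bc, C, hA, hBc, hC, hApos, hAC, hB0, hBA, hindep, hgen⟩ :=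
    exists_reduced_pair (regLat p b) q hqpos hint hr2
  obtain ⟨Xp, Yp, hXY⟩ := exists_coord_poly (p := p) (G := G) H b y hyH hyc ζ e he φ₁ φ₂
    (fun θ hθ => hgen _ (pRegularPart_mem_regLat p hθ))
  have hφ₁span := mem_regSpan_of_mem_regLat p hφ₁L
  have hφ₂span := mem_regSpan_of_mem_regLat p hφ₂L
  have hpΔ : (p : ℤ) ∣ A * C - Bc * Bc := prime_dvd_disc hM hb hφ₁L hφ₂L hA hBc hC
  have hsums := fun (j : ℕ) (hj : j ∈ S) =>
    coord_sums_two hM H hb (y ^ j) (hspec j hj).1 (hspec j hj).2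
      hφ₁span hφ₂span hindep (fun χ => aeval (ζ ^ j) (Xp χ)) (fun χ => aeval (ζ ^ j) (Yp χ))
      (fun χ => hXY χ j) q A Bc C hA hBc hC
  have hnz : ∀ χ ∈ B, ¬ (aeval ζ (Xp χ) = 0 ∧ aeval ζ (Yp χ) = 0) := by
    rintro χ hχ ⟨h1, h2⟩
    apply gdm_ne_zero_of_major hM H hB hind y hH hy hdd hχ
    have := hXY χ 1
    rw [pow_one, pow_one, h1, h2, zero_smul, zero_smul, add_zero] at this
    exact this
  have hk : Nat.card B = B.toFinset.card := by
    rw [Nat.card_eq_fintype_card, Set.toFinset_card]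
  rw [hk]
  have goal : (B.toFinset.card : ℝ) ≤ (q : ℝ) := by
    by_cases hA2 : 2 ≤ A
    · -- the generic case
      have hΔ := reduced_disc_bound A Bc C hA2 hAC hB0 hBA
      have hΔr : ((A + C + Bc : ℤ) : ℝ) ≤ ((A * C - Bc * Bc : ℤ) : ℝ) := by exact_mod_cast hΔ
      have hΔpos : (0 : ℝ) < ((A * C - Bc * Bc : ℤ) : ℝ) := by
        have : 0 < A * C - Bc * Bc := by omega
        exact_mod_cast this
      have hsum : ∀ j ∈ S, ∑ χ : IrrCharacter G, (‖aeval (ζ ^ j) (Xp χ)‖ ^ 2 +
          ‖aeval (ζ ^ j) (Yp χ)‖ ^ 2 + ‖aeval (ζ ^ j) (Xp χ - Yp χ)‖ ^ 2) ≤ 2 * (q : ℝ) := by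
        intro j hj
        obtain ⟨s1, s2, s3⟩ := hsums j hj
        rw [Finset.sum_add_distrib, Finset.sum_add_distrib]
        simp only [map_sub]
        have h4 : ((A * C - Bc * Bc : ℤ) : ℝ) *
            (∑ χ : IrrCharacter G, ‖aeval (ζ ^ j) (Xp χ)‖ ^ 2 +
              ∑ χ : IrrCharacter G, ‖aeval (ζ ^ j) (Yp χ)‖ ^ 2 +
              ∑ χ : IrrCharacter G, ‖aeval (ζ ^ j) (Xp χ) - aeval (ζ ^ j) (Yp χ)‖ ^ 2) =
            2 * ((A + C + Bc : ℤ) : ℝ) * q := by
          rw [mul_add, mul_add, s1, s2, s3]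
          push_cast
          ring
        have h5 : ((A * C - Bc * Bc : ℤ) : ℝ) *
            (∑ χ : IrrCharacter G, ‖aeval (ζ ^ j) (Xp χ)‖ ^ 2 +
              ∑ χ : IrrCharacter G, ‖aeval (ζ ^ j) (Yp χ)‖ ^ 2 +
              ∑ χ : IrrCharacter G, ‖aeval (ζ ^ j) (Xp χ) - aeval (ζ ^ j) (Yp χ)‖ ^ 2) ≤
            ((A * C - Bc * Bc : ℤ) : ℝ) * (2 * (q : ℝ)) := by
          rw [h4]
          nlinarith
        exact le_of_mul_le_mul_left h5 hΔpos
      have hcount := weighted_count S hSpos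
        (fun (χ : IrrCharacter G) j => ‖aeval (ζ ^ j) (Xp χ)‖ ^ 2 +
          ‖aeval (ζ ^ j) (Yp χ)‖ ^ 2 + ‖aeval (ζ ^ j) (Xp χ - Yp χ)‖ ^ 2)
        (fun _ _ => by positivity) (2 * (q : ℝ)) hsum B.toFinset (fun _ => 2) (by
          intro χ hχ
          have hχB := Set.mem_toFinset.mp hχ
          rw [Finset.sum_add_distrib, Finset.sum_add_distrib]
          have n1 : (0 : ℝ) ≤ ∑ j ∈ S, ‖aeval (ζ ^ j) (Xp χ)‖ ^ 2 :=
            Finset.sum_nonneg (fun _ _ => by positivity)
          have n2 : (0 : ℝ) ≤ ∑ j ∈ S, ‖aeval (ζ ^ j) (Yp χ)‖ ^ 2 :=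
            Finset.sum_nonneg (fun _ _ => by positivity)
          have n3 : (0 : ℝ) ≤ ∑ j ∈ S, ‖aeval (ζ ^ j) (Xp χ - Yp χ)‖ ^ 2 :=
            Finset.sum_nonneg (fun _ _ => by positivity)
          by_cases hx : aeval ζ (Xp χ) = 0
          · have hy' : aeval ζ (Yp χ) ≠ 0 := fun h => hnz χ hχB ⟨hx, h⟩
            have hd : aeval ζ (Xp χ - Yp χ) ≠ 0 := by
              rw [map_sub, hx, zero_sub]
              exact neg_ne_zero.mpr hy'
            have g2 := card_le_sum_norm_sq_aeval hN hζ (Yp χ) hy'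
            have g3 := card_le_sum_norm_sq_aeval hN hζ (Xp χ - Yp χ) hd
            linarith
          · by_cases hy' : aeval ζ (Yp χ) = 0
            · have hd : aeval ζ (Xp χ - Yp χ) ≠ 0 := by
                rw [map_sub, hy', sub_zero]
                exact hx
              have g1 := card_le_sum_norm_sq_aeval hN hζ (Xp χ) hx
              have g3 := card_le_sum_norm_sq_aeval hN hζ (Xp χ - Yp χ) hd
              linarith
            · have g1 := card_le_sum_norm_sq_aeval hN hζ (Xp χ) hx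
              have g2 := card_le_sum_norm_sq_aeval hN hζ (Yp χ) hy'
              linarith)
      simp only [Finset.sum_const, nsmul_eq_mul] at hcount
      linarith
    · -- the exceptional case `A = 1`, `Bc = 0`
      have hA1 : A = 1 := by omega
      have hBz : Bc = 0 := by omega
      subst hA1
      subst hBz
      have hpC : (p : ℤ) ∣ C := by simpa using hpΔ
      have hCpos : 0 < C := by omega
      have hpleC : (p : ℤ) ≤ C := Int.le_of_dvd hCpos hpC
      have hCr : (0 : ℝ) < (C : ℝ) := by exact_mod_cast hCpos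
      obtain ⟨C', hC'⟩ := hpC
      have hCc : (C : ℂ) = (p : ℂ) * (C' : ℂ) := by
        rw [hC']
        push_cast
        rfl
      obtain ⟨χ₀, hχ₀, hχ₀0⟩ := exists_height_zero (p := p) hM hB
      have hpJ : MemLocalIdeal M (p : ℂ) := memLocalIdeal_prime hM
      have hXint : ∀ (j : ℕ) (χ : IrrCharacter G), IsIntegral ℤ (aeval (ζ ^ j) (Xp χ)) :=
        fun j χ => isIntegral_aeval_pow_primitiveRoot hN hζ j (Xp χ)
      have hYint : ∀ (j : ℕ) (χ : IrrCharacter G), IsIntegral ℤ (aeval (ζ ^ j) (Yp χ)) :=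
        fun j χ => isIntegral_aeval_pow_primitiveRoot hN hζ j (Yp χ)
      have hsum₁ : ∀ j ∈ S, ∑ χ : IrrCharacter G, ‖aeval (ζ ^ j) (Xp χ)‖ ^ 2 ≤ (q : ℝ) := by
        intro j hj
        obtain ⟨s1, -, -⟩ := hsums j hj
        have h1 : (C : ℝ) * ∑ χ : IrrCharacter G, ‖aeval (ζ ^ j) (Xp χ)‖ ^ 2 = (C : ℝ) * q := by
          simpa using s1
        exact le_of_eq (mul_left_cancel₀ hCr.ne' h1)
      have hsum₂ : ∀ j ∈ S, ∑ χ : IrrCharacter G, ‖aeval (ζ ^ j) (Yp χ)‖ ^ 2 ≤ (q : ℝ) / C := by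
        intro j hj
        obtain ⟨-, s2, -⟩ := hsums j hj
        have h1 : (C : ℝ) * ∑ χ : IrrCharacter G, ‖aeval (ζ ^ j) (Yp χ)‖ ^ 2 = q := by
          simpa using s2
        rw [le_div_iff₀ hCr, mul_comm, h1]
      have hgram : ∀ (j : ℕ) (χ ψ : IrrCharacter G),
          (p : ℂ) ^ blockDefect p b * gram p H b (y ^ j) (χ : G → ℂ) (ψ : G → ℂ) =
            aeval (ζ ^ j) (Xp χ) * conj (aeval (ζ ^ j) (Xp ψ)) +
              (C : ℂ) * (aeval (ζ ^ j) (Yp χ) * conj (aeval (ζ ^ j) (Yp ψ))) := by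
        intro j χ ψ
        have := gram_eq_coord (p := p) H b (y ^ j) (fun χ => aeval (ζ ^ j) (Xp χ))
          (fun χ => aeval (ζ ^ j) (Yp χ)) (fun χ => hXY χ j) q 1 0 C hA hBc hC χ ψ
        rw [← hqc]
        simpa using this
      have hgood : ∀ j, j ∈ S ∨ j = 1 →
          (∀ g : G, g ∈ H ↔ g * y ^ j = y ^ j * g) ∧ ∃ k : ℕ, orderOf (y ^ j) = p ^ k := by
        rintro j (hj | rfl)
        · exact hspec j hj
        · rw [pow_one]
          exact ⟨hH, hy⟩
      have hE1 : ∀ j, (j ∈ S ∨ j = 1) → ∀ ψ₀ ∈ B, blockHeight p B (ψ₀ : G → ℂ) = 0 →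
          ¬ MemLocalIdeal M (conj (aeval (ζ ^ j) (Xp ψ₀))) := by
        intro j hj ψ₀ hψ₀ h0 hJ
        have hg := gram_not_memLocalIdeal_of_heights_zero hM H hind (y ^ j) (hgood j hj).1
          (hgood j hj).2 hψ₀ h0 hψ₀ h0
        apply hg
        have h1 := hgram j ψ₀ ψ₀
        have h2 : (p ^ blockDefect p b : ℂ) * gram p H b (y ^ j) (ψ₀ : G → ℂ) (ψ₀ : G → ℂ) =
            aeval (ζ ^ j) (Xp ψ₀) * conj (aeval (ζ ^ j) (Xp ψ₀)) +
              (C : ℂ) * (aeval (ζ ^ j) (Yp ψ₀) * conj (aeval (ζ ^ j) (Yp ψ₀))) := h1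
        rw [h2]
        apply helper20.memLocalIdeal_add hprime
        · exact helper20.memLocalIdeal_mul_left hprime
            (memLocalRing_of_isIntegral hprime (hXint j ψ₀)) hJ
        · rw [hCc, mul_assoc]
          exact helper20.memLocalIdeal_mul_right hprime hpJ
            (helper20.memLocalRing_mul hprime (helper20.memLocalRing_intCast hprime C')
              (helper20.memLocalRing_mul hprime (memLocalRing_of_isIntegral hprime (hYint j ψ₀))
                (memLocalRing_conj_of_isIntegral hprime (hYint j ψ₀))))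
      have hE3 : ∀ j ∈ S, ∀ χ ∈ B, blockHeight p B (χ : G → ℂ) ≠ 0 →
          ∃ t : ℂ, MemLocalRing M t ∧ aeval (ζ ^ j) (Xp χ) = (p : ℂ) * t := by
        intro j hj χ hχ hh
        obtain ⟨r, hrR, -, hr⟩ := exists_unit_gram_of_major hM H hB hind (y ^ j) (hspec j hj).1
          (hspec j hj).2 hdd hχ hχ₀ hχ₀0
        have h1 := hgram j χ χ₀
        have hr' : aeval (ζ ^ j) (Xp χ) * conj (aeval (ζ ^ j) (Xp χ₀)) +
            (C : ℂ) * (aeval (ζ ^ j) (Yp χ) * conj (aeval (ζ ^ j) (Yp χ₀))) =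
            (p : ℂ) ^ blockHeight p B (χ : G → ℂ) * r := by
          rw [← h1]
          exact hr
        obtain ⟨s, hsR, hs⟩ := exists_inv_of_not_memLocalIdeal
          (memLocalRing_conj_of_isIntegral hprime (hXint j χ₀)) (hE1 j (Or.inl hj) χ₀ hχ₀ hχ₀0)
        obtain ⟨h', hh'⟩ := Nat.exists_eq_succ_of_ne_zero hh
        rw [hh', pow_succ', hCc] at hr'
        refine ⟨s * ((p : ℂ) ^ h' * r -
          (C' : ℂ) * (aeval (ζ ^ j) (Yp χ) * conj (aeval (ζ ^ j) (Yp χ₀)))), ?_, ?_⟩
        · apply helper20.memLocalRing_mul hprime hsR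
          apply helper20.memLocalRing_sub hprime
          · apply helper20.memLocalRing_mul hprime _ hrR
            have := helper20.memLocalRing_natCast (M := M) hprime (p ^ h')
            simpa using this
          · exact helper20.memLocalRing_mul hprime (helper20.memLocalRing_intCast hprime C')
              (helper20.memLocalRing_mul hprime (memLocalRing_of_isIntegral hprime (hYint j χ))
                (memLocalRing_conj_of_isIntegral hprime (hYint j χ₀)))
        · calc aeval (ζ ^ j) (Xp χ)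
              = s * conj (aeval (ζ ^ j) (Xp χ₀)) * aeval (ζ ^ j) (Xp χ) := by rw [hs, one_mul]
            _ = (p : ℂ) * (s * ((p : ℂ) ^ h' * r -
                (C' : ℂ) * (aeval (ζ ^ j) (Yp χ) * conj (aeval (ζ ^ j) (Yp χ₀))))) := by
                linear_combination s * hr'
      have hE2 : ∀ χ ∈ B, aeval ζ (Xp χ) = 0 → ∀ ψ₀ ∈ B, blockHeight p B (ψ₀ : G → ℂ) = 0 →
          aeval ζ (Yp ψ₀) ≠ 0 := by
        intro χ hχ hx ψ₀ hψ₀ h0 hy0
        obtain ⟨r, -, hrJ, hr⟩ := exists_unit_gram_of_major hM H hB hind y hH hy hdd hχ hψ₀ h0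
        have hg := hgram 1 χ ψ₀
        rw [pow_one, pow_one] at hg
        have hr' : (p : ℂ) ^ blockDefect p b * gram p H b y (χ : G → ℂ) (ψ₀ : G → ℂ) =
            (p : ℂ) ^ blockHeight p B (χ : G → ℂ) * r := hr
        rw [hg, hx, hy0] at hr'
        simp only [map_zero, zero_mul, mul_zero, add_zero] at hr'
        apply hrJ
        have : r = 0 := by
          rcases mul_eq_zero.mp hr'.symm with h | h
          · exact absurd h (pow_ne_zero _ hpc)
          · exact h
        rw [this]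
        exact helper20.memLocalIdeal_zero hprime
      have hx0 : ∀ ψ₀ ∈ B, blockHeight p B (ψ₀ : G → ℂ) = 0 → aeval ζ (Xp ψ₀) ≠ 0 := by
        intro ψ₀ hψ₀ h0 hzero
        have := hE1 1 (Or.inr rfl) ψ₀ hψ₀ h0
        rw [pow_one, hzero, map_zero] at this
        exact this (helper20.memLocalIdeal_zero hprime)
      -- the three parts of `B`
      set Zs := B.toFinset.filter (fun χ : IrrCharacter G => aeval ζ (Xp χ) = 0) with hZs
      set B' := B.toFinset.filter (fun χ : IrrCharacter G => ¬ aeval ζ (Xp χ) = 0) with hB'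
      set B₀ := B'.filter (fun χ : IrrCharacter G => blockHeight p B (χ : G → ℂ) = 0) with hB₀
      set B₁ := B'.filter (fun χ : IrrCharacter G => ¬ blockHeight p B (χ : G → ℂ) = 0) with hB₁
      have hcard1 : Zs.card + B'.card = B.toFinset.card :=
        Finset.card_filter_add_card_filter_not _
      have hcard2 : B₀.card + B₁.card = B'.card :=
        Finset.card_filter_add_card_filter_not _
      have hpr : (2 : ℝ) ≤ (p : ℝ) := by exact_mod_cast hp.two_le
      -- first count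
      have hcount1 := weighted_count S hSpos
        (fun (χ : IrrCharacter G) j => ‖aeval (ζ ^ j) (Xp χ)‖ ^ 2)
        (fun _ _ => by positivity) (q : ℝ) hsum₁ B'
        (fun χ => if blockHeight p B (χ : G → ℂ) = 0 then 1 else (p : ℝ) ^ 2) (by
          intro χ hχ
          rw [hB', Finset.mem_filter] at hχ
          have hχB := Set.mem_toFinset.mp hχ.1
          by_cases hh : blockHeight p B (χ : G → ℂ) = 0
          · rw [if_pos hh, one_mul]
            exact card_le_sum_norm_sq_aeval hN hζ (Xp χ) hχ.2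
          · rw [if_neg hh]
            exact sq_mul_card_le_sum_norm_sq_aeval hM hN hζ (Xp χ) hχ.2
              (fun j hj => hE3 j hj χ hχB hh))
      rw [Finset.sum_ite, Finset.sum_const, Finset.sum_const, nsmul_eq_mul, nsmul_eq_mul,
        mul_one] at hcount1
      have c1 : (B₀.card : ℝ) + (p : ℝ) ^ 2 * (B₁.card : ℝ) ≤ (q : ℝ) := by
        rw [mul_comm]
        exact hcount1
      have hcardr : (B.toFinset.card : ℝ) = (Zs.card : ℝ) + (B₀.card : ℝ) + (B₁.card : ℝ) := by
        rw [← hcard1, ← hcard2]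
        push_cast
        ring
      rw [hcardr]
      by_cases hZ : Zs = ∅
      · rw [hZ, Finset.card_empty, Nat.cast_zero, zero_add]
        have : (B₁.card : ℝ) ≤ (p : ℝ) ^ 2 * (B₁.card : ℝ) := by
          have h1 : (1 : ℝ) ≤ (p : ℝ) ^ 2 := by nlinarith
          have h2 : (0 : ℝ) ≤ (B₁.card : ℝ) := Nat.cast_nonneg _
          nlinarith
        linarith
      · obtain ⟨χ₁, hχ₁⟩ := Finset.nonempty_iff_ne_empty.mpr hZ
        rw [hZs, Finset.mem_filter] at hχ₁
        have hχ₁B := Set.mem_toFinset.mp hχ₁.1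
        have hdisj : Disjoint Zs B₀ := by
          rw [Finset.disjoint_left]
          intro χ h1 h2
          rw [hZs, Finset.mem_filter] at h1
          rw [hB₀, Finset.mem_filter, hB', Finset.mem_filter] at h2
          exact h2.1.2 h1.2
        have hcount2 := weighted_count S hSpos
          (fun (χ : IrrCharacter G) j => ‖aeval (ζ ^ j) (Yp χ)‖ ^ 2)
          (fun _ _ => by positivity) ((q : ℝ) / C) hsum₂ (Zs ∪ B₀) (fun _ => 1) (by
            intro χ hχ
            rw [one_mul]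
            apply card_le_sum_norm_sq_aeval hN hζ (Yp χ)
            rcases Finset.mem_union.mp hχ with h | h
            · rw [hZs, Finset.mem_filter] at h
              exact fun hy0 => hnz χ (Set.mem_toFinset.mp h.1) ⟨h.2, hy0⟩
            · rw [hB₀, Finset.mem_filter, hB', Finset.mem_filter] at h
              exact hE2 χ₁ hχ₁B hχ₁.2 χ (Set.mem_toFinset.mp h.1.1) h.2)
        rw [Finset.sum_const, nsmul_eq_mul, mul_one, Finset.card_union_of_disjoint hdisj,
          le_div_iff₀ hCr] at hcount2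
        push_cast at hcount2
        exact exceptional_arith (Zs.card : ℝ) (B₀.card : ℝ) (B₁.card : ℝ) (q : ℝ) (p : ℝ) (C : ℝ)
          (Nat.cast_nonneg _) (Nat.cast_nonneg _) hqr.le hpr (by exact_mod_cast hpleC) c1 hcount2
  exact_mod_cast goal

/-- **Major subsections with `l(b) ≤ 2`** (Brauer, Olsson).  Let `(y, b)` be a major subsection of
the block `B` (so `H = C_G(y)`, `b^G = B`, and `b`, `B` have the same defect `d`).  If `l(b) ≤ 2`
then `k(B) ≤ p ^ d`. -/
theorem card_le_pow_of_major_rank_le_two (hM : IsPModular p M) (H : Subgroup G) [Fintype H]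
    {b : Set (IrrCharacter H)} {B : Set (IrrCharacter G)}
    (hB : IsPBlock M B) (hind : IsInducedBlock M H b B) (y : G)
    (hH : ∀ g : G, g ∈ H ↔ g * y = y * g) (hy : ∃ k : ℕ, orderOf y = p ^ k)
    (hdd : blockDefect p b = blockDefect p B) (hl : blockRank p b ≤ 2) :
    Nat.card B ≤ p ^ blockDefect p B := by
  rw [← hdd]
  rcases Nat.lt_or_ge (blockRank p b) 1 with h0 | h1
  · exfalso
    have hb : IsPBlock M b := hind.1
    obtain ⟨hyH, hyc⟩ := central_of_centralizer H y hH
    obtain ⟨χ₀, hχ₀, -⟩ := exists_height_zero (p := p) hM hB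
    have hbot : helper78.regSpan p b = ⊥ := by
      rw [← Submodule.finrank_eq_zero, ← helper78.blockRank_eq_finrank_regSpan]
      omega
    have := gdm_mem_regSpan p H b y hyH hyc (χ₀ : G → ℂ) (helper81.irr_classFun χ₀)
    rw [hbot, Submodule.mem_bot] at this
    exact gdm_ne_zero_of_major hM H hB hind y hH hy hdd hχ₀ this
  · rcases Nat.lt_or_ge (blockRank p b) 2 with h1' | h2
    · exact card_le_pow_of_major_rank_one hM H hB hind y hH hy hdd (by omega)
    · exact card_le_pow_of_major_rank_two hM H hB hind y hH hy hdd (by omega)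

end Rank2Main

end Cfsg.Agent.Lib.helper79
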