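import Mathlib
import Cfsg.Agent.Lib.helper79.SubsectionMajor2
import Cfsg.Agent.Lib.helper79.CycloTwo

/-!
# Major subsections of `2`-blocks

For a major subsection `(u, b)` of a `2`-block `B` of defect `d` (`b^G = B`, `d(b) = d`), the
Galois averages `Z χ` of the diagonal contributions `2 ^ d * gram χ χ` are integers with

* `Z χ = 0` off `B` and `∑ χ, Z χ = 2 ^ d * l(b)`;
* `Z χ` odd and `Z χ ^ 2 + ∑_{ψ ∈ B} 4 ^ h(ψ) ≤ 2 ^ d * Z χ + 1` for `χ ∈ B` of height zero;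
* `2 ^ (h + 1) ≤ Z χ ≤ 2 ^ d - 2 ^ (h + 1)` for `χ ∈ B` of positive height `h`

(`exists_galois_avg_of_major`).  The arithmetic consequences `three_mul_bound_of_avg` and
`card_le_of_avg` give the bounds on `k(B)` when `l(b) ≤ 3`, resp. `k(B) ≤ l(b) + 3`.
-/

set_option autoImplicit false
set_option linter.unusedSectionVars false
set_option linter.unusedSimpArgs false

namespace Cfsg.Agent.Lib.helper79

open Cfsg
open scoped ComplexConjugate

universe u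

section Two

variable {G : Type u} [Group G] [Fintype G]

open Classical in
/-- The Galois averages of the diagonal contributions of a subsection `(u, b)` of a `2`-block
are integers, odd on the characters of height zero. -/
theorem exists_galois_avg {M : Ideal AlgInt} (hM : IsPModular 2 M) (H : Subgroup G)
    [Fintype H] {b : Set (IrrCharacter H)} {B : Set (IrrCharacter G)}
    (hind : IsInducedBlock M H b B) (u : G) (hH : ∀ g : G, g ∈ H ↔ g * u = u * g)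
    (n : ℕ) (hn : orderOf u = 2 ^ n) (ζ : ℂ) (hζ : IsPrimitiveRoot ζ (2 ^ n)) :
    ∃ Z : IrrCharacter G → ℤ,
      (∀ χ : IrrCharacter G,
        ∑ j ∈ (Finset.range (2 ^ n)).filter (fun j => j.Coprime (2 ^ n)),
          ((2 : ℕ) ^ blockDefect 2 b : ℂ) * gram 2 H b (u ^ j) (χ : G → ℂ) (χ : G → ℂ) =
          (Z χ : ℂ) * (((Finset.range (2 ^ n)).filter (fun j => j.Coprime (2 ^ n))).card : ℂ)) ∧
      (∀ χ ∈ B, blockHeight 2 B (χ : G → ℂ) = 0 → Odd (Z χ)) := by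
  have hprime := isPModular_isPrime hM
  have hb : IsPBlock M b := hind.1
  obtain ⟨hyH, hyc⟩ := central_of_centralizer H u hH
  have hN : 0 < 2 ^ n := by positivity
  have hyN : u ^ 2 ^ n = 1 := by rw [← hn]; exact pow_orderOf_eq_one u
  set S := (Finset.range (2 ^ n)).filter (fun j => j.Coprime (2 ^ n)) with hS
  set q := blockDefect 2 b with hq
  have hspec : ∀ j ∈ S, (∀ g : G, g ∈ H ↔ g * u ^ j = u ^ j * g) ∧
      ∃ k : ℕ, orderOf (u ^ j) = 2 ^ k := by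
    intro j hj
    rw [hS, Finset.mem_filter] at hj
    exact pow_coprime_spec H u hH ⟨n, hn⟩ (hn ▸ hj.2)
  have hScard : (S.card : ℝ) = ((primitiveRoots (2 ^ n) ℂ).card : ℝ) := by
    have := sum_primitiveRoots_eq_sum_coprime hN hζ (fun _ => (1 : ℝ))
    simpa using this
  have hSpos : (0 : ℝ) < S.card := by
    rw [hScard, Complex.card_primitiveRoots]
    exact_mod_cast Nat.totient_pos.mpr hN
  have hS0 : (S.card : ℂ) ≠ 0 := by
    intro h
    have : S.card = 0 := by exact_mod_cast h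
    rw [this] at hSpos
    simp at hSpos
  obtain ⟨e, he⟩ := exists_exponent H u hyH hyc (2 ^ n) hN hyN ζ hζ
  have h2n : 2 ^ n - 1 + 1 = 2 ^ n := Nat.sub_add_cancel hN
  -- the signs
  have hε : ∀ θ θ' : IrrCharacter H, ∃ ε : ℤ,
      ∑ j ∈ S, ζ ^ (j * (e θ + (2 ^ n - 1) * e θ')) = (ε : ℂ) * (S.card : ℂ) :=
    fun θ θ' => exists_int_sum_pow_two_pow n hζ _
  choose ε hεs using hε
  have hε1 : ∀ θ, ε θ θ = 1 := by
    intro θ
    have h1 : ∑ j ∈ S, ζ ^ (j * (e θ + (2 ^ n - 1) * e θ)) = (S.card : ℂ) := by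
      have h2 : ∀ j ∈ S, ζ ^ (j * (e θ + (2 ^ n - 1) * e θ)) = 1 := by
        intro j _
        have h3 : j * (e θ + (2 ^ n - 1) * e θ) = 2 ^ n * (j * e θ) := by
          calc j * (e θ + (2 ^ n - 1) * e θ) = j * ((2 ^ n - 1 + 1) * e θ) := by ring
            _ = 2 ^ n * (j * e θ) := by rw [h2n]; ring
        rw [h3, pow_mul, hζ.pow_eq_one, one_pow]
      rw [Finset.sum_congr rfl h2]
      simp
    have h2 := hεs θ θ
    rw [h1] at h2
    have h3 : (1 : ℂ) * (S.card : ℂ) = (ε θ θ : ℂ) * (S.card : ℂ) := by rw [one_mul]; exact h2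
    have h4 := mul_right_cancel₀ hS0 h3
    exact_mod_cast h4.symm
  have hεsymm : ∀ θ θ', ε θ θ' = ε θ' θ := by
    intro θ θ'
    have hnorm : ∀ m : ℕ, conj (ζ ^ m) = (ζ ^ m)⁻¹ := by
      intro m
      rw [Complex.inv_eq_conj]
      rw [norm_pow, hζ.norm'_eq_one hN.ne', one_pow]
    have h1 : ∑ j ∈ S, ζ ^ (j * (e θ' + (2 ^ n - 1) * e θ)) =
        conj (∑ j ∈ S, ζ ^ (j * (e θ + (2 ^ n - 1) * e θ'))) := by
      rw [map_sum]
      apply Finset.sum_congr rfl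
      intro j _
      rw [hnorm]
      apply eq_inv_of_mul_eq_one_left
      rw [← pow_add]
      have h3 : j * (e θ' + (2 ^ n - 1) * e θ) + j * (e θ + (2 ^ n - 1) * e θ') =
          2 ^ n * (j * (e θ + e θ')) := by
        calc j * (e θ' + (2 ^ n - 1) * e θ) + j * (e θ + (2 ^ n - 1) * e θ') =
            j * ((2 ^ n - 1 + 1) * (e θ + e θ')) := by ring
          _ = 2 ^ n * (j * (e θ + e θ')) := by rw [h2n]; ring
      rw [h3, pow_mul, hζ.pow_eq_one, one_pow]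
    rw [hεs θ' θ, hεs θ θ', map_mul, map_intCast, map_natCast] at h1
    have h4 := mul_right_cancel₀ hS0 h1
    exact_mod_cast h4.symm
  -- the integers `Z χ`
  let s : IrrCharacter G → IrrCharacter H → IrrCharacter H → ℤ := fun χ θ θ' =>
    if θ ∈ b ∧ θ' ∈ b then
      (resMult H χ θ : ℤ) * (resMult H χ θ' : ℤ) * contrib 2 b θ θ' * ε θ θ'
    else 0
  let Z : IrrCharacter G → ℤ := fun χ => ∑ θ : IrrCharacter H, ∑ θ' : IrrCharacter H, s χ θ θ'
  have hZ : ∀ χ : IrrCharacter G,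
      ∑ j ∈ S, ((2 : ℕ) ^ q : ℂ) * gram 2 H b (u ^ j) (χ : G → ℂ) (χ : G → ℂ) =
        (Z χ : ℂ) * (S.card : ℂ) := by
    intro χ
    have h1 : ∀ j ∈ S, ((2 : ℕ) ^ q : ℂ) * gram 2 H b (u ^ j) (χ : G → ℂ) (χ : G → ℂ) =
        ∑ θ : IrrCharacter H, ∑ θ' : IrrCharacter H,
          if θ ∈ b ∧ θ' ∈ b then
            (((resMult H χ θ : ℤ) * (resMult H χ θ' : ℤ) * contrib 2 b θ θ' : ℤ) : ℂ) *
              ζ ^ (j * (e θ + (2 ^ n - 1) * e θ'))
          else 0 := fun j _ =>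
      pow_defect_mul_gram_pow hM H hb u hyH hyc (2 ^ n) hN ζ hζ e he χ χ j
    rw [Finset.sum_congr rfl h1, Finset.sum_comm]
    show _ = ((∑ θ : IrrCharacter H, ∑ θ' : IrrCharacter H, s χ θ θ' : ℤ) : ℂ) * (S.card : ℂ)
    rw [Int.cast_sum, Finset.sum_mul]
    apply Finset.sum_congr rfl
    intro θ _
    rw [Finset.sum_comm, Int.cast_sum, Finset.sum_mul]
    apply Finset.sum_congr rfl
    intro θ' _
    show _ = ((if θ ∈ b ∧ θ' ∈ b then
      (resMult H χ θ : ℤ) * (resMult H χ θ' : ℤ) * contrib 2 b θ θ' * ε θ θ' else 0 : ℤ) : ℂ) *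
        (S.card : ℂ)
    by_cases h : θ ∈ b ∧ θ' ∈ b
    · simp only [if_pos h]
      rw [← Finset.mul_sum, hεs θ θ']
      push_cast
      ring
    · simp only [if_neg h]
      simp
  -- parity
  have hodd : ∀ χ ∈ B, blockHeight 2 B (χ : G → ℂ) = 0 → Odd (Z χ) := by
    intro χ hχ hχ0
    obtain ⟨θ₀, hθ₀, hθ₀0⟩ := exists_height_zero (p := 2) hM hb
    have hS' := helper20.not_dvd_sum_mul_contrib 2 M hM H b B hind χ hχ hχ0 (resMult H χ)
      (resMult_spec H χ) θ₀ hθ₀ hθ₀0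
    have hsymm : ∀ θ θ', s χ θ θ' = s χ θ' θ := by
      intro θ θ'
      show (if θ ∈ b ∧ θ' ∈ b then
        (resMult H χ θ : ℤ) * (resMult H χ θ' : ℤ) * contrib 2 b θ θ' * ε θ θ' else 0) =
        (if θ' ∈ b ∧ θ ∈ b then
        (resMult H χ θ' : ℤ) * (resMult H χ θ : ℤ) * contrib 2 b θ' θ * ε θ' θ else 0)
      by_cases h : θ ∈ b ∧ θ' ∈ b
      · rw [if_pos h, if_pos ⟨h.2, h.1⟩, contrib_symm hM hb h.1 h.2, hεsymm θ θ']
        ring
      · rw [if_neg h, if_neg (fun h' : θ' ∈ b ∧ θ ∈ b => h ⟨h'.2, h'.1⟩)]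
    have hQ := two_dvd_sum_sum_sub_sum_diag Finset.univ (s χ) hsymm
    have hD : (2 : ℤ) ∣ (∑ θ : IrrCharacter H, s χ θ θ) -
        ∑ ξ' : IrrCharacter H, (resMult H χ ξ' : ℤ) *
          (if ξ' ∈ b then contrib 2 b ξ' θ₀ else 0) := by
      rw [← Finset.sum_sub_distrib]
      apply Finset.dvd_sum
      intro θ _
      show (2 : ℤ) ∣ (if θ ∈ b ∧ θ ∈ b then
        (resMult H χ θ : ℤ) * (resMult H χ θ : ℤ) * contrib 2 b θ θ * ε θ θ else 0) -
        (resMult H χ θ : ℤ) * (if θ ∈ b then contrib 2 b θ θ₀ else 0)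
      by_cases h : θ ∈ b
      · rw [if_pos ⟨h, h⟩, if_pos h, hε1 θ]
        obtain ⟨c, hc⟩ := two_dvd_contrib_sub hM hb h hθ₀ hθ₀0
        obtain ⟨c', hc'⟩ := (Int.even_mul_pred_self (resMult H χ θ : ℤ)).two_dvd
        exact ⟨c' * contrib 2 b θ θ + (resMult H χ θ : ℤ) * c, by
          linear_combination (contrib 2 b θ θ) * hc' + (resMult H χ θ : ℤ) * hc⟩
      · rw [if_neg (fun h' : θ ∈ b ∧ θ ∈ b => h h'.1), if_neg h]
        simp
    by_contra hnot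
    rw [Int.not_odd_iff_even, even_iff_two_dvd] at hnot
    apply hS'
    have h3 := dvd_sub (dvd_sub hnot hQ) hD
    have e3 : Z χ - ((∑ a : IrrCharacter H, ∑ a' : IrrCharacter H, s χ a a') -
        ∑ a : IrrCharacter H, s χ a a) -
        ((∑ θ : IrrCharacter H, s χ θ θ) -
        ∑ ξ' : IrrCharacter H, (resMult H χ ξ' : ℤ) *
          (if ξ' ∈ b then contrib 2 b ξ' θ₀ else 0)) =
        ∑ ξ' : IrrCharacter H, (resMult H χ ξ' : ℤ) *
          (if ξ' ∈ b then contrib 2 b ξ' θ₀ else 0) := by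
      show (∑ θ : IrrCharacter H, ∑ θ' : IrrCharacter H, s χ θ θ') - _ - _ = _
      ring
    rw [e3] at h3
    exact_mod_cast h3
  exact ⟨Z, hZ, hodd⟩

open Classical in
/-- **Major subsections of `2`-blocks**: the Galois averages `Z χ` of the diagonal contributions
`2 ^ d * gram χ χ`. -/
theorem exists_galois_avg_of_major {M : Ideal AlgInt} (hM : IsPModular 2 M) (H : Subgroup G)
    [Fintype H] {b : Set (IrrCharacter H)} {B : Set (IrrCharacter G)} (hB : IsPBlock M B)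
    (hind : IsInducedBlock M H b B) (u : G) (hH : ∀ g : G, g ∈ H ↔ g * u = u * g)
    (hu : ∃ k : ℕ, orderOf u = 2 ^ k) (hdd : blockDefect 2 b = blockDefect 2 B) :
    ∃ Z : IrrCharacter G → ℤ,
      (∀ χ : IrrCharacter G, χ ∉ B → Z χ = 0) ∧
      ∑ χ : IrrCharacter G, Z χ = 2 ^ blockDefect 2 B * (blockRank 2 b : ℤ) ∧
      (∀ χ ∈ B, blockHeight 2 B (χ : G → ℂ) = 0 → Odd (Z χ) ∧
        Z χ ^ 2 + ∑ ψ ∈ Finset.univ.filter (fun ψ : IrrCharacter G => ψ ∈ B),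
          (4 : ℤ) ^ blockHeight 2 B (ψ : G → ℂ) ≤ 2 ^ blockDefect 2 B * Z χ + 1) ∧
      (∀ χ ∈ B, 1 ≤ blockHeight 2 B (χ : G → ℂ) →
        2 ^ (blockHeight 2 B (χ : G → ℂ) + 1) ≤ Z χ ∧
        2 ^ (blockHeight 2 B (χ : G → ℂ) + 1) ≤ 2 ^ blockDefect 2 B - Z χ) := by
  have hprime := isPModular_isPrime hM
  have hb : IsPBlock M b := hind.1
  obtain ⟨hyH, hyc⟩ := central_of_centralizer H u hH
  obtain ⟨n, hn⟩ := hu
  have hN : 0 < 2 ^ n := by positivity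
  have hyN : u ^ 2 ^ n = 1 := by rw [← hn]; exact pow_orderOf_eq_one u
  have hζ : IsPrimitiveRoot (Complex.exp (2 * Real.pi * Complex.I / ((2 ^ n : ℕ) : ℂ))) (2 ^ n) :=
    Complex.isPrimitiveRoot_exp (2 ^ n) hN.ne'
  generalize Complex.exp (2 * Real.pi * Complex.I / ((2 ^ n : ℕ) : ℂ)) = ζ at hζ
  obtain ⟨Z, hZ, hodd⟩ := exists_galois_avg hM H hind u hH n hn ζ hζ
  set S := (Finset.range (2 ^ n)).filter (fun j => j.Coprime (2 ^ n)) with hS
  rw [← hdd]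
  set q := blockDefect 2 b with hq
  have hspec : ∀ j ∈ S, (∀ g : G, g ∈ H ↔ g * u ^ j = u ^ j * g) ∧
      ∃ k : ℕ, orderOf (u ^ j) = 2 ^ k := by
    intro j hj
    rw [hS, Finset.mem_filter] at hj
    exact pow_coprime_spec H u hH ⟨n, hn⟩ (hn ▸ hj.2)
  have hSpos' : 0 < S.card := card_coprime_pos hN
  have hSpos : (0 : ℝ) < S.card := by exact_mod_cast hSpos'
  have hS0 : (S.card : ℂ) ≠ 0 := by exact_mod_cast hSpos'.ne'
  have h2c : ((2 : ℕ) : ℂ) ≠ 0 := by norm_num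
  -- the diagonal of the Gram matrix is real
  have hgr : ∀ (χ : IrrCharacter G) (j : ℕ), j ∈ S →
      ((∑ ψ : IrrCharacter G, ‖gram 2 H b (u ^ j) (χ : G → ℂ) (ψ : G → ℂ)‖ ^ 2 : ℝ) : ℂ) =
        gram 2 H b (u ^ j) (χ : G → ℂ) (χ : G → ℂ) := by
    intro χ j hj
    rw [Complex.ofReal_sum]
    exact gram_sum_sq hM H hb (u ^ j) (hspec j hj).1 (hspec j hj).2 χ
  have hZreal : ∀ χ : IrrCharacter G, (Z χ : ℝ) * S.card =
      ∑ j ∈ S, (2 : ℝ) ^ q * ∑ ψ : IrrCharacter G,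
        ‖gram 2 H b (u ^ j) (χ : G → ℂ) (ψ : G → ℂ)‖ ^ 2 := by
    intro χ
    apply Complex.ofReal_injective
    rw [Complex.ofReal_mul, Complex.ofReal_intCast, Complex.ofReal_natCast, ← hZ χ,
      Complex.ofReal_sum]
    apply Finset.sum_congr rfl
    intro j hj
    rw [Complex.ofReal_mul, hgr χ j hj]
    push_cast
    ring
  -- the trace
  have htrace : ∑ χ : IrrCharacter G, Z χ = 2 ^ q * (blockRank 2 b : ℤ) := by
    have h3 : (∑ χ : IrrCharacter G, (Z χ : ℝ)) * S.card =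
        (2 ^ q * (blockRank 2 b : ℝ)) * S.card := by
      calc (∑ χ : IrrCharacter G, (Z χ : ℝ)) * S.card =
            ∑ χ : IrrCharacter G, ∑ j ∈ S, (2 : ℝ) ^ q * ∑ ψ : IrrCharacter G,
              ‖gram 2 H b (u ^ j) (χ : G → ℂ) (ψ : G → ℂ)‖ ^ 2 := by
            rw [Finset.sum_mul]
            exact Finset.sum_congr rfl (fun χ _ => hZreal χ)
        _ = ∑ j ∈ S, (2 : ℝ) ^ q * ∑ χ : IrrCharacter G, ∑ ψ : IrrCharacter G,
              ‖gram 2 H b (u ^ j) (χ : G → ℂ) (ψ : G → ℂ)‖ ^ 2 := by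
            rw [Finset.sum_comm]
            simp_rw [Finset.mul_sum]
        _ = ∑ j ∈ S, (2 : ℝ) ^ q * (blockRank 2 b : ℝ) := by
            apply Finset.sum_congr rfl
            intro j hj
            congr 1
            have h1 := gram_trace hM H hb (u ^ j) (hspec j hj).1 (hspec j hj).2
            have h2 : ((∑ χ : IrrCharacter G, ∑ ψ : IrrCharacter G,
                ‖gram 2 H b (u ^ j) (χ : G → ℂ) (ψ : G → ℂ)‖ ^ 2 : ℝ) : ℂ) =
                (blockRank 2 b : ℂ) := by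
              rw [← h1, Complex.ofReal_sum]
              apply Finset.sum_congr rfl
              intro χ _
              exact hgr χ j hj
            exact_mod_cast h2
        _ = (2 ^ q * (blockRank 2 b : ℝ)) * S.card := by
            rw [Finset.sum_const, nsmul_eq_mul]
            ring
    have h4 := mul_right_cancel₀ hSpos.ne' h3
    exact_mod_cast h4
  -- vanishing off the block
  have hzero : ∀ χ : IrrCharacter G, χ ∉ B → Z χ = 0 := by
    intro χ hχ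
    have h1 : ∀ j ∈ S, ((2 : ℕ) ^ q : ℂ) * gram 2 H b (u ^ j) (χ : G → ℂ) (χ : G → ℂ) = 0 := by
      intro j hj
      have h2 := gdm_eq_zero_of_not_mem hM H b B hind (u ^ j) (hspec j hj).1 (hspec j hj).2 χ hχ
      unfold gram
      rw [h2]
      simp
    have h3 := hZ χ
    rw [Finset.sum_congr rfl h1, Finset.sum_const_zero] at h3
    have h4 : (Z χ : ℂ) = 0 := by
      rcases mul_eq_zero.mp h3.symm with h | h
      · exact h
      · exact absurd h hS0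
    exact_mod_cast h4
  -- the off-diagonal contributions against a character of height zero
  have hpair : ∀ χ ∈ B, blockHeight 2 B (χ : G → ℂ) = 0 → ∀ ψ ∈ B,
      ((2 : ℝ) ^ blockHeight 2 B (ψ : G → ℂ)) ^ 2 * (S.card : ℝ) ≤ ∑ j ∈ S, ((2 : ℝ) ^ q) ^ 2 *
        ‖gram 2 H b (u ^ j) (χ : G → ℂ) (ψ : G → ℂ)‖ ^ 2 := by
    intro χ hχ hχ0 ψ hψ
    obtain ⟨F, hF⟩ := exists_poly_gram hM H hb u hyH hyc (2 ^ n) hN hyN ζ hζ ψ χ
    have hne : Polynomial.aeval ζ F ≠ 0 := by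
      have h1 := hF 1
      rw [pow_one, pow_one] at h1
      rw [← h1]
      obtain ⟨r, -, hrJ, hr⟩ := exists_unit_gram_of_major hM H hB hind u hH ⟨n, hn⟩ hdd hψ hχ hχ0
      rw [hr]
      intro h0
      rcases mul_eq_zero.mp h0 with h | h
      · exact absurd h (pow_ne_zero _ h2c)
      · exact hrJ (h ▸ helper20.memLocalIdeal_zero hprime)
    have hdiv : ∀ j ∈ S, ∃ t : ℂ, MemLocalRing M t ∧
        Polynomial.aeval (ζ ^ j) F = ((2 : ℕ) : ℂ) ^ blockHeight 2 B (ψ : G → ℂ) * t := by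
      intro j hj
      obtain ⟨r, hrR, -, hr⟩ := exists_unit_gram_of_major hM H hB hind (u ^ j) (hspec j hj).1
        (hspec j hj).2 hdd hψ hχ hχ0
      exact ⟨r, hrR, by rw [← hF j]; exact hr⟩
    have h2 := pow_sq_mul_card_le_sum_norm_sq_aeval hM hN hζ F hne
      (blockHeight 2 B (ψ : G → ℂ)) hdiv
    rw [Nat.cast_ofNat] at h2
    refine h2.trans (le_of_eq ?_)
    apply Finset.sum_congr rfl
    intro j _
    rw [← hF j, norm_mul, mul_pow, norm_pow, Complex.norm_natCast, Nat.cast_ofNat,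
      ← gram_conj 2 H b (u ^ j) (χ : G → ℂ) (ψ : G → ℂ), Complex.norm_conj]
  -- the quadratic inequality for the characters of height zero
  have hsq : ∀ χ ∈ B, blockHeight 2 B (χ : G → ℂ) = 0 →
      Z χ ^ 2 + ∑ ψ ∈ Finset.univ.filter (fun ψ : IrrCharacter G => ψ ∈ B),
          (4 : ℤ) ^ blockHeight 2 B (ψ : G → ℂ) ≤ 2 ^ q * Z χ + 1 := by
    intro χ hχ hχ0
    set BF := Finset.univ.filter (fun ψ : IrrCharacter G => ψ ∈ B) with hBF
    have hχmem : χ ∈ BF := by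
      rw [hBF, Finset.mem_filter]
      exact ⟨Finset.mem_univ _, hχ⟩
    have hAsum : ∑ j ∈ S, (2 : ℝ) ^ q * ∑ ψ : IrrCharacter G,
        ‖gram 2 H b (u ^ j) (χ : G → ℂ) (ψ : G → ℂ)‖ ^ 2 = (Z χ : ℝ) * S.card := (hZreal χ).symm
    have hdiag : ∀ j ∈ S, ((2 : ℝ) ^ q) ^ 2 *
        ‖gram 2 H b (u ^ j) (χ : G → ℂ) (χ : G → ℂ)‖ ^ 2 =
        ((2 : ℝ) ^ q * ∑ ψ : IrrCharacter G,
          ‖gram 2 H b (u ^ j) (χ : G → ℂ) (ψ : G → ℂ)‖ ^ 2) ^ 2 := by
      intro j hj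
      rw [← hgr χ j hj, Complex.norm_real,
        Real.norm_of_nonneg (Finset.sum_nonneg (fun _ _ => by positivity))]
      ring
    have hCS : (Z χ : ℝ) ^ 2 * S.card ≤ ∑ j ∈ S, ((2 : ℝ) ^ q * ∑ ψ : IrrCharacter G,
          ‖gram 2 H b (u ^ j) (χ : G → ℂ) (ψ : G → ℂ)‖ ^ 2) ^ 2 := by
      have h1 := sq_sum_le_card_mul_sum_sq (s := S) (f := fun j => (2 : ℝ) ^ q *
        ∑ ψ : IrrCharacter G, ‖gram 2 H b (u ^ j) (χ : G → ℂ) (ψ : G → ℂ)‖ ^ 2)
      rw [hAsum] at h1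
      have h2 : ((Z χ : ℝ) ^ 2 * S.card) * S.card ≤ (∑ j ∈ S, ((2 : ℝ) ^ q *
          ∑ ψ : IrrCharacter G, ‖gram 2 H b (u ^ j) (χ : G → ℂ) (ψ : G → ℂ)‖ ^ 2) ^ 2) *
          S.card := by
        calc ((Z χ : ℝ) ^ 2 * S.card) * S.card = ((Z χ : ℝ) * S.card) ^ 2 := by ring
          _ ≤ _ := h1
          _ = _ := by ring
      exact le_of_mul_le_mul_right h2 hSpos
    have hmain : ((Z χ : ℝ) ^ 2 +
        ∑ ψ ∈ BF, ((2 : ℝ) ^ blockHeight 2 B (ψ : G → ℂ)) ^ 2 - 1) * S.card ≤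
        ((2 : ℝ) ^ q * (Z χ : ℝ)) * S.card := by
      calc ((Z χ : ℝ) ^ 2 + ∑ ψ ∈ BF, ((2 : ℝ) ^ blockHeight 2 B (ψ : G → ℂ)) ^ 2 - 1) * S.card
          = (Z χ : ℝ) ^ 2 * S.card +
            ∑ ψ ∈ BF.erase χ, ((2 : ℝ) ^ blockHeight 2 B (ψ : G → ℂ)) ^ 2 * S.card := by
            rw [← Finset.add_sum_erase BF _ hχmem, hχ0, ← Finset.sum_mul]
            ring
        _ ≤ (∑ j ∈ S, ((2 : ℝ) ^ q * ∑ ψ : IrrCharacter G,
              ‖gram 2 H b (u ^ j) (χ : G → ℂ) (ψ : G → ℂ)‖ ^ 2) ^ 2) +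
            ∑ ψ ∈ BF.erase χ, ∑ j ∈ S, ((2 : ℝ) ^ q) ^ 2 *
              ‖gram 2 H b (u ^ j) (χ : G → ℂ) (ψ : G → ℂ)‖ ^ 2 := by
            apply add_le_add hCS
            apply Finset.sum_le_sum
            intro ψ hψ
            have hψ' := Finset.mem_of_mem_erase hψ
            rw [hBF, Finset.mem_filter] at hψ'
            exact hpair χ hχ hχ0 ψ hψ'.2
        _ = ∑ ψ ∈ BF, ∑ j ∈ S, ((2 : ℝ) ^ q) ^ 2 *
              ‖gram 2 H b (u ^ j) (χ : G → ℂ) (ψ : G → ℂ)‖ ^ 2 := by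
            rw [← Finset.add_sum_erase BF _ hχmem]
            congr 1
            exact (Finset.sum_congr rfl hdiag).symm
        _ ≤ ∑ ψ : IrrCharacter G, ∑ j ∈ S, ((2 : ℝ) ^ q) ^ 2 *
              ‖gram 2 H b (u ^ j) (χ : G → ℂ) (ψ : G → ℂ)‖ ^ 2 :=
            Finset.sum_le_sum_of_subset_of_nonneg (Finset.subset_univ _)
              (fun _ _ _ => Finset.sum_nonneg (fun _ _ => by positivity))
        _ = ∑ j ∈ S, (2 : ℝ) ^ q * ((2 : ℝ) ^ q * ∑ ψ : IrrCharacter G,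
              ‖gram 2 H b (u ^ j) (χ : G → ℂ) (ψ : G → ℂ)‖ ^ 2) := by
            rw [Finset.sum_comm]
            apply Finset.sum_congr rfl
            intro j _
            rw [Finset.mul_sum, Finset.mul_sum]
            apply Finset.sum_congr rfl
            intro ψ _
            ring
        _ = ((2 : ℝ) ^ q * (Z χ : ℝ)) * S.card := by
            rw [← Finset.mul_sum, hAsum]
            ring
    have h5 := le_of_mul_le_mul_right hmain hSpos
    have h7 : ∀ ψ : IrrCharacter G, ((2 : ℝ) ^ blockHeight 2 B (ψ : G → ℂ)) ^ 2 =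
        (4 : ℝ) ^ blockHeight 2 B (ψ : G → ℂ) := by
      intro ψ
      rw [← pow_mul, mul_comm, pow_mul]
      norm_num
    simp_rw [h7] at h5
    have h6 : ((Z χ ^ 2 + ∑ ψ ∈ BF, (4 : ℤ) ^ blockHeight 2 B (ψ : G → ℂ) : ℤ) : ℝ) ≤
        ((2 ^ q * Z χ + 1 : ℤ) : ℝ) := by
      push_cast
      linarith
    exact_mod_cast h6
  -- the characters of positive height
  have hposh : ∀ χ ∈ B, 1 ≤ blockHeight 2 B (χ : G → ℂ) →
      2 ^ (blockHeight 2 B (χ : G → ℂ) + 1) ≤ Z χ ∧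
      2 ^ (blockHeight 2 B (χ : G → ℂ) + 1) ≤ 2 ^ q - Z χ := by
    intro χ hχ hχ1
    obtain ⟨ψ₀, hψ₀, h0⟩ := exists_height_zero (p := 2) hM hB
    have hne : χ ≠ ψ₀ := by
      intro h
      rw [h, h0] at hχ1
      omega
    have hd2 : blockHeight 2 B (χ : G → ℂ) + 2 ≤ q := by
      rw [hdd]
      exact height_add_two_le hM hB hχ (by omega)
    set h := blockHeight 2 B (χ : G → ℂ) with hh
    obtain ⟨F, hF⟩ := exists_poly_gram hM H hb u hyH hyc (2 ^ n) hN hyN ζ hζ χ χ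
    obtain ⟨u₁, v₁, hu₁, hv₁, hvu₁, e₁⟩ := exists_unit_card_div_degree_height hM hB hχ
    obtain ⟨u₀, v₀, hu₀, hv₀, hvu₀, e₀⟩ := exists_unit_card_div_degree hM hB hψ₀ h0
    have h2J : MemLocalIdeal M ((2 : ℕ) : ℂ) := memLocalIdeal_prime hM
    have hpowJ : ∀ m : ℕ, 1 ≤ m → MemLocalIdeal M (((2 : ℕ) : ℂ) ^ m) := by
      intro m hm
      obtain ⟨m', rfl⟩ : ∃ m', m = m' + 1 := ⟨m - 1, by omega⟩
      have e : ((2 : ℕ) : ℂ) ^ (m' + 1) = ((2 ^ m' : ℕ) : ℂ) * ((2 : ℕ) : ℂ) := by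
        push_cast
        ring
      rw [e]
      exact helper20.memLocalIdeal_mul_left hprime (helper20.memLocalRing_natCast hprime _) h2J
    have hph : ((2 : ℕ) : ℂ) ^ h ≠ 0 := pow_ne_zero _ h2c
    -- divisibility of the diagonal contributions
    have hdiv : ∀ j ∈ S, ∃ t : ℂ, MemLocalIdeal M t ∧
        Polynomial.aeval (ζ ^ j) F = (2 : ℂ) ^ h * t := by
      intro j hj
      obtain ⟨r, hrR, -, hr⟩ := exists_unit_gram_of_major hM H hB hind (u ^ j) (hspec j hj).1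
        (hspec j hj).2 hdd hχ hψ₀ h0
      have hrow := memLocalIdeal_gram_row (p := 2) hM H hb (u ^ j) (hspec j hj).1 χ
        (helper81.sameBlock_of_mem hprime hB hχ hψ₀)
      have e' : (Nat.card G : ℂ) / (χ : G → ℂ) 1 =
          ((2 : ℕ) ^ blockDefect 2 B : ℂ) * u₁ / ((2 : ℕ) : ℂ) ^ h := by
        rw [← e₁, mul_div_cancel_right₀ _ hph]
      have h1 : (Nat.card G : ℂ) * gram 2 H b (u ^ j) (χ : G → ℂ) (χ : G → ℂ) / (χ : G → ℂ) 1 -
          (Nat.card G : ℂ) * gram 2 H b (u ^ j) (χ : G → ℂ) (ψ₀ : G → ℂ) / (ψ₀ : G → ℂ) 1 =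
          u₁ * Polynomial.aeval (ζ ^ j) F / ((2 : ℕ) : ℂ) ^ h -
            u₀ * (((2 : ℕ) : ℂ) ^ h * r) := by
        rw [mul_div_right_comm, mul_div_right_comm _ _ ((ψ₀ : G → ℂ) 1), e', e₀, ← hF j, ← hr,
          ← hdd]
        ring
      rw [h1] at hrow
      have hg₀J : MemLocalIdeal M (u₀ * (((2 : ℕ) : ℂ) ^ h * r)) :=
        helper20.memLocalIdeal_mul_left hprime hu₀
          (helper20.memLocalIdeal_mul_right hprime (hpowJ h hχ1) hrR)
      have hJ : MemLocalIdeal M (u₁ * Polynomial.aeval (ζ ^ j) F / ((2 : ℕ) : ℂ) ^ h) := by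
        have := helper20.memLocalIdeal_add hprime hrow hg₀J
        rwa [sub_add_cancel] at this
      refine ⟨v₁ * (u₁ * Polynomial.aeval (ζ ^ j) F / ((2 : ℕ) : ℂ) ^ h),
        helper20.memLocalIdeal_mul_left hprime hv₁ hJ, ?_⟩
      rw [← Nat.cast_ofNat (R := ℂ), ← mul_assoc, mul_comm _ v₁, mul_assoc,
        mul_div_cancel₀ _ hph, ← mul_assoc, hvu₁, one_mul]
    -- the diagonal contributions are real, in `(0, 1)`
    have hreal : ∀ j ∈ S, ∃ x : ℝ, 0 < x ∧ x < 1 ∧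
        gram 2 H b (u ^ j) (χ : G → ℂ) (χ : G → ℂ) = (x : ℂ) := by
      intro j hj
      have hψ₀ne : gram 2 H b (u ^ j) (χ : G → ℂ) (ψ₀ : G → ℂ) ≠ 0 := by
        obtain ⟨r, -, hrJ, hr⟩ := exists_unit_gram_of_major hM H hB hind (u ^ j) (hspec j hj).1
          (hspec j hj).2 hdd hχ hψ₀ h0
        intro h0'
        rw [h0', mul_zero] at hr
        rcases mul_eq_zero.mp hr.symm with h | h
        · exact absurd h (pow_ne_zero _ h2c)
        · exact hrJ (h ▸ helper20.memLocalIdeal_zero hprime)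
      have hpos0 : 0 < ‖gram 2 H b (u ^ j) (χ : G → ℂ) (ψ₀ : G → ℂ)‖ ^ 2 := by positivity
      have hx : ‖gram 2 H b (u ^ j) (χ : G → ℂ) (χ : G → ℂ)‖ =
          ∑ ψ : IrrCharacter G, ‖gram 2 H b (u ^ j) (χ : G → ℂ) (ψ : G → ℂ)‖ ^ 2 := by
        rw [← hgr χ j hj, Complex.norm_real,
          Real.norm_of_nonneg (Finset.sum_nonneg (fun _ _ => by positivity))]
      have h2 : ‖gram 2 H b (u ^ j) (χ : G → ℂ) (χ : G → ℂ)‖ ^ 2 +
          ‖gram 2 H b (u ^ j) (χ : G → ℂ) (ψ₀ : G → ℂ)‖ ^ 2 ≤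
          ∑ ψ : IrrCharacter G, ‖gram 2 H b (u ^ j) (χ : G → ℂ) (ψ : G → ℂ)‖ ^ 2 := by
        have := Finset.sum_le_sum_of_subset_of_nonneg
          (Finset.subset_univ ({χ, ψ₀} : Finset (IrrCharacter G)))
          (f := fun ψ : IrrCharacter G => ‖gram 2 H b (u ^ j) (χ : G → ℂ) (ψ : G → ℂ)‖ ^ 2)
          (fun _ _ _ => by positivity)
        rwa [Finset.sum_pair hne] at this
      rw [hx] at h2
      refine ⟨∑ ψ : IrrCharacter G, ‖gram 2 H b (u ^ j) (χ : G → ℂ) (ψ : G → ℂ)‖ ^ 2, ?_, ?_,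
        (hgr χ j hj).symm⟩
      · exact lt_of_lt_of_le hpos0
          (Finset.single_le_sum (f := fun ψ : IrrCharacter G =>
            ‖gram 2 H b (u ^ j) (χ : G → ℂ) (ψ : G → ℂ)‖ ^ 2) (fun _ _ => by positivity)
            (Finset.mem_univ ψ₀))
      · nlinarith
    have hposF : ∀ j ∈ S, ∃ r : ℝ, 0 < r ∧ Polynomial.aeval (ζ ^ j) F = (r : ℂ) := by
      intro j hj
      obtain ⟨x, hx0, -, hx⟩ := hreal j hj
      refine ⟨(2 : ℝ) ^ q * x, by positivity, ?_⟩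
      rw [← hF j, hx]
      push_cast
      ring
    obtain ⟨Z', hZ'2, hZ'⟩ := exists_two_le_galois_avg hM n hζ h F hdiv hposF
    have e1 : Z χ = 2 ^ h * Z' := by
      have h1 : (Z χ : ℂ) * S.card = (2 : ℂ) ^ h * ((Z' : ℂ) * S.card) := by
        rw [← hZ χ, ← hZ']
        exact Finset.sum_congr rfl (fun j _ => hF j)
      have h2 : (Z χ : ℂ) = (2 : ℂ) ^ h * Z' := by
        apply mul_right_cancel₀ hS0
        rw [h1]
        ring
      exact_mod_cast h2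
    -- the dual
    have hqh : q = h + (q - h) := by omega
    have hdiv₂ : ∀ j ∈ S, ∃ t : ℂ, MemLocalIdeal M t ∧
        Polynomial.aeval (ζ ^ j) (Polynomial.C ((2 : ℤ) ^ q) - F) = (2 : ℂ) ^ h * t := by
      intro j hj
      obtain ⟨t, htJ, ht⟩ := hdiv j hj
      refine ⟨((2 : ℕ) : ℂ) ^ (q - h) - t,
        helper20.memLocalIdeal_sub hprime (hpowJ (q - h) (by omega)) htJ, ?_⟩
      rw [map_sub, Polynomial.aeval_C, ht]
      have e3 : (algebraMap ℤ ℂ) ((2 : ℤ) ^ q) = (2 : ℂ) ^ h * (2 : ℂ) ^ (q - h) := by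
        rw [← pow_add, ← hqh]
        simp
      rw [e3]
      push_cast
      ring
    have hposF₂ : ∀ j ∈ S, ∃ r : ℝ, 0 < r ∧
        Polynomial.aeval (ζ ^ j) (Polynomial.C ((2 : ℤ) ^ q) - F) = (r : ℂ) := by
      intro j hj
      obtain ⟨x, -, hx1, hx⟩ := hreal j hj
      refine ⟨(2 : ℝ) ^ q * (1 - x), mul_pos (by positivity) (by linarith), ?_⟩
      rw [map_sub, Polynomial.aeval_C, ← hF j, hx]
      have e3 : (algebraMap ℤ ℂ) ((2 : ℤ) ^ q) = (2 : ℂ) ^ q := by simp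
      rw [e3]
      push_cast
      ring
    obtain ⟨Z'', hZ''2, hZ''⟩ := exists_two_le_galois_avg hM n hζ h _ hdiv₂ hposF₂
    have e2 : 2 ^ q - Z χ = 2 ^ h * Z'' := by
      have h1 : ((2 : ℂ) ^ q - (Z χ : ℂ)) * S.card = (2 : ℂ) ^ h * ((Z'' : ℂ) * S.card) := by
        rw [← hZ'', sub_mul, ← hZ χ]
        have e4 : ∀ j ∈ S, Polynomial.aeval (ζ ^ j) (Polynomial.C ((2 : ℤ) ^ q) - F) =
            (2 : ℂ) ^ q - ((2 : ℕ) ^ q : ℂ) * gram 2 H b (u ^ j) (χ : G → ℂ) (χ : G → ℂ) := by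
          intro j _
          rw [map_sub, Polynomial.aeval_C, ← hF j]
          have e3 : (algebraMap ℤ ℂ) ((2 : ℤ) ^ q) = (2 : ℂ) ^ q := by simp
          rw [e3, Nat.cast_ofNat]
        rw [Finset.sum_congr rfl e4, Finset.sum_sub_distrib, Finset.sum_const, nsmul_eq_mul]
        ring
      have h2 : (2 : ℂ) ^ q - (Z χ : ℂ) = (2 : ℂ) ^ h * Z'' := by
        apply mul_right_cancel₀ hS0
        rw [h1]
        ring
      exact_mod_cast h2
    have h2h : (0 : ℤ) < 2 ^ h := by positivity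
    constructor
    · rw [e1, pow_succ]
      nlinarith
    · rw [e2, pow_succ]
      nlinarith
  exact ⟨Z, hzero, htrace, fun χ hχ hχ0 => ⟨hodd χ hχ hχ0, hsq χ hχ hχ0⟩, hposh⟩

end Two

section Arith

/-- Arithmetic of the Galois averages when `l(b) ≤ 3`. -/
theorem three_mul_bound_of_avg {ι : Type*} (BF : Finset ι) (ht : ι → ℕ) (Z : ι → ℤ)
    (d l : ℕ) (hl : l ≤ 3) (hsum : ∑ χ ∈ BF, Z χ = 2 ^ d * (l : ℤ))
    (h0 : ∀ χ ∈ BF, ht χ = 0 → Odd (Z χ) ∧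
      Z χ ^ 2 + ∑ ψ ∈ BF, (4 : ℤ) ^ ht ψ ≤ 2 ^ d * Z χ + 1)
    (h1 : ∀ χ ∈ BF, 1 ≤ ht χ → 2 ^ (ht χ + 1) ≤ Z χ) :
    3 * ((BF.filter (fun χ => ht χ = 0)).card : ℤ) +
      2 * ∑ χ ∈ BF.filter (fun χ => 1 ≤ ht χ), (2 : ℤ) ^ ht χ ≤ 3 * 2 ^ d := by
  have hd : (0 : ℤ) < 2 ^ d := by positivity
  have hsplit : ∀ f : ι → ℤ, ∑ χ ∈ BF, f χ =
      ∑ χ ∈ BF.filter (fun χ => ht χ = 0), f χ + ∑ χ ∈ BF.filter (fun χ => 1 ≤ ht χ), f χ := by
    intro f
    rw [← Finset.sum_filter_add_sum_filter_not BF (fun χ => ht χ = 0)]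
    congr 2
    apply Finset.filter_congr
    intro χ _
    omega
  by_cases hex : ∃ χ ∈ BF, ht χ = 0 ∧ Z χ = 1
  · obtain ⟨χ, hχ, hχ0, hZ1⟩ := hex
    have h2 := (h0 χ hχ hχ0).2
    rw [hZ1] at h2
    have hW : ∑ ψ ∈ BF, (4 : ℤ) ^ ht ψ ≤ 2 ^ d := by linarith
    rw [hsplit] at hW
    have hA : ∑ χ ∈ BF.filter (fun χ => ht χ = 0), (4 : ℤ) ^ ht χ =
        ((BF.filter (fun χ => ht χ = 0)).card : ℤ) := by
      rw [Finset.card_eq_sum_ones, Nat.cast_sum]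
      apply Finset.sum_congr rfl
      intro χ hχ
      rw [(Finset.mem_filter.mp hχ).2]
      simp
    have hBd : ∑ χ ∈ BF.filter (fun χ => 1 ≤ ht χ), (2 : ℤ) ^ ht χ ≤
        ∑ χ ∈ BF.filter (fun χ => 1 ≤ ht χ), (4 : ℤ) ^ ht χ := by
      apply Finset.sum_le_sum
      intro χ _
      exact pow_le_pow_left₀ (by norm_num) (by norm_num) _
    have hnn : 0 ≤ ∑ χ ∈ BF.filter (fun χ => 1 ≤ ht χ), (2 : ℤ) ^ ht χ :=
      Finset.sum_nonneg (fun _ _ => by positivity)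
    rw [hA] at hW
    linarith
  · push_neg at hex
    have hZ3 : ∀ χ ∈ BF.filter (fun χ => ht χ = 0), (3 : ℤ) ≤ Z χ := by
      intro χ hχ
      obtain ⟨hχB, hχ0⟩ := Finset.mem_filter.mp hχ
      obtain ⟨hodd, h2⟩ := h0 χ hχB hχ0
      have hW1 : (1 : ℤ) ≤ ∑ ψ ∈ BF, (4 : ℤ) ^ ht ψ := by
        have := Finset.single_le_sum (f := fun ψ => (4 : ℤ) ^ ht ψ)
          (fun _ _ => by positivity) hχB
        simpa [hχ0] using this
      have hZ0 : 0 ≤ Z χ := by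
        by_contra hneg
        push_neg at hneg
        nlinarith [mul_pos hd (neg_pos.mpr hneg), sq_nonneg (Z χ)]
      have hne1 := hex χ hχB hχ0
      obtain ⟨c, hc⟩ := hodd
      omega
    calc 3 * ((BF.filter (fun χ => ht χ = 0)).card : ℤ) +
          2 * ∑ χ ∈ BF.filter (fun χ => 1 ≤ ht χ), (2 : ℤ) ^ ht χ
        = ∑ χ ∈ BF.filter (fun χ => ht χ = 0), (3 : ℤ) +
          ∑ χ ∈ BF.filter (fun χ => 1 ≤ ht χ), (2 : ℤ) ^ (ht χ + 1) := by
          rw [Finset.sum_const, nsmul_eq_mul, Finset.mul_sum]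
          congr 1
          · ring
          · apply Finset.sum_congr rfl
            intro χ _
            ring
      _ ≤ ∑ χ ∈ BF.filter (fun χ => ht χ = 0), Z χ +
          ∑ χ ∈ BF.filter (fun χ => 1 ≤ ht χ), Z χ := by
          apply add_le_add
          · exact Finset.sum_le_sum hZ3
          · apply Finset.sum_le_sum
            intro χ hχ
            obtain ⟨hχB, hχ1⟩ := Finset.mem_filter.mp hχ
            exact h1 χ hχB hχ1
      _ = 2 ^ d * (l : ℤ) := by rw [← hsplit, hsum]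
      _ ≤ 3 * 2 ^ d := by
          have : (l : ℤ) ≤ 3 := by exact_mod_cast hl
          nlinarith

/-- Arithmetic of the Galois averages when `k(B) ≤ l(b) + 3`. -/
theorem card_le_of_avg {ι : Type*} (BF : Finset ι) (ht : ι → ℕ) (Z : ι → ℤ)
    (d l : ℕ) (hk : BF.card ≤ l + 3) (hsum : ∑ χ ∈ BF, Z χ = 2 ^ d * (l : ℤ))
    (h0 : ∀ χ ∈ BF, ht χ = 0 → Odd (Z χ) ∧
      Z χ ^ 2 + ∑ ψ ∈ BF, (4 : ℤ) ^ ht ψ ≤ 2 ^ d * Z χ + 1)
    (h1 : ∀ χ ∈ BF, 1 ≤ ht χ → 2 ^ (ht χ + 1) ≤ 2 ^ d - Z χ) :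
    BF.card ≤ 2 ^ d := by
  have hd : (0 : ℤ) < 2 ^ d := by positivity
  have hkW : (BF.card : ℤ) ≤ ∑ ψ ∈ BF, (4 : ℤ) ^ ht ψ := by
    rw [Finset.card_eq_sum_ones, Nat.cast_sum]
    apply Finset.sum_le_sum
    intro ψ _
    have : (1 : ℤ) ≤ 4 ^ ht ψ := one_le_pow₀ (by norm_num)
    simpa using this
  suffices hgoal : (BF.card : ℤ) ≤ 2 ^ d by exact_mod_cast hgoal
  have hZpos : ∀ χ ∈ BF, ht χ = 0 → 1 ≤ Z χ := by
    intro χ hχ hχ0
    obtain ⟨hodd, h2⟩ := h0 χ hχ hχ0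
    have hW1 : (1 : ℤ) ≤ ∑ ψ ∈ BF, (4 : ℤ) ^ ht ψ := by
      have := Finset.single_le_sum (f := fun ψ => (4 : ℤ) ^ ht ψ)
        (fun _ _ => by positivity) hχ
      simpa [hχ0] using this
    have hZ0 : 0 ≤ Z χ := by
      by_contra hneg
      push_neg at hneg
      nlinarith [mul_pos hd (neg_pos.mpr hneg), sq_nonneg (Z χ)]
    obtain ⟨c, hc⟩ := hodd
    omega
  by_cases hex : ∃ χ ∈ BF, ht χ = 0 ∧ 2 ^ d - Z χ ≤ 1
  · obtain ⟨χ, hχ, hχ0, hN1⟩ := hex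
    obtain ⟨hodd, h2⟩ := h0 χ hχ hχ0
    have hZ1 := hZpos χ hχ hχ0
    have : ∑ ψ ∈ BF, (4 : ℤ) ^ ht ψ ≤ 2 ^ d := by
      nlinarith [mul_nonneg (sub_nonneg.mpr hZ1) (sub_nonneg.mpr hN1)]
    linarith
  · push_neg at hex
    have hN3 : ∀ χ ∈ BF, (3 : ℤ) ≤ 2 ^ d - Z χ := by
      intro χ hχ
      rcases Nat.eq_zero_or_pos (ht χ) with hχ0 | hχ1
      · have hN2 := hex χ hχ hχ0
        obtain ⟨hodd, h2⟩ := h0 χ hχ hχ0
        have hZ1 := hZpos χ hχ hχ0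
        by_contra hlt
        push_neg at hlt
        have hN : (2 : ℤ) ^ d - Z χ = 2 := by omega
        obtain ⟨c, hc⟩ := hodd
        rcases Nat.eq_zero_or_pos d with hd0 | hd1
        · subst hd0
          rw [pow_zero] at hN
          omega
        · obtain ⟨d', rfl⟩ : ∃ d', d = d' + 1 := ⟨d - 1, by omega⟩
          rw [pow_succ] at hN
          omega
      · have := h1 χ hχ hχ1
        have h4 : (4 : ℤ) ≤ 2 ^ (ht χ + 1) := by
          calc (4 : ℤ) = 2 ^ (1 + 1) := by norm_num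
            _ ≤ 2 ^ (ht χ + 1) := pow_le_pow_right₀ (by norm_num) (by omega)
        linarith
    have h3k : 3 * (BF.card : ℤ) ≤ (BF.card : ℤ) * 2 ^ d - 2 ^ d * (l : ℤ) := by
      calc 3 * (BF.card : ℤ) = ∑ χ ∈ BF, (3 : ℤ) := by
            rw [Finset.sum_const, nsmul_eq_mul]
            ring
        _ ≤ ∑ χ ∈ BF, (2 ^ d - Z χ) := Finset.sum_le_sum hN3
        _ = (BF.card : ℤ) * 2 ^ d - 2 ^ d * (l : ℤ) := by
            rw [Finset.sum_sub_distrib, hsum, Finset.sum_const, nsmul_eq_mul]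
    have hkl : (BF.card : ℤ) - l ≤ 3 := by
      have : (BF.card : ℤ) ≤ l + 3 := by exact_mod_cast hk
      linarith
    nlinarith [mul_nonneg hd.le (sub_nonneg.mpr hkl)]

end Arith

end Cfsg.Agent.Lib.helper79
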