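import Mathlib
import Cfsg.Agent.Lib.helper16.U34CDefs

/-!
# S1903, piece A4c (racing copy of helper79): `u ∈ G' ∖ Z` and `x` generate `G`
-/

set_option autoImplicit false

namespace Cfsg.Agent.Lib.helper16.U34C

open scoped commutatorElement Pointwise

/-- Commutators do not see central factors. -/
theorem helper79_comm_central {G : Type*} [Group G] (a b z w : G)
    (hz : ∀ g : G, z * g = g * z) (hw : ∀ g : G, w * g = g * w) :
    ⁅a * z, b * w⁆ = ⁅a, b⁆ := by
  simp only [commutatorElement_def, mul_inv_rev]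
  have e1 : a * z * (b * w) * (z⁻¹ * a⁻¹) * (w⁻¹ * b⁻¹)
      = a * (z * (b * w) * z⁻¹) * a⁻¹ * w⁻¹ * b⁻¹ := by group
  rw [e1, hz (b * w), mul_inv_cancel_right]
  have e2 : a * (b * w) * a⁻¹ * w⁻¹ * b⁻¹ = a * b * (w * a⁻¹) * w⁻¹ * b⁻¹ := by group
  rw [e2, hw a⁻¹]
  group

/-- PIECE A4c (racing copy). -/
theorem helper79_gen_of_u {G : Type*} [Group G] {x : G} {Z : Subgroup G} (h1 : D1 x Z)
    (h2 : D2 x Z) {u : G}
    (hu : u ∈ commutator G) (huZ : u ∉ Z) : Subgroup.closure {u, x} = ⊤ := by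
  have huH : u ∈ Subgroup.closure ({u, x} : Set G) := Subgroup.subset_closure (by simp)
  have hxH : x ∈ Subgroup.closure ({u, x} : Set G) := Subgroup.subset_closure (by simp)
  generalize Subgroup.closure ({u, x} : Set G) = H at huH hxH ⊢
  -- Z is central, hence normal
  have hZc : ∀ z ∈ Z, ∀ g : G, g * z * g⁻¹ = z := by
    intro z hz g
    rw [← h1.Zc z hz g, mul_inv_cancel_right]
  have hZn : Z.Normal := ⟨fun z hz g => by rw [hZc z hz g]; exact hz⟩
  have hPn : (commutator G).Normal := inferInstance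
  have hZK : Z ≤ (H ⊓ commutator G) ⊔ Z := le_sup_right
  have hKP : (H ⊓ commutator G) ⊔ Z ≤ commutator G := sup_le inf_le_right h1.ZP
  have hKinv : ∀ k ∈ (H ⊓ commutator G) ⊔ Z, x * k * x⁻¹ ∈ (H ⊓ commutator G) ⊔ Z := by
    intro k hk
    have hle : (H ⊓ commutator G) ⊔ Z ≤
        ((H ⊓ commutator G) ⊔ Z).comap (MulAut.conj x).toMonoidHom := by
      apply sup_le
      · intro g hg
        rw [Subgroup.mem_comap]
        apply Subgroup.mem_sup_left
        refine ⟨?_, ?_⟩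
        · simpa using H.mul_mem (H.mul_mem hxH hg.1) (H.inv_mem hxH)
        · simpa using hPn.conj_mem g hg.2 x
      · intro z hz
        rw [Subgroup.mem_comap]
        apply Subgroup.mem_sup_right
        simpa [hZc z hz x] using hz
    simpa using hle hk
  have huK : u ∈ (H ⊓ commutator G) ⊔ Z := Subgroup.mem_sup_left ⟨huH, hu⟩
  have hKeq : (H ⊓ commutator G) ⊔ Z = commutator G := by
    rcases h2.inv _ hZK hKP hKinv with h | h
    · exact absurd (h ▸ huK) huZ
    · exact h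
  -- every element of `G'` is `h * z`
  have hP : ∀ p ∈ commutator G, ∃ h ∈ H, ∃ z ∈ Z, p = h * z := by
    intro p hp
    rw [← hKeq] at hp
    have hmem : p ∈ ((H ⊓ commutator G : Subgroup G) : Set G) * (Z : Set G) := by
      rw [← Subgroup.mul_normal]; exact hp
    obtain ⟨h, hh, z, hz, rfl⟩ := hmem
    exact ⟨h, hh.1, z, hz, rfl⟩
  have hG : ∀ g : G, ∃ h ∈ H, ∃ z ∈ Z, g = h * z := by
    intro g
    obtain ⟨p, hp, k, rfl⟩ := h1.gen g
    obtain ⟨h, hh, z, hz, rfl⟩ := hP p hp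
    refine ⟨h * x ^ k, H.mul_mem hh (H.pow_mem hxH k), z, hz, ?_⟩
    rw [mul_assoc, h1.Zc z hz, mul_assoc]
  have hcomm : commutator G ≤ H := by
    rw [commutator_def, Subgroup.commutator_le]
    intro g1 _ g2 _
    obtain ⟨a, ha, z, hz, rfl⟩ := hG g1
    obtain ⟨b, hb, w, hw, rfl⟩ := hG g2
    rw [helper79_comm_central a b z w (h1.Zc z hz) (h1.Zc w hw)]
    rw [commutatorElement_def]
    exact H.mul_mem (H.mul_mem (H.mul_mem ha hb) (H.inv_mem ha)) (H.inv_mem hb)
  rw [eq_top_iff]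
  intro g _
  obtain ⟨p, hp, k, rfl⟩ := h1.gen g
  exact H.mul_mem (hcomm hp) (H.pow_mem hxH k)

end Cfsg.Agent.Lib.helper16.U34C
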